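import Mathlib

set_option autoImplicit false

namespace Cfsg.Agent.Helper19

/-- Conjugation preserves the order of an element. -/
lemma orderOf_conj' {G : Type*} [Group G] (x g : G) : orderOf (x * g * x⁻¹) = orderOf g :=
  ((SemiconjBy.conj_mk x g).orderOf_eq x).symm

/-- Conjugation by the inverse preserves the order of an element. -/
lemma orderOf_conj_inv' {G : Type*} [Group G] (x g : G) : orderOf (x⁻¹ * g * x) = orderOf g := by
  simpa using orderOf_conj' x⁻¹ g

/-- In a group, the inverse of an element of finite order is a power of it. -/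
lemma inv_eq_pow_orderOf_sub_one {G : Type*} [Group G] {a : G} (hpos : 0 < orderOf a) :
    a⁻¹ = a ^ (orderOf a - 1) := by
  rw [inv_eq_iff_mul_eq_one, ← pow_succ']
  have : orderOf a - 1 + 1 = orderOf a := by omega
  rw [this, pow_orderOf_eq_one]

end Cfsg.Agent.Helper19

namespace Cfsg.Agent.Helper19

/-- Membership in a conjugate subgroup written as in the frozen statements. -/
lemma mem_map_conj {G : Type*} [Group G] {K : Subgroup G} {g y : G} :
    y ∈ K.map (MulAut.conj g).toMonoidHom ↔ g⁻¹ * y * g ∈ K := by
  constructor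
  · rintro ⟨k, hk, rfl⟩
    have : g⁻¹ * ((MulAut.conj g).toMonoidHom k) * g = k := by
      simp [MulAut.conj_apply, mul_assoc]
    rw [this]; exact hk
  · intro h
    refine ⟨g⁻¹ * y * g, h, ?_⟩
    simp [MulAut.conj_apply, mul_assoc]

/-- `g k g⁻¹` lies in the conjugate `g K g⁻¹`. -/
lemma conj_mem_map_conj {G : Type*} [Group G] {K : Subgroup G} (g : G) {k : G} (hk : k ∈ K) :
    g * k * g⁻¹ ∈ K.map (MulAut.conj g).toMonoidHom :=
  ⟨k, hk, by simp [MulAut.conj_apply]⟩

/-- Conjugating twice. -/
lemma map_conj_map_conj {G : Type*} [Group G] (K : Subgroup G) (g h : G) :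
    (K.map (MulAut.conj h).toMonoidHom).map (MulAut.conj g).toMonoidHom =
      K.map (MulAut.conj (g * h)).toMonoidHom := by
  ext y
  simp only [mem_map_conj]
  have : h⁻¹ * (g⁻¹ * y * g) * h = (g * h)⁻¹ * y * (g * h) := by group
  rw [this]

/-- Conjugating by the identity. -/
lemma map_conj_one {G : Type*} [Group G] (K : Subgroup G) :
    K.map (MulAut.conj (1 : G)).toMonoidHom = K := by
  ext y
  simp

/-- An element normalizes `K` iff conjugation by it fixes `K`. -/
lemma mem_normalizer_iff_map_conj {G : Type*} [Group G] {K : Subgroup G} {g : G} :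
    g ∈ Subgroup.normalizer (K : Set G) ↔ K.map (MulAut.conj g).toMonoidHom = K := by
  rw [Subgroup.mem_normalizer_iff'']
  constructor
  · intro h
    ext y
    rw [mem_map_conj]
    exact (h y).symm
  · intro h y
    rw [← mem_map_conj, h]

end Cfsg.Agent.Helper19
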