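import Mathlib
import Cfsg.Prelude.Def_Solvable
import Cfsg.Prelude.Def_OddOrderLocal
import Cfsg.Agent.Helper19.Basic

set_option autoImplicit false

namespace Cfsg.Agent.Helper19

/-- `n` is a `π`-number: all its prime divisors lie in `π`. -/
def IsPiNum (π : Set ℕ) (n : ℕ) : Prop := ∀ p : ℕ, p.Prime → p ∣ n → p ∈ π

lemma IsPiNum.mul {π : Set ℕ} {m n : ℕ} (hm : IsPiNum π m) (hn : IsPiNum π n) :
    IsPiNum π (m * n) := by
  intro p hp hd
  rcases (Nat.Prime.dvd_mul hp).mp hd with h | h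
  · exact hm p hp h
  · exact hn p hp h

lemma IsPiNum.of_dvd {π : Set ℕ} {m n : ℕ} (hn : IsPiNum π n) (h : m ∣ n) : IsPiNum π m :=
  fun p hp hd => hn p hp (hd.trans h)

lemma isPiNum_one (π : Set ℕ) : IsPiNum π 1 := by
  intro p hp hd
  exact absurd (Nat.dvd_one.mp hd) hp.ne_one

/-- The order of `H ⊔ K` divides `|H| * |K|` when `K` is normal. -/
lemma card_sup_dvd_mul {G : Type*} [Group G] (H K : Subgroup G) [K.Normal] :
    Nat.card (H ⊔ K : Subgroup G) ∣ Nat.card H * Nat.card K := by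
  have h1 := Subgroup.relIndex_mul_relIndex ⊥ K (H ⊔ K) bot_le le_sup_right
  rw [Subgroup.relIndex_bot_left, Subgroup.relIndex_bot_left, Subgroup.relIndex_sup_right] at h1
  rw [← h1, mul_comm]
  exact Nat.mul_dvd_mul_right (Subgroup.relIndex_dvd_card K H) _

section sSup

variable {G : Type*} [Group G] [Finite G]

/-- The join of a set of normal subgroups whose orders satisfy a multiplicative, divisor-closed
predicate again satisfies it. -/
lemma card_sSup_normal_of_mul {P : ℕ → Prop} (h1 : P 1) (hmul : ∀ m n, P m → P n → P (m * n))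
    (hdvd : ∀ m n, m ∣ n → P n → P m) (S : Set (Subgroup G))
    (hS : ∀ N ∈ S, N.Normal ∧ P (Nat.card N)) : P (Nat.card (sSup S : Subgroup G)) := by
  classical
  have hfin : S.Finite := Set.toFinite S
  have hsup : sSup S = hfin.toFinset.sup id := by
    rw [Finset.sup_id_eq_sSup]; simp
  rw [hsup]
  have : (hfin.toFinset.sup id : Subgroup G).Normal ∧
      P (Nat.card (hfin.toFinset.sup id : Subgroup G)) := by
    refine Finset.sup_induction (p := fun N : Subgroup G => N.Normal ∧ P (Nat.card N)) ?_ ?_ ?_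
    · refine ⟨Subgroup.normal_bot, ?_⟩
      rw [Subgroup.card_bot]; exact h1
    · rintro A ⟨hAn, hA⟩ B ⟨hBn, hB⟩
      refine ⟨inferInstance, ?_⟩
      exact hdvd _ _ (card_sup_dvd_mul A B) (hmul _ _ hA hB)
    · intro N hN
      exact hS N (by simpa using hN)
  exact this.2

end sSup

section cores

variable {G : Type*} [Group G] [Finite G]

/-- `O_π(G)` is a `π`-group. -/
lemma piCore_isPiNum (π : Set ℕ) : IsPiNum π (Nat.card (Cfsg.piCore π G)) := by
  unfold Cfsg.piCore
  exact card_sSup_normal_of_mul (P := IsPiNum π) (isPiNum_one π) (fun _ _ => IsPiNum.mul)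
    (fun _ _ h hn => hn.of_dvd h) _ (fun N hN => hN)

/-- `O_{p'}(G)` has order prime to `p`. -/
lemma pPrimeCore_coprime (p : ℕ) : (Nat.card (Cfsg.pPrimeCore p G)).Coprime p := by
  unfold Cfsg.pPrimeCore
  exact card_sSup_normal_of_mul (P := fun n => n.Coprime p) (Nat.coprime_one_left p)
    (fun _ _ hm hn => Nat.Coprime.mul_left hm hn)
    (fun _ _ h hn => Nat.Coprime.coprime_dvd_left h hn) _ (fun N hN => hN)

/-- `O_p(G)` is a `p`-group. -/
lemma pCore_isPGroup (p : ℕ) [hp : Fact p.Prime] : IsPGroup p (Cfsg.pCore p G) := by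
  unfold Cfsg.pCore
  rw [IsPGroup.iff_card]
  have := card_sSup_normal_of_mul (G := G) (P := fun n => ∃ k, n = p ^ k) ⟨0, by simp⟩
    (fun _ _ ⟨a, ha⟩ ⟨b, hb⟩ => ⟨a + b, by rw [ha, hb, pow_add]⟩)
    (fun m n h ⟨k, hk⟩ => by
      rw [hk] at h
      obtain ⟨j, -, hj⟩ := (Nat.dvd_prime_pow hp.out).mp h
      exact ⟨j, hj⟩)
    {N : Subgroup G | N.Normal ∧ IsPGroup p N}
    (fun N hN => ⟨hN.1, IsPGroup.iff_card.mp hN.2⟩)
  exact this

omit [Finite G] in
/-- A normal `π`-subgroup lies in `O_π(G)`. -/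
lemma le_piCore {π : Set ℕ} {N : Subgroup G} (hN : N.Normal) (hπ : IsPiNum π (Nat.card N)) :
    N ≤ Cfsg.piCore π G :=
  le_sSup ⟨hN, hπ⟩

omit [Finite G] in
/-- `O_π(G)` is characteristic. -/
lemma piCore_characteristic (π : Set ℕ) : (Cfsg.piCore π G).Characteristic := by
  rw [Subgroup.characteristic_iff_map_le]
  intro φ
  unfold Cfsg.piCore
  rw [Subgroup.map_le_iff_le_comap]
  apply sSup_le
  intro N hN
  rw [← Subgroup.map_le_iff_le_comap]
  apply le_sSup
  refine ⟨?_, ?_⟩
  · exact Subgroup.Normal.map hN.1 _ φ.surjective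
  · rw [show Nat.card (N.map φ.toMonoidHom) = Nat.card N from
      (Nat.card_congr (N.equivMapOfInjective φ.toMonoidHom φ.injective).toEquiv).symm]
    exact hN.2

end cores

end Cfsg.Agent.Helper19
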