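import Mathlib
import Cfsg.Agent.Helper19.Basic

set_option autoImplicit false

namespace Cfsg.Agent.Helper19

/-- Membership in the normalizer of a subgroup of a finite group only needs one inclusion. -/
lemma mem_normalizer_of_forall {G : Type*} [Group G] [Finite G] {H : Subgroup G} {x : G}
    (h : ∀ n ∈ H, x * n * x⁻¹ ∈ H) : x ∈ Subgroup.normalizer (H : Set G) :=
  Subgroup.mem_normalizer_fintype h

/-- Normalizers grow in `p`-groups: if `H < K` with `K` a finite `p`-group, some element of `K`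
outside `H` normalizes `H`. -/
lemma exists_mem_normalizer_not_mem {G : Type*} [Group G] [Finite G] {p : ℕ} [Fact p.Prime]
    {H K : Subgroup G} (hK : IsPGroup p K) (hHK : H < K) :
    ∃ x ∈ K, x ∈ Subgroup.normalizer (H : Set G) ∧ x ∉ H := by
  have : Group.IsNilpotent K := hK.isNilpotent
  have hnc : NormalizerCondition K := Group.normalizerCondition_of_isNilpotent
  have hlt : H.subgroupOf K < ⊤ := by
    rw [lt_top_iff_ne_top, Ne, Subgroup.subgroupOf_eq_top]
    exact fun h => (not_le_of_gt hHK) h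
  obtain ⟨x, hxN, hxH⟩ := SetLike.exists_of_lt (hnc _ hlt)
  refine ⟨x, x.2, ?_, fun h => hxH (Subgroup.mem_subgroupOf.mpr h)⟩
  apply mem_normalizer_of_forall
  intro n hn
  have hnK : n ∈ K := hHK.le hn
  have := (Subgroup.mem_normalizer_iff.mp hxN ⟨n, hnK⟩).mp (Subgroup.mem_subgroupOf.mpr hn)
  simpa [Subgroup.mem_subgroupOf] using this

/-- If a subgroup `N` has a normal Sylow `p`-subgroup `S`, every `p`-subgroup of `N` lies in the
image of `S`. -/
lemma le_map_of_normal_sylow {G : Type*} [Group G] [Finite G] {p : ℕ} [Fact p.Prime]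
    {N : Subgroup G} (S : Sylow p N) (hS : (S : Subgroup N).Normal)
    {H : Subgroup G} (hH : IsPGroup p H) (hHN : H ≤ N) :
    H ≤ (S : Subgroup N).map N.subtype := by
  have h1 : IsPGroup p (H.subgroupOf N) := hH.comap_subtype
  obtain ⟨Q, hQ⟩ := h1.exists_le_sylow
  have := Sylow.unique_of_normal S hS
  have hQS : Q = S := Subsingleton.elim _ _
  intro x hx
  have : (⟨x, hHN hx⟩ : N) ∈ (S : Subgroup N) := by
    rw [← hQS]; exact hQ (Subgroup.mem_subgroupOf.mpr hx)
  exact ⟨⟨x, hHN hx⟩, this, rfl⟩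

/-- The image of a `p`-subgroup of a subgroup is a `p`-subgroup. -/
lemma isPGroup_map_subtype {G : Type*} [Group G] {p : ℕ} {N : Subgroup G} {S : Subgroup N}
    (hS : IsPGroup p S) : IsPGroup p (S.map N.subtype) :=
  hS.map N.subtype

/-- Relative Sylow conjugacy: if `P ≤ K` is a `p`-subgroup with `p ∤ [K : P]` and `Q ≤ K` has the same
order as `P`, then `Q` is conjugate to `P` by an element of `K`. -/
lemma exists_conj_eq_of_card_eq {G : Type*} [Group G] [Finite G] {p : ℕ} [Fact p.Prime]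
    {K P Q : Subgroup G} (hP : IsPGroup p P) (hPK : P ≤ K) (hQK : Q ≤ K)
    (hidx : ¬ p ∣ P.relIndex K) (hcard : Nat.card Q = Nat.card P) :
    ∃ k ∈ K, Q = P.map (MulAut.conj k).toMonoidHom := by
  have hP' : IsPGroup p (P.subgroupOf K) := hP.comap_subtype
  let PS : Sylow p K := hP'.toSylow hidx
  have hQ : IsPGroup p Q := by
    obtain ⟨n, hn⟩ := IsPGroup.iff_card.mp hP
    exact IsPGroup.of_card (hcard.trans hn)
  have hQ' : IsPGroup p (Q.subgroupOf K) := hQ.comap_subtype
  obtain ⟨S, hS⟩ := hQ'.exists_le_sylow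
  obtain ⟨k, hk⟩ := MulAction.exists_smul_eq K PS S
  have hcS : Nat.card (S : Subgroup K) = Nat.card (Q.subgroupOf K) := by
    rw [← hk]
    have h1 : Nat.card ((k • PS : Sylow p K) : Subgroup K) = Nat.card (PS : Subgroup K) :=
      (Nat.card_congr (Sylow.equivSMul PS k).toEquiv).symm
    rw [h1]
    have h2 : Nat.card (PS : Subgroup K) = Nat.card P :=
      Nat.card_congr (Subgroup.subgroupOfEquivOfLe hPK).toEquiv
    have h3 : Nat.card (Q.subgroupOf K) = Nat.card Q :=
      Nat.card_congr (Subgroup.subgroupOfEquivOfLe hQK).toEquiv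
    rw [h2, h3, hcard]
  have hQS : Q.subgroupOf K = (S : Subgroup K) := Subgroup.eq_of_le_of_card_ge hS hcS.le
  refine ⟨k, k.2, ?_⟩
  ext y
  rw [mem_map_conj]
  constructor
  · intro hy
    have h1 : (⟨y, hQK hy⟩ : K) ∈ Q.subgroupOf K := Subgroup.mem_subgroupOf.mpr hy
    rw [hQS, ← hk, Sylow.smul_def, Sylow.pointwise_smul_def] at h1
    obtain ⟨z, hz, hzy⟩ := h1
    have hzP : (z : G) ∈ P := Subgroup.mem_subgroupOf.mp hz
    have : y = k * z * (k : G)⁻¹ := by
      have := congrArg Subtype.val hzy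
      simpa [MulAut.smul_def, MulAut.conj_apply] using this.symm
    rw [this]
    have : (k : G)⁻¹ * (k * z * (k : G)⁻¹) * k = z := by group
    rw [this]; exact hzP
  · intro hy
    have hyK : y ∈ K := by
      have h1 : (k : G)⁻¹ * y * k ∈ K := hPK hy
      have h2 : y = k * ((k : G)⁻¹ * y * k) * (k : G)⁻¹ := by group
      rw [h2]; exact K.mul_mem (K.mul_mem k.2 h1) (K.inv_mem k.2)
    have h1 : (⟨y, hyK⟩ : K) ∈ ((k • PS : Sylow p K) : Subgroup K) := by
      rw [Sylow.smul_def, Sylow.pointwise_smul_def]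
      refine ⟨⟨(k : G)⁻¹ * y * k, hPK hy⟩, Subgroup.mem_subgroupOf.mpr hy, ?_⟩
      apply Subtype.ext
      simp [MulAut.smul_def, MulAut.conj_apply, mul_assoc]
    rw [hk, ← hQS] at h1
    exact Subgroup.mem_subgroupOf.mp h1

end Cfsg.Agent.Helper19
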