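import Mathlib

set_option autoImplicit false

/-! # Counting fixed points of automorphisms of prime order on invariant subgroups -/

namespace Cfsg.Agent.Helper19.AutCount

open Subgroup

variable {G : Type*} [Group G]

/-- The subgroup of fixed points of an automorphism. -/
def fixedSub (α : MulAut G) : Subgroup G where
  carrier := {x | α x = x}
  one_mem' := map_one α
  mul_mem' := fun {a b} ha hb => by
    simp only [Set.mem_ofPred_eq] at *
    rw [map_mul, ha, hb]
  inv_mem' := fun {a} ha => by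
    simp only [Set.mem_ofPred_eq] at *
    rw [map_inv, ha]

theorem mem_fixedSub {α : MulAut G} {x : G} : x ∈ fixedSub α ↔ α x = x := Iff.rfl

/-- For an automorphism `α` with `α ^ q = 1`, `q` prime, and an `α`-invariant subgroup `K`:
`|K| ≡ |C_K(α)| mod q`. -/
theorem card_modEq [Finite G] {q : ℕ} [Fact q.Prime] (α : MulAut G) (hα : α ^ q = 1)
    (K : Subgroup G) (hK : ∀ x ∈ K, α x ∈ K) :
    Nat.card K ≡ Nat.card ↥(K ⊓ fixedSub α) [MOD q] := by
  classical
  haveI := Fintype.ofFinite ↥K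
  let f : Function.End ↥K := fun x => ⟨α x.1, hK x.1 x.2⟩
  have hf : ∀ (n : ℕ) (x : ↥K), ((f ^ n) x : G) = (α ^ n) x.1 := by
    intro n
    induction n with
    | zero => intro x; rfl
    | succ n ih =>
      intro x
      rw [pow_succ', pow_succ', Function.End.mul_def, MulAut.mul_apply, ← ih x]
      rfl
  have hfq : f ^ q ^ 1 = 1 := by
    funext x
    apply Subtype.ext
    rw [pow_one, hf, hα]
    rfl
  have h1 := Equiv.Perm.card_fixedPoints_modEq (p := q) (n := 1) hfq
  rw [Nat.card_eq_fintype_card]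
  refine h1.trans ?_
  rw [← Nat.card_eq_fintype_card]
  have h2 : Nat.card ↥(Function.fixedPoints f) = Nat.card ↥(K ⊓ fixedSub α) :=
    Nat.card_congr
      { toFun := fun x => ⟨x.1.1, ⟨x.1.2, congrArg Subtype.val x.2⟩⟩
        invFun := fun y => ⟨⟨y.1, y.2.1⟩, Subtype.ext y.2.2⟩
        left_inv := fun x => rfl
        right_inv := fun y => rfl }
  rw [h2]

/-- If the `p`-power map is multiplicative on the `α`-invariant `p`-subgroup `K` and the
automorphism `α` of order prime to `p` fixes all elements of order dividing `p` of `K`, then `α`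
fixes `K` elementwise. -/
theorem fixes_of_fixes_omega {p : ℕ} [Fact p.Prime] (α : MulAut G) (n : ℕ) (hn : α ^ n = 1)
    (hnp : n.Coprime p) (K : Subgroup G) (hKp : IsPGroup p K) (hK : ∀ x ∈ K, α x ∈ K)
    (hpow : ∀ x ∈ K, ∀ y ∈ K, (x * y) ^ p = x ^ p * y ^ p)
    (hfix : ∀ x ∈ K, x ^ p = 1 → α x = x) : ∀ x ∈ K, α x = x := by
  have key : ∀ k : ℕ, ∀ x ∈ K, x ^ (p ^ k) = 1 → α x = x := by
    intro k
    induction k with
    | zero =>
      intro x _ hx
      rw [pow_zero, pow_one] at hx
      rw [hx, map_one]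
    | succ k ih =>
      intro x hxK hx
      have hb : α (x ^ p) = x ^ p :=
        ih (x ^ p) (K.pow_mem hxK p) (by rw [← pow_mul, ← pow_succ']; exact hx)
      set c := x⁻¹ * α x with hc
      have hcK : c ∈ K := K.mul_mem (K.inv_mem hxK) (hK x hxK)
      have hcp : c ^ p = 1 := by
        rw [hc, hpow _ (K.inv_mem hxK) _ (hK x hxK), ← map_pow, hb, inv_pow, inv_mul_cancel]
      have hcfix : α c = c := hfix c hcK hcp
      have hαx : α x = x * c := by rw [hc]; group
      have hiter : ∀ m : ℕ, (α ^ m) x = x * c ^ m := by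
        intro m
        induction m with
        | zero => simp
        | succ m ihm =>
          rw [pow_succ', MulAut.mul_apply, ihm, map_mul, map_pow, hcfix, hαx, pow_succ',
            mul_assoc]
      have h1 := hiter n
      rw [hn, MulAut.one_apply] at h1
      have hcn : c ^ n = 1 := by
        have h2 : x * 1 = x * c ^ n := by rw [mul_one]; exact h1
        exact (mul_left_cancel h2).symm
      have hc1 : c = 1 := by
        have h3 := pow_gcd_eq_one.mpr ⟨hcn, hcp⟩
        rwa [Nat.Coprime.gcd_eq_one hnp, pow_one] at h3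
      rw [hc, inv_mul_eq_one] at hc1
      exact hc1.symm
  intro x hxK
  obtain ⟨k, hk⟩ := hKp ⟨x, hxK⟩
  have hk' : x ^ (p ^ k) = 1 := by
    have := congrArg Subtype.val hk
    simpa using this
  exact key k x hxK hk'

/-- If `α` (with `α ^ q = 1`, `q ≠ p` prime) acts nontrivially on an invariant `p`-subgroup `K`
whose fixed points have index at most `p²`, then `q ∣ p² - 1`. -/
theorem dvd_sq_sub_one [Finite G] {p q : ℕ} [Fact p.Prime] [Fact q.Prime] (hqp : q ≠ p)
    (α : MulAut G) (hα : α ^ q = 1) (K : Subgroup G) (hKp : IsPGroup p K)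
    (hK : ∀ x ∈ K, α x ∈ K) (hne : K ⊓ fixedSub α ≠ K)
    (hcard : Nat.card K ≤ p ^ 2 * Nat.card ↥(K ⊓ fixedSub α)) : q ∣ p ^ 2 - 1 := by
  have hpp : p.Prime := Fact.out
  have hqq : q.Prime := Fact.out
  have hmod := card_modEq α hα K hK
  obtain ⟨a, ha⟩ := hKp.exists_card_eq
  have hFp : IsPGroup p ↥(K ⊓ fixedSub α) := hKp.to_le inf_le_left
  obtain ⟨b, hb⟩ := hFp.exists_card_eq
  have hlt : Nat.card ↥(K ⊓ fixedSub α) < Nat.card K := by
    rcases lt_or_eq_of_le (Subgroup.card_le_of_le (inf_le_left : K ⊓ fixedSub α ≤ K)) with h | h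
    · exact h
    · exact absurd (Subgroup.eq_of_le_of_card_ge inf_le_left h.ge) hne
  rw [ha, hb] at hlt hmod hcard
  have hba : b < a := (Nat.pow_lt_pow_iff_right hpp.one_lt).mp hlt
  have hab2 : a ≤ b + 2 := by
    rw [← pow_add] at hcard
    have := (Nat.pow_le_pow_iff_right hpp.one_lt).mp hcard
    omega
  have hdvd : q ∣ p ^ a - p ^ b := (Nat.modEq_iff_dvd' hlt.le).mp hmod.symm
  obtain ⟨d, rfl⟩ : ∃ d, a = b + d := ⟨a - b, by omega⟩
  have hfac : p ^ (b + d) - p ^ b = p ^ b * (p ^ d - 1) := by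
    rw [pow_add, Nat.mul_sub, mul_one]
  rw [hfac] at hdvd
  have hcop : Nat.Coprime q (p ^ b) :=
    Nat.Coprime.pow_right b ((Nat.coprime_primes hqq hpp).mpr hqp)
  have hd : q ∣ p ^ d - 1 := hcop.dvd_of_dvd_mul_left hdvd
  have hd12 : d = 1 ∨ d = 2 := by omega
  rcases hd12 with rfl | rfl
  · rw [pow_one] at hd
    obtain ⟨m, rfl⟩ : ∃ m, p = m + 1 := ⟨p - 1, by have := hpp.pos; omega⟩
    have h1 : (m + 1) ^ 2 - 1 = (m + 1 - 1) * (m + 2) := by
      rw [Nat.add_sub_cancel]
      have : (m + 1) ^ 2 = m * (m + 2) + 1 := by ring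
      rw [this, Nat.add_sub_cancel]
    rw [h1]
    exact Dvd.dvd.mul_right hd _
  · exact hd

end Cfsg.Agent.Helper19.AutCount
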