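import Mathlib

set_option autoImplicit false

/-! Power formulas in groups where a commutator commutes with both of its entries
(in particular in groups of class two). -/

namespace Cfsg.Agent.Helper19

open scoped commutatorElement

variable {G : Type*} [Group G]

/-- If `c = [y,x]` commutes with `x` and `y` then `y^n x = c^n x y^n`. -/
theorem pow_mul_eq_of_commute_comm (x y : G) (hy : Commute ⁅y, x⁆ y)
    (n : ℕ) : y ^ n * x = ⁅y, x⁆ ^ n * x * y ^ n := by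
  have hyx : y * x = ⁅y, x⁆ * x * y := by rw [commutatorElement_def]; group
  induction n with
  | zero => simp
  | succ n ih =>
    have h1 : Commute (⁅y, x⁆ ^ n) y := hy.pow_left n
    calc y ^ (n + 1) * x = y * (y ^ n * x) := by rw [pow_succ']; group
      _ = y * (⁅y, x⁆ ^ n * x * y ^ n) := by rw [ih]
      _ = (y * ⁅y, x⁆ ^ n) * x * y ^ n := by group
      _ = (⁅y, x⁆ ^ n * y) * x * y ^ n := by rw [h1.eq]
      _ = ⁅y, x⁆ ^ n * (y * x) * y ^ n := by group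
      _ = ⁅y, x⁆ ^ n * (⁅y, x⁆ * x * y) * y ^ n := by rw [hyx]
      _ = ⁅y, x⁆ ^ (n + 1) * x * y ^ (n + 1) := by rw [pow_succ, pow_succ']; group

/-- If `c = [y,x]` commutes with `x` and `y` then `[y^n, x] = c^n`. -/
theorem commutator_pow_left_of_commute_comm (x y : G)
    (hy : Commute ⁅y, x⁆ y) (n : ℕ) : ⁅y ^ n, x⁆ = ⁅y, x⁆ ^ n := by
  have h := pow_mul_eq_of_commute_comm x y hy n
  calc ⁅y ^ n, x⁆ = (y ^ n * x) * (y ^ n)⁻¹ * x⁻¹ := by rw [commutatorElement_def]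
    _ = (⁅y, x⁆ ^ n * x * y ^ n) * (y ^ n)⁻¹ * x⁻¹ := by rw [h]
    _ = ⁅y, x⁆ ^ n := by group

/-- If `c = [y,x]` commutes with `x` and `y` then `(xy)^n = x^n y^n c^(n choose 2)`. -/
theorem mul_pow_of_commute_comm (x y : G) (hx : Commute ⁅y, x⁆ x) (hy : Commute ⁅y, x⁆ y)
    (n : ℕ) : (x * y) ^ n = x ^ n * y ^ n * ⁅y, x⁆ ^ (n.choose 2) := by
  induction n with
  | zero => simp
  | succ n ih =>
    have h1 := pow_mul_eq_of_commute_comm x y hy n
    have hcx : Commute (⁅y, x⁆ ^ n) (x ^ n) := (hx.pow_left n).pow_right n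
    have hcx' : ∀ k m : ℕ, Commute (⁅y, x⁆ ^ k) (x ^ m) := fun k m => (hx.pow_left k).pow_right m
    have hcy' : ∀ k m : ℕ, Commute (⁅y, x⁆ ^ k) (y ^ m) := fun k m => (hy.pow_left k).pow_right m
    have hch : (n + 1).choose 2 = n + n.choose 2 := by
      rw [Nat.choose_succ_succ, Nat.choose_one_right]
    calc (x * y) ^ (n + 1) = (x * y) ^ n * (x * y) := pow_succ _ _
      _ = x ^ n * y ^ n * ⁅y, x⁆ ^ (n.choose 2) * (x * y) := by rw [ih]
      _ = x ^ n * y ^ n * (⁅y, x⁆ ^ (n.choose 2) * x ^ 1) * y := by rw [pow_one]; group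
      _ = x ^ n * y ^ n * (x ^ 1 * ⁅y, x⁆ ^ (n.choose 2)) * y := by rw [(hcx' _ 1).eq]
      _ = x ^ n * (y ^ n * x) * (⁅y, x⁆ ^ (n.choose 2) * y ^ 1) := by rw [pow_one, pow_one]; group
      _ = x ^ n * (⁅y, x⁆ ^ n * x * y ^ n) * (y ^ 1 * ⁅y, x⁆ ^ (n.choose 2)) := by
          rw [h1, (hcy' _ 1).eq]
      _ = (x ^ n * ⁅y, x⁆ ^ n) * x * y ^ (n + 1) * ⁅y, x⁆ ^ (n.choose 2) := by
          rw [pow_one, pow_succ]; group
      _ = (⁅y, x⁆ ^ n * x ^ n) * x * y ^ (n + 1) * ⁅y, x⁆ ^ (n.choose 2) := by rw [(hcx' n n).eq]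
      _ = ⁅y, x⁆ ^ n * (x ^ (n + 1) * y ^ (n + 1)) * ⁅y, x⁆ ^ (n.choose 2) := by
          rw [pow_succ x n]; group
      _ = (x ^ (n + 1) * y ^ (n + 1)) * ⁅y, x⁆ ^ n * ⁅y, x⁆ ^ (n.choose 2) := by
          rw [((hcx' n (n + 1)).mul_right (hcy' n (n + 1))).eq]
      _ = x ^ (n + 1) * y ^ (n + 1) * ⁅y, x⁆ ^ ((n + 1).choose 2) := by
          rw [hch, pow_add]; group

end Cfsg.Agent.Helper19
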