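import Mathlib
import Cfsg.Agent.Helper26.SL2Odd
import Cfsg.Agent.Helper17.PrimAb
import Cfsg.Agent.Helper21.FrattiniAut
import Cfsg.Agent.Helper19.AutCount
import Cfsg.Agent.Helper19.Class2
import Cfsg.Agent.Helper1.PGroup
import Cfsg.Agent.S0093
import Cfsg.Agent.S0121
import Cfsg.Agent.S0128

/-!
Odd-order groups of automorphisms of `p`-groups of rank at most two (`p` odd): the derived
subgroup is a `p`-group (Bender–Glauberman, section 4).
-/

set_option autoImplicit false

namespace Cfsg.Agent.Helper19.RankTwoAut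

open Subgroup
open scoped commutatorElement

/-- A finite group of odd order with a faithful representation of degree two in odd
characteristic `p` has a `p`-group as derived subgroup. -/
theorem commutator_isPGroup_of_mat2 {L : Type*} [Group L] [Finite L] {K : Type*} [Field K]
    (p : ℕ) [CharP K p] [hp : Fact p.Prime] (hp2 : p ≠ 2) (hodd : Odd (Nat.card L))
    (ψ : L →* Matrix (Fin 2) (Fin 2) K) (hψ : Function.Injective ψ) :
    IsPGroup p ↥(commutator L) := by
  classical
  have hpp : p.Prime := hp.out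
  have hne : Nat.card ↥(commutator L) ≠ 0 := Nat.card_pos.ne'
  have huniq : ∀ {r : ℕ}, r.Prime → r ∣ Nat.card ↥(commutator L) → r = p := by
    intro r hr hdvd
    by_contra hrp
    haveI : Fact r.Prime := ⟨hr⟩
    obtain ⟨R⟩ : Nonempty (Sylow r L) := inferInstance
    have hN := Cfsg.Agent.Helper26.sylow_normalizer_le_centralizer_of_odd ψ hψ p hp2 hodd r hrp R
    have hker : commutator L ≤ (MonoidHom.transferSylow R hN).ker := by
      rw [commutator_def, Subgroup.commutator_le]
      intro a _ b _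
      rw [MonoidHom.mem_ker, map_commutatorElement, commutatorElement_eq_one_iff_commute]
      have hb := (MonoidHom.transferSylow R hN b).2
      have ha := (MonoidHom.transferSylow R hN a).2
      apply Subtype.ext
      rw [Subgroup.coe_mul, Subgroup.coe_mul]
      exact hN (le_normalizer hb) _ ha
    have h1 := MonoidHom.not_dvd_card_ker_transferSylow R hN
    exact h1 (hdvd.trans (Subgroup.card_dvd_of_le hker))
  have h2 := Nat.eq_prime_pow_of_unique_prime_dvd hne huniq
  exact IsPGroup.of_card h2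

/-- An odd-order group acting on an elementary abelian `p`-group of order at most `p²`:
commutators act as `p`-elements. -/
theorem commutator_pow_mem_ker {L V : Type*} [Group L] [Finite L] [Group V] [Finite V]
    (p : ℕ) [hp : Fact p.Prime] (hp2 : p ≠ 2) (hcomm : ∀ a b : V, a * b = b * a)
    (hexp : ∀ v : V, v ^ p = 1) (hcard : Nat.card V ≤ p ^ 2) (hodd : Odd (Nat.card L))
    (θ : L →* MulAut V) : ∀ x ∈ commutator L, ∃ k : ℕ, x ^ p ^ k ∈ θ.ker := by
  classical
  have hpp : p.Prime := hp.out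
  have hV : IsPGroup p V := fun v => ⟨1, by rw [pow_one]; exact hexp v⟩
  obtain ⟨e, he⟩ := IsPGroup.iff_card.mp hV
  have he2 : e ≤ 2 := by
    by_contra h
    push Not at h
    have : p ^ 3 ≤ p ^ e := Nat.pow_le_pow_right hpp.pos h
    have h3 : p ^ 2 < p ^ 3 := Nat.pow_lt_pow_right hpp.one_lt (by norm_num)
    omega
  -- the abelian cases
  have habel : IsCyclic V → ∀ x ∈ commutator L, ∃ k : ℕ, x ^ p ^ k ∈ θ.ker := by
    intro hcyc x hx
    refine ⟨0, ?_⟩
    rw [pow_zero, pow_one]
    have hle : commutator L ≤ θ.ker := by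
      rw [commutator_def, Subgroup.commutator_le]
      intro a _ b _
      rw [MonoidHom.mem_ker, map_commutatorElement, commutatorElement_eq_one_iff_commute]
      apply (IsCyclic.mulAutMulEquiv V).injective
      show (IsCyclic.mulAutMulEquiv V) (θ a * θ b) = (IsCyclic.mulAutMulEquiv V) (θ b * θ a)
      rw [map_mul, map_mul, mul_comm]
    exact hle hx
  interval_cases e
  · -- trivial `V`
    apply habel
    rw [pow_zero] at he
    haveI : Subsingleton V := (Nat.card_eq_one_iff_unique.mp he).1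
    exact isCyclic_of_subsingleton
  · rw [pow_one] at he
    exact habel (isCyclic_of_prime_card he)
  · -- the case `|V| = p²`
    letI : CommGroup V := { (inferInstance : Group V) with mul_comm := hcomm }
    letI : Module (ZMod p) (Additive V) := AddCommGroup.zmodModule (fun x => by
      have : x = Additive.ofMul (Additive.toMul x) := rfl
      rw [this, ← ofMul_pow, hexp]; rfl)
    obtain ⟨φ, hφ⟩ := Cfsg.Agent.Helper17.exists_hom_GL_of_module (A := V) p 2 he θ
    intro x hx
    let ψ : L ⧸ φ.ker →* Matrix (Fin 2) (Fin 2) (ZMod p) :=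
      (Units.coeHom _).comp (QuotientGroup.kerLift φ)
    have hψ : Function.Injective ψ := by
      intro a b hab
      apply QuotientGroup.kerLift_injective φ
      exact Units.ext hab
    have hoddq : Odd (Nat.card (L ⧸ φ.ker)) := by
      have h1 : Nat.card (L ⧸ φ.ker) ∣ Nat.card L := by
        rw [← Subgroup.index_eq_card]; exact Subgroup.index_dvd_card _
      exact Odd.of_dvd_nat hodd h1
    have hP := commutator_isPGroup_of_mat2 p hp2 hoddq ψ hψ
    have hmem : (QuotientGroup.mk' φ.ker x) ∈ commutator (L ⧸ φ.ker) := by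
      have h1 : (commutator L).map (QuotientGroup.mk' φ.ker) ≤ commutator (L ⧸ φ.ker) := by
        rw [commutator_def, commutator_def, Subgroup.map_commutator]
        exact Subgroup.commutator_mono le_top le_top
      exact h1 ⟨x, hx, rfl⟩
    obtain ⟨k, hk⟩ := hP ⟨_, hmem⟩
    refine ⟨k, ?_⟩
    rw [← hφ]
    have h2 := congrArg Subtype.val hk
    simp only [Subgroup.coe_pow, Subgroup.coe_one] at h2
    rw [← map_pow] at h2
    exact (QuotientGroup.eq_one_iff _).mp h2

/-- Restriction of automorphisms to an invariant subgroup. -/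
def resAut {R : Type*} [Group R] (E : Subgroup R) (hE : ∀ (β : MulAut R), ∀ x ∈ E, β x ∈ E) :
    MulAut R →* MulAut ↥E where
  toFun β :=
    { toFun := fun x => ⟨β x, hE β x x.2⟩
      invFun := fun x => ⟨β⁻¹ x, hE β⁻¹ x x.2⟩
      left_inv := fun x => Subtype.ext (by simp)
      right_inv := fun x => Subtype.ext (by simp)
      map_mul' := fun x y => Subtype.ext (by simp) }
  map_one' := by ext x; rfl
  map_mul' β γ := by ext x; rfl

theorem resAut_apply {R : Type*} [Group R] (E : Subgroup R)
    (hE : ∀ (β : MulAut R), ∀ x ∈ E, β x ∈ E) (β : MulAut R) (x : ↥E) :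
    ((resAut E hE β x : ↥E) : R) = β x := rfl

/-- **Main theorem.**  An odd-order group acting on a `p`-group of rank at most two (`p` odd):
commutators act as `p`-elements. -/
theorem commutator_pow_eq_one {R L : Type*} [Group R] [Finite R] [Group L] [Finite L]
    (p : ℕ) [hp : Fact p.Prime] (hp2 : p ≠ 2) (hR : IsPGroup p R) (hrk : Cfsg.PRankLE p 2 R)
    (hodd : Odd (Nat.card L)) (ρ : L →* MulAut R) :
    ∀ x ∈ commutator L, ∃ k : ℕ, ρ x ^ p ^ k = 1 := by
  classical
  have hpp : p.Prime := hp.out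
  have hp3 : 2 < p := lt_of_le_of_ne hpp.two_le (Ne.symm hp2)
  obtain ⟨H, hHchar, h1, h2, h3⟩ := Cfsg.Agent.S0093.result hR
  have hHinv : ∀ (β : MulAut R) (x : R), x ∈ H → β x ∈ H := by
    intro β x hx
    have h4 := Subgroup.characteristic_iff_map_eq.mp hHchar β
    rw [← h4]
    exact ⟨x, hx, rfl⟩
  have hHp : IsPGroup p ↥H := hR.to_subgroup H
  have hcomm_mem : ∀ x ∈ H, ∀ y ∈ H, ⁅y, x⁆ ∈ centralizer (H : Set R) := by
    intro x hx y hy
    apply h1
    refine ⟨⁅(⟨y, hy⟩ : ↥H), ⟨x, hx⟩⁆, ?_, rfl⟩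
    exact Cfsg.Agent.Helper1.IsPGroup.commutator_le_frattini hHp
      (commutator_mem_commutator (mem_top _) (mem_top _))
  have hpow_mem : ∀ y ∈ H, y ^ p ∈ centralizer (H : Set R) := by
    intro y hy
    apply h1
    exact ⟨(⟨y, hy⟩ : ↥H) ^ p, Cfsg.Agent.Helper1.IsPGroup.pow_mem_frattini hHp _, rfl⟩
  have hpowH : ∀ x ∈ H, ∀ y ∈ H, (x * y) ^ p = x ^ p * y ^ p := by
    intro x hx y hy
    have hc := hcomm_mem x hx y hy
    have hcx : Commute ⁅y, x⁆ x := (mem_centralizer_iff.mp hc x hx).symm
    have hcy : Commute ⁅y, x⁆ y := (mem_centralizer_iff.mp hc y hy).symm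
    have h5 := Cfsg.Agent.Helper19.mul_pow_of_commute_comm x y hcx hcy p
    have h6 : ⁅y, x⁆ ^ p = 1 := by
      rw [← Cfsg.Agent.Helper19.commutator_pow_left_of_commute_comm x y hcy p,
        commutatorElement_eq_one_iff_commute]
      exact (mem_centralizer_iff.mp (hpow_mem y hy) x hx).symm
    obtain ⟨m, hm⟩ : p ∣ p.choose 2 := hpp.dvd_choose_self (by norm_num) hp3
    rw [h5, hm, pow_mul, h6, one_pow, mul_one]
  -- `E = Ω₁(H)`
  let E : Subgroup R :=
    { carrier := {x | x ∈ H ∧ x ^ p = 1}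
      one_mem' := ⟨H.one_mem, one_pow p⟩
      mul_mem' := fun {a b} ha hb =>
        ⟨H.mul_mem ha.1 hb.1, by rw [hpowH _ ha.1 _ hb.1, ha.2, hb.2, one_mul]⟩
      inv_mem' := fun {a} ha => ⟨H.inv_mem ha.1, by rw [inv_pow, ha.2, inv_one]⟩ }
  have hEmem : ∀ x, x ∈ E ↔ x ∈ H ∧ x ^ p = 1 := fun x => Iff.rfl
  have hEinv : ∀ (β : MulAut R), ∀ x ∈ E, β x ∈ E := fun β x hx =>
    ⟨hHinv β x hx.1, by rw [← map_pow, hx.2, map_one]⟩
  have hEp : IsPGroup p ↥E := hR.to_subgroup E
  have hEexp : ∀ g : ↥E, g ^ p = 1 := by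
    intro g
    apply Subtype.ext
    have := g.2.2
    simpa using this
  have hrk' : Cfsg.Agent.S0128.RankTwo p R := fun A hA => hrk A hA.1 hA.2
  have hE3 : Nat.card E ≤ p ^ 3 :=
    Cfsg.Agent.S0128.card_le_of_exponent (p := p) hEexp (hrk'.subgroup E)
  -- coprime automorphisms fixing `E` are trivial
  have hstar : ∀ (β : MulAut R) (n : ℕ), β ^ n = 1 → n.Coprime p → (∀ x ∈ E, β x = x) →
      β = 1 := by
    intro β n hn hnp hfix
    have hH : ∀ x ∈ H, β x = x :=
      Cfsg.Agent.Helper19.AutCount.fixes_of_fixes_omega β n hn hnp H hHp (hHinv β) hpowH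
        (fun x hx hxp => hfix x ⟨hx, hxp⟩)
    have hcop : Nat.Coprime (orderOf β) p :=
      Nat.Coprime.coprime_dvd_left (orderOf_dvd_of_pow_eq_one hn) hnp
    exact Cfsg.Agent.S0121.result hR H hHchar h1 h2 h3 β hcop hH
  -- the Frattini quotient of `E`
  have hVcomm : ∀ a b : ↥E ⧸ frattini ↥E, a * b = b * a := by
    intro a b
    induction a using QuotientGroup.induction_on with
    | H a =>
      induction b using QuotientGroup.induction_on with
      | H b =>
        rw [← QuotientGroup.mk_mul, ← QuotientGroup.mk_mul, QuotientGroup.eq]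
        have h4 : (a * b)⁻¹ * (b * a) = ⁅b⁻¹, a⁻¹⁆ := by
          rw [commutatorElement_def]; group
        rw [h4]
        exact Cfsg.Agent.Helper1.IsPGroup.commutator_le_frattini hEp
          (commutator_mem_commutator (mem_top _) (mem_top _))
  have hVexp : ∀ v : ↥E ⧸ frattini ↥E, v ^ p = 1 := by
    intro v
    induction v using QuotientGroup.induction_on with
    | H a => rw [← QuotientGroup.mk_pow, hEexp a, QuotientGroup.mk_one]
  have hVcard : Nat.card (↥E ⧸ frattini ↥E) ≤ p ^ 2 := by
    have hmul := Subgroup.card_mul_index (frattini ↥E)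
    rw [Subgroup.index_eq_card] at hmul
    by_cases hbot : frattini ↥E = ⊥
    · have hc1 : Nat.card ↥(frattini ↥E) = 1 := Subgroup.card_eq_one.mpr hbot
      rw [hc1, one_mul] at hmul
      rw [hmul]
      have hEc : IsMulCommutative ↥E := by
        refine ⟨⟨fun a b => ?_⟩⟩
        have h4 : ⁅a, b⁆ ∈ frattini ↥E :=
          Cfsg.Agent.Helper1.IsPGroup.commutator_le_frattini hEp
            (commutator_mem_commutator (mem_top _) (mem_top _))
        rw [hbot, mem_bot, commutatorElement_eq_one_iff_mul_comm] at h4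
        exact h4
      exact hrk E hEc (fun a ha => ha.2)
    · have hFp : IsPGroup p ↥(frattini ↥E) := hEp.to_subgroup _
      obtain ⟨b, hb⟩ := hFp.exists_card_eq
      have hb0 : b ≠ 0 := by
        intro hb0
        rw [hb0, pow_zero] at hb
        exact hbot (Subgroup.card_eq_one.mp hb)
      have h7 : p ≤ p ^ b := by
        calc p = p ^ 1 := (pow_one p).symm
          _ ≤ p ^ b := Nat.pow_le_pow_right hpp.pos (Nat.one_le_iff_ne_zero.mpr hb0)
      have h8 : p * Nat.card (↥E ⧸ frattini ↥E) ≤ p * p ^ 2 := by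
        calc p * Nat.card (↥E ⧸ frattini ↥E)
            ≤ Nat.card ↥(frattini ↥E) * Nat.card (↥E ⧸ frattini ↥E) := by
              rw [hb]; exact Nat.mul_le_mul_right _ h7
          _ = Nat.card ↥E := hmul
          _ ≤ p ^ 3 := hE3
          _ = p * p ^ 2 := by ring
      exact Nat.le_of_mul_le_mul_left h8 hpp.pos
  let θ : L →* MulAut (↥E ⧸ frattini ↥E) :=
    (Cfsg.Agent.Helper21.FrattiniAut.frattiniQuotHom ↥E).comp ((resAut E hEinv).comp ρ)
  intro x hx
  obtain ⟨k, hk⟩ := commutator_pow_mem_ker p hp2 hVcomm hVexp hVcard hodd θ x hx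
  -- the element `y = x ^ p ^ k` acts trivially on the Frattini quotient
  have hy : (resAut E hEinv) (ρ (x ^ p ^ k)) ∈
      (Cfsg.Agent.Helper21.FrattiniAut.frattiniQuotHom ↥E).ker := by
    rw [MonoidHom.mem_ker] at hk ⊢
    exact hk
  rw [Cfsg.Agent.Helper21.FrattiniAut.mem_ker_frattiniQuotHom_iff] at hy
  obtain ⟨j, hj⟩ := Cfsg.Agent.Helper21.FrattiniAut.exists_pow_eq_one_of_mem_ker ↥E hEp _ hy
  set β : MulAut R := (ρ (x ^ p ^ k)) ^ p ^ j with hβ
  have hβfix : ∀ e ∈ E, β e = e := by
    intro e he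
    have h4 : (resAut E hEinv) β = 1 := by rw [hβ, map_pow, hj]
    have h5 := congrArg (fun f : MulAut ↥E => ((f ⟨e, he⟩ : ↥E) : R)) h4
    simpa [resAut_apply] using h5
  have hβ0 : orderOf β ≠ 0 := (orderOf_pos β).ne'
  obtain ⟨a, m, hm, ham⟩ := Nat.exists_eq_pow_mul_and_not_dvd hβ0 p hpp.ne_one
  have hγ : β ^ p ^ a = 1 := by
    apply hstar (β ^ p ^ a) m
    · rw [← pow_mul, ← ham, pow_orderOf_eq_one]
    · exact ((Nat.Prime.coprime_iff_not_dvd hpp).mpr hm).symm
    · intro e he
      have h6 : ∀ n : ℕ, (β ^ n) e = e := by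
        intro n
        induction n with
        | zero => simp
        | succ n ih => rw [pow_succ, MulAut.mul_apply, hβfix e he, ih]
      exact h6 _
  refine ⟨k + j + a, ?_⟩
  rw [pow_add, pow_add, pow_mul, pow_mul, ← map_pow ρ x (p ^ k)]
  exact hγ

end Cfsg.Agent.Helper19.RankTwoAut
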