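import Mathlib
import Cfsg.Agent.Lead.RelQuot
import Cfsg.Agent.Lead.CoprimeAbelian

set_option autoImplicit false

/-! Coprime action on an abelian section `P/N`: if `P = [P,A]N` then `C_{P/N}(A) = 1`. -/

namespace Cfsg.Agent.Helper19

open Subgroup Cfsg.Agent.Lead
open scoped commutatorElement

variable {X : Type*} [Group X]

theorem relMk_eq_one_iff (N : Subgroup X) (x : X) (h : x ∈ normalizer (N : Set X)) :
    relMk N ⟨x, h⟩ = 1 ↔ x ∈ N := by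
  rw [← MonoidHom.mem_ker, ker_relMk, mem_subgroupOf]

/-- Coprime action on an abelian section `P/N` with `P = [P,A]N`: any `U ≤ P` with `[U,A] ≤ N`
lies in `N`. -/
theorem le_of_commutator_le_of_abelian_section [Finite X] (A P N U : Subgroup X)
    (hPN : P ≤ normalizer (N : Set X)) (hAN : A ≤ normalizer (N : Set X))
    (hAP : A ≤ normalizer (P : Set X)) (hab : ∀ x ∈ P, ∀ y ∈ P, ⁅x, y⁆ ∈ N)
    (hcop : (Nat.card A).Coprime (Nat.card P)) (hPA : P ≤ ⁅P, A⁆ ⊔ N) (hU : U ≤ P)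
    (hUA : ⁅U, A⁆ ≤ N) : U ≤ N := by
  have hPbar : ∀ z ∈ bar N P, ∃ x, ∃ hx : x ∈ P, z = relMk N ⟨x, hPN hx⟩ := by
    rintro z ⟨y, hy, rfl⟩
    exact ⟨y.1, hy, rfl⟩
  have hAbar : ∀ z ∈ bar N A, ∃ x, ∃ hx : x ∈ A, z = relMk N ⟨x, hAN hx⟩ := by
    rintro z ⟨y, hy, rfl⟩
    exact ⟨y.1, hy, rfl⟩
  have : IsMulCommutative (bar N P) := by
    refine ⟨⟨?_⟩⟩
    rintro ⟨z, hz⟩ ⟨w, hw⟩
    obtain ⟨x, hx, rfl⟩ := hPbar z hz
    obtain ⟨y, hy, rfl⟩ := hPbar w hw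
    apply Subtype.ext
    change relMk N ⟨x, hPN hx⟩ * relMk N ⟨y, hPN hy⟩ = relMk N ⟨y, hPN hy⟩ * relMk N ⟨x, hPN hx⟩
    rw [← map_mul, ← map_mul, ← mul_inv_eq_one, ← map_inv, ← map_mul]
    have : (⟨x, hPN hx⟩ * ⟨y, hPN hy⟩ * (⟨y, hPN hy⟩ * ⟨x, hPN hx⟩)⁻¹ :
        ↥(normalizer (N : Set X))) = ⟨⁅x, y⁆, hPN (commutator_mem_commutator hx hy |>
          (commutator_le_of_le_normalizer (le_normalizer (H := P))))⟩ := by
      apply Subtype.ext
      simp [commutatorElement_def, mul_assoc]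
    rw [this, relMk_eq_one_iff]
    exact hab x hx y hy
  have hAPbar : bar N A ≤ normalizer (bar N P : Set (RelQ N)) := bar_le_normalizer_bar N hAP
  have hcop' : (Nat.card (bar N A)).Coprime (Nat.card (bar N P)) :=
    Nat.Coprime.of_dvd (card_bar_dvd N A) (card_bar_dvd N P) hcop
  have hinf := coprime_abelian_inf (bar N A) (bar N P) hAPbar hcop'
  -- `P ≤ lift [P̄, Ā]`
  have hPT : P ≤ lift N ⁅bar N P, bar N A⁆ := by
    refine hPA.trans (sup_le ?_ (le_lift N _))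
    rw [commutator_le]
    intro x hx a ha
    rw [mem_lift_iff]
    have hmem : ⁅x, a⁆ ∈ normalizer (N : Set X) :=
      (normalizer (N : Set X)).mul_mem ((normalizer (N : Set X)).mul_mem
        ((normalizer (N : Set X)).mul_mem (hPN hx) (hAN ha))
        ((normalizer (N : Set X)).inv_mem (hPN hx))) ((normalizer (N : Set X)).inv_mem (hAN ha))
    refine ⟨hmem, ?_⟩
    have : (⟨⁅x, a⁆, hmem⟩ : ↥(normalizer (N : Set X))) =
        ⁅(⟨x, hPN hx⟩ : ↥(normalizer (N : Set X))), (⟨a, hAN ha⟩ : ↥(normalizer (N : Set X)))⁆ := by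
      apply Subtype.ext
      simp [commutatorElement_def]
    rw [this, map_commutatorElement]
    have hxb : relMk N ⟨x, hPN hx⟩ ∈ bar N P := ⟨⟨x, hPN hx⟩, hx, rfl⟩
    have hab' : relMk N ⟨a, hAN ha⟩ ∈ bar N A := ⟨⟨a, hAN ha⟩, ha, rfl⟩
    exact commutator_mem_commutator hxb hab'
  intro u hu
  have huP : u ∈ P := hU hu
  obtain ⟨h1, h2⟩ := (mem_lift_iff N _ u).mp (hPT huP)
  have h3 : relMk N ⟨u, h1⟩ ∈ bar N P ⊓ centralizer (bar N A : Set (RelQ N)) := by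
    refine ⟨⟨⟨u, h1⟩, huP, rfl⟩, ?_⟩
    change relMk N ⟨u, h1⟩ ∈ centralizer (bar N A : Set (RelQ N))
    rw [mem_centralizer_iff]
    intro z hz
    obtain ⟨a, ha, rfl⟩ := hAbar z hz
    rw [← map_mul, ← map_mul, ← mul_inv_eq_one, ← map_inv, ← map_mul]
    have hmem : ⁅a, u⁆ ∈ N := by
      apply hUA
      rw [commutator_comm]
      exact commutator_mem_commutator ha hu
    have : (⟨a, hAN ha⟩ * ⟨u, h1⟩ * (⟨u, h1⟩ * ⟨a, hAN ha⟩)⁻¹ :
        ↥(normalizer (N : Set X))) = ⟨⁅a, u⁆, le_normalizer hmem⟩ := by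
      apply Subtype.ext
      simp [commutatorElement_def, mul_assoc]
    rw [this, relMk_eq_one_iff]
    exact hmem
  have h4 : relMk N ⟨u, h1⟩ ∈ (⊥ : Subgroup (RelQ N)) := by
    rw [← hinf]
    exact ⟨h3, h2⟩
  rw [mem_bot, relMk_eq_one_iff] at h4
  exact h4


/-- Element-wise version of `le_of_commutator_le_of_abelian_section`. -/
theorem mem_of_forall_commutator_mem_of_abelian_section [Finite X] (A P N : Subgroup X)
    (hPN : P ≤ normalizer (N : Set X)) (hAN : A ≤ normalizer (N : Set X))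
    (hAP : A ≤ normalizer (P : Set X)) (hab : ∀ x ∈ P, ∀ y ∈ P, ⁅x, y⁆ ∈ N)
    (hcop : (Nat.card A).Coprime (Nat.card P)) (hPA : P ≤ ⁅P, A⁆ ⊔ N) (x : X) (hx : x ∈ P)
    (hxA : ∀ a ∈ A, ⁅x, a⁆ ∈ N) : x ∈ N := by
  let U : Subgroup X :=
    { carrier := {y | y ∈ P ∧ ∀ a ∈ A, ⁅y, a⁆ ∈ N}
      one_mem' := ⟨P.one_mem, fun a _ => by simp⟩
      mul_mem' := by
        rintro y₁ y₂ ⟨h₁, h₁'⟩ ⟨h₂, h₂'⟩
        refine ⟨P.mul_mem h₁ h₂, fun a ha => ?_⟩
        have e : ⁅y₁ * y₂, a⁆ = y₁ * ⁅y₂, a⁆ * y₁⁻¹ * ⁅y₁, a⁆ := by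
          simp only [commutatorElement_def]; group
        rw [e]
        exact N.mul_mem ((mem_normalizer_iff.mp (hPN h₁) _).mp (h₂' a ha)) (h₁' a ha)
      inv_mem' := by
        rintro y ⟨h₁, h₁'⟩
        refine ⟨P.inv_mem h₁, fun a ha => ?_⟩
        have e : ⁅y⁻¹, a⁆ = y⁻¹ * ⁅y, a⁆⁻¹ * y⁻¹⁻¹ := by
          simp only [commutatorElement_def]; group
        rw [e]
        exact (mem_normalizer_iff.mp (hPN (P.inv_mem h₁)) _).mp (N.inv_mem (h₁' a ha)) }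
  have hUP : U ≤ P := fun y hy => hy.1
  have hUA : ⁅U, A⁆ ≤ N := by
    rw [commutator_le]
    intro y hy a ha
    exact hy.2 a ha
  exact le_of_commutator_le_of_abelian_section A P N U hPN hAN hAP hab hcop hPA hUP hUA ⟨hx, hxA⟩

/-- If `[d,g] ∈ N` and `g` normalizes `N` then `[d,a] ∈ N` for every power `a` of `g`. -/
theorem forall_zpowers_commutator_mem (N : Subgroup X) (d g : X)
    (hg : g ∈ normalizer (N : Set X)) (h : ⁅d, g⁆ ∈ N) : ∀ a ∈ zpowers g, ⁅d, a⁆ ∈ N := by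
  let S : Subgroup X :=
    { carrier := {a | a ∈ normalizer (N : Set X) ∧ ⁅d, a⁆ ∈ N}
      one_mem' := ⟨(normalizer (N : Set X)).one_mem, by simp⟩
      mul_mem' := by
        rintro a b ⟨ha, ha'⟩ ⟨hb, hb'⟩
        refine ⟨(normalizer (N : Set X)).mul_mem ha hb, ?_⟩
        have e : ⁅d, a * b⁆ = ⁅d, a⁆ * (a * ⁅d, b⁆ * a⁻¹) := by
          simp only [commutatorElement_def]; group
        rw [e]
        exact N.mul_mem ha' ((mem_normalizer_iff.mp ha _).mp hb')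
      inv_mem' := by
        rintro a ⟨ha, ha'⟩
        refine ⟨(normalizer (N : Set X)).inv_mem ha, ?_⟩
        have e : ⁅d, a⁻¹⁆ = a⁻¹ * ⁅d, a⁆⁻¹ * a⁻¹⁻¹ := by
          simp only [commutatorElement_def]; group
        rw [e]
        exact (mem_normalizer_iff.mp ((normalizer (N : Set X)).inv_mem ha) _).mp (N.inv_mem ha') }
  have hgS : g ∈ S := ⟨hg, h⟩
  intro a ha
  exact ((zpowers_le.mpr hgS) ha).2

end Cfsg.Agent.Helper19
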