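import Mathlib
import Cfsg.Agent.S3736
import Cfsg.Agent.Helper18.FocalFusion

set_option autoImplicit false

/-! The `Ω₁`-lemma for odd primes: a `p'`-group of automorphisms of a `p`-group (`p` odd) that
centralizes all elements of order `p` is trivial.  Also a tool to reduce membership statements to
elements of prime power order. -/

namespace Cfsg.Agent.Helper19

open Subgroup
open scoped commutatorElement

/-- `Ω₁`-lemma, `p` odd: if `A` acts coprimely on the `p`-group `P` and centralizes every element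
of `P` of order dividing `p`, then `A` centralizes `P`. -/
theorem commutator_eq_bot_of_centralizes_omega_one {X : Type*} [Group X] [Finite X] {p : ℕ}
    [Fact p.Prime] (hp2 : p ≠ 2) (P A : Subgroup X) (hP : IsPGroup p P)
    (hAP : A ≤ normalizer (P : Set X)) (hcop : (Nat.card A).Coprime p)
    (hΩ : ∀ x ∈ P, x ^ p = 1 → ∀ a ∈ A, a * x = x * a) : ⁅P, A⁆ = ⊥ := by
  by_contra hne
  let S : Set (Subgroup X) := {U | U ≤ P ∧ A ≤ normalizer (U : Set X) ∧ ⁅U, A⁆ ≠ ⊥}
  have hS : S.Nonempty := ⟨P, le_rfl, hAP, hne⟩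
  obtain ⟨P₁, hP₁S, hP₁min⟩ := wellFounded_lt.has_min S hS
  obtain ⟨hP₁P, hAP₁, hP₁ne⟩ := hP₁S
  have hres := Cfsg.Agent.S3736.result (p := p) A A P₁ (hP.to_le hP₁P) hAP₁ le_rfl le_normalizer hcop
    hP₁ne (fun U hU hAU => by
      by_contra hUne
      exact hP₁min U ⟨hU.le.trans hP₁P, hAU, hUne⟩ hU)
  have hexp := hres.2.2.2 hp2
  apply hP₁ne
  rw [eq_bot_iff, commutator_le]
  intro x hx a ha
  rw [mem_bot, commutatorElement_eq_one_iff_mul_comm]
  exact (hΩ x (hP₁P hx) (hexp x hx) a ha).symm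

/-- Reduction to prime-power-order elements: a subgroup containing every power of `x` of prime
power order contains `x`. -/
theorem mem_of_forall_primePow_mem {G : Type*} [Group G] [Finite G] (S : Subgroup G) :
    ∀ (n : ℕ) (x : G), orderOf x = n →
      (∀ w ∈ zpowers x, (∃ (q : ℕ) (k : ℕ), q.Prime ∧ orderOf w = q ^ k) → w ∈ S) → x ∈ S := by
  intro n
  induction n using Nat.strong_induction_on with
  | _ n ih =>
    intro x hxn hx
    by_cases h1 : orderOf x = 1
    · rw [orderOf_eq_one_iff.mp h1]; exact S.one_mem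
    · obtain ⟨q, hq, hqdvd⟩ := Nat.exists_prime_and_dvd h1
      have : Fact q.Prime := ⟨hq⟩
      obtain ⟨a, b, hab, ha, hb, ⟨k, hk⟩, hbc⟩ := Cfsg.Agent.Helper18.exists_pPart_decomp q x
      have haS : a ∈ S := hx a ha ⟨q, k, hq, hk⟩
      have hbdvd : orderOf b ∣ orderOf x := orderOf_dvd_of_mem_zpowers hb
      have hblt : orderOf b < n := by
        rw [← hxn]
        refine lt_of_le_of_ne (Nat.le_of_dvd (orderOf_pos x) hbdvd) (fun h => ?_)
        rw [h] at hbc
        exact hq.one_lt.ne' (Nat.Coprime.eq_one_of_dvd hbc.symm hqdvd)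
      have hbS : b ∈ S := ih _ hblt b rfl (fun w hw hwq => hx w (zpowers_le.mpr hb hw) hwq)
      rw [hab]
      exact S.mul_mem haS hbS

end Cfsg.Agent.Helper19
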