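import Mathlib
import Cfsg.Agent.S3785

/-!
A criterion for a normal subgroup of a finite solvable group to lie in the Fitting subgroup.
-/

set_option autoImplicit false
open Cfsg

namespace Cfsg.Agent.Helper19.FitCrit

open Subgroup Cfsg.Agent.Helper7 Cfsg.Agent.Helper19 Cfsg.Agent.S3785

/-- If every `p'`-element of the normal subgroup `C` of the finite solvable group `G` centralizes
`O_p(G)`, for every prime `p`, then `C ≤ F(G)`. -/
theorem le_fitting_of_coprime_centralizes {G : Type*} [Group G] [Finite G]
    (hG : Group.IsSolvable G) (C : Subgroup G) (hCn : C.Normal)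
    (h : ∀ (p : ℕ) [Fact p.Prime], ∀ x ∈ C, (orderOf x).Coprime p →
      ∀ w ∈ pCore p G, x * w = w * x) : C ≤ fittingSubgroup G := by
  classical
  set F := Cfsg.fittingSubgroup G with hF
  -- prime-power-order elements of `C` lie in `F`
  have step1 : ∀ (q : ℕ) [Fact q.Prime], ∀ y ∈ C, (∃ k, orderOf y = q ^ k) → y ∈ F := by
    intro q hqf y hyC hyq
    have hq : q.Prime := hqf.out
    obtain ⟨k0, hk0⟩ := hyq
    let Tq : Set G := {w | ∃ p : ℕ, p.Prime ∧ p ≠ q ∧ w ∈ pCore p G}
    have hTq : ∀ w ∈ Tq, ∀ t : G, t * w * t⁻¹ ∈ Tq := by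
      rintro w ⟨p, hp, hpq, hw⟩ t
      exact ⟨p, hp, hpq, (Cfsg.pCore_normal p G).conj_mem w hw t⟩
    let K : Subgroup G := C ⊓ centralizer Tq
    have hKn : K.Normal := by
      haveI := hCn
      haveI := centralizer_normal_of_conj_invariant Tq hTq
      exact inferInstance
    have hyK : y ∈ K := by
      refine ⟨hyC, ?_⟩
      change y ∈ centralizer Tq
      rw [mem_centralizer_iff]
      rintro w ⟨p, hp, hpq, hw⟩
      have : Fact p.Prime := ⟨hp⟩
      refine (h p y hyC ?_ w hw).symm
      rw [hk0]
      exact Nat.Coprime.pow_left _ ((Nat.coprime_primes hq hp).mpr (Ne.symm hpq))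
    -- `q'`-elements of `K` are central in `K`
    have h1a : ∀ z ∈ K, (orderOf z).Coprime q → ∀ k ∈ K, k * z = z * k := by
      intro z hz hzq k hk
      have hzC : z ∈ C := hz.1
      have hzT : z ∈ centralizer Tq := hz.2
      have hkT : k ∈ centralizer Tq := hk.2
      have hzF : z ∈ centralizer (F : Set G) := by
        have hle : pCoreSup G ≤ centralizer {z} := by
          rw [pCoreSup_le_iff]
          intro p hp w hw
          have : Fact p.Prime := ⟨hp⟩
          rw [mem_centralizer_iff]
          intro h' hh
          rw [Set.mem_singleton_iff.mp hh]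
          by_cases hpq : p = q
          · subst hpq; exact h p z hzC hzq w hw
          · exact (mem_centralizer_iff.mp hzT w ⟨p, hp, hpq, hw⟩).symm
        rw [mem_centralizer_iff]
        intro w hw
        have hw' : w ∈ pCoreSup G := by rw [← fittingSubgroup_eq_pCoreSup]; exact hw
        exact (mem_centralizer_iff.mp (hle hw') z rfl).symm
      have hzF' : z ∈ F := by
        have := hG
        exact Cfsg.Agent.S0044.result hzF
      have hzk : z ∈ centralizer ({k} : Set G) := by
        apply mem_of_forall_primePow_mem (centralizer {k}) _ z rfl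
        rintro w hw ⟨r, j, hr, hwr⟩
        rw [mem_centralizer_iff]
        intro h' hh
        rw [Set.mem_singleton_iff.mp hh]
        by_cases hj : j = 0
        · subst hj
          rw [pow_zero, orderOf_eq_one_iff] at hwr
          rw [hwr]; simp
        · have hrq : r ≠ q := by
            rintro rfl
            have h1 : r ∣ orderOf w := by rw [hwr]; exact dvd_pow_self r hj
            have h2 : orderOf w ∣ orderOf z := orderOf_dvd_of_mem_zpowers hw
            exact hr.one_lt.ne' (Nat.Coprime.eq_one_of_dvd hzq.symm (h1.trans h2))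
          have hwF : w ∈ F := (zpowers_le.mpr hzF') hw
          have : Fact r.Prime := ⟨hr⟩
          have hwr' : w ∈ pCore r G := mem_pCore_of_mem_fitting hwF hwr
          exact (mem_centralizer_iff.mp hkT w ⟨r, hr, hrq, hwr'⟩).symm
      exact mem_centralizer_iff.mp hzk k rfl
    have hKnil : Group.IsNilpotent K := by
      have hPG : IsPGroup q (↥K ⧸ center ↥K) := by
        intro gbar
        obtain ⟨k, rfl⟩ := QuotientGroup.mk_surjective gbar
        obtain ⟨n, m, hm, hnm⟩ :=
          Nat.exists_eq_pow_mul_and_not_dvd (orderOf_pos (k : G)).ne' q hq.ne_one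
        refine ⟨n, ?_⟩
        rw [← QuotientGroup.mk_pow, QuotientGroup.eq_one_iff, Subgroup.mem_center_iff]
        intro k'
        apply Subtype.ext
        rw [coe_mul, coe_mul, coe_pow]
        apply h1a _ (K.pow_mem k.2 _) ?_ _ k'.2
        have hpow : ((k : G) ^ q ^ n) ^ m = 1 := by
          rw [← pow_mul, ← hnm, pow_orderOf_eq_one]
        exact Nat.Coprime.coprime_dvd_left (orderOf_dvd_of_pow_eq_one hpow)
          ((Nat.Prime.coprime_iff_not_dvd hq).mpr hm).symm
      have hnilQ : Group.IsNilpotent (↥K ⧸ center ↥K) := hPG.isNilpotent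
      exact Subgroup.isNilpotent_of_ker_le_center (QuotientGroup.mk' (center ↥K))
        (by rw [QuotientGroup.ker_mk'])
    exact (le_fittingSubgroup hKn hKnil) hyK
  intro g hgC
  apply mem_of_forall_primePow_mem F _ g rfl
  rintro w hw ⟨q, k, hq, hwq⟩
  have : Fact q.Prime := ⟨hq⟩
  exact step1 q w ((zpowers_le.mpr hgC) hw) ⟨k, hwq⟩

end Cfsg.Agent.Helper19.FitCrit
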