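import Mathlib

set_option autoImplicit false

/-! # The Baer trick

For a group `H` in which commutators are central and every element has a "half"
(e.g. a group of odd order and class at most two), the operation
`x ∘ y = x y [x,y]^{-1/2}` makes `H` an abelian group with the same powers, and every
endomorphism of `H` is an endomorphism of the new group. -/

namespace Cfsg.Agent.Helper19.Baer

open scoped commutatorElement IsMulCommutative

variable {H : Type*} [Group H]

/-- data for the Baer trick -/
structure Data (H : Type*) [Group H] where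
  /-- the exponent giving square roots -/
  h : ℕ
  central : ∀ x y : H, ⁅x, y⁆ ∈ Subgroup.center H
  half : ∀ z : H, (z ^ h) ^ 2 = z

variable (d : Data H)

/-- the commutator as an element of the centre -/
def β (x y : H) : Subgroup.center H := ⟨⁅x, y⁆, d.central x y⟩

theorem coe_β (x y : H) : ((β d x y : Subgroup.center H) : H) = ⁅x, y⁆ := rfl

theorem central_comm (c : Subgroup.center H) (g : H) : g * (c : H) = (c : H) * g :=
  Subgroup.mem_center_iff.mp c.2 g

include d in
theorem comm_mul_left (x y z : H) : ⁅x * y, z⁆ = ⁅x, z⁆ * ⁅y, z⁆ := by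
  have hc := Subgroup.mem_center_iff.mp (d.central y z)
  have e1 : ⁅x * y, z⁆ = x * ⁅y, z⁆ * x⁻¹ * ⁅x, z⁆ := by
    simp only [commutatorElement_def]; group
  rw [e1, hc x, mul_inv_cancel_right, ← hc ⁅x, z⁆]

theorem β_mul_left (x y z : H) : β d (x * y) z = β d x z * β d y z :=
  Subtype.ext (comm_mul_left d x y z)

theorem β_swap (x y : H) : β d y x = (β d x y)⁻¹ :=
  Subtype.ext (by simp [coe_β, commutatorElement_inv])

theorem β_mul_right (x y z : H) : β d x (y * z) = β d x y * β d x z := by
  rw [β_swap d (y * z) x, β_mul_left, mul_inv, ← β_swap, ← β_swap]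

theorem β_of_commute {x y : H} (hxy : x * y = y * x) : β d x y = 1 :=
  Subtype.ext (by
    rw [coe_β, Subgroup.coe_one, commutatorElement_eq_one_iff_mul_comm]; exact hxy)

theorem β_central_left (c : Subgroup.center H) (w z : H) : β d ((c : H) * w) z = β d w z := by
  rw [β_mul_left, β_of_commute d (central_comm c z).symm, one_mul]

theorem β_central_right (c : Subgroup.center H) (w z : H) : β d z ((c : H) * w) = β d z w := by
  rw [β_mul_right, β_of_commute d (central_comm c z), one_mul]

/-- the correction term `[x,y]^{-1/2}` -/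
def γ (x y : H) : Subgroup.center H := (β d x y ^ d.h)⁻¹

theorem γ_mul_left (x y z : H) : γ d (x * y) z = γ d x z * γ d y z := by
  unfold γ; rw [β_mul_left, mul_pow, mul_inv]

theorem γ_mul_right (x y z : H) : γ d x (y * z) = γ d x y * γ d x z := by
  unfold γ; rw [β_mul_right, mul_pow, mul_inv]

theorem γ_swap (x y : H) : γ d y x = (γ d x y)⁻¹ := by
  unfold γ; rw [β_swap, inv_pow]

theorem γ_of_commute {x y : H} (hxy : x * y = y * x) : γ d x y = 1 := by
  unfold γ; rw [β_of_commute d hxy, one_pow, inv_one]

theorem γ_central_left (c : Subgroup.center H) (w z : H) : γ d ((c : H) * w) z = γ d w z := by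
  unfold γ; rw [β_central_left]

theorem γ_central_right (c : Subgroup.center H) (w z : H) : γ d z ((c : H) * w) = γ d z w := by
  unfold γ; rw [β_central_right]

theorem γ_sq (x y : H) : γ d x y ^ 2 = (β d x y)⁻¹ := by
  unfold γ
  rw [inv_pow]
  congr 1
  exact Subtype.ext (by rw [Subgroup.coe_pow, Subgroup.coe_pow, coe_β]; exact d.half _)

/-- the Baer product -/
def bmul (x y : H) : H := (γ d x y : H) * (x * y)

theorem bmul_comm (x y : H) : bmul d x y = bmul d y x := by
  unfold bmul
  have e : x * y = ((β d x y : Subgroup.center H) : H) * (y * x) := by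
    rw [coe_β, commutatorElement_def]; group
  have := γ_sq d x y
  rw [pow_two] at this
  have hb : β d x y = (γ d x y * γ d x y)⁻¹ := by rw [this, inv_inv]
  have key : γ d x y * β d x y = γ d y x := by
    rw [γ_swap d x y, hb]; group
  rw [e, ← mul_assoc, ← Subgroup.coe_mul, key]

theorem bmul_assoc (x y z : H) : bmul d (bmul d x y) z = bmul d x (bmul d y z) := by
  unfold bmul
  rw [γ_central_left, γ_mul_left, γ_central_right, γ_mul_right]
  have e1 : (γ d x y : H) * (x * y) * z = (γ d x y : H) * (x * y * z) := by group
  have e2 : x * ((γ d y z : H) * (y * z)) = (γ d y z : H) * (x * y * z) := by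
    rw [← mul_assoc, central_comm]; group
  have e3 : ∀ (a b : Subgroup.center H) (w : H), (a : H) * ((b : H) * w) = ((a * b : Subgroup.center H) : H) * w := by
    intro a b w; rw [Subgroup.coe_mul, mul_assoc]
  rw [e1, e2, e3, e3]
  congr 2
  ac_rfl

theorem bmul_one_left (x : H) : bmul d 1 x = x := by
  unfold bmul
  rw [γ_of_commute d (by simp), Subgroup.coe_one, one_mul, one_mul]

theorem bmul_inv_left (x : H) : bmul d x⁻¹ x = 1 := by
  unfold bmul
  rw [γ_of_commute d (by simp), Subgroup.coe_one, one_mul, inv_mul_cancel]

theorem bmul_pow (x : H) (n : ℕ) : bmul d (x ^ n) x = x ^ (n + 1) := by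
  unfold bmul
  rw [γ_of_commute d (pow_mul_comm' x n), Subgroup.coe_one, one_mul, pow_succ]

/-- The Baer group: the type `H` with the Baer product. -/
structure BaerT (d : Data H) where
  /-- the underlying element -/
  val : H

namespace BaerT

variable {d}

theorem ext' {a b : BaerT d} (h : a.val = b.val) : a = b := by
  cases a; cases b; simp_all

instance : CommGroup (BaerT d) where
  mul a b := ⟨bmul d a.val b.val⟩
  one := ⟨1⟩
  inv a := ⟨a.val⁻¹⟩
  mul_assoc a b c := ext' (bmul_assoc d a.val b.val c.val)
  one_mul a := ext' (bmul_one_left d a.val)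
  mul_one a := ext' (by
    show bmul d a.val 1 = a.val
    rw [bmul_comm]; exact bmul_one_left d a.val)
  inv_mul_cancel a := ext' (bmul_inv_left d a.val)
  mul_comm a b := ext' (bmul_comm d a.val b.val)

theorem val_mul (a b : BaerT d) : (a * b).val = bmul d a.val b.val := rfl

theorem val_one : (1 : BaerT d).val = 1 := rfl

theorem val_inv (a : BaerT d) : (a⁻¹).val = a.val⁻¹ := rfl

theorem val_pow (a : BaerT d) (n : ℕ) : (a ^ n).val = a.val ^ n := by
  induction n with
  | zero => simp [val_one]
  | succ n ih => rw [pow_succ, val_mul, ih, bmul_pow]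

theorem eq_one_iff (a : BaerT d) : a = 1 ↔ a.val = 1 :=
  ⟨fun h => by rw [h]; rfl, fun h => ext' h⟩

/-- the underlying equivalence -/
def equiv : BaerT d ≃ H where
  toFun := val
  invFun := fun x => ⟨x⟩
  left_inv _ := rfl
  right_inv _ := rfl

instance [Finite H] : Finite (BaerT d) := Finite.of_equiv H equiv.symm

theorem card_eq : Nat.card (BaerT d) = Nat.card H := Nat.card_congr equiv

/-- an endomorphism of `H` is an endomorphism of the Baer group -/
def bmap (f : H →* H) : BaerT d →* BaerT d where
  toFun a := ⟨f a.val⟩
  map_one' := ext' (by simp [val_one])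
  map_mul' a b := ext' (by
    show f (bmul d a.val b.val) = bmul d (f a.val) (f b.val)
    unfold bmul γ
    simp only [coe_β, Subgroup.coe_inv, Subgroup.coe_pow, map_mul, map_inv, map_pow,
      map_commutatorElement])

theorem bmap_val (f : H →* H) (a : BaerT d) : (bmap f a).val = f a.val := rfl

end BaerT

end Cfsg.Agent.Helper19.Baer
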