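import Mathlib
import Cfsg.Agent.Helper19.Basic
import Cfsg.Agent.Helper19.Sylow

set_option autoImplicit false

namespace Cfsg.Agent.Helper19

/-- Strict inclusion of subgroups of a finite group gives strict inequality of orders. -/
lemma card_lt_card_of_lt {G : Type*} [Group G] [Finite G] {A B : Subgroup G} (h : A < B) :
    Nat.card A < Nat.card B :=
  Set.Finite.card_lt_card (Set.toFinite _) h

/-- `A` is a minimal nontrivial `K`-invariant subgroup of `K`. -/
def MinNormIn {G : Type*} [Group G] (K A : Subgroup G) : Prop :=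
  A ≤ K ∧ A ≠ ⊥ ∧ K ≤ Subgroup.normalizer (A : Set G) ∧
    ∀ C : Subgroup G, C ≤ A → K ≤ Subgroup.normalizer (C : Set G) → C = ⊥ ∨ C = A

/-- If `L` normalizes `C` and `k` normalizes `L`, then `L` normalizes `k C k⁻¹`. -/
lemma le_normalizer_map_conj {G : Type*} [Group G] {L C : Subgroup G} {k : G}
    (hLC : L ≤ Subgroup.normalizer (C : Set G)) (hk : k ∈ Subgroup.normalizer (L : Set G)) :
    L ≤ Subgroup.normalizer ((C.map (MulAut.conj k).toMonoidHom : Subgroup G) : Set G) := by
  intro l hl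
  rw [mem_normalizer_iff_map_conj, map_conj_map_conj]
  have h1 : k⁻¹ * l * k ∈ L := (Subgroup.mem_normalizer_iff''.mp hk l).mp hl
  have h2 : l * k = k * (k⁻¹ * l * k) := by group
  rw [h2, ← map_conj_map_conj, mem_normalizer_iff_map_conj.mp (hLC h1)]

/-- If `k` normalizes `L` and `C ≤ L` then `k C k⁻¹ ≤ L`. -/
lemma map_conj_le_of_mem_normalizer {G : Type*} [Group G] {L C : Subgroup G} {k : G}
    (hCL : C ≤ L) (hk : k ∈ Subgroup.normalizer (L : Set G)) :
    C.map (MulAut.conj k).toMonoidHom ≤ L := by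
  intro y hy
  rw [mem_map_conj] at hy
  exact (Subgroup.mem_normalizer_iff''.mp hk y).mpr (hCL hy)

lemma map_conj_eq_bot_iff {G : Type*} [Group G] {C : Subgroup G} {k : G} :
    C.map (MulAut.conj k).toMonoidHom = ⊥ ↔ C = ⊥ :=
  Subgroup.map_eq_bot_iff_of_injective C (MulAut.conj k).injective

/-- A conjugate (by an element normalizing `L`) of a minimal `L`-invariant subgroup is again
one. -/
lemma MinNormIn.map_conj {G : Type*} [Group G] {L B : Subgroup G} (hB : MinNormIn L B) {k : G}
    (hk : k ∈ Subgroup.normalizer (L : Set G)) :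
    MinNormIn L (B.map (MulAut.conj k).toMonoidHom) := by
  obtain ⟨hBL, hB0, hLB, hmin⟩ := hB
  refine ⟨map_conj_le_of_mem_normalizer hBL hk, fun h => hB0 (map_conj_eq_bot_iff.mp h),
    le_normalizer_map_conj hLB hk, ?_⟩
  intro C hC hLC
  have hk' : k⁻¹ ∈ Subgroup.normalizer (L : Set G) := Subgroup.inv_mem _ hk
  have h1 : C.map (MulAut.conj k⁻¹).toMonoidHom ≤ B := by
    have := Subgroup.map_mono (f := (MulAut.conj k⁻¹).toMonoidHom) hC
    rwa [map_conj_map_conj, inv_mul_cancel, map_conj_one] at this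
  have hback : (C.map (MulAut.conj k⁻¹).toMonoidHom).map (MulAut.conj k).toMonoidHom = C := by
    rw [map_conj_map_conj, mul_inv_cancel, map_conj_one]
  rcases hmin _ h1 (le_normalizer_map_conj hLC hk') with h | h
  · left; exact map_conj_eq_bot_iff.mp h
  · right; rw [← hback, h]

/-- **Subnormal subgroups are normalized by minimal normal subgroups** (relative form):
if `H` is subnormal in `K` and `A` is a minimal normal subgroup of `K`, then `A` normalizes `H`. -/
theorem MinNormIn.le_normalizer_of_isSubnormal {G : Type*} [Group G] [Finite G] :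
    ∀ (n : ℕ) (K H A : Subgroup G), Nat.card K = n → H ≤ K → (H.subgroupOf K).IsSubnormal →
      MinNormIn K A → A ≤ Subgroup.normalizer (H : Set G) := by
  intro n
  induction n using Nat.strong_induction_on with
  | _ n ih =>
  intro K H A hn hHK hsub hA
  by_cases hHK' : H = K
  · subst hHK'
    exact hA.1.trans Subgroup.le_normalizer
  have hne : H.subgroupOf K ≠ ⊤ := by
    rw [Ne, Subgroup.subgroupOf_eq_top]
    exact fun h => hHK' (le_antisymm hHK h)
  obtain ⟨L', hL'n, hHL', hL'lt⟩ := hsub.exists_normal_and_le_and_lt_top_of_ne hne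
  set L := L'.map K.subtype with hL
  have hLK : L ≤ K := Subgroup.map_subtype_le L'
  have hL' : L.subgroupOf K = L' :=
    Subgroup.comap_map_eq_self_of_injective K.subtype_injective L'
  have hLltK : L < K := by
    refine lt_of_le_of_ne hLK (fun h => ?_)
    have : L.subgroupOf K = ⊤ := by rw [h]; exact Subgroup.subgroupOf_self K
    rw [hL'] at this
    exact (ne_of_lt hL'lt) this
  have hKL : K ≤ Subgroup.normalizer (L : Set G) := by
    rw [← Subgroup.normal_subgroupOf_iff_le_normalizer hLK, hL']; exact hL'n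
  have hHL : H ≤ L := by
    intro x hx
    exact ⟨⟨x, hHK hx⟩, hHL' (Subgroup.mem_subgroupOf.mpr hx), rfl⟩
  have hsubL : (H.subgroupOf L).IsSubnormal := by
    have h1 : (H.subgroupOf K).comap (Subgroup.inclusion hLK) = H.subgroupOf L := by
      ext x
      simp [Subgroup.mem_subgroupOf]
    rw [← h1]
    exact hsub.comap _
  obtain ⟨hAK, hA0, hKA, hAmin⟩ := hA
  by_cases hAL : A ⊓ L = ⊥
  · -- `A` and `L` commute elementwise
    intro a ha
    apply mem_normalizer_of_forall
    intro h hh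
    have hhL : h ∈ L := hHL hh
    have h1 : a * h * a⁻¹ * h⁻¹ ∈ L := by
      have : a * h * a⁻¹ ∈ L := (Subgroup.mem_normalizer_iff.mp (hKL (hAK ha)) h).mp hhL
      exact L.mul_mem this (L.inv_mem hhL)
    have h2 : a * h * a⁻¹ * h⁻¹ ∈ A := by
      have : h * a⁻¹ * h⁻¹ ∈ A :=
        (Subgroup.mem_normalizer_iff.mp (hKA (hLK hhL)) a⁻¹).mp (A.inv_mem ha)
      have h3 : a * h * a⁻¹ * h⁻¹ = a * (h * a⁻¹ * h⁻¹) := by group
      rw [h3]; exact A.mul_mem ha this
    have h3 : a * h * a⁻¹ * h⁻¹ ∈ A ⊓ L := ⟨h2, h1⟩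
    rw [hAL, Subgroup.mem_bot] at h3
    have : a * h * a⁻¹ = h := by
      rw [← mul_inv_eq_one]; exact h3
    rw [this]; exact hh
  · -- `A ≤ L`
    have hKAL : K ≤ Subgroup.normalizer ((A ⊓ L : Subgroup G) : Set G) :=
      (le_inf hKA hKL).trans Subgroup.inf_normalizer_le_normalizer_inf
    have hAL' : A ⊓ L = A := (hAmin (A ⊓ L) inf_le_left hKAL).resolve_left hAL
    have hAleL : A ≤ L := hAL' ▸ inf_le_right
    -- choose a minimal `L`-invariant subgroup `B` of `A`
    obtain ⟨B, hBA, hBmin⟩ := exists_minimal_le_of_wellFoundedLT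
      (fun B : Subgroup G => B ≤ A ∧ B ≠ ⊥ ∧ L ≤ Subgroup.normalizer (B : Set G)) A
      ⟨le_rfl, hA0, hLK.trans hKA⟩
    have hB : MinNormIn L B := by
      refine ⟨hBmin.prop.1.trans hAleL, hBmin.prop.2.1, hBmin.prop.2.2, ?_⟩
      intro C hCB hLC
      by_cases hC0 : C = ⊥
      · exact Or.inl hC0
      · right
        exact le_antisymm hCB (hBmin.le_of_le ⟨hCB.trans hBmin.prop.1, hC0, hLC⟩ hCB)
    set W : Subgroup G := ⨆ k : K, B.map (MulAut.conj (k : G)).toMonoidHom with hW
    have hWN : W ≤ Subgroup.normalizer (H : Set G) := by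
      apply iSup_le
      intro k
      exact ih (Nat.card L) (hn ▸ card_lt_card_of_lt hLltK) L H _ rfl hHL hsubL
        (hB.map_conj (hKL k.2))
    have hWA : W ≤ A := by
      apply iSup_le
      intro k
      exact map_conj_le_of_mem_normalizer hBmin.prop.1 (hKA k.2)
    have hW0 : W ≠ ⊥ := by
      intro h
      apply hBmin.prop.2.1
      rw [eq_bot_iff, ← h]
      have := le_iSup (fun k : K => B.map (MulAut.conj (k : G)).toMonoidHom) 1
      simp only [Subgroup.coe_one, map_conj_one] at this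
      exact this
    have hKW : K ≤ Subgroup.normalizer (W : Set G) := by
      intro k hk
      rw [mem_normalizer_iff_map_conj, hW, Subgroup.map_iSup]
      simp only [map_conj_map_conj]
      exact (Equiv.mulLeft (⟨k, hk⟩ : K)).iSup_comp
        (g := fun k' : K => B.map (MulAut.conj (k' : G)).toMonoidHom)
    have hWeq : W = A := (hAmin W hWA hKW).resolve_left hW0
    rw [← hWeq]; exact hWN

/-- `A` is a minimal normal subgroup of `G`. -/
def IsMinNormal {G : Type*} [Group G] (A : Subgroup G) : Prop :=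
  A.Normal ∧ A ≠ ⊥ ∧ ∀ C : Subgroup G, C.Normal → C ≤ A → C = ⊥ ∨ C = A

lemma IsMinNormal.minNormIn_top {G : Type*} [Group G] {A : Subgroup G} (hA : IsMinNormal A) :
    MinNormIn ⊤ A := by
  obtain ⟨hAn, hA0, hmin⟩ := hA
  refine ⟨le_top, hA0, ?_, ?_⟩
  · rw [Subgroup.normalizer_eq_top_iff.mpr hAn]
  · intro C hCA hC
    exact hmin C (Subgroup.normalizer_eq_top_iff.mp (top_le_iff.mp hC)) hCA

/-- **Subnormal subgroups are normalized by minimal normal subgroups.** -/
theorem IsMinNormal.le_normalizer_of_isSubnormal {G : Type*} [Group G] [Finite G]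
    {A H : Subgroup G} (hA : IsMinNormal A) (hH : H.IsSubnormal) :
    A ≤ Subgroup.normalizer (H : Set G) :=
  MinNormIn.le_normalizer_of_isSubnormal _ ⊤ H A rfl le_top hH.subgroupOf hA.minNormIn_top

/-- A nontrivial finite group has a minimal normal subgroup inside any nontrivial normal
subgroup. -/
lemma exists_isMinNormal_le {G : Type*} [Group G] [Finite G] {N : Subgroup G} (hN : N.Normal)
    (hN0 : N ≠ ⊥) : ∃ A : Subgroup G, IsMinNormal A ∧ A ≤ N := by
  obtain ⟨B, hBN, hBmin⟩ := exists_minimal_le_of_wellFoundedLT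
    (fun B : Subgroup G => B.Normal ∧ B ≠ ⊥) N ⟨hN, hN0⟩
  refine ⟨B, ⟨hBmin.prop.1, hBmin.prop.2, ?_⟩, hBN⟩
  intro C hC hCB
  by_cases hC0 : C = ⊥
  · exact Or.inl hC0
  · exact Or.inr (le_antisymm hCB (hBmin.le_of_le ⟨hC, hC0⟩ hCB))

end Cfsg.Agent.Helper19
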