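import Mathlib
import Cfsg.Agent.Helper19.Class2
import Cfsg.Agent.Helper19.OmegaOne
import Cfsg.Agent.Helper19.Basic
import Cfsg.Prelude.Def_OddOrderLocal
import Cfsg.Prelude.Def_CaseTheorems

set_option autoImplicit false

/-! Automorphisms of narrow `p`-groups of rank at least three (Bender–Glauberman, Section 5).

Let `P` be a normal `p`-subgroup of `X` (`p` odd) containing an element `e` such that the elements
of order dividing `p` of `C_P(e)` form a group of order at most `p ^ 2` (and of order at most `p`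
once `e` is left out), and suppose `P` has an elementary abelian subgroup of order larger than
`p ^ 2`.  Then every `p'`-element of `X` acting trivially on all `X`-chief-like sections of order
`p` of `P` centralizes `P`.  Consequently the group induced on `P` by the commutators and the
`(p - 1)`-th powers of `X` is a `p`-group. -/

namespace Cfsg.Agent.Helper19.NarrowAut

open Subgroup
open scoped commutatorElement

/-- If all commutators `[m, g]`, `m ∈ M`, lie in `Z`, then `|M| ≤ |C_M(g)| |Z|`. -/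
theorem card_le_card_centralizer_mul {X : Type*} [Group X] [Finite X] (M Z : Subgroup X) (g : X)
    (h : ∀ m ∈ M, ⁅m, g⁆ ∈ Z) :
    Nat.card M ≤ Nat.card (M ⊓ centralizer {g} : Subgroup X) * Nat.card Z := by
  classical
  set K : Subgroup ↥M := (centralizer ({g} : Set X)).subgroupOf M with hK
  have h1 := Subgroup.card_eq_card_quotient_mul_card_subgroup K
  have h2 : Nat.card K = Nat.card (M ⊓ centralizer {g} : Subgroup X) := by
    rw [hK, ← Subgroup.inf_subgroupOf_left]
    exact Nat.card_congr (Subgroup.subgroupOfEquivOfLe inf_le_left).toEquiv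
  have h3 : Nat.card (↥M ⧸ K) ≤ Nat.card Z := by
    let f : ↥M ⧸ K → ↥Z := Quotient.lift (s := QuotientGroup.leftRel K)
      (fun m : ↥M => (⟨⁅(m : X), g⁆, h m m.2⟩ : ↥Z)) (by
        intro a b hab
        have hab' : a⁻¹ * b ∈ K := QuotientGroup.leftRel_apply.mp hab
        rw [hK, mem_subgroupOf, mem_centralizer_iff] at hab'
        have h4 := hab' g (Set.mem_singleton g)
        apply Subtype.ext
        simp only [Subgroup.coe_mul, Subgroup.coe_inv] at h4
        show ⁅(a : X), g⁆ = ⁅(b : X), g⁆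
        rw [commutatorElement_def, commutatorElement_def]
        have h5 : (b : X) = a * ((a : X)⁻¹ * b) := by group
        rw [h5]
        have h6 : (a : X) * ((a : X)⁻¹ * b) * g * ((a : X) * ((a : X)⁻¹ * b))⁻¹ * g⁻¹
            = a * (((a : X)⁻¹ * b) * g) * ((a : X)⁻¹ * b)⁻¹ * (a : X)⁻¹ * g⁻¹ := by group
        rw [h6, ← h4]
        group)
    apply Nat.card_le_card_of_injective f
    intro q₁ q₂
    induction q₁ using QuotientGroup.induction_on with
    | H a =>
      induction q₂ using QuotientGroup.induction_on with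
      | H b =>
        intro hab
        have h4 : ⁅(a : X), g⁆ = ⁅(b : X), g⁆ := congrArg Subtype.val hab
        apply QuotientGroup.eq.mpr
        rw [hK, mem_subgroupOf, mem_centralizer_iff]
        intro y hy
        rw [Set.mem_singleton_iff] at hy
        subst hy
        simp only [Subgroup.coe_mul, Subgroup.coe_inv]
        rw [commutatorElement_def, commutatorElement_def] at h4
        have h5 : (a : X) * y * (a : X)⁻¹ = b * y * (b : X)⁻¹ := by
          have := congrArg (fun t => t * y) h4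
          simpa using this
        calc y * ((a : X)⁻¹ * b) = (a : X)⁻¹ * (a * y * (a : X)⁻¹) * b := by group
          _ = (a : X)⁻¹ * (b * y * (b : X)⁻¹) * b := by rw [h5]
          _ = (a : X)⁻¹ * b * y := by group
  calc Nat.card M = Nat.card (↥M ⧸ K) * Nat.card K := h1
    _ ≤ Nat.card Z * Nat.card (M ⊓ centralizer {g} : Subgroup X) := by
        rw [h2]; exact Nat.mul_le_mul_right _ h3
    _ = _ := Nat.mul_comm _ _

/-- Coprime action: a `p'`-element `b` centralizes `n` as soon as `[n, b]` is a `p`-element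
commuting with `b`. -/
theorem commute_of_commutator_commute {X : Type*} [Group X] {p : ℕ} (b n : X)
    (hb : (orderOf b).Coprime p) (hn : ∃ k : ℕ, ⁅n, b⁆ ^ p ^ k = 1) (hc : Commute ⁅n, b⁆ b) :
    n * b = b * n := by
  obtain ⟨k, hk⟩ := hn
  set c := ⁅n, b⁆ with hcdef
  have h1 : n * b * n⁻¹ = c * b := by rw [hcdef, commutatorElement_def]; group
  have h2 : (n * b * n⁻¹) ^ orderOf b = 1 := by
    rw [conj_pow, pow_orderOf_eq_one]; group
  rw [h1, hc.mul_pow, pow_orderOf_eq_one, mul_one] at h2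
  have h3 : c ^ Nat.gcd (orderOf b) (p ^ k) = 1 := pow_gcd_eq_one.mpr ⟨h2, hk⟩
  have h4 : Nat.gcd (orderOf b) (p ^ k) = 1 := Nat.Coprime.pow_right k hb
  rw [h4, pow_one] at h3
  have h5 : n * b * n⁻¹ = b := by rw [h1, h3, one_mul]
  calc n * b = (n * b * n⁻¹) * n := by group
    _ = b * n := by rw [h5]

/-- The subgroup generated by the commutators and the `(p - 1)`-th powers. -/
def commPow (p : ℕ) (X : Type*) [Group X] : Subgroup X :=
  closure ({z : X | ∃ x y : X, z = ⁅x, y⁆} ∪ {z : X | ∃ x : X, z = x ^ (p - 1)})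

instance commPow_normal (p : ℕ) (X : Type*) [Group X] : (commPow p X).Normal := by
  unfold commPow
  have h : closure ({z : X | ∃ x y : X, z = ⁅x, y⁆} ∪ {z : X | ∃ x : X, z = x ^ (p - 1)}) =
      normalClosure ({z : X | ∃ x y : X, z = ⁅x, y⁆} ∪ {z : X | ∃ x : X, z = x ^ (p - 1)}) := by
    apply le_antisymm closure_le_normalClosure
    unfold normalClosure
    apply Subgroup.closure_mono
    intro y hy
    obtain ⟨a, ha, hc⟩ := Group.mem_conjugatesOfSet_iff.1 hy
    obtain ⟨c, hc⟩ := isConj_iff.1 hc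
    rw [← hc]
    rcases ha with ⟨x, y, rfl⟩ | ⟨x, rfl⟩
    · left
      refine ⟨c * x * c⁻¹, c * y * c⁻¹, ?_⟩
      rw [commutatorElement_def, commutatorElement_def]; group
    · right
      exact ⟨c * x * c⁻¹, by rw [conj_pow]⟩
  rw [h]
  infer_instance

/-- Elements of `commPow p X` act trivially on every normal section of order `p`. -/
theorem commutator_mem_of_mem_commPow {X : Type*} [Group X] [Finite X] {p : ℕ} [hp : Fact p.Prime]
    (N N₀ : Subgroup X) [hN : N.Normal] [hN₀ : N₀.Normal] (hle : N₀ ≤ N)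
    (hcard : Nat.card N = p * Nat.card N₀) (b : X) (hb : b ∈ commPow p X) :
    ∀ n ∈ N, ⁅n, b⁆ ∈ N₀ := by
  classical
  set K : Subgroup ↥N := N₀.subgroupOf N with hK
  haveI : K.Normal := by rw [hK]; infer_instance
  have hQcard : Nat.card (↥N ⧸ K) = p := by
    have h1 := Subgroup.card_eq_card_quotient_mul_card_subgroup K
    have h2 : Nat.card K = Nat.card N₀ :=
      Nat.card_congr (Subgroup.subgroupOfEquivOfLe hle).toEquiv
    rw [h2, hcard] at h1
    exact (Nat.eq_of_mul_eq_mul_right Nat.card_pos h1).symm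
  haveI : IsCyclic (↥N ⧸ K) := isCyclic_of_prime_card hQcard
  -- the action of `X` on the section
  have hmap : ∀ x : X, K.map (((MulAut.conjNormal x : ↥N ≃* ↥N)) : ↥N →* ↥N) = K := by
    intro x
    ext y
    rw [mem_map]
    constructor
    · rintro ⟨k, hk, rfl⟩
      rw [hK, mem_subgroupOf] at hk ⊢
      show ((MulAut.conjNormal x : ↥N ≃* ↥N) k : X) ∈ N₀
      rw [MulAut.conjNormal_apply]
      exact hN₀.conj_mem _ hk x
    · intro hy
      refine ⟨(MulAut.conjNormal x⁻¹ : ↥N ≃* ↥N) y, ?_, ?_⟩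
      · rw [hK, mem_subgroupOf] at hy ⊢
        rw [MulAut.conjNormal_apply]
        exact hN₀.conj_mem _ hy x⁻¹
      · apply Subtype.ext
        show ((MulAut.conjNormal x : ↥N ≃* ↥N) ((MulAut.conjNormal x⁻¹ : ↥N ≃* ↥N) y) : X) = y
        rw [MulAut.conjNormal_apply, MulAut.conjNormal_apply]; group
  let ψ : X →* MulAut (↥N ⧸ K) :=
    { toFun := fun x => QuotientGroup.congr K K (MulAut.conjNormal x) (hmap x)
      map_one' := by
        ext q
        induction q using QuotientGroup.induction_on with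
        | H n =>
          show (QuotientGroup.mk ((MulAut.conjNormal (1 : X) : ↥N ≃* ↥N) n) : ↥N ⧸ K) =
            QuotientGroup.mk n
          rw [map_one]; rfl
      map_mul' := by
        intro x y
        ext q
        induction q using QuotientGroup.induction_on with
        | H n =>
          show (QuotientGroup.mk ((MulAut.conjNormal (x * y) : ↥N ≃* ↥N) n) : ↥N ⧸ K) =
            QuotientGroup.mk ((MulAut.conjNormal x : ↥N ≃* ↥N)
              ((MulAut.conjNormal y : ↥N ≃* ↥N) n))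
          rw [map_mul]; rfl }
  have hψ : ∀ x : X, ψ x = 1 → ∀ n ∈ N, ⁅n, x⁆ ∈ N₀ := by
    intro x hx n hn
    have h1 : (ψ x) (QuotientGroup.mk ⟨n, hn⟩) = QuotientGroup.mk ⟨n, hn⟩ := by rw [hx]; rfl
    have h2 : (ψ x) (QuotientGroup.mk ⟨n, hn⟩) =
        QuotientGroup.mk ((MulAut.conjNormal x : ↥N ≃* ↥N) ⟨n, hn⟩) := rfl
    rw [h2] at h1
    have h3 := QuotientGroup.eq.mp h1
    rw [hK, mem_subgroupOf] at h3
    simp only [Subgroup.coe_mul, Subgroup.coe_inv, MulAut.conjNormal_apply] at h3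
    -- h3 : (x * n * x⁻¹)⁻¹ * n ∈ N₀
    have h4 : ⁅n, x⁆ = n * ((x * n * x⁻¹)⁻¹ * n) * n⁻¹ := by
      rw [commutatorElement_def]; group
    rw [h4]
    exact hN₀.conj_mem _ h3 n
  -- `MulAut` of a group of order `p` is abelian of exponent dividing `p - 1`
  let E := IsCyclic.mulAutMulEquiv (↥N ⧸ K)
  have hcomm : ∀ f g : MulAut (↥N ⧸ K), f * g = g * f := by
    intro f g
    apply E.injective
    rw [map_mul, map_mul, mul_comm]
  have hpow : ∀ f : MulAut (↥N ⧸ K), f ^ (p - 1) = 1 := by
    intro f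
    apply E.injective
    rw [map_pow, map_one]
    have h1 : Nat.card (ZMod (Nat.card (↥N ⧸ K)))ˣ = p - 1 := by
      rw [hQcard, Nat.card_eq_fintype_card, ZMod.card_units_eq_totient, Nat.totient_prime hp.out]
    rw [← h1]
    exact pow_card_eq_one'
  have hker : commPow p X ≤ ψ.ker := by
    unfold commPow
    rw [closure_le]
    rintro z (⟨x, y, rfl⟩ | ⟨x, rfl⟩)
    · rw [SetLike.mem_coe, MonoidHom.mem_ker, map_commutatorElement, commutatorElement_eq_one_iff_mul_comm]
      exact hcomm _ _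
    · rw [SetLike.mem_coe, MonoidHom.mem_ker, map_pow]
      exact hpow _
  exact hψ b (MonoidHom.mem_ker.mp (hker hb))

/-- The closure of a conjugation-invariant set is normal. -/
theorem closure_normal_of_conj {X : Type*} [Group X] {s : Set X}
    (hs : ∀ g ∈ s, ∀ x : X, x * g * x⁻¹ ∈ s) : (closure s).Normal := by
  have h : closure s = normalClosure s := by
    apply le_antisymm closure_le_normalClosure
    unfold normalClosure
    apply Subgroup.closure_mono
    intro y hy
    obtain ⟨a, ha, hc⟩ := Group.mem_conjugatesOfSet_iff.1 hy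
    obtain ⟨c, hc⟩ := isConj_iff.1 hc
    rw [← hc]
    exact hs a ha c
  rw [h]
  infer_instance

/-- In a nilpotent group `[U, G] ≠ U` for `U ≠ 1`. -/
theorem commutator_top_ne_self' {G : Type*} [Group G] [hG : Group.IsNilpotent G] (U : Subgroup G)
    (hU : U ≠ ⊥) : ⁅U, (⊤ : Subgroup G)⁆ ≠ U := by
  intro h
  obtain ⟨n, hn⟩ := Subgroup.nilpotent_iff_lowerCentralSeries.mp hG
  have key : ∀ k, U ≤ Subgroup.lowerCentralSeries (⊤ : Subgroup G) k := by
    intro k
    induction k with
    | zero => rw [Subgroup.lowerCentralSeries_zero]; exact le_top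
    | succ k ih =>
      rw [Subgroup.lowerCentralSeries_succ, ← h]
      exact commutator_mono ih le_rfl
  apply hU
  rw [eq_bot_iff, ← hn]
  exact key n

/-- For a nontrivial subgroup `N` of a finite `p`-subgroup `P`, `[N, P] ≠ N`. -/
theorem commutator_ne_self {X : Type*} [Group X] [Finite X] {p : ℕ} [Fact p.Prime]
    (P N : Subgroup X) (hP : IsPGroup p P) (hNP : N ≤ P) (hN : N ≠ ⊥) : ⁅N, P⁆ ≠ N := by
  intro h
  haveI : Group.IsNilpotent ↥P := hP.isNilpotent
  have h1 : N.subgroupOf P ≠ ⊥ := by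
    intro h2
    apply hN
    rw [eq_bot_iff]
    intro x hx
    have : (⟨x, hNP hx⟩ : ↥P) ∈ N.subgroupOf P := mem_subgroupOf.mpr hx
    rw [h2, mem_bot] at this
    rw [mem_bot]
    exact congrArg Subtype.val this
  apply commutator_top_ne_self' (N.subgroupOf P) h1
  apply Subgroup.map_injective P.subtype_injective
  rw [Subgroup.map_commutator, Subgroup.map_subgroupOf_eq_of_le hNP, ← MonoidHom.range_eq_map,
    Subgroup.range_subtype, h]

/-- A proper subgroup of a finite `p`-group has index at least `p`. -/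
theorem mul_card_le_of_ne {X : Type*} [Group X] [Finite X] {p : ℕ} [hp : Fact p.Prime]
    {A B : Subgroup X} (hB : IsPGroup p B) (hAB : A ≤ B) (hne : A ≠ B) :
    p * Nat.card A ≤ Nat.card B := by
  obtain ⟨k, hk⟩ := IsPGroup.iff_card.mp hB
  obtain ⟨j, hj⟩ := IsPGroup.iff_card.mp (hB.to_le hAB)
  have h1 : Nat.card A < Nat.card B := by
    by_contra hcon
    rw [not_lt] at hcon
    exact hne (Subgroup.eq_of_le_of_card_ge hAB hcon)
  rw [hj, hk] at h1 ⊢
  have h2 : j < k := (Nat.pow_lt_pow_iff_right hp.out.one_lt).mp h1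
  calc p * p ^ j = p ^ (j + 1) := by rw [pow_succ]; ring
    _ ≤ p ^ k := Nat.pow_le_pow_right hp.out.pos h2

/-- **Main theorem.**  Let `P` be a normal `p`-subgroup of `X`, `p` odd, and `e ∈ P` an element
such that every subgroup of exponent `p` of `C_P(e)` has order at most `p ^ 2`, and at most `p`
if it avoids `e`; suppose `P` has an elementary abelian subgroup `F` of order larger than `p ^ 2`.
Then every `p'`-element `b` of `X` that acts trivially on all sections `N / N₀` of order `p` of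
`P` with `N₀ ≤ N` normal in `X` centralizes `P`. -/
theorem centralizes_of_section_stab {X : Type*} [Group X] [Finite X] {p : ℕ} [hp : Fact p.Prime]
    (hp2 : p ≠ 2) (P : Subgroup X) [hPn : P.Normal] (hP : IsPGroup p P) (e : X) (heP : e ∈ P)
    (he1 : e ≠ 1)
    (hD1 : ∀ D : Subgroup X, D ≤ P → (∀ d ∈ D, d ^ p = 1) → (∀ d ∈ D, d * e = e * d) → e ∉ D →
      Nat.card D ≤ p)
    (hD2 : ∀ D : Subgroup X, D ≤ P → (∀ d ∈ D, d ^ p = 1) → (∀ d ∈ D, d * e = e * d) →
      Nat.card D ≤ p ^ 2)
    (F : Subgroup X) (hFP : F ≤ P) (hFc : ∀ a ∈ F, ∀ b ∈ F, a * b = b * a)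
    (hFe : ∀ a ∈ F, a ^ p = 1) (hFcard : p ^ 2 < Nat.card F)
    (b : X) (hb : (orderOf b).Coprime p)
    (hsec : ∀ N N₀ : Subgroup X, N.Normal → N₀.Normal → N₀ ≤ N → N ≤ P →
      Nat.card N = p * Nat.card N₀ → ∀ n ∈ N, ⁅n, b⁆ ∈ N₀) :
    ∀ x ∈ P, x * b = b * x := by
  classical
  have hpp : p.Prime := hp.out
  have hpel : ∀ x ∈ P, ∃ k : ℕ, x ^ p ^ k = 1 := by
    intro x hx
    obtain ⟨k, hk⟩ := hP ⟨x, hx⟩
    exact ⟨k, by simpa using congrArg Subtype.val hk⟩
  let 𝔅 : Set X := {g | (orderOf g).Coprime p ∧ ∀ N N₀ : Subgroup X, N.Normal → N₀.Normal →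
    N₀ ≤ N → N ≤ P → Nat.card N = p * Nat.card N₀ → ∀ n ∈ N, ⁅n, g⁆ ∈ N₀}
  have h𝔅conj : ∀ g ∈ 𝔅, ∀ x : X, x * g * x⁻¹ ∈ 𝔅 := by
    intro g hg x
    refine ⟨?_, ?_⟩
    · rw [Cfsg.Agent.Helper19.orderOf_conj']; exact hg.1
    · intro N N₀ hN hN₀ hle hNP hcard n hn
      have h1 : x⁻¹ * n * x ∈ N := by
        have := hN.conj_mem n hn x⁻¹
        rwa [inv_inv] at this
      have h2 := hg.2 N N₀ hN hN₀ hle hNP hcard _ h1
      have h3 : ⁅n, x * g * x⁻¹⁆ = x * ⁅x⁻¹ * n * x, g⁆ * x⁻¹ := by
        rw [commutatorElement_def, commutatorElement_def]; group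
      rw [h3]
      exact hN₀.conj_mem _ h2 x
  set B₁ : Subgroup X := closure 𝔅 with hB₁def
  haveI hB₁n : B₁.Normal := closure_normal_of_conj h𝔅conj
  have hb𝔅 : b ∈ 𝔅 := ⟨hb, hsec⟩
  suffices h : P ≤ centralizer (B₁ : Set X) by
    intro x hx
    have h1 := h hx
    rw [mem_centralizer_iff] at h1
    exact (h1 b (subset_closure hb𝔅)).symm
  by_contra hne
  let S : Set (Subgroup X) := {N | N.Normal ∧ N ≤ P ∧ ¬ N ≤ centralizer (B₁ : Set X)}
  obtain ⟨N, hNS, hNmin⟩ := wellFounded_lt.has_min S ⟨P, hPn, le_rfl, hne⟩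
  obtain ⟨hNn, hNP, hNnc⟩ := hNS
  haveI := hNn
  have hmin : ∀ M : Subgroup X, M.Normal → M ≤ N → M ≠ N → M ≤ centralizer (B₁ : Set X) := by
    intro M hMn hMN hMne
    by_contra hc
    exact hNmin M ⟨hMn, hMN.trans hNP, hc⟩ (lt_of_le_of_ne hMN hMne)
  have hNbot : N ≠ ⊥ := by
    rintro rfl
    exact hNnc bot_le
  have hNpg : IsPGroup p N := hP.to_le hNP
  -- the coprime-action key step
  have hkey : ∀ M₀ : Subgroup X, M₀ ≤ centralizer (B₁ : Set X) →
      (∀ g ∈ 𝔅, ∀ n ∈ N, ⁅n, g⁆ ∈ M₀) → False := by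
    intro M₀ hM₀ hcomm
    apply hNnc
    intro n hn
    have h1 : B₁ ≤ centralizer ({n} : Set X) := by
      rw [hB₁def, closure_le]
      intro g hg
      rw [SetLike.mem_coe, mem_centralizer_iff]
      intro y hy
      rw [Set.mem_singleton_iff] at hy
      subst hy
      have hcg : ⁅y, g⁆ ∈ M₀ := hcomm g hg y hn
      have hc1 : Commute ⁅y, g⁆ g := by
        have h2 := hM₀ hcg
        rw [mem_centralizer_iff] at h2
        exact (h2 g (subset_closure hg)).symm
      have hcN : ⁅y, g⁆ ∈ N := by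
        rw [commutatorElement_def]
        have h3 : g * y⁻¹ * g⁻¹ ∈ N := hNn.conj_mem _ (N.inv_mem hn) g
        have h4 : y * g * y⁻¹ * g⁻¹ = y * (g * y⁻¹ * g⁻¹) := by group
        rw [h4]
        exact N.mul_mem hn h3
      exact commute_of_commutator_commute g y hg.1 (hpel _ (hNP hcN)) hc1
    rw [mem_centralizer_iff]
    intro g hg
    have h2 := h1 hg
    rw [mem_centralizer_iff] at h2
    exact (h2 n rfl).symm
  -- the fixed points `N₀`
  set N₀ : Subgroup X := N ⊓ centralizer (B₁ : Set X) with hN₀def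
  haveI hN₀n : N₀.Normal := by rw [hN₀def]; infer_instance
  have hN₀N : N₀ ≤ N := inf_le_left
  have hN₀c : N₀ ≤ centralizer (B₁ : Set X) := inf_le_right
  have hN₀ne : N₀ ≠ N := by
    intro h
    apply hNnc
    rw [← h]
    exact hN₀c
  -- `[N, P] ≤ N₀`
  have hNPcomm : ⁅N, P⁆ ≤ N₀ := by
    have h1 : ⁅N, P⁆ ≤ N := commutator_le_left N P
    have h2 : ⁅N, P⁆ ≠ N := commutator_ne_self P N hP hNP hNbot
    exact le_inf h1 (hmin _ inferInstance h1 h2)
  -- `N₀ ≤ Z(N)`
  have hNcN₀ : N ≤ centralizer (N₀ : Set X) := by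
    set M : Subgroup X := N ⊓ centralizer (N₀ : Set X) with hMdef
    haveI hMn : M.Normal := by rw [hMdef]; infer_instance
    have h1 : ⁅N, B₁⁆ ≤ M := by
      apply le_inf (commutator_le_left N B₁)
      rw [← commutator_eq_bot_iff_le_centralizer]
      apply commutator_commutator_eq_bot_of_rotate
      · have h2 : ⁅B₁, N₀⁆ = ⊥ := by
          rw [commutator_comm, commutator_eq_bot_iff_le_centralizer]
          exact hN₀c
        rw [h2, commutator_bot_left]
      · rw [commutator_eq_bot_iff_le_centralizer]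
        exact (commutator_le_left N₀ N).trans hN₀c
    by_cases hMN : M = N
    · rw [← hMN]; exact inf_le_right
    · exfalso
      have h2 := hmin M hMn inf_le_left hMN
      apply hkey M h2
      intro g hg n hn
      exact h1 (commutator_mem_commutator hn (subset_closure hg))
  have hcommN₀ : ∀ n ∈ N, ∀ z ∈ N₀, z * n = n * z := by
    intro n hn z hz
    have h1 := hNcN₀ hn
    rw [mem_centralizer_iff] at h1
    exact h1 z hz
  -- `N` has exponent `p`
  have hΩ : ∀ n ∈ N, n ^ p = 1 := by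
    set Ω : Subgroup X := closure {x | x ∈ N ∧ x ^ p = 1} with hΩdef
    haveI hΩn : Ω.Normal := by
      apply closure_normal_of_conj
      rintro g ⟨hgN, hgp⟩ x
      exact ⟨hNn.conj_mem g hgN x, by rw [conj_pow, hgp]; group⟩
    have hΩN : Ω ≤ N := by
      rw [hΩdef, closure_le]
      exact fun x hx => hx.1
    have hΩeq : Ω = N := by
      by_contra hΩne
      have hΩc := hmin Ω hΩn hΩN hΩne
      apply hkey ⊥ bot_le
      intro g hg n hn
      have h1 : ⁅N, zpowers g⁆ = ⊥ := by
        apply Cfsg.Agent.Helper19.commutator_eq_bot_of_centralizes_omega_one hp2 N (zpowers g) hNpg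
        · rw [normalizer_eq_top_iff.mpr hNn]; exact le_top
        · rw [Nat.card_zpowers]; exact hg.1
        · intro x hx hxp a ha
          have h2 : x ∈ Ω := subset_closure ⟨hx, hxp⟩
          have h3 := hΩc h2
          rw [mem_centralizer_iff] at h3
          have h4 : zpowers g ≤ B₁ := by
            rw [zpowers_le]; exact subset_closure hg
          exact h3 a (h4 ha)
      rw [mem_bot, ← mem_bot (G := X), ← h1]
      exact commutator_mem_commutator hn (mem_zpowers g)
    intro n hn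
    rw [← hΩeq] at hn
    have h1 : n ∈ N ∧ n ^ p = 1 := by
      induction hn using closure_induction with
      | mem w hw => exact hw
      | one => exact ⟨N.one_mem, one_pow _⟩
      | mul u v _ _ hu hv =>
        refine ⟨N.mul_mem hu.1 hv.1, ?_⟩
        have hc : ⁅v, u⁆ ∈ N₀ :=
          hNPcomm (commutator_mem_commutator hv.1 (hNP hu.1))
        have hcu : Commute ⁅v, u⁆ u := hcommN₀ u hu.1 _ hc
        have hcv : Commute ⁅v, u⁆ v := hcommN₀ v hv.1 _ hc
        have h2 := Cfsg.Agent.Helper19.mul_pow_of_commute_comm u v hcu hcv p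
        have h3 : ⁅v, u⁆ ^ p = 1 := by
          rw [← Cfsg.Agent.Helper19.commutator_pow_left_of_commute_comm u v hcv p, hv.2,
            commutatorElement_one_left]
        have h4 : p ∣ p.choose 2 := by
          apply hpp.dvd_choose_self (by norm_num)
          have := hpp.two_le
          omega
        obtain ⟨m, hm⟩ := h4
        rw [h2, hu.2, hv.2, hm, pow_mul, h3, one_pow, one_mul, one_mul]
      | inv u _ hu => exact ⟨N.inv_mem hu.1, by rw [inv_pow, hu.2, inv_one]⟩
    exact h1.2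
  -- `e ∉ N`
  have heN : e ∉ N := by
    intro heN
    have hN₀exp : ∀ d ∈ N₀, d ^ p = 1 := fun d hd => hΩ d (hN₀N hd)
    have hN₀e : ∀ d ∈ N₀, d * e = e * d := fun d hd => hcommN₀ e heN d hd
    by_cases heN₀ : e ∈ N₀
    · have hNe : ∀ d ∈ N, d * e = e * d := fun d hd => (hcommN₀ d hd e heN₀).symm
      have hNcard : Nat.card N ≤ p ^ 2 := hD2 N hNP hΩ hNe
      have h1 := mul_card_le_of_ne hNpg hN₀N hN₀ne
      have hN₀card : Nat.card N₀ ≤ p := by
        have h2 : p * Nat.card N₀ ≤ p * p := by rw [← sq]; exact h1.trans hNcard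
        exact Nat.le_of_mul_le_mul_left h2 hpp.pos
      have hN₀bot : N₀ ≠ ⊥ := by
        intro h
        rw [h, mem_bot] at heN₀
        exact he1 heN₀
      have h3 : ⁅N₀, P⁆ ≠ N₀ := commutator_ne_self P N₀ hP (hN₀N.trans hNP) hN₀bot
      have h4 : ⁅N₀, P⁆ ≤ N₀ := commutator_le_left N₀ P
      have h5 := mul_card_le_of_ne (hP.to_le (hN₀N.trans hNP)) h4 h3
      have h6 : Nat.card (⁅N₀, P⁆ : Subgroup X) ≤ 1 := by
        have h7 : p * Nat.card (⁅N₀, P⁆ : Subgroup X) ≤ p * 1 := by rw [mul_one]; exact h5.trans hN₀card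
        exact Nat.le_of_mul_le_mul_left h7 hpp.pos
      have h7 : ⁅N₀, P⁆ = ⊥ := by
        rw [← Subgroup.card_eq_one]
        have : 0 < Nat.card (⁅N₀, P⁆ : Subgroup X) := Nat.card_pos
        omega
      rw [commutator_eq_bot_iff_le_centralizer] at h7
      have h8 := h7 heN₀
      rw [mem_centralizer_iff] at h8
      have h9 : Nat.card F ≤ p ^ 2 := hD2 F hFP hFe (fun d hd => h8 d (hFP hd))
      omega
    · have hN₀card : Nat.card N₀ ≤ p := hD1 N₀ (hN₀N.trans hNP) hN₀exp hN₀e heN₀
      have h1 := card_le_card_centralizer_mul F N₀ e (fun f hf => by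
        have h2 : ⁅e, f⁆ ∈ N₀ := hNPcomm (commutator_mem_commutator heN (hFP hf))
        rw [← commutatorElement_inv]
        exact N₀.inv_mem h2)
      set D : Subgroup X := F ⊓ centralizer {e} with hDdef
      have hDP : D ≤ P := inf_le_left.trans hFP
      have hDexp : ∀ d ∈ D, d ^ p = 1 := fun d hd => hFe d hd.1
      have hDe : ∀ d ∈ D, d * e = e * d := by
        intro d hd
        have h2 : d ∈ centralizer ({e} : Set X) := hd.2
        rw [mem_centralizer_iff] at h2
        exact (h2 e rfl).symm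
      by_cases heD : e ∈ D
      · have h9 : Nat.card F ≤ p ^ 2 :=
          hD2 F hFP hFe (fun d hd => hFc d hd e heD.1)
        omega
      · have hDcard : Nat.card D ≤ p := hD1 D hDP hDexp hDe heD
        have h3 : Nat.card F ≤ p * p := h1.trans (Nat.mul_le_mul hDcard hN₀card)
        rw [← sq] at h3
        omega
  -- the section `N / N₀` has order `p`
  have hcardN : Nat.card N = p * Nat.card N₀ := by
    apply le_antisymm
    · have h1 := card_le_card_centralizer_mul N N₀ e
        (fun n hn => hNPcomm (commutator_mem_commutator hn heP))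
      have h2 : Nat.card (N ⊓ centralizer {e} : Subgroup X) ≤ p := by
        apply hD1 _ (inf_le_left.trans hNP) (fun d hd => hΩ d hd.1)
        · intro d hd
          have h3 : d ∈ centralizer ({e} : Set X) := hd.2
          rw [mem_centralizer_iff] at h3
          exact (h3 e rfl).symm
        · exact fun h => heN h.1
      exact h1.trans (Nat.mul_le_mul_right _ h2)
    · exact mul_card_le_of_ne hNpg hN₀N hN₀ne
  exact hkey N₀ hN₀c (fun g hg n hn => hg.2 N N₀ hNn hN₀n hN₀N hNP hcardN n hn)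

/-- Under the hypotheses of the main theorem, some `p`-power power of each element of
`commPow p X` centralizes `P`. -/
theorem exists_pow_centralizes {X : Type*} [Group X] [Finite X] {p : ℕ} [hp : Fact p.Prime]
    (hp2 : p ≠ 2) (P : Subgroup X) [hPn : P.Normal] (hP : IsPGroup p P) (e : X) (heP : e ∈ P)
    (he1 : e ≠ 1)
    (hD1 : ∀ D : Subgroup X, D ≤ P → (∀ d ∈ D, d ^ p = 1) → (∀ d ∈ D, d * e = e * d) → e ∉ D →
      Nat.card D ≤ p)
    (hD2 : ∀ D : Subgroup X, D ≤ P → (∀ d ∈ D, d ^ p = 1) → (∀ d ∈ D, d * e = e * d) →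
      Nat.card D ≤ p ^ 2)
    (F : Subgroup X) (hFP : F ≤ P) (hFc : ∀ a ∈ F, ∀ b ∈ F, a * b = b * a)
    (hFe : ∀ a ∈ F, a ^ p = 1) (hFcard : p ^ 2 < Nat.card F)
    (y : X) (hy : y ∈ commPow p X) :
    ∃ a : ℕ, ∀ x ∈ P, x * y ^ p ^ a = y ^ p ^ a * x := by
  have hpp : p.Prime := hp.out
  have hord : orderOf y ≠ 0 := (orderOf_pos y).ne'
  obtain ⟨a, m, hm, hym⟩ := Nat.exists_eq_pow_mul_and_not_dvd hord p hpp.ne_one
  refine ⟨a, ?_⟩
  have h1 : orderOf (y ^ p ^ a) = m := by
    rw [orderOf_pow_of_dvd (pow_pos hpp.pos a).ne' ⟨m, hym⟩, hym,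
      Nat.mul_div_cancel_left _ (pow_pos hpp.pos a)]
  have h2 : (orderOf (y ^ p ^ a)).Coprime p := by
    rw [h1, Nat.coprime_comm]
    exact (Nat.Prime.coprime_iff_not_dvd hpp).mpr hm
  have h3 : y ^ p ^ a ∈ commPow p X := (commPow p X).pow_mem hy _
  exact centralizes_of_section_stab hp2 P hP e heP he1 hD1 hD2 F hFP hFc hFe hFcard _ h2
    (fun N N₀ hN hN₀ hle _ hcard =>
      haveI := hN
      haveI := hN₀
      commutator_mem_of_mem_commPow N N₀ hle hcard _ h3)

/-- The narrow structure `C(R₀) = R₀ × R₁` bounds the subgroups of exponent `p` of `C(e)`,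
`e` a generator of `R₀`. -/
theorem narrow_type_hyps {S : Type*} [Group S] [Finite S] {p : ℕ} [hp : Fact p.Prime]
    (R₀ R₁ : Subgroup S) (hR₀ : Nat.card R₀ = p) (hR₁ : IsCyclic R₁)
    (hcomm : ∀ a ∈ R₀, ∀ b ∈ R₁, a * b = b * a)
    (hcent : R₀ ⊔ R₁ = centralizer (R₀ : Set S)) :
    ∃ e : S, e ≠ 1 ∧
      (∀ D : Subgroup S, (∀ d ∈ D, d ^ p = 1) → (∀ d ∈ D, d * e = e * d) → e ∉ D →
        Nat.card D ≤ p) ∧
      (∀ D : Subgroup S, (∀ d ∈ D, d ^ p = 1) → (∀ d ∈ D, d * e = e * d) →
        Nat.card D ≤ p ^ 2) := by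
  classical
  have hpp : p.Prime := hp.out
  haveI : IsCyclic ↥R₀ := isCyclic_of_prime_card hR₀
  obtain ⟨g, hg⟩ := IsCyclic.exists_generator (α := ↥R₀)
  have hgen : ∀ a ∈ R₀, a ∈ zpowers (g : S) := by
    intro a ha
    obtain ⟨k, hk⟩ := mem_zpowers_iff.mp (hg ⟨a, ha⟩)
    refine mem_zpowers_iff.mpr ⟨k, ?_⟩
    have := congrArg Subtype.val hk
    simpa using this
  have hR₀exp : ∀ a ∈ R₀, a ^ p = 1 := by
    intro a ha
    have h1 : (⟨a, ha⟩ : ↥R₀) ^ Nat.card ↥R₀ = 1 := pow_card_eq_one'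
    rw [hR₀] at h1
    simpa using congrArg Subtype.val h1
  have hg1 : (g : S) ≠ 1 := by
    intro h
    have h1 : ∀ a ∈ R₀, a = 1 := by
      intro a ha
      have := hgen a ha
      rw [h, zpowers_one_eq_bot, mem_bot] at this
      exact this
    have h2 : Nat.card ↥R₀ = 1 := by
      rw [Subgroup.card_eq_one, eq_bot_iff]
      intro a ha
      rw [mem_bot]; exact h1 a ha
    rw [hR₀] at h2
    exact hpp.one_lt.ne' h2
  -- decomposition of elements of `R₀ ⊔ R₁`
  have hdec : ∀ x ∈ R₀ ⊔ R₁, ∃ a ∈ R₀, ∃ b ∈ R₁, x = a * b := by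
    intro x hx
    rw [sup_eq_closure] at hx
    induction hx using closure_induction with
    | mem w hw =>
      rcases hw with hw | hw
      · exact ⟨w, hw, 1, R₁.one_mem, (mul_one w).symm⟩
      · exact ⟨1, R₀.one_mem, w, hw, (one_mul w).symm⟩
    | one => exact ⟨1, R₀.one_mem, 1, R₁.one_mem, (mul_one 1).symm⟩
    | mul u v _ _ hu hv =>
      obtain ⟨a, ha, b, hb, rfl⟩ := hu
      obtain ⟨a', ha', b', hb', rfl⟩ := hv
      refine ⟨a * a', R₀.mul_mem ha ha', b * b', R₁.mul_mem hb hb', ?_⟩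
      have h1 := hcomm a' ha' b hb
      calc a * b * (a' * b') = a * (b * a') * b' := by group
        _ = a * (a' * b) * b' := by rw [← h1]
        _ = a * a' * (b * b') := by group
    | inv u _ hu =>
      obtain ⟨a, ha, b, hb, rfl⟩ := hu
      refine ⟨a⁻¹, R₀.inv_mem ha, b⁻¹, R₁.inv_mem hb, ?_⟩
      have h1 := hcomm a⁻¹ (R₀.inv_mem ha) b⁻¹ (R₁.inv_mem hb)
      rw [mul_inv_rev, h1]
  -- subgroups commuting with `g` lie in `R₀ ⊔ R₁`
  have hDle : ∀ D : Subgroup S, (∀ d ∈ D, d * (g : S) = g * d) → D ≤ R₀ ⊔ R₁ := by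
    intro D hD d hd
    rw [hcent, mem_centralizer_iff]
    intro a ha
    obtain ⟨k, hk⟩ := mem_zpowers_iff.mp (hgen a ha)
    rw [← hk]
    have h1 : Commute d (g : S) := hD d hd
    exact ((h1.zpow_right k).eq).symm
  -- the set of elements of `R₁` of order dividing `p`
  have hR₁card : Nat.card {b : ↥R₁ // b ^ p = 1} ≤ p := by
    haveI : Fintype ↥R₁ := Fintype.ofFinite _
    rw [Nat.card_eq_fintype_card, Fintype.card_subtype]
    exact IsCyclic.card_pow_eq_one_le hpp.pos
  refine ⟨(g : S), hg1, ?_, ?_⟩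
  · intro D hDexp hDg hgD
    have hDR₀ : ∀ d ∈ D, d ∈ R₀ → d = 1 := by
      intro d hd hdR
      by_contra hd1
      apply hgD
      -- `d` generates `R₀`
      have h1 : orderOf d = p := by
        have h2 : orderOf d ∣ p := orderOf_dvd_of_pow_eq_one (hDexp d hd)
        rcases (Nat.dvd_prime hpp).mp h2 with h3 | h3
        · exact absurd (orderOf_eq_one_iff.mp h3) hd1
        · exact h3
      have h2 : zpowers d = R₀ := by
        apply Subgroup.eq_of_le_of_card_ge
        · rw [zpowers_le]; exact hdR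
        · rw [Nat.card_zpowers, h1, hR₀]
      have h3 : (g : S) ∈ zpowers d := by rw [h2]; exact g.2
      exact (zpowers_le.mpr hd) h3
    have hchoice : ∀ d : ↥D, ∃ ab : ↥R₀ × ↥R₁, (d : S) = ab.1 * ab.2 := by
      intro d
      obtain ⟨a, ha, b, hb, hab⟩ := hdec d (hDle D hDg d.2)
      exact ⟨(⟨a, ha⟩, ⟨b, hb⟩), hab⟩
    choose f hf using hchoice
    have hfp : ∀ d : ↥D, ((f d).2) ^ p = 1 := by
      intro d
      apply Subtype.ext
      have h1 := hDexp d d.2
      rw [hf d] at h1
      have h2 : Commute ((f d).1 : S) ((f d).2 : S) := hcomm _ (f d).1.2 _ (f d).2.2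
      rw [h2.mul_pow, hR₀exp _ (f d).1.2, one_mul] at h1
      simpa using h1
    let φ : ↥D → {b : ↥R₁ // b ^ p = 1} := fun d => ⟨(f d).2, hfp d⟩
    have hφ : Function.Injective φ := by
      intro d d' hdd
      have h1 : (f d).2 = (f d').2 := congrArg Subtype.val hdd
      have h2 : (d : S) * (d' : S)⁻¹ = ((f d).1 : S) * ((f d').1 : S)⁻¹ := by
        rw [hf d, hf d', h1]; group
      have h3 : (d : S) * (d' : S)⁻¹ = 1 := by
        apply hDR₀ _ (D.mul_mem d.2 (D.inv_mem d'.2))
        rw [h2]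
        exact R₀.mul_mem (f d).1.2 (R₀.inv_mem (f d').1.2)
      apply Subtype.ext
      exact mul_inv_eq_one.mp h3
    exact (Nat.card_le_card_of_injective φ hφ).trans hR₁card
  · intro D hDexp hDg
    have hchoice : ∀ d : ↥D, ∃ ab : ↥R₀ × ↥R₁, (d : S) = ab.1 * ab.2 := by
      intro d
      obtain ⟨a, ha, b, hb, hab⟩ := hdec d (hDle D hDg d.2)
      exact ⟨(⟨a, ha⟩, ⟨b, hb⟩), hab⟩
    choose f hf using hchoice
    have hfp : ∀ d : ↥D, ((f d).2) ^ p = 1 := by
      intro d
      apply Subtype.ext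
      have h1 := hDexp d d.2
      rw [hf d] at h1
      have h2 : Commute ((f d).1 : S) ((f d).2 : S) := hcomm _ (f d).1.2 _ (f d).2.2
      rw [h2.mul_pow, hR₀exp _ (f d).1.2, one_mul] at h1
      simpa using h1
    let φ : ↥D → ↥R₀ × {b : ↥R₁ // b ^ p = 1} := fun d => ((f d).1, ⟨(f d).2, hfp d⟩)
    have hφ : Function.Injective φ := by
      intro d d' hdd
      have h1 : (f d).1 = (f d').1 := congrArg (fun t => t.1) hdd
      have h2 : (f d).2 = (f d').2 := congrArg (fun t => (t.2 : ↥R₁)) hdd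
      apply Subtype.ext
      rw [hf d, hf d', h1, h2]
    have h3 := Nat.card_le_card_of_injective φ hφ
    rw [Nat.card_prod, hR₀] at h3
    calc Nat.card D ≤ p * Nat.card {b : ↥R₁ // b ^ p = 1} := h3
      _ ≤ p * p := Nat.mul_le_mul_left _ hR₁card
      _ = p ^ 2 := (sq p).symm

/-- **Narrow `p`-groups of rank at least three.**  Let `S` be a narrow `p`-group (`p` odd) with an
elementary abelian subgroup of order larger than `p ^ 2`, embedded as a normal subgroup of `X` by
`φ`.  Then for each `y` in `commPow p X` some power `y ^ p ^ a` centralizes the image of `S`. -/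
theorem exists_pow_centralizes_of_isNarrow {S X : Type*} [Group S] [Group X] [Finite S] [Finite X]
    {p : ℕ} [hp : Fact p.Prime] (hp2 : p ≠ 2) (hS : IsPGroup p S) (hnar : Cfsg.IsNarrow p S)
    (hrank : ¬ Cfsg.PRankLE p 2 S) (φ : S →* X) (hφ : Function.Injective φ)
    (hnorm : φ.range.Normal) (y : X) (hy : y ∈ commPow p X) :
    ∃ a : ℕ, ∀ s : S, φ s * y ^ p ^ a = y ^ p ^ a * φ s := by
  classical
  rcases hnar with h | ⟨R₀, R₁, hR₀, hR₁, -, hcomm, hcent⟩
  · exact absurd h hrank
  obtain ⟨e, he1, hD1, hD2⟩ := narrow_type_hyps R₀ R₁ hR₀ hR₁ hcomm hcent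
  unfold Cfsg.PRankLE at hrank
  push Not at hrank
  obtain ⟨A, hAc, hAe, hAcard⟩ := hrank
  haveI := hnorm
  have hP : IsPGroup p φ.range := by
    rintro ⟨x, s, rfl⟩
    obtain ⟨k, hk⟩ := hS s
    refine ⟨k, ?_⟩
    apply Subtype.ext
    simp only [Subgroup.coe_pow, Subgroup.coe_one]
    rw [← map_pow, hk, map_one]
  -- pulling subgroups of the range back to `S`
  have hpull : ∀ D : Subgroup X, D ≤ φ.range → Nat.card D = Nat.card (D.comap φ) := by
    intro D hD
    have h1 : (D.comap φ).map φ = D := by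
      rw [Subgroup.map_comap_eq, inf_eq_right.mpr hD]
    conv_lhs => rw [← h1]
    exact Subgroup.card_map_of_injective hφ
  have he1' : φ e ≠ 1 := by
    intro h
    apply he1
    apply hφ
    rw [h, map_one]
  obtain ⟨a, ha⟩ := exists_pow_centralizes hp2 φ.range hP (φ e) ⟨e, rfl⟩ he1'
    (fun D hD hDexp hDe heD => by
      rw [hpull D hD]
      apply hD1
      · intro d hd
        apply hφ
        rw [map_pow, map_one]
        exact hDexp _ hd
      · intro d hd
        apply hφ
        rw [map_mul, map_mul]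
        exact hDe _ hd
      · exact fun h => heD h)
    (fun D hD hDexp hDe => by
      rw [hpull D hD]
      apply hD2
      · intro d hd
        apply hφ
        rw [map_pow, map_one]
        exact hDexp _ hd
      · intro d hd
        apply hφ
        rw [map_mul, map_mul]
        exact hDe _ hd)
    (A.map φ) (by rintro _ ⟨a, -, rfl⟩; exact ⟨a, rfl⟩)
    (by
      rintro _ ⟨a, ha, rfl⟩ _ ⟨b, hb, rfl⟩
      rw [← map_mul, ← map_mul]
      congr 1
      have := hAc.is_comm.comm (⟨a, ha⟩ : ↥A) ⟨b, hb⟩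
      exact congrArg Subtype.val this)
    (by
      rintro _ ⟨a, ha, rfl⟩
      rw [← map_pow, hAe a ha, map_one])
    (by rw [Subgroup.card_map_of_injective hφ]; exact hAcard)
    y hy
  exact ⟨a, fun s => ha (φ s) ⟨s, rfl⟩⟩

end Cfsg.Agent.Helper19.NarrowAut
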