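import Mathlib
import Cfsg.Agent.Helper19.NarrowAut
import Cfsg.Agent.Helper19.Class2

set_option autoImplicit false

/-! Auxiliary lemmas for the structure theorem on `p`-groups of rank two admitting an odd
`p'`-group of operators (B&G 4.x). -/

namespace Cfsg.Agent.Helper19.RankTwoStruct

open Subgroup Cfsg.Agent.Helper19.NarrowAut
open scoped commutatorElement Pointwise

/-- bilinearity of commutators when the commutator is central in `⟨u, v⟩` -/
theorem commutator_pow_pow {G : Type*} [Group G] (u v : G) (hu : Commute ⁅u, v⁆ u)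
    (hv : Commute ⁅u, v⁆ v) (m n : ℕ) : ⁅u ^ m, v ^ n⁆ = ⁅u, v⁆ ^ (m * n) := by
  have hinv : ⁅v, u⁆ = ⁅u, v⁆⁻¹ := (commutatorElement_inv u v).symm
  have hv' : Commute ⁅v, u⁆ v := by rw [hinv]; exact hv.inv_left
  have h1 : ⁅v ^ n, u⁆ = ⁅v, u⁆ ^ n :=
    Cfsg.Agent.Helper19.commutator_pow_left_of_commute_comm u v hv' n
  have h2 : ⁅u, v ^ n⁆ = ⁅u, v⁆ ^ n := by
    rw [← commutatorElement_inv (v ^ n) u, h1, hinv, inv_pow, inv_inv]
  have h3 : Commute ⁅u, v ^ n⁆ u := by rw [h2]; exact hu.pow_left n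
  have h4 := Cfsg.Agent.Helper19.commutator_pow_left_of_commute_comm (v ^ n) u h3 m
  rw [h4, h2, ← pow_mul, mul_comm]

/-- cosets of a normal subgroup of index `p` are represented by powers of any outside element -/
theorem exists_pow_mul_mem {X : Type*} [Group X] [Finite X] {p : ℕ} [Fact p.Prime]
    {H K : Subgroup X} [H.Normal] (hK : IsPGroup p K) (hHK : H ≤ K)
    (hcard : Nat.card K = p * Nat.card H) {g : X} (hgK : g ∈ K) (hgH : g ∉ H) :
    ∀ x ∈ K, ∃ n : ℕ, ∃ h ∈ H, x = g ^ n * h := by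
  have hle : zpowers g ⊔ H ≤ K := sup_le (zpowers_le.mpr hgK) hHK
  have hsup : zpowers g ⊔ H = K := by
    apply Subgroup.eq_of_le_of_card_ge hle
    have hne : H ≠ zpowers g ⊔ H := by
      intro h
      apply hgH
      rw [h]
      exact (le_sup_left : zpowers g ≤ zpowers g ⊔ H) (mem_zpowers g)
    have := mul_card_le_of_ne (hK.to_le hle) le_sup_right hne
    rw [hcard]; exact this
  intro x hx
  rw [← hsup] at hx
  have hx' : x ∈ ((zpowers g ⊔ H : Subgroup X) : Set X) := hx
  rw [Subgroup.mul_normal] at hx'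
  obtain ⟨a, ha, h, hh, rfl⟩ := Set.mem_mul.mp hx'
  obtain ⟨n, rfl⟩ := (mem_powers_iff_mem_zpowers.mpr ha)
  exact ⟨n, h, hh, rfl⟩

/-- a normal subgroup of order `p` of a `p`-group is central -/
theorem commute_of_card_prime {X : Type*} [Group X] [Finite X] {p : ℕ} [hp : Fact p.Prime]
    (P : Subgroup X) (hP : IsPGroup p P) (N : Subgroup X) [N.Normal] (hNP : N ≤ P)
    (hN : Nat.card N = p) : ∀ n ∈ N, ∀ x ∈ P, n * x = x * n := by
  have hne : N ≠ ⊥ := by
    intro h
    rw [h, Subgroup.card_bot] at hN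
    exact hp.out.one_lt.ne hN
  have h1 : ⁅N, P⁆ ≤ N := commutator_le_left N P
  have h2 : ⁅N, P⁆ ≠ N := commutator_ne_self P N hP hNP hne
  have h3 : Nat.card (⁅N, P⁆ : Subgroup X) ∣ p := hN ▸ Subgroup.card_dvd_of_le h1
  have h4 : ⁅N, P⁆ = ⊥ := by
    rcases (Nat.dvd_prime hp.out).mp h3 with h | h
    · exact Subgroup.card_eq_one.mp h
    · exact absurd (Subgroup.eq_of_le_of_card_ge h1 (by rw [h, hN])) h2
  rw [commutator_eq_bot_iff_le_centralizer] at h4
  intro n hn x hx
  have h5 := h4 hn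
  rw [mem_centralizer_iff] at h5
  exact (h5 x hx).symm

/-- the centre of a non-abelian group of order `p ^ 3` has order `p` and contains the derived
group -/
theorem center_of_card_cube {X : Type*} [Group X] [Finite X] {p : ℕ} [hp : Fact p.Prime]
    (T : Subgroup X) (hcard : Nat.card T = p ^ 3) (hnonab : ∃ x ∈ T, ∃ y ∈ T, x * y ≠ y * x) :
    Nat.card (T ⊓ centralizer (T : Set X) : Subgroup X) = p ∧
      ⁅T, T⁆ ≤ T ⊓ centralizer (T : Set X) := by
  classical
  have hpp : p.Prime := hp.out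
  have hT : IsPGroup p ↥T := IsPGroup.of_card hcard
  have hmap : (T ⊓ centralizer (T : Set X) : Subgroup X) = (center ↥T).map T.subtype := by
    ext x
    rw [Subgroup.mem_map, Subgroup.mem_inf]
    constructor
    · rintro ⟨hxT, hxc⟩
      rw [mem_centralizer_iff] at hxc
      refine ⟨⟨x, hxT⟩, ?_, rfl⟩
      rw [Subgroup.mem_center_iff]
      intro g
      exact Subtype.ext (hxc g.1 g.2)
    · rintro ⟨h, hh, rfl⟩
      rw [Subgroup.mem_center_iff] at hh
      refine ⟨h.2, ?_⟩
      rw [mem_centralizer_iff]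
      intro g hg
      exact congrArg Subtype.val (hh ⟨g, hg⟩)
  have hncomm : ¬ ∀ a b : ↥T, a * b = b * a := by
    intro h
    obtain ⟨x, hx, y, hy, hxy⟩ := hnonab
    exact hxy (congrArg Subtype.val (h ⟨x, hx⟩ ⟨y, hy⟩))
  haveI : Nontrivial ↥T := by
    rw [← Finite.one_lt_card_iff_nontrivial, hcard]
    exact Nat.one_lt_pow (by norm_num) hpp.one_lt
  have hdvd : Nat.card (center ↥T) ∣ p ^ 3 := hcard ▸ Subgroup.card_subgroup_dvd_card _
  obtain ⟨j, hj3, hj⟩ := (Nat.dvd_prime_pow hpp).mp hdvd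
  have hmul := Subgroup.card_mul_index (center ↥T)
  rw [Subgroup.index_eq_card, hcard, hj] at hmul
  have hj0 : j ≠ 0 := by
    rintro rfl
    rw [pow_zero] at hj
    have h1 : center ↥T = ⊥ := Subgroup.card_eq_one.mp hj
    have h2 := IsPGroup.bot_lt_center hT
    rw [h1] at h2
    exact lt_irrefl _ h2
  have hj3' : j ≠ 3 := by
    rintro rfl
    apply hncomm
    have h1 : center ↥T = ⊤ := Subgroup.eq_top_of_card_eq _ (by rw [hj, hcard])
    intro a b
    have h2 : a ∈ center ↥T := by rw [h1]; exact mem_top a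
    rw [Subgroup.mem_center_iff] at h2
    exact (h2 b).symm
  have hj2 : j ≠ 2 := by
    rintro rfl
    apply hncomm
    have h1 : Nat.card (↥T ⧸ center ↥T) = p := by
      have h2 : p ^ 2 * Nat.card (↥T ⧸ center ↥T) = p ^ 2 * p := by rw [hmul]; ring
      exact Nat.eq_of_mul_eq_mul_left (pow_pos hpp.pos 2) h2
    haveI : IsCyclic (↥T ⧸ center ↥T) := isCyclic_of_prime_card h1
    exact (MonoidHom.isMulCommutative_of_isCyclic_of_ker_le_center (QuotientGroup.mk' (center ↥T))
      (by rw [QuotientGroup.ker_mk'])).is_comm.comm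
  have hj1 : j = 1 := by omega
  subst hj1
  rw [pow_one] at hj hmul
  have hq : Nat.card (↥T ⧸ center ↥T) = p ^ 2 := by
    have h2 : p * Nat.card (↥T ⧸ center ↥T) = p * p ^ 2 := by rw [hmul]; ring
    exact Nat.eq_of_mul_eq_mul_left hpp.pos h2
  have hqc := (IsPGroup.isMulCommutative_of_card_eq_prime_sq hq).is_comm.comm
  refine ⟨?_, ?_⟩
  · rw [hmap, Subgroup.card_map_of_injective T.subtype_injective, hj]
  · rw [Subgroup.commutator_le]
    intro a ha b hb
    rw [hmap, Subgroup.mem_map]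
    refine ⟨⁅(⟨a, ha⟩ : ↥T), ⟨b, hb⟩⁆, ?_, rfl⟩
    rw [← QuotientGroup.eq_one_iff, ← QuotientGroup.mk'_apply, map_commutatorElement,
      commutatorElement_eq_one_iff_mul_comm]
    exact hqc _ _

end Cfsg.Agent.Helper19.RankTwoStruct
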