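import Mathlib
import Cfsg.Agent.Helper19.RankTwoStructA

set_option autoImplicit false

/-! The "weights" computation for the structure theorem on `p`-groups of rank two admitting an odd
`p'`-group of operators (B&G 4.x). -/

namespace Cfsg.Agent.Helper19.RankTwoStruct

open Subgroup Cfsg.Agent.Helper19.NarrowAut
open scoped commutatorElement Pointwise

theorem commutator_mul_left_of_commute {G : Type*} [Group G] (u a w : G) (h : a * w = w * a) :
    ⁅u * a, w⁆ = ⁅u, w⁆ := by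
  rw [commutatorElement_def, commutatorElement_def]
  have h1 : a * w * a⁻¹ = w := by rw [h]; group
  calc u * a * w * (u * a)⁻¹ * w⁻¹ = u * (a * w * a⁻¹) * u⁻¹ * w⁻¹ := by group
    _ = u * w * u⁻¹ * w⁻¹ := by rw [h1]

theorem commutator_mul_right_of_commute {G : Type*} [Group G] (u w a : G) (h : a * u = u * a) :
    ⁅u, w * a⁆ = ⁅u, w⁆ := by
  rw [commutatorElement_def, commutatorElement_def]
  have h1 : a * u⁻¹ * a⁻¹ = u⁻¹ := by
    have h2 : a * u⁻¹ = u⁻¹ * a := by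
      calc a * u⁻¹ = u⁻¹ * (u * a) * u⁻¹ := by group
        _ = u⁻¹ * (a * u) * u⁻¹ := by rw [h]
        _ = u⁻¹ * a := by group
    rw [h2]; group
  calc u * (w * a) * u⁻¹ * (w * a)⁻¹ = u * w * (a * u⁻¹ * a⁻¹) * w⁻¹ := by group
    _ = u * w * u⁻¹ * w⁻¹ := by rw [h1]

theorem sq_modEq_one_of_relations {p e₀ e₁ e₂ k : ℕ} (hp : p.Prime) (h1 : e₀ ≡ e₂ * e₁ [MOD p])
    (h2 : e₁ ≡ e₂ * k [MOD p]) (h3 : k ≡ e₀ [MOD p]) (he₁ : ¬ p ∣ e₁) : e₂ ^ 2 ≡ 1 [MOD p] := by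
  haveI : Fact p.Prime := ⟨hp⟩
  rw [← ZMod.natCast_eq_natCast_iff] at h1 h2 h3 ⊢
  push_cast at h1 h2 h3 ⊢
  have hne : (e₁ : ZMod p) ≠ 0 := by
    rw [Ne, ZMod.natCast_eq_zero_iff]
    exact he₁
  have h4 : (e₁ : ZMod p) = (e₂ : ZMod p) ^ 2 * e₁ := by
    calc (e₁ : ZMod p) = e₂ * k := h2
      _ = e₂ * e₀ := by rw [h3]
      _ = e₂ * (e₂ * e₁) := by rw [h1]
      _ = (e₂ : ZMod p) ^ 2 * e₁ := by ring
  have h5 : ((e₂ : ZMod p) ^ 2 - 1) * e₁ = 0 := by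
    rw [sub_mul, one_mul, ← h4, sub_self]
  rcases mul_eq_zero.mp h5 with h | h
  · exact sub_eq_zero.mp h
  · exact absurd h hne

/-- **The weights computation.**  In the "bad" configuration (Blackburn's family of non-metacyclic
groups of rank two with `P ≠ Ω₁(P) C_P(Ω₁(P))`) every element `b` normalizing everything acts on
`T / L` by an exponent whose square is `1`. -/
theorem weight_sq {X : Type*} [Group X] [Finite X] {p : ℕ} [hp : Fact p.Prime]
    (P ZT L T M C : Subgroup X) [hZTn : ZT.Normal] [hLn : L.Normal] [hTn : T.Normal]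
    [hMn : M.Normal] [hCn : C.Normal] (hP : IsPGroup p P)
    (hZTL : ZT ≤ L) (hLT : L ≤ T) (hTP : T ≤ P) (hMP : M ≤ P) (hLM : L ≤ M) (hCM : C ≤ M)
    (hZTC : ZT ≤ C)
    (hZTcard : Nat.card ZT = p) (hLcard : Nat.card L = p ^ 2) (hTcard : Nat.card T = p ^ 3)
    (hMcard : Nat.card M = p * Nat.card (L ⊔ C : Subgroup X))
    (hZTcent : ∀ z ∈ ZT, ∀ x ∈ P, z * x = x * z)
    (hLcomm : ∀ a ∈ L, ∀ b ∈ L, a * b = b * a)
    (hML : ∀ m ∈ M, ∀ a ∈ L, m * a = a * m)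
    (hCT : ∀ c ∈ C, ∀ s ∈ T, c * s = s * c)
    (hLP : ∀ a ∈ L, ∀ x ∈ P, ⁅a, x⁆ ∈ ZT)
    (hTexp : ∀ s ∈ T, s ^ p = 1)
    (y t : X) (hy : y ∈ T) (ht : t ∈ M) (hl : ⁅y, t⁆ ∈ L) (hlZ : ⁅y, t⁆ ∉ ZT)
    (hz : ⁅y, ⁅y, t⁆⁆ ≠ 1)
    (htpC : t ^ p ∈ C) (htC : ∀ c ∈ C, ∃ n : ℕ, c = (t ^ p) ^ n) (htcomm : ∀ c ∈ C, t * c = c * t)
    (b : X) :
    ∃ e : ℕ, (∃ a ∈ L, b * y * b⁻¹ = y ^ e * a) ∧ e ^ 2 ≡ 1 [MOD p] := by
  classical
  have hpp : p.Prime := hp.out
  obtain ⟨l, hldef⟩ : ∃ l : X, l = ⁅y, t⁆ := ⟨_, rfl⟩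
  rw [← hldef] at hl hlZ hz
  obtain ⟨z, hzdef⟩ : ∃ z : X, z = ⁅y, l⁆ := ⟨_, rfl⟩
  rw [← hzdef] at hz
  have hyP : y ∈ P := hTP hy
  have htP : t ∈ P := hMP ht
  have hlT : l ∈ T := hLT hl
  have hzZT : z ∈ ZT := by
    have h1 : ⁅l, y⁆ ∈ ZT := hLP l hl y hyP
    have h2 : z = ⁅l, y⁆⁻¹ := by rw [hzdef, commutatorElement_inv]
    rw [h2]; exact ZT.inv_mem h1
  have hzp : z ^ p = 1 := hTexp z (hLT (hZTL hzZT))
  have hzord : orderOf z = p := orderOf_eq_prime hzp hz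
  have hlp : l ^ p = 1 := hTexp l hlT
  have hyL : y ∉ L := by
    intro h
    apply hlZ
    have h1 : t * y = y * t := hML t ht y h
    have h2 : l = 1 := by
      rw [hldef, commutatorElement_eq_one_iff_mul_comm]; exact h1.symm
    rw [h2]; exact ZT.one_mem
  have hcommLC : ∀ μ ∈ L ⊔ C, ∀ s ∈ T, ⁅s, μ⁆ ∈ ZT := by
    intro μ hμ s hs
    have hμ' : μ ∈ ((L ⊔ C : Subgroup X) : Set X) := hμ
    rw [Subgroup.normal_mul] at hμ'
    obtain ⟨a, ha, c, hc, rfl⟩ := Set.mem_mul.mp hμ'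
    rw [commutator_mul_right_of_commute s a c (hCT c hc s hs)]
    have h1 : ⁅a, s⁆ ∈ ZT := hLP a ha s (hTP hs)
    rw [← commutatorElement_inv a s]
    exact ZT.inv_mem h1
  have htLC : t ∉ L ⊔ C := by
    intro h
    apply hlZ
    rw [hldef]
    exact hcommLC t h y hy
  -- the conjugation automorphism
  obtain ⟨φ, hφ⟩ : ∃ φ : X ≃* X, ∀ x, φ x = b * x * b⁻¹ :=
    ⟨MulAut.conj b, fun x => MulAut.conj_apply b x⟩
  have hφmem : ∀ (N : Subgroup X) [N.Normal], ∀ x ∈ N, φ x ∈ N := by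
    intro N hN x hx
    rw [hφ]; exact hN.conj_mem x hx b
  have hzpow : ∀ w ∈ ZT, ∃ n : ℕ, w = z ^ n := by
    have h1 : zpowers z = ZT := by
      apply Subgroup.eq_of_le_of_card_ge (zpowers_le.mpr hzZT)
      rw [Nat.card_zpowers, hzord, hZTcard]
    intro w hw
    rw [← h1] at hw
    obtain ⟨n, hn⟩ := mem_powers_iff_mem_zpowers.mpr hw
    exact ⟨n, hn.symm⟩
  obtain ⟨e₀, he₀⟩ := hzpow (φ z) (hφmem ZT z hzZT)
  obtain ⟨e₁, ζ, hζ, he₁⟩ := exists_pow_mul_mem (hP.to_le (hLT.trans hTP)) hZTL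
    (by rw [hLcard, hZTcard]; ring) hl hlZ (φ l) (hφmem L l hl)
  obtain ⟨e₂, a, ha, he₂⟩ := exists_pow_mul_mem (hP.to_le hTP) hLT
    (by rw [hTcard, hLcard]; ring) hy hyL (φ y) (hφmem T y hy)
  haveI hLCn : (L ⊔ C).Normal := inferInstance
  obtain ⟨k, μ, hμ, hk⟩ := exists_pow_mul_mem (hP.to_le hMP) (sup_le hLM hCM) hMcard ht htLC
    (φ t) (hφmem M t ht)
  have hzc : ∀ x ∈ P, Commute z x := fun x hx => hZTcent z hzZT x hx
  -- first relation
  have R1 : e₀ ≡ e₂ * e₁ [MOD p] := by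
    have h1 : φ z = ⁅φ y, φ l⁆ := by rw [hzdef]; exact map_commutatorElement φ y l
    rw [he₂, he₁] at h1
    rw [commutator_mul_left_of_commute (y ^ e₂) a (l ^ e₁ * ζ)
      (hLcomm a ha _ (L.mul_mem (L.pow_mem hl _) (hZTL hζ)))] at h1
    rw [commutator_mul_right_of_commute (y ^ e₂) (l ^ e₁) ζ
      (hZTcent ζ hζ _ (P.pow_mem hyP _))] at h1
    rw [commutator_pow_pow y l (by rw [← hzdef]; exact hzc y hyP)
      (by rw [← hzdef]; exact hzc l (hTP hlT)), ← hzdef, he₀] at h1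
    have h2 := pow_eq_pow_iff_modEq.mp h1
    rwa [hzord] at h2
  -- second relation, in the quotient by `ZT`
  have R2 : e₁ ≡ e₂ * k [MOD p] := by
    obtain ⟨π, hπdef⟩ : ∃ π : X →* X ⧸ ZT, π = QuotientGroup.mk' ZT := ⟨_, rfl⟩
    have hπZ : ∀ w ∈ ZT, π w = 1 := by
      intro w hw
      rw [hπdef, QuotientGroup.mk'_apply]
      exact (QuotientGroup.eq_one_iff w).mpr hw
    have hπL : ∀ a ∈ L, ∀ x ∈ P, π a * π x = π x * π a := by
      intro a ha x hx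
      have h1 := hπZ _ (hLP a ha x hx)
      rw [map_commutatorElement, commutatorElement_eq_one_iff_mul_comm] at h1
      exact h1
    have hA : π (φ l) = π l ^ e₁ := by rw [he₁, map_mul, map_pow, hπZ ζ hζ, mul_one]
    have h1 : φ l = ⁅φ y, φ t⁆ := by rw [hldef]; exact map_commutatorElement φ y t
    have hB : π (φ l) = ⁅π y ^ e₂ * π a, π t ^ k * π μ⁆ := by
      rw [h1, map_commutatorElement, he₂, hk, map_mul, map_mul, map_pow, map_pow]
    have hμP : t ^ k * μ ∈ P := P.mul_mem (P.pow_mem htP _) (hMP (sup_le hLM hCM hμ))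
    have hc1 : π a * (π t ^ k * π μ) = (π t ^ k * π μ) * π a := by
      have := hπL a ha (t ^ k * μ) hμP
      rwa [map_mul, map_pow] at this
    have hc2 : π μ * (π y ^ e₂) = π y ^ e₂ * π μ := by
      have h2 := hπZ _ (hcommLC μ hμ (y ^ e₂) (T.pow_mem hy _))
      rw [map_commutatorElement, commutatorElement_eq_one_iff_mul_comm, map_pow] at h2
      exact h2.symm
    rw [commutator_mul_left_of_commute _ _ _ hc1, commutator_mul_right_of_commute _ _ _ hc2] at hB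
    have hlπ : ⁅π y, π t⁆ = π l := by rw [hldef, map_commutatorElement]
    have hu : Commute ⁅π y, π t⁆ (π y) := by rw [hlπ]; exact hπL l hl y hyP
    have hv : Commute ⁅π y, π t⁆ (π t) := by rw [hlπ]; exact hπL l hl t htP
    rw [commutator_pow_pow (π y) (π t) hu hv, hlπ, hA] at hB
    have hne : π l ≠ 1 := by
      intro h
      apply hlZ
      rw [hπdef, QuotientGroup.mk'_apply] at h
      exact (QuotientGroup.eq_one_iff l).mp h
    have hord : orderOf (π l) = p :=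
      orderOf_eq_prime (by rw [← map_pow, hlp, map_one]) hne
    have h2 := pow_eq_pow_iff_modEq.mp hB
    rwa [hord] at h2
  -- third relation, from the `p`-th power map
  have R3 : k ≡ e₀ [MOD p] := by
    have hμ' : μ ∈ ((L ⊔ C : Subgroup X) : Set X) := hμ
    rw [Subgroup.normal_mul] at hμ'
    obtain ⟨a', ha', c', hc', rfl⟩ := Set.mem_mul.mp hμ'
    obtain ⟨r, hr⟩ := htC c' hc'
    obtain ⟨e, he⟩ := htC (φ (t ^ p)) (hφmem C _ htpC)
    have h1 : φ (t ^ p) = (φ t) ^ p := map_pow φ t p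
    rw [hk] at h1
    have hc1 : Commute (t ^ k) (a' * c') := by
      apply Commute.pow_left
      apply Commute.mul_right
      · exact hML t ht a' ha'
      · exact htcomm c' hc'
    rw [hc1.mul_pow] at h1
    have hc2 : Commute a' c' := (hCT c' hc' a' (hLT ha')).symm
    rw [hc2.mul_pow, hTexp a' (hLT ha'), one_mul, hr] at h1
    have h2 : (t ^ k) ^ p * ((t ^ p) ^ r) ^ p = (t ^ p) ^ (k + r * p) := by
      rw [← pow_mul, ← pow_mul, ← pow_mul, ← pow_mul, ← pow_add]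
      congr 1; ring
    rw [h2, he] at h1
    have h3 := pow_eq_pow_iff_modEq.mp h1
    obtain ⟨s, hs⟩ := htC z (hZTC hzZT)
    have hdvd : p ∣ orderOf (t ^ p) := by
      have h := orderOf_pow_dvd (x := t ^ p) s
      rw [← hs, hzord] at h
      exact h
    have h4 : e ≡ k + r * p [MOD p] := h3.of_dvd hdvd
    have h5 : e ≡ k [MOD p] := by
      have h6 : k + r * p ≡ k [MOD p] := Nat.add_mul_mod_self_right k r p
      exact h4.trans h6
    have h6 : φ z = z ^ e := by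
      calc φ z = φ ((t ^ p) ^ s) := by rw [← hs]
        _ = (φ (t ^ p)) ^ s := map_pow φ _ s
        _ = ((t ^ p) ^ e) ^ s := by rw [he]
        _ = ((t ^ p) ^ s) ^ e := by rw [← pow_mul (t ^ p) e s, ← pow_mul (t ^ p) s e, mul_comm]
        _ = z ^ e := by rw [← hs]
    rw [he₀] at h6
    have h7 := pow_eq_pow_iff_modEq.mp h6
    rw [hzord] at h7
    exact (h7.trans h5).symm
  have hne₁ : ¬ p ∣ e₁ := by
    rintro ⟨m, hm⟩
    have h1 : l ^ e₁ = 1 := by rw [hm, pow_mul, hlp, one_pow]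
    rw [h1, one_mul] at he₁
    have h2 : φ l ∈ ZT := by rw [he₁]; exact hζ
    have h3 : l = b⁻¹ * φ l * b⁻¹⁻¹ := by rw [hφ]; group
    apply hlZ
    rw [h3]
    exact hZTn.conj_mem _ h2 b⁻¹
  exact ⟨e₂, ⟨a, ha, by rw [← hφ]; exact he₂⟩, sq_modEq_one_of_relations hpp R1 R2 R3 hne₁⟩

end Cfsg.Agent.Helper19.RankTwoStruct
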