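import Mathlib
import Cfsg.Agent.Helper19.RankTwoStructB
import Cfsg.Agent.Helper1.UniqueOrderP
import Cfsg.Agent.Helper17.Basic

set_option autoImplicit false

/-! Further auxiliary lemmas for the structure theorem on `p`-groups of rank two. -/

namespace Cfsg.Agent.Helper19.RankTwoStruct

open Subgroup Cfsg.Agent.Helper19.NarrowAut
open scoped commutatorElement Pointwise

/-- a `p`-subgroup (`p` odd) all of whose elements of order `p` lie in a fixed subgroup of order `p`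
is cyclic -/
theorem isCyclic_of_omega_le {X : Type*} [Group X] [Finite X] {p : ℕ} [hp : Fact p.Prime]
    (hp2 : p ≠ 2) (D Z : Subgroup X) (hD : IsPGroup p D) (hZ : Nat.card Z = p)
    (h : ∀ x ∈ D, x ^ p = 1 → x ∈ Z) : IsCyclic ↥D := by
  have key : ∀ H : Subgroup ↥D, Nat.card H = p → H.map D.subtype = Z := by
    intro H hH
    apply Subgroup.eq_of_le_of_card_ge
    · rintro _ ⟨x, hx, rfl⟩
      apply h _ x.2
      have h1 : (⟨x, hx⟩ : ↥H) ^ Nat.card H = 1 := pow_card_eq_one'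
      rw [hH] at h1
      have h2 := congrArg Subtype.val (congrArg Subtype.val h1)
      simpa using h2
    · rw [Subgroup.card_map_of_injective D.subtype_injective, hH, hZ]
  have huniq : Cfsg.Agent.Helper1.UniqP p ↥D := by
    intro H K hH hK
    apply Subgroup.map_injective D.subtype_injective
    rw [key H hH, key K hK]
  exact Cfsg.Agent.Helper1.UniqP.odd_case hp2 _ ↥D rfl hD huniq

/-- elements of a cyclic subgroup commute -/
theorem commute_of_isCyclic {X : Type*} [Group X] (D : Subgroup X) [hD : IsCyclic ↥D] :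
    ∀ a ∈ D, ∀ b ∈ D, a * b = b * a := by
  obtain ⟨g, hg⟩ := IsCyclic.exists_generator (α := ↥D)
  intro a ha b hb
  obtain ⟨i, hi⟩ := mem_zpowers_iff.mp (hg ⟨a, ha⟩)
  obtain ⟨j, hj⟩ := mem_zpowers_iff.mp (hg ⟨b, hb⟩)
  have h1 : (⟨a, ha⟩ : ↥D) * ⟨b, hb⟩ = ⟨b, hb⟩ * ⟨a, ha⟩ := by
    rw [← hi, ← hj]; exact zpow_mul_comm g i j
  exact congrArg Subtype.val h1

/-- if `t ^ p ∈ H`, `t ∉ H` and `t ^ n ∈ H` then `p ∣ n` -/
theorem dvd_of_pow_mem {X : Type*} [Group X] {p : ℕ} [hp : Fact p.Prime] (H : Subgroup X) (t : X)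
    (htp : t ^ p ∈ H) (ht : t ∉ H) (n : ℕ) (hn : t ^ n ∈ H) : p ∣ n := by
  by_contra hdvd
  apply ht
  have hcop : Nat.Coprime n p := ((Nat.Prime.coprime_iff_not_dvd hp.out).mpr hdvd).symm
  obtain ⟨m, -, hm⟩ := Nat.exists_mul_mod_eq_one_of_coprime hcop hp.out.one_lt
  have h1 : n * m = p * (n * m / p) + 1 := by
    have := Nat.div_add_mod (n * m) p
    omega
  have h2 : (t ^ n) ^ m = (t ^ p) ^ (n * m / p) * t := by
    rw [← pow_mul, ← pow_mul, ← pow_succ, ← h1]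
  have h3 : t = ((t ^ p) ^ (n * m / p))⁻¹ * (t ^ n) ^ m := by rw [h2]; group
  rw [h3]
  exact H.mul_mem (H.inv_mem (H.pow_mem htp _)) (H.pow_mem hn _)

/-- conjugating by powers of `t` when `[y, t]` commutes with `t` -/
theorem conj_pow_of_commutator {X : Type*} [Group X] (y t : X) (h : t * ⁅y, t⁆ = ⁅y, t⁆ * t)
    (n : ℕ) : t ^ n * y * (t ^ n)⁻¹ = (⁅y, t⁆ ^ n)⁻¹ * y := by
  have h0 : t * y * t⁻¹ = ⁅y, t⁆⁻¹ * y := by rw [commutatorElement_def]; group
  have hc : Commute t ⁅y, t⁆ := h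
  induction n with
  | zero => simp
  | succ n ih =>
    have h1 : t ^ (n + 1) * y * (t ^ (n + 1))⁻¹ = t * (t ^ n * y * (t ^ n)⁻¹) * t⁻¹ := by
      rw [pow_succ']; group
    rw [h1, ih]
    have h2 : t * ((⁅y, t⁆ ^ n)⁻¹ * y) * t⁻¹ = (⁅y, t⁆ ^ n)⁻¹ * (t * y * t⁻¹) := by
      have h3 : Commute t (⁅y, t⁆ ^ n)⁻¹ := (hc.pow_right n).inv_right
      calc t * ((⁅y, t⁆ ^ n)⁻¹ * y) * t⁻¹ = (t * (⁅y, t⁆ ^ n)⁻¹) * y * t⁻¹ := by group
        _ = ((⁅y, t⁆ ^ n)⁻¹ * t) * y * t⁻¹ := by rw [h3.eq]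
        _ = (⁅y, t⁆ ^ n)⁻¹ * (t * y * t⁻¹) := by group
    rw [h2, h0, pow_succ', mul_inv_rev, mul_assoc]

/-- if `P` acts trivially on `T / Z(T)` for a normal non-abelian subgroup `T` of order `p ^ 3`,
then `P = T C_P(T)` -/
theorem sup_centralizer_eq {X : Type*} [Group X] [Finite X] {p : ℕ} [hp : Fact p.Prime]
    (P T ZT : Subgroup X) [hTn : T.Normal] (hP : IsPGroup p P) (hTP : T ≤ P)
    (hZTdef : ZT = T ⊓ centralizer (T : Set X)) (hZTcard : Nat.card ZT = p)
    (hTcard : Nat.card T = p ^ 3) (hZTcent : ∀ z ∈ ZT, ∀ x ∈ P, z * x = x * z)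
    (hcomm : ∀ x ∈ P, ∀ s ∈ T, ⁅x, s⁆ ∈ ZT) :
    T ⊔ (P ⊓ centralizer (T : Set X)) = P := by
  classical
  have hpp : p.Prime := hp.out
  have hTpg : IsPGroup p T := hP.to_le hTP
  have hZTT : ZT ≤ T := by rw [hZTdef]; exact inf_le_left
  obtain ⟨C, hCdef⟩ : ∃ C : Subgroup X, C = P ⊓ centralizer (T : Set X) := ⟨_, rfl⟩
  rw [← hCdef]
  have hCP : C ≤ P := by rw [hCdef]; exact inf_le_left
  have hZTne : ZT ≠ T := by
    intro h
    rw [h, hTcard] at hZTcard
    have h1 : p ^ 3 = p ^ 1 := by rw [pow_one]; exact hZTcard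
    have := Nat.pow_right_injective hpp.two_le h1
    omega
  obtain ⟨s₁, hs₁T, hs₁Z⟩ : ∃ s₁ ∈ T, s₁ ∉ ZT := by
    by_contra hcon
    push Not at hcon
    exact hZTne (le_antisymm hZTT hcon)
  obtain ⟨E₂, hE₂def⟩ : ∃ E₂ : Subgroup X, E₂ = ZT ⊔ zpowers s₁ := ⟨_, rfl⟩
  have hE₂T : E₂ ≤ T := by rw [hE₂def]; exact sup_le hZTT (zpowers_le.mpr hs₁T)
  have hE₂ne : E₂ ≠ T := by
    intro h
    apply hs₁Z
    have hle : ZT ⊔ zpowers s₁ ≤ centralizer ({s₁} : Set X) := by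
      apply sup_le
      · intro w hw
        rw [mem_centralizer_iff]
        rintro _ rfl
        exact (hZTcent w hw _ (hTP hs₁T)).symm
      · rw [zpowers_le, mem_centralizer_iff]
        rintro _ rfl
        rfl
    have hc : s₁ ∈ centralizer (T : Set X) := by
      rw [mem_centralizer_iff]
      intro x hx
      rw [← h, hE₂def] at hx
      have h2 := hle hx
      rw [mem_centralizer_iff] at h2
      exact (h2 s₁ rfl).symm
    rw [hZTdef]
    exact ⟨hs₁T, hc⟩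
  obtain ⟨s₂, hs₂T, hs₂E⟩ : ∃ s₂ ∈ T, s₂ ∉ E₂ := by
    by_contra hcon
    push Not at hcon
    exact hE₂ne (le_antisymm hE₂T hcon)
  have hTgen : T = E₂ ⊔ zpowers s₂ := by
    symm
    have hle : E₂ ⊔ zpowers s₂ ≤ T := sup_le hE₂T (zpowers_le.mpr hs₂T)
    apply Subgroup.eq_of_le_of_card_ge hle
    have h1 : ZT ≠ E₂ := by
      intro h; apply hs₁Z; rw [h, hE₂def]
      exact (le_sup_right : zpowers s₁ ≤ ZT ⊔ zpowers s₁) (mem_zpowers s₁)
    have h2 := mul_card_le_of_ne (hTpg.to_le hE₂T)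
      (show ZT ≤ E₂ by rw [hE₂def]; exact le_sup_left) h1
    have h3 : E₂ ≠ E₂ ⊔ zpowers s₂ := by
      intro h; apply hs₂E; rw [h]
      exact (le_sup_right : zpowers s₂ ≤ E₂ ⊔ zpowers s₂) (mem_zpowers s₂)
    have h4 := mul_card_le_of_ne (hTpg.to_le hle) le_sup_left h3
    rw [hZTcard] at h2
    rw [hTcard]
    calc p ^ 3 = p * (p * p) := by ring
      _ ≤ p * Nat.card E₂ := Nat.mul_le_mul_left _ h2
      _ ≤ _ := h4
  have hPcardle : Nat.card P ≤ p ^ 2 * Nat.card C := by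
    have h1 := card_le_card_centralizer_mul P ZT s₁ (fun m hm => hcomm m hm s₁ hs₁T)
    have h2 := card_le_card_centralizer_mul (P ⊓ centralizer {s₁}) ZT s₂
      (fun m hm => hcomm m hm.1 s₂ hs₂T)
    have h3 : (P ⊓ centralizer {s₁} ⊓ centralizer {s₂} : Subgroup X) ≤ C := by
      intro d hd
      have hdP : d ∈ P := hd.1.1
      have hd1 : d ∈ centralizer ({s₁} : Set X) := hd.1.2
      have hd2 : d ∈ centralizer ({s₂} : Set X) := hd.2
      rw [mem_centralizer_iff] at hd1 hd2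
      have h4 : E₂ ⊔ zpowers s₂ ≤ centralizer ({d} : Set X) := by
        rw [hE₂def]
        refine sup_le (sup_le ?_ ?_) ?_
        · intro w hw
          rw [mem_centralizer_iff]
          rintro _ rfl
          exact (hZTcent w hw _ hdP).symm
        · rw [zpowers_le, mem_centralizer_iff]
          rintro _ rfl
          exact (hd1 s₁ rfl).symm
        · rw [zpowers_le, mem_centralizer_iff]
          rintro _ rfl
          exact (hd2 s₂ rfl).symm
      have h6 : d ∈ centralizer (T : Set X) := by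
        rw [mem_centralizer_iff]
        intro n hn
        rw [hTgen] at hn
        have h5 := h4 hn
        rw [mem_centralizer_iff] at h5
        exact (h5 d rfl).symm
      rw [hCdef]
      exact ⟨hdP, h6⟩
    have h4 := Subgroup.card_le_of_le h3
    rw [hZTcard] at h1 h2
    calc Nat.card P ≤ Nat.card (P ⊓ centralizer {s₁} : Subgroup X) * p := h1
      _ ≤ (Nat.card (P ⊓ centralizer {s₁} ⊓ centralizer {s₂} : Subgroup X) * p) * p :=
          Nat.mul_le_mul_right _ h2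
      _ ≤ (Nat.card C * p) * p := Nat.mul_le_mul_right _ (Nat.mul_le_mul_right _ h4)
      _ = p ^ 2 * Nat.card C := by ring
  apply Subgroup.eq_of_le_of_card_ge (sup_le hTP hCP)
  have h1 := Cfsg.Agent.Helper17.card_sup_mul_card_inf_of_normal T C
  have h2 : Nat.card (T ⊓ C : Subgroup X) ≤ p := by
    rw [← hZTcard]
    apply Subgroup.card_le_of_le
    intro x hx
    rw [hZTdef]
    have hxC : x ∈ C := hx.2
    rw [hCdef] at hxC
    exact ⟨hx.1, hxC.2⟩
  rw [hTcard] at h1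
  have h3 : Nat.card (T ⊔ C : Subgroup X) * p ≥ p ^ 3 * Nat.card C := by
    rw [← h1]; exact Nat.mul_le_mul_left _ h2
  have h4 : p * (p ^ 2 * Nat.card C) ≤ p * Nat.card (T ⊔ C : Subgroup X) := by
    calc p * (p ^ 2 * Nat.card C) = p ^ 3 * Nat.card C := by ring
      _ ≤ Nat.card (T ⊔ C : Subgroup X) * p := h3
      _ = p * Nat.card (T ⊔ C : Subgroup X) := by ring
  exact hPcardle.trans (Nat.le_of_mul_le_mul_left h4 hpp.pos)

end Cfsg.Agent.Helper19.RankTwoStruct
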