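import Mathlib
import Cfsg.Prelude.Def_PLocal
import Cfsg.Agent.Helper21.RegularP
import Cfsg.Agent.Helper21.RegularPow
import Cfsg.Agent.Helper21.ClassLtP
import Cfsg.Agent.S0063

set_option autoImplicit false

/-! # Counting in regular `p`-groups: `|G| = |Ω₁(G)| |℧₁(G)|` -/

namespace Cfsg.Agent.Helper19.RegCount

open Subgroup Cfsg Cfsg.Agent.Helper21.RegularP Cfsg.Agent.Helper21.RegularPow

variable {G : Type*} [Group G]

/-- In a regular `p`-group, `|G| = |{x | x^p = 1}| * |℧₁(G)|`. -/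
theorem card_eq_mul [Finite G] {p : ℕ} [Fact p.Prime] (hG : IsRegularPGroup p G) :
    Nat.card G = Nat.card {x : G // x ^ p = 1} *
      Nat.card ↥(Cfsg.powerClosure p 1 (⊤ : Subgroup G)) := by
  set Ω : Subgroup G := (good_all hG ⊤).omega 1 with hΩ
  have hmemΩ : ∀ x, x ∈ Ω ↔ x ^ p = 1 := by
    intro x; rw [hΩ, Good.mem_omega]; simp
  have hkey : ∀ x y : G, x ^ p = y ^ p ↔ x⁻¹ * y ∈ Ω := by
    intro x y
    rw [hmemΩ]
    have h := pow_eq_pow_iff hG x⁻¹ y⁻¹ 1
    rw [pow_one, inv_inv, inv_pow, inv_pow, inv_inj] at h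
    exact h
  let f : G ⧸ Ω → ↥(Cfsg.powerClosure p 1 (⊤ : Subgroup G)) :=
    Quotient.lift (fun x : G => (⟨x ^ p, by
      have := pow_mem_powerClosure p 1 (mem_top x)
      rwa [pow_one] at this⟩ : ↥(Cfsg.powerClosure p 1 (⊤ : Subgroup G)))) (by
      intro x y hxy
      apply Subtype.ext
      exact (hkey x y).mpr (QuotientGroup.leftRel_apply.mp hxy))
  have hf : ∀ x : G, ((f (QuotientGroup.mk x) : ↥(Cfsg.powerClosure p 1 (⊤ : Subgroup G))) : G)
      = x ^ p := fun _ => rfl
  have hinj : Function.Injective f := by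
    intro a b hab
    induction a using QuotientGroup.induction_on with
    | H x =>
    induction b using QuotientGroup.induction_on with
    | H y =>
    have h1 := congrArg Subtype.val hab
    rw [hf, hf] at h1
    exact QuotientGroup.eq.mpr ((hkey x y).mp h1)
  have hsurj : Function.Surjective f := by
    rintro ⟨y, hy⟩
    have h1 := coe_powerClosure_eq hG.1 1 (regAt_of_isRegular hG 1) (⊤ : Subgroup G)
    have h2 : y ∈ {y : G | ∃ x ∈ (⊤ : Subgroup G), y = x ^ (p ^ 1)} := by rw [h1]; exact hy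
    obtain ⟨x, -, rfl⟩ := h2
    exact ⟨QuotientGroup.mk x, Subtype.ext (by rw [hf]; simp)⟩
  have h1 : Nat.card (G ⧸ Ω) = Nat.card ↥(Cfsg.powerClosure p 1 (⊤ : Subgroup G)) :=
    Nat.card_congr (Equiv.ofBijective f ⟨hinj, hsurj⟩)
  have h2 : Nat.card Ω = Nat.card {x : G // x ^ p = 1} :=
    Nat.card_congr (Equiv.subtypeEquivRight hmemΩ)
  rw [Subgroup.card_eq_card_quotient_mul_card_subgroup Ω, h1, h2, mul_comm]

/-- A `p`-group of order at most `p ^ 4` has class at most three. -/
theorem lcs_three_eq_bot_of_card_le [Finite G] {p : ℕ} [Fact p.Prime] (hG : IsPGroup p G)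
    (hcard : Nat.card G ≤ p ^ 4) : (⊤ : Subgroup G).lowerCentralSeries 3 = ⊥ := by
  have hpp : p.Prime := Fact.out
  obtain ⟨m, hm⟩ := hG.exists_card_eq
  have hm4 : m ≤ 4 := by
    rw [hm] at hcard
    exact (Nat.pow_le_pow_iff_right hpp.one_lt).mp hcard
  haveI : Group.IsNilpotent G := hG.isNilpotent
  apply Subgroup.lowerCentralSeries_eq_bot_iff_nilpotencyClass_le.mpr
  by_cases hm2 : 1 < m
  · have := Cfsg.Agent.S0063.result p m hm hm2
    omega
  · have h1 : m = 0 ∨ m = 1 := by omega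
    haveI : IsCyclic G := by
      rcases h1 with rfl | rfl
      · rw [pow_zero] at hm
        haveI : Subsingleton G := (Nat.card_eq_one_iff_unique.mp hm).1
        infer_instance
      · rw [pow_one] at hm
        exact isCyclic_of_prime_card hm
    have hc : IsMulCommutative G := IsCyclic.isMulCommutative
    have := Group.IsNilpotent.nilpotencyClass_le_one_iff.mpr hc
    omega

/-- For `p > 3`, a `p`-group of order at most `p ^ 4` is regular. -/
theorem isRegular_of_card_le [Finite G] {p : ℕ} [Fact p.Prime] (hp : 3 < p) (hG : IsPGroup p G)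
    (hcard : Nat.card G ≤ p ^ 4) : IsRegularPGroup p G := by
  apply Cfsg.Agent.Helper21.ClassLtP.isRegular_of_class_lt hG
  rw [eq_bot_iff, ← lcs_three_eq_bot_of_card_le hG hcard]
  have h3 : 3 ≤ p - 1 := by omega
  exact Subgroup.lowerCentralSeries_antitone (⊤ : Subgroup G) h3

end Cfsg.Agent.Helper19.RegCount
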