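import Mathlib
import Cfsg.Prelude.Def_PLocal
import Cfsg.Prelude.Def_OddOrderLocal
import Cfsg.Agent.Helper19.RegCount
import Cfsg.Agent.Helper19.Class2
import Cfsg.Agent.S0128
import Cfsg.Agent.Helper23.PSeries
import Cfsg.Agent.Helper23.PGroup
import Cfsg.Agent.Helper1.PGroup
import Cfsg.Agent.Helper19.Sylow

set_option autoImplicit false

/-! # Huppert's criterion: for `p > 3`, a `p`-group with at most `p²` elements of order
dividing `p` is metacyclic -/

namespace Cfsg.Agent.Helper19.Huppert

open Subgroup Cfsg Cfsg.Agent.Helper19.RegCount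
open scoped commutatorElement

universe u

variable {G : Type*} [Group G]

/-- `G` has at most `p²` elements of order dividing `p`. -/
def Small (p : ℕ) (G : Type*) [Group G] : Prop := Nat.card {x : G // x ^ p = 1} ≤ p ^ 2

theorem Small.subgroup [Finite G] {p : ℕ} (h : Small p G) (H : Subgroup G) : Small p ↥H := by
  unfold Small at h ⊢
  refine le_trans ?_ h
  apply Nat.card_le_card_of_injective
    (fun x : {x : ↥H // x ^ p = 1} => (⟨(x.1 : G), by
      have := x.2
      have h2 := congrArg Subtype.val this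
      simpa using h2⟩ : {x : G // x ^ p = 1}))
  intro x y hxy
  apply Subtype.ext
  apply Subtype.ext
  have h3 := congrArg Subtype.val hxy
  exact h3

theorem Small.rankTwo [Finite G] {p : ℕ} (h : Small p G) : Cfsg.Agent.S0128.RankTwo p G := by
  intro E hE
  unfold Small at h
  refine le_trans ?_ h
  apply Nat.card_le_card_of_injective
    (fun x : ↥E => (⟨(x : G), hE.2 x x.2⟩ : {x : G // x ^ p = 1}))
  intro x y hxy
  apply Subtype.ext
  have h3 := congrArg Subtype.val hxy
  exact h3

/-- In a `p`-group, a proper inclusion of subgroups multiplies the order by at least `p`. -/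
theorem card_mul_le_of_lt [Finite G] {p : ℕ} [Fact p.Prime] (hG : IsPGroup p G)
    {A B : Subgroup G} (h : A < B) : p * Nat.card A ≤ Nat.card B := by
  have hpp : p.Prime := Fact.out
  have h1 : Nat.card A ∣ Nat.card B := Subgroup.card_dvd_of_le h.le
  obtain ⟨k, hk⟩ := h1
  obtain ⟨m, hm⟩ := (hG.to_subgroup B).exists_card_eq
  have hkd : k ∣ p ^ m := by rw [← hm, hk]; exact dvd_mul_left _ _
  obtain ⟨j, -, hj⟩ := (Nat.dvd_prime_pow hpp).mp hkd
  have hj0 : j ≠ 0 := by
    rintro rfl
    rw [pow_zero] at hj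
    rw [hj, mul_one] at hk
    exact h.ne (Subgroup.eq_of_le_of_card_ge h.le hk.le)
  have hpk : p ≤ k := by
    rw [hj]
    calc p = p ^ 1 := (pow_one p).symm
      _ ≤ p ^ j := Nat.pow_le_pow_right hpp.pos (Nat.one_le_iff_ne_zero.mpr hj0)
  rw [hk, mul_comm]
  exact Nat.mul_le_mul_left _ hpk

/-- Key counting claim: a subgroup of exponent `p` and order at most `p³` in `G ⧸ N`, `|N| = p`,
has order at most `p²`, when `G` has at most `p²` elements of order dividing `p`. -/
theorem claim [Finite G] {p : ℕ} [Fact p.Prime] (hp : 3 < p) (hG : IsPGroup p G) (hS : Small p G)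
    (N : Subgroup G) [N.Normal] (hN : Nat.card N = p) (E' : Subgroup (G ⧸ N))
    (hexp : ∀ x ∈ E', x ^ p = 1) (hcard : Nat.card E' ≤ p ^ 3) : Nat.card E' ≤ p ^ 2 := by
  have hpp : p.Prime := Fact.out
  set E : Subgroup G := E'.comap (QuotientGroup.mk' N) with hE
  have hEc : Nat.card E = p * Nat.card E' := by
    rw [hE, Cfsg.Agent.Helper23.card_comap_mk', hN]
  have hE4 : Nat.card E ≤ p ^ 4 := by
    rw [hEc]
    calc p * Nat.card E' ≤ p * p ^ 3 := Nat.mul_le_mul_left _ hcard
      _ = p ^ 4 := by ring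
  have hreg : IsRegularPGroup p ↥E := isRegular_of_card_le hp (hG.to_subgroup E) hE4
  have h1 := card_eq_mul hreg
  have h2 : Nat.card {x : ↥E // x ^ p = 1} ≤ p ^ 2 := hS.subgroup E
  have h3 : Nat.card ↥(Cfsg.powerClosure p 1 (⊤ : Subgroup ↥E)) ≤ p := by
    have hle : Cfsg.powerClosure p 1 (⊤ : Subgroup ↥E) ≤ N.subgroupOf E := by
      unfold Cfsg.powerClosure
      rw [closure_le]
      rintro y ⟨x, -, rfl⟩
      rw [SetLike.mem_coe, mem_subgroupOf, pow_one]
      have hx : (QuotientGroup.mk' N) (x : G) ∈ E' := x.2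
      have h4 := hexp _ hx
      rw [← map_pow, QuotientGroup.mk'_apply, QuotientGroup.eq_one_iff] at h4
      simpa using h4
    calc _ ≤ Nat.card (N.subgroupOf E) := Subgroup.card_le_of_le hle
      _ = Nat.card N :=
        Nat.card_congr (Subgroup.subgroupOfEquivOfLe
          (Cfsg.Agent.Helper23.le_comap_mk' N E')).toEquiv
      _ = p := hN
  have h5 : p * Nat.card E' ≤ p * p ^ 2 := by
    rw [← hEc, h1]
    calc _ ≤ p ^ 2 * p := Nat.mul_le_mul h2 h3
      _ = p * p ^ 2 := by ring
  exact Nat.le_of_mul_le_mul_left h5 hpp.pos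

/-- The quotient of a `Small` `p`-group (`p > 3`) by a normal subgroup of order `p` is `Small`. -/
theorem Small.quotient [Finite G] {p : ℕ} [Fact p.Prime] (hp : 3 < p) (hG : IsPGroup p G)
    (hS : Small p G) (N : Subgroup G) [N.Normal] (hN : Nat.card N = p) : Small p (G ⧸ N) := by
  have hpp : p.Prime := Fact.out
  have hQ : IsPGroup p (G ⧸ N) := hG.to_quotient N
  -- rank two
  have hrk : Cfsg.Agent.S0128.RankTwo p (G ⧸ N) := by
    intro E' hE'
    by_contra hlt
    push Not at hlt
    obtain ⟨k, hk⟩ := (hQ.to_subgroup E').exists_card_eq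
    have hk3 : 3 ≤ k := by
      rw [hk] at hlt
      have := (Nat.pow_lt_pow_iff_right hpp.one_lt).mp hlt
      omega
    obtain ⟨F, hF⟩ := Sylow.exists_subgroup_card_pow_prime (G := ↥E') p (n := 3)
      (by rw [hk]; exact pow_dvd_pow p hk3)
    have hF' : Nat.card (F.map E'.subtype) = p ^ 3 := by
      rw [Subgroup.card_map_of_injective E'.subtype_injective]; exact hF
    have h1 := claim hp hG hS N hN (F.map E'.subtype) (by
      rintro _ ⟨a, -, rfl⟩
      exact hE'.2 _ a.2) hF'.le
    rw [hF'] at h1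
    have := (Nat.pow_le_pow_iff_right hpp.one_lt).mp h1
    omega
  -- the elements of order dividing `p` form a subgroup
  let Ω : Subgroup (G ⧸ N) :=
    { carrier := {x | x ^ p = 1}
      one_mem' := one_pow _
      mul_mem' := fun {x y} hx hy => Cfsg.Agent.S0128.main hp _ (G ⧸ N) rfl hQ hrk x y hx hy
      inv_mem' := fun {x} hx => by
        change x⁻¹ ^ p = 1
        rw [inv_pow]
        have hx' : x ^ p = 1 := hx
        rw [hx', inv_one] }
  have hΩmem : ∀ x, x ∈ Ω ↔ x ^ p = 1 := fun x => Iff.rfl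
  have h3 : Nat.card Ω ≤ p ^ 3 := by
    apply Cfsg.Agent.S0128.card_le_of_exponent (p := p)
    · intro g
      apply Subtype.ext
      have := (hΩmem g.1).mp g.2
      simpa using this
    · exact hrk.subgroup Ω
  have h2 := claim hp hG hS N hN Ω (fun x hx => (hΩmem x).mp hx) h3
  unfold Small
  rw [← Nat.card_congr (Equiv.subtypeEquivRight hΩmem)]
  exact h2

/-- Generation lemma: if `V ≤ Φ(G)` has index at most `p²` then every element outside `V` is part
of a generating pair. -/
theorem exists_closure_pair_eq_top [Finite G] {p : ℕ} [Fact p.Prime] (hG : IsPGroup p G)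
    (V : Subgroup G) (hV : V ≤ frattini G)
    (hcard : Nat.card G ≤ p ^ 2 * Nat.card V) {g : G} (hg : g ∉ V) :
    ∃ y : G, closure ({g, y} : Set G) = ⊤ := by
  have hpp : p.Prime := Fact.out
  set M : Subgroup G := zpowers g ⊔ V with hM
  have hΦM : V < M := by
    refine lt_of_le_of_ne le_sup_right ?_
    intro h
    apply hg
    rw [h]
    exact (le_sup_left : zpowers g ≤ M) (mem_zpowers g)
  have h1 := card_mul_le_of_lt hG hΦM
  by_cases hMt : M = ⊤
  · refine ⟨1, ?_⟩
    have : zpowers g = ⊤ := by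
      apply frattini_nongenerating
      rw [eq_top_iff, ← hMt, hM]
      exact sup_le_sup_left hV _
    rw [eq_top_iff, ← this, zpowers_eq_closure]
    exact closure_mono (by simp)
  · obtain ⟨y, hy⟩ : ∃ y, y ∉ M := by
      by_contra hcon
      push Not at hcon
      exact hMt (eq_top_iff.mpr fun x _ => hcon x)
    refine ⟨y, ?_⟩
    have hlt : M < M ⊔ zpowers y := by
      refine lt_of_le_of_ne le_sup_left ?_
      intro h
      apply hy
      rw [h]
      exact (le_sup_right : zpowers y ≤ M ⊔ zpowers y) (mem_zpowers y)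
    have h2 := card_mul_le_of_lt hG hlt
    have h3 : M ⊔ zpowers y = ⊤ := by
      apply Subgroup.eq_top_of_le_card
      calc Nat.card G ≤ p ^ 2 * Nat.card V := hcard
        _ = p * (p * Nat.card V) := by ring
        _ ≤ p * Nat.card M := Nat.mul_le_mul_left _ h1
        _ ≤ _ := h2
    apply frattini_nongenerating
    rw [eq_top_iff, ← h3, hM]
    have hg' : zpowers g ≤ closure ({g, y} : Set G) := by
      rw [zpowers_le]; exact subset_closure (by simp)
    have hy' : zpowers y ≤ closure ({g, y} : Set G) := by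
      rw [zpowers_le]; exact subset_closure (by simp)
    exact sup_le (sup_le (hg'.trans le_sup_left) (hV.trans le_sup_right))
      (hy'.trans le_sup_left)

/-- A group generated by `a, b` with `⟨a⟩` normal is metacyclic. -/
theorem isMetacyclic_of_gens (a b : G) (h : closure ({a, b} : Set G) = ⊤)
    (hn : (zpowers a).Normal) : Cfsg.IsMetacyclic G := by
  refine ⟨zpowers a, hn, inferInstance, ?_⟩
  have key : ∀ g : G, (QuotientGroup.mk g : G ⧸ zpowers a) ∈
      zpowers (QuotientGroup.mk b : G ⧸ zpowers a) := by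
    intro g
    have hg : g ∈ closure ({a, b} : Set G) := by rw [h]; exact mem_top g
    induction hg using closure_induction with
    | mem w hw =>
      rcases hw with rfl | rfl
      · have : (QuotientGroup.mk w : G ⧸ zpowers w) = 1 :=
          (QuotientGroup.eq_one_iff w).mpr (mem_zpowers w)
        rw [this]; exact one_mem _
      · exact mem_zpowers _
    | one => exact one_mem _
    | mul u v _ _ hu hv => exact mul_mem hu hv
    | inv u _ hu => exact inv_mem hu
  refine ⟨⟨QuotientGroup.mk b, fun q => ?_⟩⟩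
  induction q using QuotientGroup.induction_on with
  | H g => exact key g

/-- Lifting a metacyclic structure of `G ⧸ N` to `G`. -/
theorem exists_lift (N : Subgroup G) [N.Normal] (h : Cfsg.IsMetacyclic (G ⧸ N)) :
    ∃ (L : Subgroup G) (_ : L.Normal) (x y : G), N ≤ L ∧ x ∈ L ∧
      (∀ l ∈ L, ∃ k : ℤ, (x ^ k)⁻¹ * l ∈ N) ∧ (∀ g : G, ∃ k : ℤ, (y ^ k)⁻¹ * g ∈ L) := by
  obtain ⟨L', hL'n, ⟨⟨x', hx'⟩⟩, ⟨⟨y', hy'⟩⟩⟩ := h
  obtain ⟨x, hx⟩ := QuotientGroup.mk_surjective x'.1
  obtain ⟨y'', hy''⟩ := QuotientGroup.mk_surjective y'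
  obtain ⟨y, hy⟩ := QuotientGroup.mk_surjective y''
  refine ⟨L'.comap (QuotientGroup.mk' N), inferInstance, x, y,
    Cfsg.Agent.Helper23.le_comap_mk' N L', ?_, ?_, ?_⟩
  · rw [mem_comap, QuotientGroup.mk'_apply, hx]; exact x'.2
  · intro l hl
    rw [mem_comap, QuotientGroup.mk'_apply] at hl
    obtain ⟨k, hk⟩ := hx' ⟨_, hl⟩
    refine ⟨k, ?_⟩
    have h1 := congrArg Subtype.val hk
    simp only [SubgroupClass.coe_zpow] at h1
    rw [← hx] at h1
    rw [← QuotientGroup.eq_one_iff, QuotientGroup.mk_mul, QuotientGroup.mk_inv,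
      QuotientGroup.mk_zpow, h1]
    simp
  · intro g
    obtain ⟨k, hk⟩ := hy' (QuotientGroup.mk (QuotientGroup.mk g))
    refine ⟨k, ?_⟩
    simp only at hk
    rw [mem_comap, QuotientGroup.mk'_apply, ← QuotientGroup.eq_one_iff, QuotientGroup.mk_mul,
      QuotientGroup.mk_inv, QuotientGroup.mk_zpow, hy, QuotientGroup.mk_mul, QuotientGroup.mk_inv,
      QuotientGroup.mk_zpow, hy'', ← hk]
    simp

/-- The `p`-power map as a homomorphism, when commutators are central of exponent `p`. -/
def powHom {p : ℕ} (hp : p.Prime) (hp2 : 2 < p) (hc : ∀ a b : G, ⁅a, b⁆ ∈ center G)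
    (hcp : ∀ a b : G, ⁅a, b⁆ ^ p = 1) : G →* G where
  toFun g := g ^ p
  map_one' := one_pow p
  map_mul' x y := by
    have hx : Commute ⁅y, x⁆ x := (mem_center_iff.mp (hc y x) x).symm
    have hy : Commute ⁅y, x⁆ y := (mem_center_iff.mp (hc y x) y).symm
    have h1 := Cfsg.Agent.Helper19.mul_pow_of_commute_comm x y hx hy p
    have h2 : p ∣ p.choose 2 := hp.dvd_choose_self (by norm_num) hp2
    obtain ⟨m, hm⟩ := h2
    change (x * y) ^ p = x ^ p * y ^ p
    rw [h1, hm, pow_mul, hcp, one_pow, mul_one]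

/-- The class two case (including the abelian case). -/
theorem class_two_case [Finite G] {p : ℕ} [Fact p.Prime] (hp : 3 < p) (hG : IsPGroup p G)
    (hS : Small p G) (z : G) (hzc : z ∈ center G) (hzp : z ^ p = 1)
    (hcomm : commutator G ≤ zpowers z) : Cfsg.IsMetacyclic G := by
  have hpp : p.Prime := Fact.out
  have hzle : zpowers z ≤ center G := by rw [zpowers_le]; exact hzc
  have hmem : ∀ a b : G, ⁅a, b⁆ ∈ zpowers z := fun a b =>
    hcomm (commutator_mem_commutator (mem_top a) (mem_top b))
  have hc : ∀ a b : G, ⁅a, b⁆ ∈ center G := fun a b => hzle (hmem a b)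
  have hcp : ∀ a b : G, ⁅a, b⁆ ^ p = 1 := by
    intro a b
    obtain ⟨m, hm⟩ := hmem a b
    simp only at hm
    rw [← hm, ← zpow_natCast, ← zpow_mul, mul_comm, zpow_mul, zpow_natCast, hzp, one_zpow]
  let P := powHom hpp (by omega) hc hcp
  have hPapp : ∀ g, P g = g ^ p := fun g => rfl
  have hker : Nat.card P.ker ≤ p ^ 2 := by
    unfold Small at hS
    refine le_trans (le_of_eq ?_) hS
    exact Nat.card_congr (Equiv.subtypeEquivRight (fun x => by rw [MonoidHom.mem_ker, hPapp]))
  have hcard : Nat.card G ≤ p ^ 2 * Nat.card P.range := by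
    rw [Subgroup.card_eq_card_quotient_mul_card_subgroup P.ker,
      Nat.card_congr (QuotientGroup.quotientKerEquivRange P).toEquiv, mul_comm]
    exact Nat.mul_le_mul_right _ hker
  have hV : P.range ≤ frattini G := by
    rintro _ ⟨g, rfl⟩
    exact Cfsg.Agent.Helper1.IsPGroup.pow_mem_frattini hG g
  have hnorm : ∀ g : G, z ∈ zpowers g → (zpowers g).Normal := by
    intro g hz
    refine ⟨fun n hn k => ?_⟩
    have h1 : k * n * k⁻¹ = ⁅k, n⁆ * n := by rw [commutatorElement_def]; group
    rw [h1]
    exact mul_mem ((zpowers_le.mpr hz) (hmem k n)) hn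
  obtain ⟨g, hgz, hgmax⟩ : ∃ g : G, z ∈ zpowers g ∧
      ∀ h : G, z ∈ zpowers h → orderOf h ≤ orderOf g := by
    haveI : Nonempty {g : G // z ∈ zpowers g} := ⟨⟨z, mem_zpowers z⟩⟩
    obtain ⟨g, hg⟩ := Finite.exists_max (fun g : {g : G // z ∈ zpowers g} => orderOf g.1)
    exact ⟨g.1, g.2, fun h hh => hg ⟨h, hh⟩⟩
  by_cases hgV : g ∈ P.range
  · obtain ⟨g₁, hg₁⟩ := hgV
    rw [hPapp] at hg₁
    have hg₁z : z ∈ zpowers g₁ := by
      have : zpowers g ≤ zpowers g₁ := by
        rw [zpowers_le, ← hg₁]; exact pow_mem (mem_zpowers _) _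
      exact this hgz
    have h1 := hgmax g₁ hg₁z
    by_cases hg₁1 : g₁ = 1
    · have hg1 : g = 1 := by rw [← hg₁, hg₁1, one_pow]
      have hall : ∀ h : G, h = 1 := by
        intro h
        have hz1 : z = 1 := by
          rw [hg1, zpowers_one_eq_bot, mem_bot] at hgz; exact hgz
        have h2 := hgmax h (by rw [hz1]; exact one_mem _)
        rw [hg1, orderOf_one] at h2
        have hpos := orderOf_pos h
        exact orderOf_eq_one_iff.mp (by omega)
      apply isMetacyclic_of_gens 1 1
      · rw [eq_top_iff]; intro x _; rw [hall x]; exact one_mem _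
      · rw [zpowers_one_eq_bot]; infer_instance
    · exfalso
      obtain ⟨k, hk⟩ := (IsPGroup.iff_orderOf.mp hG) g₁
      have hk0 : k ≠ 0 := by
        rintro rfl
        rw [pow_zero, orderOf_eq_one_iff] at hk
        exact hg₁1 hk
      have h2 : orderOf g = orderOf g₁ / Nat.gcd (orderOf g₁) p := by
        rw [← hg₁]; exact orderOf_pow' g₁ hpp.ne_zero
      have h3 : Nat.gcd (orderOf g₁) p = p :=
        Nat.gcd_eq_right (by rw [hk]; exact dvd_pow_self p hk0)
      rw [h3] at h2
      have : orderOf g < orderOf g₁ := by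
        rw [h2]; exact Nat.div_lt_self (orderOf_pos g₁) hpp.one_lt
      omega
  · obtain ⟨y, hy⟩ := exists_closure_pair_eq_top hG P.range hV hcard hgV
    exact isMetacyclic_of_gens g y hy (hnorm g hgz)

/-- If `G = ⟨x, y, z⟩` with `z` central, `x` commuting with `c = ⁅x, y⁆`, and `y c y⁻¹ ∈ ⟨c⟩`, then
`G' ≤ ⟨c⟩`. -/
theorem commutator_le_zpowers [Finite G] (x y z : G) (hz : z ∈ center G)
    (hgen : closure ({x, y, z} : Set G) = ⊤)
    (hxc : Commute x ⁅x, y⁆) (hyc : y * ⁅x, y⁆ * y⁻¹ ∈ zpowers ⁅x, y⁆) :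
    commutator G ≤ zpowers ⁅x, y⁆ := by
  set c := ⁅x, y⁆ with hc
  have hn : (zpowers c).Normal := by
    rw [← normalizer_eq_top_iff, eq_top_iff, ← hgen, closure_le]
    have key : ∀ g : G, g * c * g⁻¹ ∈ zpowers c → g ∈ normalizer (zpowers c : Set G) := by
      intro g hg
      apply Cfsg.Agent.Helper19.mem_normalizer_of_forall
      intro n hn
      obtain ⟨m, rfl⟩ := hn
      simp only
      rw [← conj_zpow]
      exact zpow_mem hg m
    rintro g (rfl | rfl | rfl)
    · apply key; rw [hxc.eq, mul_inv_cancel_right]; exact mem_zpowers c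
    · exact key _ hyc
    · apply key
      rw [← mem_center_iff.mp hz c, mul_inv_cancel_right]; exact mem_zpowers c
  rw [← Subgroup.Normal.quotient_commutative_iff_commutator_le]
  set k : Set (G ⧸ zpowers c) := (QuotientGroup.mk' (zpowers c)) '' ({x, y, z} : Set G) with hk
  have hktop : closure k = ⊤ := by
    rw [hk, ← MonoidHom.map_closure, hgen, ← MonoidHom.range_eq_map,
      MonoidHom.range_eq_top]
    exact QuotientGroup.mk'_surjective _
  have hxy : (QuotientGroup.mk x : G ⧸ zpowers c) * QuotientGroup.mk y =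
      QuotientGroup.mk y * QuotientGroup.mk x := by
    rw [← QuotientGroup.mk_mul, ← QuotientGroup.mk_mul, QuotientGroup.eq]
    have : (x * y)⁻¹ * (y * x) = (y⁻¹ * x⁻¹ * c * x * y)⁻¹ := by
      rw [hc, commutatorElement_def]; group
    rw [this]
    apply inv_mem
    have h2 : y⁻¹ * x⁻¹ * c * x * y = (x * y)⁻¹ * c * (x * y)⁻¹⁻¹ := by group
    rw [h2]
    exact hn.conj_mem c (mem_zpowers c) _
  have hzq : ∀ g : G, (QuotientGroup.mk z : G ⧸ zpowers c) * QuotientGroup.mk g =
      QuotientGroup.mk g * QuotientGroup.mk z := by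
    intro g
    rw [← QuotientGroup.mk_mul, ← QuotientGroup.mk_mul, mem_center_iff.mp hz g]
  have hcomm : ∀ a ∈ k, ∀ b ∈ k, a * b = b * a := by
    rintro _ ⟨a, ha, rfl⟩ _ ⟨b, hb, rfl⟩
    simp only [QuotientGroup.mk'_apply]
    rcases ha with rfl | rfl | rfl <;> rcases hb with rfl | rfl | rfl
    · rfl
    · exact hxy
    · exact (hzq _).symm
    · exact hxy.symm
    · rfl
    · exact (hzq _).symm
    · exact hzq _
    · exact hzq _
    · rfl
  have h1 : IsMulCommutative (closure k) := Subgroup.isMulCommutative_closure hcomm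
  refine ⟨⟨fun a b => ?_⟩⟩
  have ha : a ∈ closure k := by rw [hktop]; exact mem_top a
  have hb : b ∈ closure k := by rw [hktop]; exact mem_top b
  exact congrArg Subtype.val (h1.is_comm.comm ⟨a, ha⟩ ⟨b, hb⟩)

/-- **Huppert's criterion** for `p > 3`: a `p`-group with at most `p²` elements of order dividing
`p` is metacyclic. -/
theorem metacyclic_of_small {p : ℕ} [Fact p.Prime] (hp : 3 < p) :
    ∀ (n : ℕ) (G : Type u) [Group G] [Finite G], Nat.card G = n → IsPGroup p G → Small p G →
      Cfsg.IsMetacyclic G := by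
  have hpp : p.Prime := Fact.out
  intro n
  induction n using Nat.strong_induction_on with
  | _ n ih =>
  intro G _ _ hn hG hS
  by_cases hab : commutator G = ⊥
  · exact class_two_case hp hG hS 1 (one_mem _) (one_pow _) (by rw [hab]; exact bot_le)
  · obtain ⟨z, hzN, hzc, hzo⟩ : ∃ z ∈ commutator G, z ∈ center G ∧ orderOf z = p := by
      obtain ⟨b, hb1, hb2, hb3⟩ :=
        Cfsg.Agent.Helper23.exists_mem_inf_center_ne_one hG (commutator G) hab
      obtain ⟨k, hk⟩ := (IsPGroup.iff_orderOf.mp hG) b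
      have hk0 : k ≠ 0 := by
        rintro rfl
        rw [pow_zero, orderOf_eq_one_iff] at hk
        exact hb3 hk
      refine ⟨b ^ (p ^ (k - 1)), pow_mem hb1 _, pow_mem hb2 _, ?_⟩
      rw [orderOf_pow' b (pow_ne_zero _ hpp.ne_zero), hk,
        Nat.gcd_eq_right (pow_dvd_pow p (Nat.sub_le k 1))]
      have : p ^ k = p ^ (k - 1) * p := by
        rw [← pow_succ]; congr 1; omega
      rw [this, Nat.mul_div_cancel_left _ (pow_pos hpp.pos _)]
    set N : Subgroup G := zpowers z with hN
    have hNc : N ≤ center G := by rw [hN, zpowers_le]; exact hzc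
    haveI hNn : N.Normal := ⟨fun n hn g => by
      have := mem_center_iff.mp (hNc hn) g
      rw [this, mul_inv_cancel_right]; exact hn⟩
    have hNcard : Nat.card N = p := by rw [hN, Nat.card_zpowers, hzo]
    have hQS : Small p (G ⧸ N) := hS.quotient hp hG N hNcard
    have hQcard : Nat.card (G ⧸ N) < n := by
      rw [← hn, Subgroup.card_eq_card_quotient_mul_card_subgroup N, hNcard]
      exact lt_mul_of_one_lt_right Nat.card_pos hpp.one_lt
    have hQm := ih _ hQcard (G ⧸ N) rfl (hG.to_quotient N) hQS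
    obtain ⟨L, hLn, x, y, hNL, hxL, hL, hy⟩ := exists_lift N hQm
    have hzp : z ^ p = 1 := by rw [← hzo]; exact pow_orderOf_eq_one z
    have hL' : ∀ l ∈ L, ∃ i j : ℤ, l = x ^ i * z ^ j := by
      intro l hl
      obtain ⟨k, hk⟩ := hL l hl
      obtain ⟨j, hj⟩ := hk
      simp only at hj
      exact ⟨k, j, by rw [hj]; group⟩
    by_cases hzx : z ∈ zpowers x
    · refine ⟨L, hLn, ⟨⟨⟨x, hxL⟩, fun l => ?_⟩⟩, ⟨⟨QuotientGroup.mk y, fun q => ?_⟩⟩⟩
      · obtain ⟨i, j, hij⟩ := hL' l.1 l.2
        obtain ⟨m, hm⟩ := hzx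
        simp only at hm
        refine ⟨i + m * j, ?_⟩
        apply Subtype.ext
        simp only [SubgroupClass.coe_zpow]
        rw [hij, ← hm, zpow_add, zpow_mul]
      · induction q using QuotientGroup.induction_on with
        | H g =>
        obtain ⟨k, hk⟩ := hy g
        refine ⟨k, ?_⟩
        simp only
        rw [← QuotientGroup.mk_zpow, QuotientGroup.eq]
        exact hk
    · have hgen : closure ({x, y, z} : Set G) = ⊤ := by
        rw [eq_top_iff]
        intro g _
        obtain ⟨k, hk⟩ := hy g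
        obtain ⟨i, j, hij⟩ := hL' _ hk
        have : g = y ^ k * (x ^ i * z ^ j) := by rw [← hij]; group
        rw [this]
        exact mul_mem (zpow_mem (subset_closure (by simp)) _)
          (mul_mem (zpow_mem (subset_closure (by simp)) _)
            (zpow_mem (subset_closure (by simp)) _))
      set c := ⁅x, y⁆ with hc
      have hcL : c ∈ L := by
        rw [hc, commutatorElement_def]
        have : x * y * x⁻¹ * y⁻¹ = x * (y * x⁻¹ * y⁻¹) := by group
        rw [this]
        exact mul_mem hxL (hLn.conj_mem _ (inv_mem hxL) y)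
      obtain ⟨i, j, hcij⟩ := hL' c hcL
      have hzcomm : ∀ g : G, Commute g z := fun g => mem_center_iff.mp hzc g
      have hxc : Commute x c := by
        rw [hcij]
        exact ((Commute.refl x).zpow_right i).mul_right ((hzcomm x).zpow_right j)
      have hyx : y * x * y⁻¹ = c⁻¹ * x := by rw [hc, commutatorElement_def]; group
      have hyc : y * c * y⁻¹ ∈ zpowers c := by
        refine ⟨1 - i, ?_⟩
        simp only
        have hzj : ∀ g : G, g * z ^ j = z ^ j * g := fun g => ((hzcomm g).zpow_right j).eq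
        have h1 : y * c * y⁻¹ = (y * x * y⁻¹) ^ i * z ^ j := by
          rw [conj_zpow]
          calc y * c * y⁻¹ = y * (x ^ i * z ^ j) * y⁻¹ := by rw [← hcij]
            _ = y * x ^ i * (z ^ j * y⁻¹) := by group
            _ = y * x ^ i * (y⁻¹ * z ^ j) := by rw [← hzj y⁻¹]
            _ = y * x ^ i * y⁻¹ * z ^ j := by group
        have h2 : (1 - i) = -i + 1 := by ring
        rw [h1, hyx, (hxc.symm.inv_left).mul_zpow, inv_zpow', mul_assoc, ← hcij, h2, zpow_add_one]
      have hcomm := commutator_le_zpowers x y z hzc hgen hxc hyc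
      obtain ⟨k, hk⟩ := hcomm hzN
      simp only at hk
      have hcp : c ^ p = x ^ (i * p) := by
        have h1 : (z ^ j) ^ p = 1 := by
          rw [← zpow_natCast, ← zpow_mul, mul_comm, zpow_mul, zpow_natCast, hzp, one_zpow]
        have h2 : (x ^ i) ^ p = x ^ (i * p) := by rw [← zpow_natCast, ← zpow_mul]
        rw [hcij, ((hzcomm x).zpow_zpow i j).mul_pow, h1, h2, mul_one]
      have hcp1 : c ^ p = 1 := by
        by_contra hne
        have hdk : (p : ℤ) ∣ k := by
          obtain ⟨m, hm⟩ := (IsPGroup.iff_orderOf.mp hG) c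
          have hm2 : 2 ≤ m := by
            by_contra hlt
            push Not at hlt
            apply hne
            have : orderOf c ∣ p := by
              rw [hm]
              exact (pow_dvd_pow p (by omega : m ≤ 1)).trans (by rw [pow_one])
            exact orderOf_dvd_iff_pow_eq_one.mp this
          have h1 : c ^ (k * p) = 1 := by rw [zpow_mul, hk, zpow_natCast, hzp]
          have h2 : (orderOf c : ℤ) ∣ k * p := orderOf_dvd_iff_zpow_eq_one.mpr h1
          rw [hm] at h2
          have h3 : ((p : ℤ) ^ 2) ∣ k * p := by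
            refine dvd_trans ?_ h2
            push_cast
            exact pow_dvd_pow _ hm2
          rw [pow_two] at h3
          exact Int.dvd_of_mul_dvd_mul_right (by exact_mod_cast hpp.ne_zero) h3
        obtain ⟨k', rfl⟩ := hdk
        apply hzx
        rw [← hk, zpow_mul, zpow_natCast, hcp]
        exact zpow_mem (zpow_mem (mem_zpowers x) _) _
      have hCN : zpowers c = N := by
        symm
        apply Subgroup.eq_of_le_of_card_ge
        · rw [hN, zpowers_le]; exact ⟨k, hk⟩
        · rw [Nat.card_zpowers, hNcard]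
          exact Nat.le_of_dvd hpp.pos (orderOf_dvd_of_pow_eq_one hcp1)
      have hcomm' : commutator G ≤ zpowers z := by
        rw [← hN, ← hCN]; exact hcomm
      exact class_two_case hp hG hS z hzc hzp hcomm'

/-- If `Ω₁(G)` has order at most `p²` then `G` is `Small`. -/
theorem small_of_omegaOne_le [Finite G] {p : ℕ}
    (hO : Nat.card ↥(Cfsg.omegaOne p (⊤ : Subgroup G)) ≤ p ^ 2) : Small p G := by
  unfold Small
  refine le_trans ?_ hO
  apply Nat.card_le_card_of_injective
    (fun x : {x : G // x ^ p = 1} => (⟨x.1, subset_closure ⟨mem_top _, x.2⟩⟩ :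
      ↥(Cfsg.omegaOne p (⊤ : Subgroup G))))
  intro x y hxy
  apply Subtype.ext
  have h3 := congrArg Subtype.val hxy
  exact h3

/-- Quotients of metacyclic groups are metacyclic. -/
theorem isMetacyclic_quotient (h : Cfsg.IsMetacyclic G) (T : Subgroup G) [T.Normal] :
    Cfsg.IsMetacyclic (G ⧸ T) := by
  obtain ⟨N, hN, hNc, hQc⟩ := h
  haveI := hN
  have hN' : (N.map (QuotientGroup.mk' T)).Normal :=
    hN.map _ (QuotientGroup.mk'_surjective T)
  refine ⟨N.map (QuotientGroup.mk' T), hN', ?_, ?_⟩
  · exact isCyclic_of_surjective ((QuotientGroup.mk' T).subgroupMap N)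
      ((QuotientGroup.mk' T).subgroupMap_surjective N)
  · haveI := hN'
    let φ : G ⧸ N →* (G ⧸ T) ⧸ N.map (QuotientGroup.mk' T) :=
      QuotientGroup.map N (N.map (QuotientGroup.mk' T)) (QuotientGroup.mk' T)
        (Subgroup.le_comap_map _ _)
    apply isCyclic_of_surjective φ
    intro q
    obtain ⟨q', rfl⟩ := QuotientGroup.mk_surjective q
    obtain ⟨g, rfl⟩ := QuotientGroup.mk_surjective q'
    exact ⟨QuotientGroup.mk g, rfl⟩

/-- In a cyclic group `Ω₁` has order at most `p`. -/
theorem card_omegaOne_le_of_isCyclic [Finite G] [IsCyclic G] {p : ℕ} [Fact p.Prime] :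
    Nat.card ↥(Cfsg.omegaOne p (⊤ : Subgroup G)) ≤ p := by
  have hpp : p.Prime := Fact.out
  letI := IsCyclic.commGroup (α := G)
  have hexp : ∀ g ∈ Cfsg.omegaOne p (⊤ : Subgroup G), g ^ p = 1 := by
    intro g hg
    unfold Cfsg.omegaOne at hg
    induction hg using closure_induction with
    | mem x hx => exact hx.2
    | one => exact one_pow _
    | mul x y _ _ hx hy => rw [mul_pow, hx, hy, one_mul]
    | inv x _ hx => rw [inv_pow, hx, inv_one]
  obtain ⟨g, hg⟩ := IsCyclic.exists_generator (α := ↥(Cfsg.omegaOne p (⊤ : Subgroup G)))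
  have h1 : Nat.card ↥(Cfsg.omegaOne p (⊤ : Subgroup G)) = orderOf g := by
    rw [← Nat.card_zpowers g, (eq_top_iff' (zpowers g)).mpr hg, Subgroup.card_top]
  rw [h1]
  apply Nat.le_of_dvd hpp.pos
  apply orderOf_dvd_of_pow_eq_one
  apply Subtype.ext
  have := hexp g.1 g.2
  simpa using this

end Cfsg.Agent.Helper19.Huppert
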