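import Mathlib
import Cfsg.Agent.Helper19.RankTwoStructC
import Cfsg.Agent.Helper19.Huppert
import Cfsg.Agent.Helper26.Thompson
import Cfsg.Agent.S0128
import Cfsg.Agent.S1447
import Cfsg.Agent.S1453

set_option autoImplicit false

/-! **Structure of `p`-groups of rank two with `[P, A] = P`** (B&G 4.x, after Blackburn/Huppert):
for `p > 3`, a non-abelian normal `p`-subgroup `P` of rank at most two with `[P, A] = P` for an
odd-order `p'`-group `A` is the central product of `Ω₁(P)`, extraspecial of order `p ^ 3` and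
exponent `p`, with a cyclic group. -/

namespace Cfsg.Agent.Helper19.RankTwoStruct

open Subgroup Cfsg Cfsg.Agent.Helper19.NarrowAut Cfsg.Agent.Helper26
open scoped commutatorElement Pointwise

set_option maxHeartbeats 1600000 in
theorem rank_two_structure {X : Type*} [Group X] [Finite X] {p : ℕ} [hp : Fact p.Prime]
    (hp3 : 3 < p) (P : Subgroup X) [hPn : P.Normal] (hP : IsPGroup p P)
    (hrk : ∀ E : Subgroup X, E ≤ P → (∀ a ∈ E, ∀ b ∈ E, a * b = b * a) → (∀ a ∈ E, a ^ p = 1) →
      Nat.card E ≤ p ^ 2)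
    (A : Subgroup X) (hcop : (Nat.card A).Coprime p) (hodd : Odd (Nat.card A))
    (hPA : ⁅P, A⁆ = P) (hnonab : ∃ x ∈ P, ∃ y ∈ P, x * y ≠ y * x) :
    ∃ T C : Subgroup X, T ⊔ C = P ∧ (∀ a ∈ T, ∀ b ∈ C, a * b = b * a) ∧
      (∃ x ∈ T, ∃ y ∈ T, x * y ≠ y * x) ∧ Nat.card T = p ^ 3 ∧ (∀ x ∈ T, x ^ p = 1) ∧
      IsCyclic ↥C ∧ closure {x : X | x ∈ C ∧ x ^ p = 1} = ⁅T, T⁆ := by
  classical
  have hpp : p.Prime := hp.out
  have hp2 : p ≠ 2 := by omega
  have hrkU : ∀ U : Subgroup X, U ≤ P → Cfsg.Agent.S0128.RankTwo p ↥U := by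
    intro U hU E hE
    have h1 := isElementaryAbelian_iff.mp (isElementaryAbelian_map U.subtype hE)
    have h2 := hrk (E.map U.subtype) ((Subgroup.map_subtype_le E).trans hU) h1.1 h1.2
    rwa [Subgroup.card_map_of_injective U.subtype_injective] at h2
  -- `T = Ω₁(P)`
  obtain ⟨T, hTdef⟩ : ∃ T : Subgroup X, T = closure {x : X | x ∈ P ∧ x ^ p = 1} := ⟨_, rfl⟩
  haveI hTn : T.Normal := by
    rw [hTdef]
    apply closure_normal_of_conj
    rintro g ⟨hgP, hgp⟩ x
    exact ⟨hPn.conj_mem g hgP x, by rw [conj_pow, hgp]; group⟩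
  have hTP : T ≤ P := by rw [hTdef, closure_le]; exact fun x hx => hx.1
  have hΩ : ∀ x ∈ P, x ^ p = 1 → x ∈ T := by
    intro x hx hxp; rw [hTdef]; exact subset_closure ⟨hx, hxp⟩
  have hTexp : ∀ s ∈ T, s ^ p = 1 := by
    have hle : T ≤ (closure {x : ↥P | x ^ p = 1}).map P.subtype := by
      rw [hTdef, closure_le]
      rintro x ⟨hxP, hxp⟩
      refine ⟨⟨x, hxP⟩, subset_closure ?_, rfl⟩
      exact Subtype.ext (by simpa using hxp)
    intro s hs
    obtain ⟨g, hg, rfl⟩ := hle hs
    have h1 := Cfsg.Agent.S0128.result hp3 hP (hrkU P le_rfl) g hg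
    have h2 := congrArg Subtype.val h1
    simpa using h2
  have hTcard3 : Nat.card T ≤ p ^ 3 :=
    Cfsg.Agent.S0128.card_le_of_exponent (N := ↥T)
      (fun g => Subtype.ext (by simpa using hTexp g g.2)) (hrkU T hTP)
  have hTpg : IsPGroup p T := hP.to_le hTP
  obtain ⟨j, hj⟩ := IsPGroup.iff_card.mp hTpg
  have hj3 : j ≤ 3 := by
    rw [hj] at hTcard3; exact (Nat.pow_le_pow_iff_right hpp.one_lt).mp hTcard3
  have hj3' : j = 3 := by
    by_contra hne
    have hj2 : j ≤ 2 := by omega
    have hsmall : Cfsg.Agent.Helper19.Huppert.Small p ↥P := by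
      unfold Cfsg.Agent.Helper19.Huppert.Small
      have hmem : ∀ x : {x : ↥P // x ^ p = 1}, ((x.1 : ↥P) : X) ∈ T := by
        intro x
        apply hΩ _ x.1.2
        have h5 := congrArg Subtype.val x.2
        simpa using h5
      have h3 : Nat.card {x : ↥P // x ^ p = 1} ≤ Nat.card T := by
        apply Nat.card_le_card_of_injective
          (fun x : {x : ↥P // x ^ p = 1} => (⟨((x.1 : ↥P) : X), hmem x⟩ : ↥T))
        intro x y hxy
        have h5 : ((x.1 : ↥P) : X) = ((y.1 : ↥P) : X) := by
          simpa using congrArg Subtype.val hxy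
        exact Subtype.ext (Subtype.ext h5)
      rw [hj] at h3
      exact h3.trans (Nat.pow_le_pow_right hpp.pos hj2)
    have hmeta : Cfsg.IsMetacyclic ↥P :=
      Cfsg.Agent.Helper19.Huppert.metacyclic_of_small hp3 _ ↥P rfl hP hsmall
    have h4 := (Cfsg.Agent.S1447.result p hp2 P A hP hmeta
      (by rw [normalizer_eq_top_iff.mpr hPn]; exact le_top) hcop).1
    obtain ⟨x, hx, y, hy, hxy⟩ := hnonab
    apply hxy
    rw [← hPA] at hx hy
    obtain ⟨⟨hc⟩⟩ := h4
    exact congrArg Subtype.val (hc ⟨x, hx⟩ ⟨y, hy⟩)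
  have hTcard : Nat.card T = p ^ 3 := by rw [hj, hj3']
  have hTnonab : ∃ x ∈ T, ∃ y ∈ T, x * y ≠ y * x := by
    by_contra hcon
    push Not at hcon
    have h1 := hrk T hTP hcon hTexp
    rw [hTcard] at h1
    have := (Nat.pow_le_pow_iff_right hpp.one_lt).mp h1
    omega
  -- the centre of `T`
  obtain ⟨ZT, hZTdef⟩ : ∃ ZT : Subgroup X, ZT = T ⊓ centralizer (T : Set X) := ⟨_, rfl⟩
  haveI hZTn : ZT.Normal := by rw [hZTdef]; infer_instance
  obtain ⟨hZTcard, hTTZ⟩ := center_of_card_cube T hTcard hTnonab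
  rw [← hZTdef] at hZTcard hTTZ
  have hZTT : ZT ≤ T := by rw [hZTdef]; exact inf_le_left
  have hZTcent : ∀ z ∈ ZT, ∀ x ∈ P, z * x = x * z :=
    commute_of_card_prime P hP ZT (hZTT.trans hTP) hZTcard
  have hTT : ⁅T, T⁆ = ZT := by
    have h3 : Nat.card (⁅T, T⁆ : Subgroup X) ∣ p := hZTcard ▸ Subgroup.card_dvd_of_le hTTZ
    rcases (Nat.dvd_prime hpp).mp h3 with h | h
    · exfalso
      have h4 : ⁅T, T⁆ = ⊥ := Subgroup.card_eq_one.mp h
      obtain ⟨x, hx, y, hy, hxy⟩ := hTnonab
      apply hxy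
      have h5 : ⁅x, y⁆ ∈ ⁅T, T⁆ := commutator_mem_commutator hx hy
      rw [h4, mem_bot, commutatorElement_eq_one_iff_mul_comm] at h5
      exact h5
    · exact Subgroup.eq_of_le_of_card_ge hTTZ (by rw [h, hZTcard])
  -- the centralizer of `T`
  obtain ⟨C, hCdef⟩ : ∃ C : Subgroup X, C = P ⊓ centralizer (T : Set X) := ⟨_, rfl⟩
  haveI hCn : C.Normal := by rw [hCdef]; infer_instance
  have hCP : C ≤ P := by rw [hCdef]; exact inf_le_left
  have hCT : ∀ c ∈ C, ∀ s ∈ T, c * s = s * c := by
    intro c hc s hs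
    rw [hCdef] at hc
    have h1 : c ∈ centralizer (T : Set X) := hc.2
    rw [mem_centralizer_iff] at h1
    exact (h1 s hs).symm
  have hTC : T ⊓ C = ZT := by
    rw [hCdef, hZTdef, ← inf_assoc, inf_eq_left.mpr hTP]
  have hZTC : ZT ≤ C := by rw [← hTC]; exact inf_le_right
  have hCΩ : ∀ x ∈ C, x ^ p = 1 → x ∈ ZT := by
    intro x hx hxp
    rw [← hTC]; exact ⟨hΩ x (hCP hx) hxp, hx⟩
  have hCcyc : IsCyclic ↥C := isCyclic_of_omega_le hp2 C ZT (hP.to_le hCP) hZTcard hCΩ
  by_cases hgood : ⁅T, P⁆ ≤ ZT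
  · -- the good case
    refine ⟨T, C, ?_, fun a ha b hb => (hCT b hb a ha).symm, hTnonab, hTcard, hTexp, hCcyc, ?_⟩
    · rw [hCdef]
      apply sup_centralizer_eq P T ZT hP hTP hZTdef hZTcard hTcard hZTcent
      intro x hx s hs
      have h1 : ⁅s, x⁆ ∈ ZT := hgood (commutator_mem_commutator hs hx)
      rw [← commutatorElement_inv s x]
      exact ZT.inv_mem h1
    · rw [hTT]
      apply le_antisymm
      · rw [closure_le]
        rintro x ⟨hxC, hxp⟩
        exact hCΩ x hxC hxp
      · intro x hx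
        exact subset_closure ⟨hZTC hx, hTexp x (hZTT hx)⟩
  · -- the bad case leads to a contradiction
    exfalso
    have hTne : T ≠ ⊥ := by
      intro h
      rw [h, Subgroup.card_bot] at hTcard
      have : 1 < p ^ 3 := Nat.one_lt_pow (by norm_num) hpp.one_lt
      omega
    obtain ⟨L, hLdef⟩ : ∃ L : Subgroup X, L = ⁅T, P⁆ := ⟨_, rfl⟩
    rw [← hLdef] at hgood
    haveI hLn : L.Normal := by rw [hLdef]; infer_instance
    have hLT : L ≤ T := by rw [hLdef]; exact commutator_le_left T P
    have hLneT : L ≠ T := by rw [hLdef]; exact commutator_ne_self P T hP hTP hTne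
    have hLpg : IsPGroup p L := hTpg.to_le hLT
    have hcentral_le : ∀ N : Subgroup X, N.Normal → N ≤ T → Nat.card N ≤ p → N ≤ ZT := by
      intro N hNn hNT hNcard
      haveI := hNn
      obtain ⟨i, hi⟩ := IsPGroup.iff_card.mp (hTpg.to_le hNT)
      have hi1 : i ≤ 1 := by
        rw [hi] at hNcard
        have h1 : p ^ i ≤ p ^ 1 := by rw [pow_one]; exact hNcard
        exact (Nat.pow_le_pow_iff_right hpp.one_lt).mp h1
      rcases Nat.le_one_iff_eq_zero_or_eq_one.mp hi1 with h0 | h1
      · rw [h0, pow_zero] at hi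
        rw [Subgroup.card_eq_one.mp hi]; exact bot_le
      · rw [h1, pow_one] at hi
        have h2 := commute_of_card_prime P hP N (hNT.trans hTP) hi
        intro n hn
        have hc : n ∈ centralizer (T : Set X) := by
          rw [mem_centralizer_iff]
          intro s hs
          exact (h2 n hn s (hTP hs)).symm
        rw [hZTdef]
        exact ⟨hNT hn, hc⟩
    have hLcard : Nat.card L = p ^ 2 := by
      obtain ⟨i, hi⟩ := IsPGroup.iff_card.mp hLpg
      have h1 := mul_card_le_of_ne hTpg hLT hLneT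
      rw [hi, hTcard, ← pow_succ'] at h1
      have hi2 : i + 1 ≤ 3 := (Nat.pow_le_pow_iff_right hpp.one_lt).mp h1
      have hi1 : ¬ i ≤ 1 := by
        intro hi1
        apply hgood
        apply hcentral_le L hLn hLT
        rw [hi]
        calc p ^ i ≤ p ^ 1 := Nat.pow_le_pow_right hpp.pos hi1
          _ = p := pow_one p
      have : i = 2 := by omega
      rw [hi, this]
    have hZTL : ZT ≤ L := by
      rw [← hTT, hLdef]
      exact commutator_mono le_rfl hTP
    have hLP : ∀ a ∈ L, ∀ x ∈ P, ⁅a, x⁆ ∈ ZT := by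
      have h1 : ⁅L, P⁆ ≤ ZT := by
        apply hcentral_le _ inferInstance ((commutator_le_left L P).trans hLT)
        have hLne : L ≠ ⊥ := by
          intro h
          rw [h, Subgroup.card_bot] at hLcard
          have : 1 < p ^ 2 := Nat.one_lt_pow (by norm_num) hpp.one_lt
          omega
        have h2 := mul_card_le_of_ne hLpg (commutator_le_left L P)
          (commutator_ne_self P L hP (hLT.trans hTP) hLne)
        rw [hLcard] at h2
        have h3 : p * Nat.card (⁅L, P⁆ : Subgroup X) ≤ p * p := by rw [← sq]; exact h2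
        exact Nat.le_of_mul_le_mul_left h3 hpp.pos
      intro a ha x hx
      exact h1 (commutator_mem_commutator ha hx)
    have hLcomm : ∀ a ∈ L, ∀ b ∈ L, a * b = b * a := by
      intro a ha b hb
      have h1 := (IsPGroup.isMulCommutative_of_card_eq_prime_sq hLcard).is_comm.comm
        (⟨a, ha⟩ : ↥L) ⟨b, hb⟩
      exact congrArg Subtype.val h1
    obtain ⟨M, hMdef⟩ : ∃ M : Subgroup X, M = P ⊓ centralizer (L : Set X) := ⟨_, rfl⟩
    haveI hMn : M.Normal := by rw [hMdef]; infer_instance
    have hMP : M ≤ P := by rw [hMdef]; exact inf_le_left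
    have hML : ∀ m ∈ M, ∀ a ∈ L, m * a = a * m := by
      intro m hm a ha
      rw [hMdef] at hm
      have h1 : m ∈ centralizer (L : Set X) := hm.2
      rw [mem_centralizer_iff] at h1
      exact (h1 a ha).symm
    have hmemM : ∀ d ∈ P, (∀ a ∈ L, a * d = d * a) → d ∈ M := by
      intro d hd h
      have hc : d ∈ centralizer (L : Set X) := by
        rw [mem_centralizer_iff]; exact h
      rw [hMdef]; exact ⟨hd, hc⟩
    have hLM : L ≤ M := fun a ha => hmemM a (hTP (hLT ha)) (fun b hb => hLcomm b hb a ha)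
    have hCM : C ≤ M := fun c hc => hmemM c (hCP hc) (fun a ha => (hCT c hc a (hLT ha)).symm)
    -- `T` does not centralize `L`
    have hTnotM : ¬ T ≤ M := by
      intro h
      have h1 : L ≤ ZT := by
        intro a ha
        have hc : a ∈ centralizer (T : Set X) := by
          rw [mem_centralizer_iff]
          intro s hs
          exact hML s (h hs) a ha
        rw [hZTdef]; exact ⟨hLT ha, hc⟩
      have h2 := Subgroup.card_le_of_le h1
      rw [hLcard, hZTcard] at h2
      have : p < p ^ 2 := by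
        calc p = p ^ 1 := (pow_one p).symm
          _ < p ^ 2 := Nat.pow_lt_pow_right hpp.one_lt (by norm_num)
      omega
    have hTM : T ⊓ M = L := by
      symm
      apply Subgroup.eq_of_le_of_card_ge (le_inf hLT hLM)
      have hne : T ⊓ M ≠ T := fun h => hTnotM (inf_eq_left.mp h)
      have h1 := mul_card_le_of_ne hTpg inf_le_left hne
      rw [hTcard] at h1
      have h2 : p * Nat.card (T ⊓ M : Subgroup X) ≤ p * p ^ 2 := by
        calc p * Nat.card (T ⊓ M : Subgroup X) ≤ p ^ 3 := h1
          _ = p * p ^ 2 := by ring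
      rw [hLcard]
      exact Nat.le_of_mul_le_mul_left h2 hpp.pos
    -- `y`
    obtain ⟨y, hyT, hyL⟩ : ∃ y ∈ T, y ∉ L := by
      by_contra hcon
      push Not at hcon
      exact hLneT (le_antisymm hLT hcon)
    have hTgen : L ⊔ zpowers y = T := by
      have hle : L ⊔ zpowers y ≤ T := sup_le hLT (zpowers_le.mpr hyT)
      apply Subgroup.eq_of_le_of_card_ge hle
      have hne : L ≠ L ⊔ zpowers y := by
        intro h; apply hyL; rw [h]
        exact (le_sup_right : zpowers y ≤ L ⊔ zpowers y) (mem_zpowers y)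
      have h1 := mul_card_le_of_ne (hTpg.to_le hle) le_sup_left hne
      rw [hLcard] at h1
      rw [hTcard]
      calc p ^ 3 = p * p ^ 2 := by ring
        _ ≤ _ := h1
    -- elements of `M` centralizing `y` lie in `C`
    have hMyC : (M ⊓ centralizer {y} : Subgroup X) ≤ C := by
      intro d hd
      have hdM : d ∈ M := hd.1
      have hdy : d ∈ centralizer ({y} : Set X) := hd.2
      rw [mem_centralizer_iff] at hdy
      have hle : L ⊔ zpowers y ≤ centralizer ({d} : Set X) := by
        apply sup_le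
        · intro a ha
          rw [mem_centralizer_iff]
          rintro _ rfl
          exact hML _ hdM a ha
        · rw [zpowers_le, mem_centralizer_iff]
          rintro _ rfl
          exact (hdy y rfl).symm
      have hc : d ∈ centralizer (T : Set X) := by
        rw [mem_centralizer_iff]
        intro s hs
        rw [← hTgen] at hs
        have h1 := hle hs
        rw [mem_centralizer_iff] at h1
        exact (h1 d rfl).symm
      rw [hCdef]; exact ⟨hMP hdM, hc⟩
    -- orders
    have hLC : L ⊓ C = ZT := by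
      apply le_antisymm
      · rw [← hTC]; exact inf_le_inf_right C hLT
      · exact le_inf hZTL hZTC
    have hLCcard : Nat.card (L ⊔ C : Subgroup X) = p * Nat.card C := by
      have h1 := Cfsg.Agent.Helper17.card_sup_mul_card_inf_of_normal L C
      rw [hLC, hZTcard, hLcard] at h1
      have h2 : p * Nat.card (L ⊔ C : Subgroup X) = p * (p * Nat.card C) := by
        calc p * Nat.card (L ⊔ C : Subgroup X) = Nat.card (L ⊔ C : Subgroup X) * p := by ring
          _ = p ^ 2 * Nat.card C := h1
          _ = p * (p * Nat.card C) := by ring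
      exact Nat.eq_of_mul_eq_mul_left hpp.pos h2
    have hMle : Nat.card M ≤ p ^ 2 * Nat.card C := by
      have h1 := card_le_card_centralizer_mul M L y (by
        intro m hm
        have h2 : ⁅y, m⁆ ∈ L := by rw [hLdef]; exact commutator_mem_commutator hyT (hMP hm)
        rw [← commutatorElement_inv y m]
        exact L.inv_mem h2)
      rw [hLcard] at h1
      calc Nat.card M ≤ Nat.card (M ⊓ centralizer {y} : Subgroup X) * p ^ 2 := h1
        _ ≤ Nat.card C * p ^ 2 := Nat.mul_le_mul_right _ (Subgroup.card_le_of_le hMyC)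
        _ = p ^ 2 * Nat.card C := by ring
    have hTCne : T ⊔ C ≠ P := by
      intro h
      apply hgood
      rw [hLdef, Subgroup.commutator_le]
      intro s hs x hx
      rw [← h] at hx
      have hx' : x ∈ ((T ⊔ C : Subgroup X) : Set X) := hx
      rw [Subgroup.normal_mul] at hx'
      obtain ⟨u, hu, c, hc, rfl⟩ := Set.mem_mul.mp hx'
      rw [commutator_mul_right_of_commute s u c (hCT c hc s hs)]
      exact hTTZ (commutator_mem_commutator hs hu)
    obtain ⟨l₀, hl₀L, hl₀Z⟩ : ∃ l₀ ∈ L, l₀ ∉ ZT := by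
      by_contra hcon
      push Not at hcon
      exact hgood hcon
    have hLgen : ZT ⊔ zpowers l₀ = L :=
      Cfsg.Agent.S1453.sup_zpowers_eq ZT L hZTL hZTcard hLcard l₀ hl₀L hl₀Z
    have hPle : Nat.card P ≤ p * Nat.card M := by
      have h1 := card_le_card_centralizer_mul P ZT l₀ (by
        intro m hm
        have h2 : ⁅l₀, m⁆ ∈ ZT := hLP l₀ hl₀L m hm
        rw [← commutatorElement_inv l₀ m]
        exact ZT.inv_mem h2)
      rw [hZTcard] at h1
      have h3 : (P ⊓ centralizer {l₀} : Subgroup X) ≤ M := by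
        intro d hd
        have hdP : d ∈ P := hd.1
        have hdl : d ∈ centralizer ({l₀} : Set X) := hd.2
        rw [mem_centralizer_iff] at hdl
        apply hmemM d hdP
        have hle : ZT ⊔ zpowers l₀ ≤ centralizer ({d} : Set X) := by
          apply sup_le
          · intro w hw
            rw [mem_centralizer_iff]
            rintro _ rfl
            exact (hZTcent w hw _ hdP).symm
          · rw [zpowers_le, mem_centralizer_iff]
            rintro _ rfl
            exact (hdl l₀ rfl).symm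
        intro a ha
        rw [← hLgen] at ha
        have h4 := hle ha
        rw [mem_centralizer_iff] at h4
        exact (h4 d rfl).symm
      calc Nat.card P ≤ Nat.card (P ⊓ centralizer {l₀} : Subgroup X) * p := h1
        _ ≤ Nat.card M * p := Nat.mul_le_mul_right _ (Subgroup.card_le_of_le h3)
        _ = p * Nat.card M := by ring
    have hMcard : Nat.card M = p * Nat.card (L ⊔ C : Subgroup X) := by
      rw [hLCcard]
      apply le_antisymm
      · calc Nat.card M ≤ p ^ 2 * Nat.card C := hMle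
          _ = p * (p * Nat.card C) := by ring
      · have h1 := mul_card_le_of_ne hP (sup_le hTP hCP) hTCne
        have h2 := Cfsg.Agent.Helper17.card_sup_mul_card_inf_of_normal T C
        rw [hTC, hZTcard, hTcard] at h2
        have h3 : Nat.card (T ⊔ C : Subgroup X) = p ^ 2 * Nat.card C := by
          have h4 : p * Nat.card (T ⊔ C : Subgroup X) = p * (p ^ 2 * Nat.card C) := by
            calc p * Nat.card (T ⊔ C : Subgroup X) = Nat.card (T ⊔ C : Subgroup X) * p := by ring
              _ = p ^ 3 * Nat.card C := h2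
              _ = p * (p ^ 2 * Nat.card C) := by ring
          exact Nat.eq_of_mul_eq_mul_left hpp.pos h4
        rw [h3] at h1
        have h5 : p * (p * (p * Nat.card C)) ≤ p * Nat.card M := by
          calc p * (p * (p * Nat.card C)) = p * (p ^ 2 * Nat.card C) := by ring
            _ ≤ Nat.card P := h1
            _ ≤ p * Nat.card M := hPle
        exact Nat.le_of_mul_le_mul_left h5 hpp.pos
    -- `t`
    obtain ⟨t, htM, htl⟩ : ∃ t ∈ M, ⁅y, t⁆ ∉ ZT := by
      by_contra hcon
      push Not at hcon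
      have h1 := card_le_card_centralizer_mul M ZT y (by
        intro m hm
        have h2 : ⁅y, m⁆ ∈ ZT := hcon m hm
        rw [← commutatorElement_inv y m]
        exact ZT.inv_mem h2)
      rw [hZTcard] at h1
      have h2 : Nat.card M ≤ Nat.card C * p :=
        h1.trans (Nat.mul_le_mul_right _ (Subgroup.card_le_of_le hMyC))
      rw [hMcard, hLCcard] at h2
      have hCpos : 0 < Nat.card C := Nat.card_pos
      have h3 : p * (p * Nat.card C) ≤ 1 * (p * Nat.card C) := by
        calc p * (p * Nat.card C) ≤ Nat.card C * p := h2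
          _ = 1 * (p * Nat.card C) := by ring
      have h4 := Nat.le_of_mul_le_mul_right h3 (Nat.mul_pos hpp.pos hCpos)
      have := hpp.two_le
      omega
    have hl : ⁅y, t⁆ ∈ L := by rw [hLdef]; exact commutator_mem_commutator hyT (hMP htM)
    have hz : ⁅y, ⁅y, t⁆⁆ ≠ 1 := by
      intro h
      rw [commutatorElement_eq_one_iff_mul_comm] at h
      apply hTnotM
      have hLgen' : ZT ⊔ zpowers ⁅y, t⁆ = L :=
        Cfsg.Agent.S1453.sup_zpowers_eq ZT L hZTL hZTcard hLcard _ hl htl
      have hyM : y ∈ M := by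
        apply hmemM y (hTP hyT)
        have hle : ZT ⊔ zpowers ⁅y, t⁆ ≤ centralizer ({y} : Set X) := by
          apply sup_le
          · intro w hw
            rw [mem_centralizer_iff]
            rintro _ rfl
            exact (hZTcent w hw _ (hTP hyT)).symm
          · rw [zpowers_le, mem_centralizer_iff]
            rintro _ rfl
            exact h
        intro a ha
        rw [← hLgen'] at ha
        have h4 := hle ha
        rw [mem_centralizer_iff] at h4
        exact (h4 y rfl).symm
      rw [← hTgen]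
      exact sup_le hLM (zpowers_le.mpr hyM)
    -- `t ^ p ∈ C`
    have htl_comm : t * ⁅y, t⁆ = ⁅y, t⁆ * t := hML t htM _ hl
    have htpC : t ^ p ∈ C := by
      apply hMyC
      refine ⟨M.pow_mem htM p, ?_⟩
      show t ^ p ∈ centralizer ({y} : Set X)
      rw [mem_centralizer_iff]
      intro w hw
      rw [Set.mem_singleton_iff] at hw
      rw [hw]
      have h1 := conj_pow_of_commutator y t htl_comm p
      rw [hTexp _ (hLT hl), inv_one, one_mul] at h1
      calc y * t ^ p = (t ^ p * y * (t ^ p)⁻¹) * t ^ p := by rw [h1]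
        _ = t ^ p * y := by group
    have htLC : t ∉ L ⊔ C := by
      intro h
      apply htl
      have hx' : t ∈ ((L ⊔ C : Subgroup X) : Set X) := h
      rw [Subgroup.normal_mul] at hx'
      obtain ⟨u, hu, c, hc, rfl⟩ := Set.mem_mul.mp hx'
      rw [commutator_mul_right_of_commute y u c (hCT c hc y hyT)]
      have h1 : ⁅u, y⁆ ∈ ZT := hLP u hu y (hTP hyT)
      rw [← commutatorElement_inv u y]
      exact ZT.inv_mem h1
    have htC' : t ∉ C := fun h => htLC ((le_sup_right : C ≤ L ⊔ C) h)
    -- `D = C ⟨t⟩` is cyclic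
    obtain ⟨D, hDdef⟩ : ∃ D : Subgroup X, D = zpowers t ⊔ C := ⟨_, rfl⟩
    have hDM : D ≤ M := by rw [hDdef]; exact sup_le (zpowers_le.mpr htM) hCM
    have hDΩ : ∀ x ∈ D, x ^ p = 1 → x ∈ ZT := by
      intro x hx hxp
      have hxL : x ∈ L := by
        rw [← hTM]; exact ⟨hΩ x (hMP (hDM hx)) hxp, hDM hx⟩
      rw [hDdef] at hx
      have hx' : x ∈ ((zpowers t ⊔ C : Subgroup X) : Set X) := hx
      rw [Subgroup.mul_normal] at hx'
      obtain ⟨g, hg, c, hc, rfl⟩ := Set.mem_mul.mp hx'
      obtain ⟨n, rfl⟩ := mem_powers_iff_mem_zpowers.mpr hg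
      have h1 : t ^ n ∈ L ⊔ C := by
        have h2 : t ^ n = (t ^ n * c) * c⁻¹ := by group
        rw [h2]
        exact (L ⊔ C).mul_mem ((le_sup_left : L ≤ L ⊔ C) hxL)
          ((L ⊔ C).inv_mem ((le_sup_right : C ≤ L ⊔ C) hc))
      have h3 : p ∣ n := dvd_of_pow_mem (L ⊔ C) t ((le_sup_right : C ≤ L ⊔ C) htpC) htLC n h1
      obtain ⟨m, rfl⟩ := h3
      have h4 : t ^ (p * m) * c ∈ C := by
        rw [pow_mul]; exact C.mul_mem (C.pow_mem htpC m) hc
      rw [← hLC]; exact ⟨hxL, h4⟩
    have hDpg : IsPGroup p D := hP.to_le (hDM.trans hMP)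
    haveI hDcyc : IsCyclic ↥D := isCyclic_of_omega_le hp2 D ZT hDpg hZTcard hDΩ
    have htD : t ∈ D := by
      rw [hDdef]; exact (le_sup_left : zpowers t ≤ zpowers t ⊔ C) (mem_zpowers t)
    have hCD : C ≤ D := by rw [hDdef]; exact le_sup_right
    have htcomm : ∀ c ∈ C, t * c = c * t := fun c hc => commute_of_isCyclic D t htD c (hCD hc)
    have htC : ∀ c ∈ C, ∃ n : ℕ, c = (t ^ p) ^ n := by
      have h1 := Cfsg.Agent.Helper1.le_total_of_isCyclic_isPGroup D hDcyc hDpg (zpowers t) C
        (zpowers_le.mpr htD) hCD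
      have h2 : C ≤ zpowers t := by
        rcases h1 with h | h
        · exact absurd (h (mem_zpowers t)) htC'
        · exact h
      intro c hc
      obtain ⟨n, rfl⟩ := mem_powers_iff_mem_zpowers.mpr (h2 hc)
      obtain ⟨m, rfl⟩ := dvd_of_pow_mem C t htpC htC' n hc
      exact ⟨m, by show t ^ (p * m) = (t ^ p) ^ m; rw [pow_mul]⟩
    -- weights: every `b ∈ A` acts on `T / L` by an exponent of square one
    have hw : ∀ b : X, ∃ e : ℕ, (∃ a ∈ L, b * y * b⁻¹ = y ^ e * a) ∧ e ^ 2 ≡ 1 [MOD p] :=
      fun b => weight_sq P ZT L T M C hP hZTL hLT hTP hMP hLM hCM hZTC hZTcard hLcard hTcard hMcard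
        hZTcent hLcomm hML hCT hLP hTexp y t hyT htM hl htl hz htpC htC htcomm b
    -- hence `A` acts trivially on `P / M`
    obtain ⟨π, hπdef⟩ : ∃ π : X →* X ⧸ M, π = QuotientGroup.mk' M := ⟨_, rfl⟩
    have hπM : ∀ m ∈ M, π m = 1 := by
      intro m hm
      rw [hπdef, QuotientGroup.mk'_apply]
      exact (QuotientGroup.eq_one_iff m).mpr hm
    have hπyp : π y ^ p = 1 := by rw [← map_pow, hTexp y hyT, map_one]
    have hAy : ∀ a ∈ A, π (a * y * a⁻¹) = π y := by
      intro a ha
      -- `a` is a square in `A`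
      have hoa : Odd (orderOf a) := Odd.of_dvd_nat hodd (Subgroup.orderOf_dvd_natCard A ha)
      obtain ⟨m, hm⟩ := hoa
      have hsq : a ^ (m + 1) * a ^ (m + 1) = a := by
        rw [← pow_add]
        have h1 : m + 1 + (m + 1) = orderOf a + 1 := by omega
        rw [h1, pow_succ, pow_orderOf_eq_one, one_mul]
      obtain ⟨e, ⟨u, hu, he⟩, hmod⟩ := hw (a ^ (m + 1))
      set b := a ^ (m + 1) with hb
      have h1 : π (b * y * b⁻¹) = π y ^ e := by
        rw [he, map_mul, map_pow, hπM u (hLM hu), mul_one]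
      have h2 : a * y * a⁻¹ = b * (b * y * b⁻¹) * b⁻¹ := by
        rw [← hsq]; group
      have h3 : π (b * (b * y * b⁻¹) * b⁻¹) = (π y ^ e) ^ e := by
        have h4 : π (b * (b * y * b⁻¹) * b⁻¹) = π b * π (b * y * b⁻¹) * (π b)⁻¹ := by
          rw [map_mul, map_mul, map_inv]
        rw [h4, h1]
        have h5 : π b * π y ^ e * (π b)⁻¹ = (π b * π y * (π b)⁻¹) ^ e := (conj_pow).symm
        rw [h5]
        have h6 : π b * π y * (π b)⁻¹ = π (b * y * b⁻¹) := by
          rw [map_mul, map_mul, map_inv]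
        rw [h6, h1]
      rw [h2, h3, ← pow_mul, ← sq]
      have h7 : e ^ 2 ≡ 1 [MOD orderOf (π y)] :=
        hmod.of_dvd (orderOf_dvd_of_pow_eq_one hπyp)
      have h8 := pow_eq_pow_iff_modEq.mpr h7
      rw [h8, pow_one]
    -- so `[P, A] ≤ M`
    have hPgen : zpowers y ⊔ M = P := by
      have hle : zpowers y ⊔ M ≤ P := sup_le (zpowers_le.mpr (hTP hyT)) hMP
      apply Subgroup.eq_of_le_of_card_ge hle
      have hyM : y ∉ M := by
        intro h
        apply hyL
        rw [← hTM]; exact ⟨hyT, h⟩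
      have hne : M ≠ zpowers y ⊔ M := by
        intro h; apply hyM; rw [h]
        exact (le_sup_left : zpowers y ≤ zpowers y ⊔ M) (mem_zpowers y)
      have h1 := mul_card_le_of_ne (hP.to_le hle) le_sup_right hne
      exact hPle.trans h1
    have hPAM : ⁅P, A⁆ ≤ M := by
      rw [Subgroup.commutator_le]
      intro x hx a ha
      rw [← hPgen] at hx
      have hx' : x ∈ ((zpowers y ⊔ M : Subgroup X) : Set X) := hx
      rw [Subgroup.mul_normal] at hx'
      obtain ⟨g, hg, m, hm, rfl⟩ := Set.mem_mul.mp hx'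
      obtain ⟨n, rfl⟩ := mem_powers_iff_mem_zpowers.mpr hg
      rw [← QuotientGroup.eq_one_iff, ← QuotientGroup.mk'_apply, ← hπdef]
      have h1 : ⁅y ^ n * m, a⁆ = (y ^ n * m) * (a * (y ^ n * m) * a⁻¹)⁻¹ := by
        rw [commutatorElement_def]; group
      have h2 : a * (y ^ n * m) * a⁻¹ = (a * y * a⁻¹) ^ n * (a * m * a⁻¹) := by
        rw [conj_pow]; group
      have h3 : π (a * (y ^ n * m) * a⁻¹) = π y ^ n := by
        rw [h2, map_mul, map_pow, hAy a ha, hπM _ (hMn.conj_mem m hm a), mul_one]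
      have h4 : π (y ^ n * m) = π y ^ n := by
        rw [map_mul, map_pow, hπM m hm, mul_one]
      rw [h1, map_mul, map_inv, h3, h4, mul_inv_cancel]
    apply hTnotM
    calc T ≤ P := hTP
      _ = ⁅P, A⁆ := hPA.symm
      _ ≤ M := hPAM

end Cfsg.Agent.Helper19.RankTwoStruct
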