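import Mathlib
import Cfsg.Agent.Helper25.QPDefs2
import Cfsg.Agent.Helper25.QPAct
import Cfsg.Agent.Helper25.UnipAlg
import Cfsg.Agent.Helper4.QPROOT
import Cfsg.Agent.Helper15.QPFIXC
import Cfsg.Agent.Helper18.QP2RS

set_option autoImplicit false

/-! Board `s5068pieces`, piece FLAG68: the flag subgroup. -/

noncomputable section

universe u v

namespace Cfsg.Agent.QP68

open Cfsg Cfsg.Agent.Helper25.QP Cfsg.Agent.Helper25.QuadPair Cfsg.Agent.QPP Cfsg.Agent.Helper25.Unip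

variable {k : Type u} [Field k] {M : Type v} [AddCommGroup M] [Module k M]

local notation "GLkM" => LinearMap.GeneralLinearGroup k M

/-- the subgroup of `GL(M)` stabilising the flag `0 ≤ I ≤ K₀ ≤ M` and acting trivially on its
factors -/
def FLAG68_aux_sub (I K₀ : Submodule k M) (hIK : I ≤ K₀) : Subgroup (LinearMap.GeneralLinearGroup k M) where
  carrier := {g | (∀ m : M, (g : M →ₗ[k] M) m - m ∈ K₀) ∧ (∀ m ∈ K₀, (g : M →ₗ[k] M) m - m ∈ I) ∧
      (∀ m ∈ I, (g : M →ₗ[k] M) m = m)}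
  one_mem' := by
    refine ⟨fun m => ?_, fun m _ => ?_, fun m _ => ?_⟩
    · simp
    · simp
    · simp
  mul_mem' := by
    rintro g h ⟨ga, gb, gc⟩ ⟨ha, hb, hc⟩
    have hval : ∀ m : M, ((g * h : LinearMap.GeneralLinearGroup k M) : M →ₗ[k] M) m
        = (g : M →ₗ[k] M) ((h : M →ₗ[k] M) m) := fun m => rfl
    refine ⟨fun m => ?_, fun m hm => ?_, fun m hm => ?_⟩
    · rw [hval]
      have : (g : M →ₗ[k] M) ((h : M →ₗ[k] M) m) - m
          = ((g : M →ₗ[k] M) ((h : M →ₗ[k] M) m) - (h : M →ₗ[k] M) m) + ((h : M →ₗ[k] M) m - m) := by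
        abel
      rw [this]
      exact K₀.add_mem (ga _) (ha m)
    · rw [hval]
      have hhm : (h : M →ₗ[k] M) m ∈ K₀ := by
        have : (h : M →ₗ[k] M) m = ((h : M →ₗ[k] M) m - m) + m := by abel
        rw [this]
        exact K₀.add_mem (hIK (hb m hm)) hm
      have : (g : M →ₗ[k] M) ((h : M →ₗ[k] M) m) - m
          = ((g : M →ₗ[k] M) ((h : M →ₗ[k] M) m) - (h : M →ₗ[k] M) m) + ((h : M →ₗ[k] M) m - m) := by
        abel
      rw [this]
      exact I.add_mem (gb _ hhm) (hb m hm)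
    · rw [hval, hc m hm, gc m hm]
  inv_mem' := by
    rintro g ⟨ga, gb, gc⟩
    have hval : ∀ m : M, (g : M →ₗ[k] M)
        (((g⁻¹ : LinearMap.GeneralLinearGroup k M) : M →ₗ[k] M) m) = m := by
      intro m
      have : ((g * g⁻¹ : LinearMap.GeneralLinearGroup k M) : M →ₗ[k] M) m = m := by
        rw [mul_inv_cancel]; rfl
      exact this
    have hval' : ∀ m : M, ((g⁻¹ : LinearMap.GeneralLinearGroup k M) : M →ₗ[k] M)
        ((g : M →ₗ[k] M) m) = m := by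
      intro m
      have : ((g⁻¹ * g : LinearMap.GeneralLinearGroup k M) : M →ₗ[k] M) m = m := by
        rw [inv_mul_cancel]; rfl
      exact this
    have key : ∀ m : M, ((g⁻¹ : LinearMap.GeneralLinearGroup k M) : M →ₗ[k] M) m - m
        = -((g : M →ₗ[k] M) (((g⁻¹ : LinearMap.GeneralLinearGroup k M) : M →ₗ[k] M) m)
            - ((g⁻¹ : LinearMap.GeneralLinearGroup k M) : M →ₗ[k] M) m) := by
      intro m
      rw [hval m]; abel
    refine ⟨fun m => ?_, fun m hm => ?_, fun m hm => ?_⟩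
    · rw [key]
      exact K₀.neg_mem (ga _)
    · have hm' : ((g⁻¹ : LinearMap.GeneralLinearGroup k M) : M →ₗ[k] M) m ∈ K₀ := by
        have : ((g⁻¹ : LinearMap.GeneralLinearGroup k M) : M →ₗ[k] M) m
            = (((g⁻¹ : LinearMap.GeneralLinearGroup k M) : M →ₗ[k] M) m - m) + m := by abel
        rw [this]
        refine K₀.add_mem ?_ hm
        rw [key]
        exact K₀.neg_mem (ga _)
      rw [key]
      exact I.neg_mem (gb _ hm')
    · have := hval' m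
      rw [gc m hm] at this
      exact this

theorem FLAG68 (I K₀ : Submodule k M) (hIK : I ≤ K₀) {E F : Subgroup GLkM}
    (hE : ∀ g ∈ E, (∀ m : M, (g : M →ₗ[k] M) m - m ∈ K₀) ∧ (∀ m ∈ K₀, (g : M →ₗ[k] M) m - m ∈ I) ∧
      (∀ m ∈ I, (g : M →ₗ[k] M) m = m))
    (hF : ∀ g ∈ F, (∀ m : M, (g : M →ₗ[k] M) m - m ∈ K₀) ∧ (∀ m ∈ K₀, (g : M →ₗ[k] M) m - m ∈ I) ∧
      (∀ m ∈ I, (g : M →ₗ[k] M) m = m)) :
    ∀ g ∈ E ⊔ F, (∀ m : M, (g : M →ₗ[k] M) m - m ∈ K₀) ∧ (∀ m ∈ K₀, (g : M →ₗ[k] M) m - m ∈ I) ∧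
      (∀ m ∈ I, (g : M →ₗ[k] M) m = m) := by
  have hle : E ⊔ F ≤ FLAG68_aux_sub I K₀ hIK :=
    sup_le (fun g hg => hE g hg) (fun g hg => hF g hg)
  intro g hg
  exact hle hg

end Cfsg.Agent.QP68

end
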