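import Mathlib
import Cfsg.Agent.Helper25.QPDefs2
import Cfsg.Agent.Helper25.QPAct
import Cfsg.Agent.Helper25.UnipAlg
import Cfsg.Agent.Helper4.QPROOT
import Cfsg.Agent.Helper15.QPFIXC
import Cfsg.Agent.Helper18.QP2RS

set_option autoImplicit false

/-! Board `s5068pieces`, piece UP: a unipotent group has nilpotent pairs. -/

noncomputable section

universe u v

namespace Cfsg.Agent.QP68

open Cfsg Cfsg.Agent.Helper25.QP Cfsg.Agent.Helper25.QuadPair Cfsg.Agent.QPP Cfsg.Agent.Helper25.Unip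

variable {k : Type u} [Field k] {M : Type v} [AddCommGroup M] [Module k M]

local notation "GLkM" => LinearMap.GeneralLinearGroup k M

theorem UP {E F : Subgroup GLkM} (hu : IsUnipotentOn (E ⊔ F)) : AllUnip E F := by
  obtain ⟨n, hn⟩ := isUnipotentOn_iff.1 hu
  intro e he f hf
  refine ⟨n, ?_⟩
  have hx : ((e : Module.End k M) - 1) ∈ aug (E ⊔ F) :=
    aug_mono le_sup_left (sub_one_mem_aug he)
  have hy : ((f : Module.End k M) - 1) ∈ aug (E ⊔ F) :=
    aug_mono le_sup_right (sub_one_mem_aug hf)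
  have hxy : ((e : Module.End k M) - 1) * ((f : Module.End k M) - 1) ∈ aug (E ⊔ F) :=
    aug_mul_le _ (Submodule.mul_mem_mul hx hy)
  have hp := Submodule.pow_mem_pow (aug (E ⊔ F)) hxy n
  rw [hn] at hp
  exact (Submodule.mem_bot k).1 hp

end Cfsg.Agent.QP68

end
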