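import Mathlib
import Cfsg.Agent.Helper25.QPSwap
import Cfsg.Agent.Helper18.SL2Ext5

set_option autoImplicit false

/-! Board `qppieces`, piece FIT: Fitting decomposition of an endomorphism. -/

noncomputable section

namespace Cfsg.Agent.QPP

open Cfsg Cfsg.Agent.Helper25.QP Cfsg.Agent.Helper25.QuadPair Polynomial

variable {k : Type*} [Field k] {M : Type*} [AddCommGroup M] [Module k M]

/-- a common stabilisation index -/
theorem FIT_aux_stab [FiniteDimensional k M] (z : Module.End k M) :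
    ∃ n : ℕ, ∀ j : ℕ, n ≤ j → F0 z = LinearMap.ker (z ^ j) ∧ F1 z = LinearMap.range (z ^ j) ∧
      IsCompl (LinearMap.ker (z ^ j)) (LinearMap.range (z ^ j)) := by
  obtain ⟨n, hn⟩ := Filter.eventually_atTop.mp
    (z.eventually_isCompl_ker_pow_range_pow.and
      (z.eventually_iInf_range_pow_eq.and z.eventually_iSup_ker_pow_eq))
  refine ⟨n, fun j hj => ?_⟩
  obtain ⟨h1, h2, h3⟩ := hn j hj
  exact ⟨h3, h2, h1⟩

theorem FIT_aux_mem_F0 (z : Module.End k M) (m : M) : m ∈ F0 z ↔ ∃ n : ℕ, (z ^ n) m = 0 := by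
  unfold F0
  have hd : Directed (· ≤ ·) (fun n : ℕ => LinearMap.ker (z ^ n)) :=
    (z.iterateKer.monotone.directed_le : Directed (· ≤ ·) (fun n : ℕ => z.iterateKer n))
  rw [Submodule.mem_iSup_of_directed _ hd]
  rfl

theorem FIT_aux_mem_F1 (z : Module.End k M) (m : M) : m ∈ F1 z ↔ ∀ n : ℕ, ∃ x : M, (z ^ n) x = m := by
  unfold F1
  rw [Submodule.mem_iInf]
  rfl

theorem FIT_compl [FiniteDimensional k M] (z : Module.End k M) : IsCompl (F0 z) (F1 z) :=
  LinearMap.isCompl_iSup_ker_pow_iInf_range_pow z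

theorem FIT_inv0 (z w : Module.End k M) (h : Commute w z) : ∀ m ∈ F0 z, w m ∈ F0 z := by
  intro m hm
  rw [FIT_aux_mem_F0] at hm ⊢
  obtain ⟨n, hn⟩ := hm
  refine ⟨n, ?_⟩
  have hc : (z ^ n) * w = w * (z ^ n) := ((h.pow_right n).eq).symm
  have : (z ^ n) (w m) = w ((z ^ n) m) := by
    rw [← Module.End.mul_apply, hc, Module.End.mul_apply]
  rw [this, hn, map_zero]

theorem FIT_inv1 (z w : Module.End k M) (h : Commute w z) : ∀ m ∈ F1 z, w m ∈ F1 z := by
  intro m hm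
  rw [FIT_aux_mem_F1] at hm ⊢
  intro n
  obtain ⟨x, hx⟩ := hm n
  refine ⟨w x, ?_⟩
  have hc : (z ^ n) * w = w * (z ^ n) := ((h.pow_right n).eq).symm
  rw [← Module.End.mul_apply, hc, Module.End.mul_apply, hx]

theorem FIT_nil [FiniteDimensional k M] (z : Module.End k M) :
    ∃ n : ℕ, ∀ m ∈ F0 z, (z ^ n) m = 0 := by
  obtain ⟨n, hn⟩ := FIT_aux_stab z
  refine ⟨n, fun m hm => ?_⟩
  rw [(hn n le_rfl).1] at hm
  exact LinearMap.mem_ker.1 hm

theorem FIT_inj [FiniteDimensional k M] (z : Module.End k M) :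
    ∀ m ∈ F1 z, z m = 0 → m = 0 := by
  intro m hm hz
  have h0 : m ∈ F0 z := (FIT_aux_mem_F0 z m).2 ⟨1, by rw [pow_one]; exact hz⟩
  have : m ∈ F0 z ⊓ F1 z := ⟨h0, hm⟩
  rw [(FIT_compl z).inf_eq_bot] at this
  exact (Submodule.mem_bot k).1 this

theorem FIT_surj [FiniteDimensional k M] (z : Module.End k M) :
    ∀ m ∈ F1 z, ∃ m' ∈ F1 z, z m' = m := by
  intro m hm
  obtain ⟨n, hn⟩ := FIT_aux_stab z
  have h1 := (hn (n + 1) (Nat.le_succ n)).2.1
  rw [h1] at hm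
  obtain ⟨x, hx⟩ := hm
  refine ⟨(z ^ n) x, ?_, ?_⟩
  · rw [(hn n le_rfl).2.1]
    exact ⟨x, rfl⟩
  · rw [← hx, pow_succ', Module.End.mul_apply]

/-- comparison: `w` commutes with `z` and is nilpotent on `F0 z` -/
theorem FIT_le [FiniteDimensional k M] (z w : Module.End k M) (h : Commute w z)
    (hn : ∃ n : ℕ, ∀ m ∈ F0 z, (w ^ n) m = 0) : F0 z ≤ F0 w ∧ F1 w ≤ F1 z := by
  obtain ⟨n, hn⟩ := hn
  have h01 : F0 z ≤ F0 w := fun m hm => (FIT_aux_mem_F0 w m).2 ⟨n, hn m hm⟩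
  refine ⟨h01, ?_⟩
  -- `z` restricted to `F1 w`
  have hinv : ∀ m ∈ F1 w, z m ∈ F1 w := FIT_inv1 w z h.symm
  have hinj : Function.Injective (z.restrict hinv) := by
    rw [← LinearMap.ker_eq_bot, LinearMap.ker_eq_bot']
    intro m hm
    have hm' : z (m : M) = 0 := by
      have := congrArg Subtype.val hm
      simpa using this
    have h0 : (m : M) ∈ F0 w := h01 ((FIT_aux_mem_F0 z m).2 ⟨1, by rw [pow_one]; exact hm'⟩)
    have : (m : M) ∈ F0 w ⊓ F1 w := ⟨h0, m.2⟩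
    rw [(FIT_compl w).inf_eq_bot] at this
    exact Subtype.ext ((Submodule.mem_bot k).1 this)
  have hsurj : Function.Surjective (z.restrict hinv) :=
    LinearMap.injective_iff_surjective.1 hinj
  have key : ∀ j : ℕ, ∀ m ∈ F1 w, ∃ m' ∈ F1 w, (z ^ j) m' = m := by
    intro j
    induction j with
    | zero =>
      intro m hm
      exact ⟨m, hm, by simp⟩
    | succ j ih =>
      intro m hm
      obtain ⟨m1, hm1⟩ := hsurj ⟨m, hm⟩
      obtain ⟨m2, hm2, hm2'⟩ := ih (m1 : M) m1.2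
      refine ⟨m2, hm2, ?_⟩
      rw [pow_succ', Module.End.mul_apply, hm2']
      have := congrArg Subtype.val hm1
      simpa using this
  intro m hm
  rw [FIT_aux_mem_F1]
  intro j
  obtain ⟨m', _, hm'⟩ := key j m hm
  exact ⟨m', hm'⟩

theorem FIT_bot [FiniteDimensional k M] (z : Module.End k M) : F1 z = ⊥ ↔ IsNilpotent z := by
  constructor
  · intro h
    obtain ⟨n, hn⟩ := FIT_aux_stab z
    have hc := FIT_compl z
    rw [h] at hc
    have htop : F0 z = ⊤ := by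
      have := hc.sup_eq_top
      rwa [sup_bot_eq] at this
    refine ⟨n, ?_⟩
    rw [(hn n le_rfl).1] at htop
    exact LinearMap.ker_eq_top.1 htop
  · rintro ⟨n, hn⟩
    rw [eq_bot_iff]
    intro m hm
    obtain ⟨x, hx⟩ := (FIT_aux_mem_F1 z m).1 hm n
    rw [hn] at hx
    rw [Submodule.mem_bot, ← hx]
    rfl

end Cfsg.Agent.QPP
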