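import Mathlib
import Cfsg.Agent.Helper25.QPDefs2
import Cfsg.Agent.Helper25.QPAct
import Cfsg.Agent.Helper18.SL2Ext5
import Cfsg.Agent.Helper23.QPTRANS
import Cfsg.Agent.Helper17.QPNONU2
import Cfsg.Agent.Helper4.QPROOT
import Cfsg.Agent.Helper12.QPNONU
import Cfsg.Agent.Helper7.QPINVOL

set_option autoImplicit false
set_option linter.unusedVariables false

/-! Board `qppieces`, piece INV65: the central involution of `⟨E(σ), E(τ)⟩` for opposite
`σ - 1`, `τ - 1`. -/

noncomputable section

universe u v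

namespace Cfsg.Agent.QPP

open Cfsg Cfsg.Agent.Helper25.QP Cfsg.Agent.Helper25.QuadPair Polynomial

variable {k : Type u} [Field k] {M : Type v} [AddCommGroup M] [Module k M]

local notation "GLkM" => LinearMap.GeneralLinearGroup k M

/-- kernel of a nonzero scalar multiple -/
theorem INV65_aux_ker (x : Module.End k M) {c : k} (hc : c ≠ 0) :
    LinearMap.ker (c • x) = LinearMap.ker x := by
  ext m
  simp only [LinearMap.mem_ker, LinearMap.smul_apply, smul_eq_zero, hc, false_or]

/-- range of a nonzero scalar multiple -/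
theorem INV65_aux_range (x : Module.End k M) {c : k} (hc : c ≠ 0) :
    LinearMap.range (c • x) = LinearMap.range x := by
  ext m
  simp only [LinearMap.mem_range, LinearMap.smul_apply]
  constructor
  · rintro ⟨y, rfl⟩
    exact ⟨c • y, by rw [map_smul]⟩
  · rintro ⟨y, rfl⟩
    refine ⟨c⁻¹ • y, ?_⟩
    rw [map_smul, smul_smul, mul_inv_cancel₀ hc, one_smul]

section s5065
variable [FiniteDimensional k M] {G : Subgroup (LinearMap.GeneralLinearGroup k M)}
  {σ τ : LinearMap.GeneralLinearGroup k M}

/-- the scalar family of `σ` lies in the root subgroup of `σ` -/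
theorem INV65_aux_uu_mem (hσ : σ ∈ minimalQuadraticElements G)
    (ha : ((σ : Module.End k M) - 1) * ((σ : Module.End k M) - 1) = 0) (c : k) :
    uu ((σ : Module.End k M) - 1) ha c ∈ sameActionSubgroup G σ := by
  by_cases hc : c = 0
  · have h1 : uu ((σ : Module.End k M) - 1) ha c = 1 := by
      apply Units.ext
      rw [val_uu, hc, zero_smul, add_zero]
      rfl
    rw [h1]
    exact Subgroup.one_mem _
  · have hq := (TRANS_Qd hσ).2.1
    have hne : (σ : Module.End k M) - 1 ≠ 0 := by
      intro h0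
      apply (ROOT_self hσ).2
      apply Units.ext
      have : (σ : Module.End k M) = 1 := sub_eq_zero.1 h0
      rw [this]
      rfl
    obtain ⟨e, he, _, hval⟩ := ROOT_of hσ (hq.smul c)
      (by
        intro h0
        rcases smul_eq_zero.1 h0 with h | h
        · exact hc h
        · exact hne h)
      (INV65_aux_ker _ hc) (INV65_aux_range _ hc)
    have : uu ((σ : Module.End k M) - 1) ha c = e := by
      apply Units.ext
      rw [val_uu, hval]
    rw [this]
    exact he

/-- the central involution of `⟨E, F⟩` -/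
theorem INV65 (hk2 : ringChar k ≠ 2) (hk3 : Nat.card k ≠ 3)
    (hσ : σ ∈ minimalQuadraticElements G) (hτ : τ ∈ minimalQuadraticElements G)
    (hO : OppPair ((σ : Module.End k M) - 1) ((τ : Module.End k M) - 1)) :
    ∃ i : GLkM, i ∈ sameActionSubgroup G σ ⊔ sameActionSubgroup G τ ∧
      (∀ m ∈ LinearMap.ker ((σ : Module.End k M) - 1) ⊓ LinearMap.ker ((τ : Module.End k M) - 1),
        (i : Module.End k M) m = m) ∧
      (∀ m ∈ LinearMap.range ((σ : Module.End k M) - 1) ⊔ LinearMap.range ((τ : Module.End k M) - 1),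
        (i : Module.End k M) m = -m) := by
  have hA := TRANS_Qd hσ
  have hB := TRANS_Qd hτ
  have hrk := TRANS_rank hσ hτ
  have hp : QPair G (commutatorRank σ) ((σ : Module.End k M) - 1) ((τ : Module.End k M) - 1) :=
    ⟨hA.1, hA.2, by rw [hrk]; exact hB.2⟩
  have hne : (σ : Module.End k M) - 1 ≠ 0 := by
    intro h0
    apply (ROOT_self hσ).2
    apply Units.ext
    have : (σ : Module.End k M) = 1 := sub_eq_zero.1 h0
    rw [this]
    rfl
  have hnu : ¬ UnipPair ((σ : Module.End k M) - 1) ((τ : Module.End k M) - 1) :=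
    NONU2 hO hp.qa.1.1 hp.qb.1.1 hne
  obtain ⟨i, hi, h0, h1⟩ := INVOL hk2 hk3 hp hnu
  obtain ⟨_, hM0, hM1⟩ := NONU hk2 hk3 hp hnu
  refine ⟨i, ?_, ?_, ?_⟩
  · have hle : Hgrp ((σ : Module.End k M) - 1) ((τ : Module.End k M) - 1) hp.qa.1.1 hp.qb.1.1
        ≤ sameActionSubgroup G σ ⊔ sameActionSubgroup G τ := by
      unfold Hgrp
      rw [Subgroup.closure_le]
      rintro g (⟨c, rfl⟩ | ⟨c, rfl⟩)
      · exact (le_sup_left : sameActionSubgroup G σ ≤ _) (INV65_aux_uu_mem hσ _ c)
      · exact (le_sup_right : sameActionSubgroup G τ ≤ _) (INV65_aux_uu_mem hτ _ c)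
    exact hle hi
  · intro m hm
    exact h0 m (hM0 ▸ hm)
  · intro m hm
    exact h1 m (hM1 ▸ hm)

end s5065

end Cfsg.Agent.QPP

end
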