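import Mathlib
import Cfsg.Agent.Helper25.QPDefs2
import Cfsg.Agent.Helper25.QPAct
import Cfsg.Agent.Helper18.SL2Ext5
import Cfsg.Agent.Helper4.QPROOT

set_option autoImplicit false
set_option linter.unusedVariables false

/-! Board `qppieces`, piece SPEC: the special condition for opposite root subgroups. -/

noncomputable section

universe u v

namespace Cfsg.Agent.QPP

open Cfsg Cfsg.Agent.Helper25.QP Cfsg.Agent.Helper25.QuadPair Polynomial

variable {k : Type u} [Field k] {M : Type v} [AddCommGroup M] [Module k M]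

local notation "GLkM" => LinearMap.GeneralLinearGroup k M

/-- pure linear algebra behind SPEC: `x² = y² = y'² = 0`, `range y' = range y`,
`range x ⊓ range y = ⊥` and `(1-y) x (1+y) = (1-x) y' (1+x)` force `xyx = x` and `yxy = y`. -/
theorem SPEC_aux_lin {x y y' : Module.End k M} (hxx : x * x = 0) (hyy : y * y = 0)
    (hr : LinearMap.range y' = LinearMap.range y)
    (hd : Disjoint (LinearMap.range x) (LinearMap.range y))
    (hK : (1 - y) * x * (1 + y) = (1 - x) * y' * (1 + x)) :
    x * y * x = x ∧ y * x * y = y := by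
  -- the basic consequence of one equation `(1-y) m = (1-x) m'`
  have basic : ∀ m ∈ LinearMap.range x, ∀ m' ∈ LinearMap.range y,
      (1 - y) m = (1 - x) m' → m' = -(y m) ∧ m = -(x m') := by
    intro m hm m' hm' h
    have h1 : m + x m' = m' + y m := by
      have h' : m - y m = m' - x m' := by
        simpa [LinearMap.sub_apply] using h
      have : m + x m' - (m' + y m) = (m - y m) - (m' - x m') := by abel
      rw [← sub_eq_zero, this, h', sub_self]
    have hL : m + x m' ∈ LinearMap.range x :=
      Submodule.add_mem _ hm ⟨m', rfl⟩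
    have hR : m + x m' ∈ LinearMap.range y := by
      rw [h1]
      exact Submodule.add_mem _ hm' ⟨m, rfl⟩
    have h0 : m + x m' = 0 := by
      have := (Submodule.disjoint_def.1 hd) _ hL hR
      exact this
    have h0' : m' + y m = 0 := by rw [← h1]; exact h0
    exact ⟨eq_neg_of_add_eq_zero_left h0', eq_neg_of_add_eq_zero_left h0⟩
  have hinv1 : (1 + y) * (1 - y) = 1 := by
    have : (1 + y) * (1 - y) = 1 - y * y := by noncomm_ring
    rw [this, hyy, sub_zero]
  have hinv2 : (1 + x) * (1 - x) = 1 := by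
    have : (1 + x) * (1 - x) = 1 - x * x := by noncomm_ring
    rw [this, hxx, sub_zero]
  -- `x y = 1` on `range x`
  have P1 : ∀ m ∈ LinearMap.range x, x (y m) = m := by
    rintro m ⟨v, rfl⟩
    set w : M := (1 - y) v with hw
    have hw1 : x ((1 + y) w) = x v := by
      have : (1 + y) w = ((1 + y) * (1 - y)) v := rfl
      rw [this, hinv1]; rfl
    set m' : M := y' ((1 + x) w) with hm'
    have hm'r : m' ∈ LinearMap.range y := by
      rw [← hr]; exact ⟨_, rfl⟩
    have hrel : (1 - y) (x v) = (1 - x) m' := by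
      have := congrArg (fun g : Module.End k M => g w) hK
      simp only [Module.End.mul_apply] at this
      rw [hw1] at this
      exact this
    obtain ⟨e1, e2⟩ := basic (x v) ⟨v, rfl⟩ m' hm'r hrel
    calc x (y (x v)) = x (-m') := by rw [e1, neg_neg]
      _ = -(x m') := by rw [map_neg]
      _ = x v := e2.symm
  -- `y x = 1` on `range y`
  have P2 : ∀ m' ∈ LinearMap.range y, y (x m') = m' := by
    intro m' hm'
    rw [← hr] at hm'
    obtain ⟨v', rfl⟩ := hm'
    set w : M := (1 - x) v' with hw
    have hw1 : y' ((1 + x) w) = y' v' := by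
      have : (1 + x) w = ((1 + x) * (1 - x)) v' := rfl
      rw [this, hinv2]; rfl
    set m : M := x ((1 + y) w) with hm
    have hmr : m ∈ LinearMap.range x := ⟨_, rfl⟩
    have hm'r : y' v' ∈ LinearMap.range y := by
      rw [← hr]; exact ⟨_, rfl⟩
    have hrel : (1 - y) m = (1 - x) (y' v') := by
      have := congrArg (fun g : Module.End k M => g w) hK
      simp only [Module.End.mul_apply] at this
      rw [hw1] at this
      exact this
    obtain ⟨e1, e2⟩ := basic m hmr (y' v') hm'r hrel
    calc y (x (y' v')) = y (-m) := by rw [e2, neg_neg]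
      _ = -(y m) := by rw [map_neg]
      _ = y' v' := e1.symm
  constructor
  · apply LinearMap.ext
    intro v
    simp only [Module.End.mul_apply]
    exact P1 (x v) ⟨v, rfl⟩
  · apply LinearMap.ext
    intro v
    simp only [Module.End.mul_apply]
    exact P2 (y v) ⟨v, rfl⟩

section s5065
variable [FiniteDimensional k M] {G : Subgroup (LinearMap.GeneralLinearGroup k M)}
  {σ τ : LinearMap.GeneralLinearGroup k M}

/-- the special condition -/
theorem SPEC (hk2 : ringChar k ≠ 2) (hk3 : Nat.card k ≠ 3)
    (hσ : σ ∈ minimalQuadraticElements G) (hτ : τ ∈ minimalQuadraticElements G)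
    (hO : OppPair ((σ : Module.End k M) - 1) ((τ : Module.End k M) - 1)) :
    ∀ e ∈ sameActionSubgroup G σ, e ≠ 1 → ∀ f ∈ sameActionSubgroup G τ, f ≠ 1 →
      conjBy (sameActionSubgroup G σ) f⁻¹ = conjBy (sameActionSubgroup G τ) e⁻¹ →
      f⁻¹ * e * f = e⁻¹ * f⁻¹ * e := by
  intro e he he1 f hf hf1 hconj
  obtain ⟨hqe, hke, hre⟩ := ROOT_Qd hσ he he1
  obtain ⟨hqf, hkf, hrf⟩ := ROOT_Qd hτ hf hf1
  have hxx : ((e : Module.End k M) - 1) * ((e : Module.End k M) - 1) = 0 := hqe.1.1
  have hyy : ((f : Module.End k M) - 1) * ((f : Module.End k M) - 1) = 0 := hqf.1.1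
  -- the element `f'`
  have hmem : f⁻¹ * e * f ∈ conjBy (sameActionSubgroup G σ) f⁻¹ := by
    refine ⟨e, he, ?_⟩
    simp
  rw [hconj] at hmem
  obtain ⟨f', hf', hf'eq⟩ := hmem
  have hf'eq' : e⁻¹ * f' * e = f⁻¹ * e * f := by
    simpa [MulAut.conj_apply] using hf'eq
  have hf'1 : f' ≠ 1 := by
    intro h1
    apply he1
    rw [h1] at hf'eq'
    have h2 : f⁻¹ * e * f = 1 := by rw [← hf'eq']; group
    have h3 : e = f * (f⁻¹ * e * f) * f⁻¹ := by group
    rw [h3, h2]; group
  obtain ⟨hqf', hkf', hrf'⟩ := ROOT_Qd hτ hf' hf'1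
  have hy'y' : ((f' : Module.End k M) - 1) * ((f' : Module.End k M) - 1) = 0 := hqf'.1.1
  set x : Module.End k M := (e : Module.End k M) - 1 with hx
  set y : Module.End k M := (f : Module.End k M) - 1 with hy
  set y' : Module.End k M := (f' : Module.End k M) - 1 with hy'
  have hev : (e : Module.End k M) = 1 + x := by rw [hx]; abel
  have hfv : (f : Module.End k M) = 1 + y := by rw [hy]; abel
  have hf'v : (f' : Module.End k M) = 1 + y' := by rw [hy']; abel
  have heinv : ((e⁻¹ : GLkM) : Module.End k M) = 1 - x := val_inv_of_sq_zero hxx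
  have hfinv : ((f⁻¹ : GLkM) : Module.End k M) = 1 - y := val_inv_of_sq_zero hyy
  -- the key identity
  have hK : (1 - y) * x * (1 + y) = (1 - x) * y' * (1 + x) := by
    have h1 := congrArg (fun g : GLkM => (g : Module.End k M)) hf'eq'
    simp only [Units.val_mul] at h1
    rw [heinv, hfinv, hev, hfv, hf'v] at h1
    have hinv1 : (1 - y) * (1 + y) = 1 := by
      have : (1 - y) * (1 + y) = 1 - y * y := by noncomm_ring
      rw [this, hyy, sub_zero]
    have hinv2 : (1 - x) * (1 + x) = 1 := by
      have : (1 - x) * (1 + x) = 1 - x * x := by noncomm_ring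
      rw [this, hxx, sub_zero]
    have e1 : (1 - y) * (1 + x) * (1 + y) = (1 - y) * (1 + y) + (1 - y) * x * (1 + y) := by
      noncomm_ring
    have e2 : (1 - x) * (1 + y') * (1 + x) = (1 - x) * (1 + x) + (1 - x) * y' * (1 + x) := by
      noncomm_ring
    rw [e1, e2, hinv1, hinv2] at h1
    exact (add_left_cancel h1).symm
  -- disjointness of the two ranges
  have hd : Disjoint (LinearMap.range x) (LinearMap.range y) := by
    rw [hre, hrf]
    have hle : LinearMap.range ((σ : Module.End k M) - 1) ≤ LinearMap.ker ((σ : Module.End k M) - 1) := by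
      rw [← hre, ← hke]
      rintro _ ⟨v, rfl⟩
      rw [LinearMap.mem_ker, ← Module.End.mul_apply, hxx]
      rfl
    exact (hO.1.disjoint).mono_left hle
  obtain ⟨hxyx, hyxy⟩ := SPEC_aux_lin hxx hyy (hrf'.trans hrf.symm) hd hK
  -- conclusion
  apply Units.ext
  simp only [Units.val_mul]
  rw [heinv, hfinv, hev, hfv]
  have hfin : (1 - y) * (1 + x) * (1 + y) - (1 - x) * (1 - y) * (1 + x)
      = x + y - y * y - y * x * y + x * x - x * y * x := by noncomm_ring
  rw [← sub_eq_zero, hfin, hxx, hyy, hxyx, hyxy]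
  abel

end s5065

end Cfsg.Agent.QPP

end
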