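import Mathlib
import Cfsg.Agent.Helper27.S0429Defs

/-!
# S0429 board, piece K33_3 (helper19, hedge): three pairwise non-adjacent vertices of an `srg(77,16,0,4)` do not have
exactly 3 common neighbours (`Q2 (3·1_T + 2·1_M + 1_{N2}) < 0`).
-/

set_option autoImplicit false

namespace Cfsg.Agent.S0429P

open Finset

variable {V : Type*} [Fintype V] [DecidableEq V] {G : SimpleGraph V} [DecidableRel G.Adj]

/-- `E` counts ordered adjacent pairs, so it is symmetric. -/
theorem K333h_E_symm (S T : Finset V) : E G S T = E G T S := by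
  have key : ∀ S T : Finset V, E G S T = ∑ v ∈ S, ∑ y ∈ T, (if G.Adj v y then (1 : ℚ) else 0) := by
    intro S T
    unfold E
    apply Finset.sum_congr rfl
    intro v _
    have h1 : G.neighborFinset v ∩ T = T.filter (fun y => G.Adj v y) := by
      ext y
      simp only [Finset.mem_inter, SimpleGraph.mem_neighborFinset, Finset.mem_filter]
      tauto
    rw [h1, Finset.card_filter, Nat.cast_sum]
    apply Finset.sum_congr rfl
    intro y _
    split_ifs <;> simp
  rw [key S T, key T S, Finset.sum_comm]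
  apply Finset.sum_congr rfl
  intro y _
  apply Finset.sum_congr rfl
  intro v _
  simp only [SimpleGraph.adj_comm]

theorem K333h_E_nonneg (S T : Finset V) : 0 ≤ E G S T := by
  unfold E
  exact Finset.sum_nonneg (fun _ _ => Nat.cast_nonneg _)

/-- two single points outside `M` inside `N(v) ∩ N2` -/
theorem K333h_two_le {v : V} {X Y M N2 : Finset V} (hX : (X \ M).card = 1) (hY : (Y \ M).card = 1)
    (hXY : X ∩ Y ⊆ M) (hXv : X ⊆ G.neighborFinset v) (hYv : Y ⊆ G.neighborFinset v)
    (hXN : X \ M ⊆ N2) (hYN : Y \ M ⊆ N2) : 2 ≤ (G.neighborFinset v ∩ N2).card := by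
  have hdisj : Disjoint (X \ M) (Y \ M) := by
    rw [Finset.disjoint_left]
    intro x hx hy
    rw [Finset.mem_sdiff] at hx hy
    exact hx.2 (hXY (Finset.mem_inter.mpr ⟨hx.1, hy.1⟩))
  have hsub : (X \ M) ∪ (Y \ M) ⊆ G.neighborFinset v ∩ N2 := by
    intro x hx
    rw [Finset.mem_union] at hx
    rw [Finset.mem_inter]
    rcases hx with hx | hx
    · exact ⟨hXv (Finset.mem_sdiff.mp hx).1, hXN hx⟩
    · exact ⟨hYv (Finset.mem_sdiff.mp hx).1, hYN hx⟩
  have := Finset.card_le_card hsub
  rw [Finset.card_union_of_disjoint hdisj, hX, hY] at this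
  exact this

theorem K33_3 (h : G.IsSRGWith 77 16 0 4) {a b c : V} (hab : a ≠ b) (hac : a ≠ c) (hbc : b ≠ c)
    (nab : ¬ G.Adj a b) (nac : ¬ G.Adj a c) (nbc : ¬ G.Adj b c) : m3 G a b c ≠ 3 := by
  intro h3
  -- the sets
  set T : Finset V := {a, b, c} with hT
  set M : Finset V := G.neighborFinset a ∩ G.neighborFinset b ∩ G.neighborFinset c with hM
  set N2 : Finset V := ((cn G a b ∪ cn G a c) ∪ cn G b c) \ M with hN2
  have hMcard : M.card = 3 := h3
  have hTcard : T.card = 3 := by
    rw [hT, Finset.card_insert_of_notMem, Finset.card_insert_of_notMem, Finset.card_singleton]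
    · simpa using hbc
    · simp only [Finset.mem_insert, Finset.mem_singleton, not_or]; exact ⟨hab, hac⟩
  have memM : ∀ x, x ∈ M ↔ G.Adj a x ∧ G.Adj b x ∧ G.Adj c x := by
    intro x
    simp only [hM, Finset.mem_inter, SimpleGraph.mem_neighborFinset]
    tauto
  have hMab : M ⊆ cn G a b := by
    intro x hx; rw [memM] at hx; exact mem_cn.mpr ⟨hx.1, hx.2.1⟩
  have hMac : M ⊆ cn G a c := by
    intro x hx; rw [memM] at hx; exact mem_cn.mpr ⟨hx.1, hx.2.2⟩
  have hMbc : M ⊆ cn G b c := by
    intro x hx; rw [memM] at hx; exact mem_cn.mpr ⟨hx.2.1, hx.2.2⟩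
  have c1 : (cn G a b \ M).card = 1 := by
    rw [Finset.card_sdiff_of_subset hMab, card_cn h hab nab, hMcard]
  have c2 : (cn G a c \ M).card = 1 := by
    rw [Finset.card_sdiff_of_subset hMac, card_cn h hac nac, hMcard]
  have c3 : (cn G b c \ M).card = 1 := by
    rw [Finset.card_sdiff_of_subset hMbc, card_cn h hbc nbc, hMcard]
  have hN2eq : N2 = (cn G a b \ M ∪ cn G a c \ M) ∪ cn G b c \ M := by
    rw [hN2, Finset.union_sdiff_distrib, Finset.union_sdiff_distrib]
  have hN2card : N2.card ≤ 3 := by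
    rw [hN2eq]
    have h1 := Finset.card_union_le (cn G a b \ M ∪ cn G a c \ M) (cn G b c \ M)
    have h2 := Finset.card_union_le (cn G a b \ M) (cn G a c \ M)
    omega
  have s1 : cn G a b \ M ⊆ N2 := by
    rw [hN2eq]; exact Finset.subset_union_left.trans Finset.subset_union_left
  have s2 : cn G a c \ M ⊆ N2 := by
    rw [hN2eq]; exact Finset.subset_union_right.trans Finset.subset_union_left
  have s3 : cn G b c \ M ⊆ N2 := by
    rw [hN2eq]; exact Finset.subset_union_right
  -- membership in `T`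
  have memT : ∀ x, x ∈ T ↔ x = a ∨ x = b ∨ x = c := by
    intro x; simp [hT]
  have irr : ∀ x : V, ¬ G.Adj x x := fun x => G.loopless.irrefl x
  -- disjointness
  have dTM : Disjoint T M := by
    rw [Finset.disjoint_left]
    intro x hxT hxM
    rw [memM] at hxM
    rcases (memT x).mp hxT with rfl | rfl | rfl
    · exact irr _ hxM.1
    · exact nab hxM.1
    · exact nac hxM.1
  have dTN : Disjoint T N2 := by
    rw [Finset.disjoint_left]
    intro x hxT hxN
    rw [hN2, Finset.mem_sdiff, Finset.mem_union, Finset.mem_union, mem_cn, mem_cn, mem_cn] at hxN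
    rcases (memT x).mp hxT with rfl | rfl | rfl
    · rcases hxN.1 with (hx | hx) | hx
      · exact irr _ hx.1
      · exact irr _ hx.1
      · exact nab hx.1.symm
    · rcases hxN.1 with (hx | hx) | hx
      · exact irr _ hx.2
      · exact nab hx.1
      · exact irr _ hx.1
    · rcases hxN.1 with (hx | hx) | hx
      · exact nac hx.1
      · exact irr _ hx.2
      · exact irr _ hx.2
  have dMN : Disjoint M N2 := by
    rw [hN2]; exact Finset.disjoint_sdiff
  -- the function
  let S : Fin 3 → Finset V := ![T, M, N2]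
  let w : Fin 3 → ℚ := ![3, 2, 1]
  have hdisj : ∀ i j, i ≠ j → Disjoint (S i) (S j) := by
    intro i j hij
    fin_cases i <;> fin_cases j <;> simp only [S] <;>
      first
        | exact absurd rfl hij
        | exact dTM | exact dTN | exact dMN
        | exact dTM.symm | exact dTN.symm | exact dMN.symm
  have hsum : ∑ v, ind S w v = 15 + (N2.card : ℚ) := by
    rw [sum_ind, Fin.sum_univ_three]
    simp only [S, w, Matrix.cons_val_zero, Matrix.cons_val_one, Matrix.cons_val_two,
      Matrix.head_cons, Matrix.tail_cons]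
    rw [hTcard, hMcard]; norm_num
  have hsq : ∑ v, ind S w v ^ 2 = 39 + (N2.card : ℚ) := by
    rw [sum_sq_ind S w hdisj, Fin.sum_univ_three]
    simp only [S, w, Matrix.cons_val_zero, Matrix.cons_val_one, Matrix.cons_val_two,
      Matrix.head_cons, Matrix.tail_cons]
    rw [hTcard, hMcard]; norm_num
  -- the edge counts
  have eTM : E G T M = 9 := by
    unfold E
    have : ∀ v ∈ T, ((G.neighborFinset v ∩ M).card : ℚ) = 3 := by
      intro v hv
      have hsub : M ⊆ G.neighborFinset v := by
        intro x hx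
        rw [memM] at hx
        rw [SimpleGraph.mem_neighborFinset]
        rcases (memT v).mp hv with rfl | rfl | rfl
        · exact hx.1
        · exact hx.2.1
        · exact hx.2.2
      rw [Finset.inter_eq_right.mpr hsub, hMcard]; norm_num
    rw [Finset.sum_congr rfl this, Finset.sum_const, hTcard]; norm_num
  have nbsub : ∀ {x y : V}, cn G x y ⊆ G.neighborFinset x := by
    intro x y z hz
    rw [SimpleGraph.mem_neighborFinset]; exact (mem_cn.mp hz).1
  have nbsub' : ∀ {x y : V}, cn G x y ⊆ G.neighborFinset y := by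
    intro x y z hz
    rw [SimpleGraph.mem_neighborFinset]; exact (mem_cn.mp hz).2
  have i1 : cn G a b ∩ cn G a c ⊆ M := by
    intro x hx
    rw [Finset.mem_inter, mem_cn, mem_cn] at hx
    exact (memM x).mpr ⟨hx.1.1, hx.1.2, hx.2.2⟩
  have i2 : cn G a b ∩ cn G b c ⊆ M := by
    intro x hx
    rw [Finset.mem_inter, mem_cn, mem_cn] at hx
    exact (memM x).mpr ⟨hx.1.1, hx.1.2, hx.2.2⟩
  have i3 : cn G a c ∩ cn G b c ⊆ M := by
    intro x hx
    rw [Finset.mem_inter, mem_cn, mem_cn] at hx
    exact (memM x).mpr ⟨hx.1.1, hx.2.1, hx.1.2⟩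
  have ka : 2 ≤ (G.neighborFinset a ∩ N2).card := K333h_two_le c1 c2 i1 nbsub nbsub s1 s2
  have kb : 2 ≤ (G.neighborFinset b ∩ N2).card := K333h_two_le c1 c3 i2 nbsub' nbsub s1 s3
  have kc : 2 ≤ (G.neighborFinset c ∩ N2).card := K333h_two_le c2 c3 i3 nbsub' nbsub' s2 s3
  have eTN : 6 ≤ E G T N2 := by
    unfold E
    rw [hT, Finset.sum_insert (by simp only [Finset.mem_insert, Finset.mem_singleton, not_or]; exact ⟨hab, hac⟩),
      Finset.sum_insert (by simpa using hbc), Finset.sum_singleton]
    have ka' : (2 : ℚ) ≤ ((G.neighborFinset a ∩ N2).card : ℚ) := by exact_mod_cast ka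
    have kb' : (2 : ℚ) ≤ ((G.neighborFinset b ∩ N2).card : ℚ) := by exact_mod_cast kb
    have kc' : (2 : ℚ) ≤ ((G.neighborFinset c ∩ N2).card : ℚ) := by exact_mod_cast kc
    linarith
  have hadj : 144 ≤ adjSum G (ind S w) := by
    rw [adjSum_ind, Fin.sum_univ_three, Fin.sum_univ_three, Fin.sum_univ_three, Fin.sum_univ_three]
    simp only [S, w, Matrix.cons_val_zero, Matrix.cons_val_one, Matrix.cons_val_two,
      Matrix.head_cons, Matrix.tail_cons]
    have n1 := K333h_E_nonneg (G := G) T T
    have n2 := K333h_E_nonneg (G := G) M M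
    have n3 := K333h_E_nonneg (G := G) M N2
    have n4 := K333h_E_nonneg (G := G) N2 M
    have n5 := K333h_E_nonneg (G := G) N2 N2
    have y1 : E G M T = E G T M := K333h_E_symm M T
    have y2 : E G N2 T = E G T N2 := K333h_E_symm N2 T
    rw [y1, y2, eTM]
    linarith
  have hQ := Q2_nonneg h (ind S w)
  unfold Q2 at hQ
  rw [hsum, hsq] at hQ
  have hn : (N2.card : ℚ) ≤ 3 := by exact_mod_cast hN2card
  have hn0 : (0 : ℚ) ≤ (N2.card : ℚ) := Nat.cast_nonneg _
  nlinarith

end Cfsg.Agent.S0429P
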