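import Mathlib
import Cfsg.Agent.Helper8.S1904Defs
import Cfsg.Agent.Helper15.S1904WCARD

/-! Board `s1904pieces`, row T5: if `A` moves `W = Ω₁(Z(X))` then `|W| = 4`, `C_W(A) = 1` and `W` has no
proper nontrivial invariant subgroup. -/

set_option autoImplicit false
set_option linter.unusedSectionVars false
set_option linter.unusedVariables false

namespace Cfsg.Agent.S1904P

/-- every automorphism maps `W` into itself -/
theorem T5_aux_WW_aut {X : Type*} [Group X] (φ : MulAut X) {w : X} (hw : w ∈ WW X) : φ w ∈ WW X := by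
  obtain ⟨hc, h2⟩ := hw
  refine ⟨?_, ?_⟩
  · rw [Subgroup.mem_center_iff] at hc ⊢
    intro g
    have h := congrArg φ (hc (φ.symm g))
    simpa using h
  · rw [← map_mul, h2, map_one]

/-- a finset of elements of a subgroup has at most `|S|` elements -/
theorem T5_aux_card_le {X : Type*} [Group X] [Finite X] [DecidableEq X] (S : Subgroup X) (T : Finset X)
    (h : ∀ t ∈ T, t ∈ S) : T.card ≤ Nat.card S := by
  have h1 : Nat.card S = (S : Set X).ncard := Nat.card_coe_set_eq (S : Set X)
  rw [h1, ← Set.ncard_coe_finset T]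
  exact Set.ncard_le_ncard (fun t ht => h t (by simpa using ht)) (Set.toFinite _)

/-- three distinct elements of a subgroup -/
theorem T5_aux_three {X : Type*} [Group X] [Finite X] (S : Subgroup X) {a b c : X}
    (ha : a ∈ S) (hb : b ∈ S) (hc : c ∈ S) (hab : a ≠ b) (hac : a ≠ c) (hbc : b ≠ c) :
    3 ≤ Nat.card S := by
  classical
  have h := T5_aux_card_le S {a, b, c} (by
    intro t ht
    simp only [Finset.mem_insert, Finset.mem_singleton] at ht
    rcases ht with rfl | rfl | rfl <;> assumption)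
  have hcard : ({a, b, c} : Finset X).card = 3 := by
    rw [Finset.card_insert_of_notMem (by simp [hab, hac]),
      Finset.card_insert_of_notMem (by simp [hbc]), Finset.card_singleton]
  omega

/-- four distinct elements of a subgroup of order four exhaust it -/
theorem T5_aux_four {X : Type*} [Group X] [Finite X] (S : Subgroup X) (h4 : Nat.card S = 4) {a b c d : X}
    (ha : a ∈ S) (hb : b ∈ S) (hc : c ∈ S) (hd : d ∈ S) (hab : a ≠ b) (hac : a ≠ c) (had : a ≠ d)
    (hbc : b ≠ c) (hbd : b ≠ d) (hcd : c ≠ d) (s : X) (hs : s ∈ S) :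
    s = a ∨ s = b ∨ s = c ∨ s = d := by
  classical
  by_contra hne
  push Not at hne
  obtain ⟨h1, h2, h3, h5⟩ := hne
  have h := T5_aux_card_le S {s, a, b, c, d} (by
    intro t ht
    simp only [Finset.mem_insert, Finset.mem_singleton] at ht
    rcases ht with rfl | rfl | rfl | rfl | rfl <;> assumption)
  have hcard : ({s, a, b, c, d} : Finset X).card = 5 := by
    rw [Finset.card_insert_of_notMem (by simp [h1, h2, h3, h5]),
      Finset.card_insert_of_notMem (by simp [hab, hac, had]),
      Finset.card_insert_of_notMem (by simp [hbc, hbd]),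
      Finset.card_insert_of_notMem (by simp [hcd]), Finset.card_singleton]
  omega

/-- an element of odd order fixing `a` with its square fixes `a` -/
theorem T5_aux_odd_fix {X : Type*} [Group X] (φ : MulAut X) (m : ℕ) (hm : φ ^ (2 * m + 1) = 1)
    (a : X) (ha : φ (φ a) = a) : φ a = a := by
  have hpow : ∀ k : ℕ, ((φ * φ) ^ k) a = a := by
    intro k
    induction k with
    | zero => simp
    | succ k ih => rw [pow_succ, MulAut.mul_apply, MulAut.mul_apply, ha, ih]
  have e : φ = (φ * φ) ^ (m + 1) := by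
    have : (φ * φ) ^ (m + 1) = φ ^ (2 * m + 1) * φ := by
      rw [← pow_two, ← pow_mul, ← pow_succ]
      congr 1
    rw [this, hm, one_mul]
  calc φ a = ((φ * φ) ^ (m + 1)) a := by rw [← e]
    _ = a := hpow _

variable {X : Type*} [Group X] [Finite X] {A : Subgroup (MulAut X)} {B : Subgroup X}

/-- elements of `A` have odd order -/
theorem T5_aux_odd (H : Hyp A) (φ : MulAut X) (hφ : φ ∈ A) : ∃ m : ℕ, φ ^ (2 * m + 1) = 1 := by
  have hfinA : Finite A := Nat.finite_of_card_ne_zero (by
    rcases H.oddA with ⟨k, hk⟩; omega)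
  have hdvd : orderOf (⟨φ, hφ⟩ : A) ∣ Nat.card A := orderOf_dvd_natCard _
  have hodd : Odd (orderOf (⟨φ, hφ⟩ : A)) := Odd.of_dvd_nat H.oddA hdvd
  obtain ⟨m, hm⟩ := hodd
  refine ⟨m, ?_⟩
  have h1 : (⟨φ, hφ⟩ : A) ^ (2 * m + 1) = 1 := by rw [← hm]; exact pow_orderOf_eq_one _
  have h2 := congrArg (Subtype.val) h1
  simpa using h2

/-- core of T5 with the value of `|W|` as a hypothesis -/
theorem T5_aux_core (H : Hyp A) (hcard : Nat.card (WW X) = 2 ∨ Nat.card (WW X) = 4)
    (hW : ¬ ∀ φ ∈ A, ∀ w ∈ WW X, φ w = w) :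
    Nat.card (WW X) = 4 ∧ (∀ w ∈ WW X, (∀ φ ∈ A, φ w = w) → w = 1) ∧
      ∀ K : Subgroup X, K ≤ WW X → Inv A K → K = ⊥ ∨ K = WW X := by
  classical
  -- |W| = 4
  have h4 : Nat.card (WW X) = 4 := by
    rcases hcard with h2 | h4
    · exfalso
      apply hW
      intro φ hφ w hw
      by_contra hne
      have hw1 : w ≠ 1 := by
        rintro rfl
        exact hne (map_one φ)
      have hφw1 : φ w ≠ 1 := by
        intro h
        apply hw1
        have : φ w = φ 1 := by rw [h, map_one]
        exact φ.injective this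
      have := T5_aux_three (WW X) (one_mem _) hw (T5_aux_WW_aut φ hw) (Ne.symm hw1) (Ne.symm hφw1)
        (Ne.symm hne)
      omega
    · exact h4
  -- C_W(A) = 1
  have hfix : ∀ w ∈ WW X, (∀ φ ∈ A, φ w = w) → w = 1 := by
    intro w hw hwfix
    by_contra hw1
    apply hW
    intro φ hφ a ha
    obtain ⟨m, hm⟩ := T5_aux_odd H φ hφ
    apply T5_aux_odd_fix φ m hm
    by_cases ha1 : a = 1
    · subst ha1; simp
    by_cases haw : a = w
    · subst haw; rw [hwfix φ hφ, hwfix φ hφ]
    by_cases hba : φ a = a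
    · rw [hba, hba]
    have hb : φ a ∈ WW X := T5_aux_WW_aut φ ha
    have hb1 : φ a ≠ 1 := by
      intro h
      apply ha1
      have : φ a = φ 1 := by rw [h, map_one]
      exact φ.injective this
    have hbw : φ a ≠ w := by
      intro h
      apply haw
      have : φ a = φ w := by rw [h, hwfix φ hφ]
      exact φ.injective this
    have hc : φ (φ a) ∈ WW X := T5_aux_WW_aut φ hb
    rcases T5_aux_four (WW X) h4 (one_mem _) hw ha hb (Ne.symm hw1) (Ne.symm ha1) (Ne.symm hb1)
      (Ne.symm haw) (Ne.symm hbw) (Ne.symm hba) (φ (φ a)) hc with h | h | h | h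
    · exfalso
      apply hb1
      have : φ (φ a) = φ 1 := by rw [h, map_one]
      exact φ.injective this
    · exfalso
      apply hbw
      have : φ (φ a) = φ w := by rw [h, hwfix φ hφ]
      exact φ.injective this
    · exact h
    · exfalso
      exact hba (φ.injective h)
  refine ⟨h4, hfix, ?_⟩
  -- invariant subgroups
  intro K hKW hIK
  rcases Subgroup.bot_or_exists_ne_one K with hbot | ⟨k, hkK, hk1⟩
  · exact Or.inl hbot
  right
  have hnot : ¬ ∀ φ ∈ A, φ k = k := fun h => hk1 (hfix k (hKW hkK) h)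
  push Not at hnot
  obtain ⟨φ, hφ, hφk⟩ := hnot
  have hφk1 : φ k ≠ 1 := by
    intro h
    apply hk1
    have : φ k = φ 1 := by rw [h, map_one]
    exact φ.injective this
  have h3 : 3 ≤ Nat.card K :=
    T5_aux_three K (one_mem _) hkK (hIK φ hφ k hkK) (Ne.symm hk1) (Ne.symm hφk1) (Ne.symm hφk)
  have hdvd : Nat.card K ∣ Nat.card (WW X) := Subgroup.card_dvd_of_le hKW
  rw [h4] at hdvd
  have hle : Nat.card K ≤ 4 := Nat.le_of_dvd (by norm_num) hdvd
  have hK4 : Nat.card K = 4 := by
    interval_cases h : Nat.card K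
    · omega
    · rfl
  exact Subgroup.eq_of_le_of_card_ge hKW (by rw [h4, hK4])

/-- T5: if `A` does not fix `W` pointwise then `|W| = 4`, `C_W(A) = 1` and `W` has no proper invariant subgroup. -/
theorem T5 (H : Hyp A) (hW : ¬ ∀ φ ∈ A, ∀ w ∈ WW X, φ w = w) :
    Nat.card (WW X) = 4 ∧ (∀ w ∈ WW X, (∀ φ ∈ A, φ w = w) → w = 1) ∧
      ∀ K : Subgroup X, K ≤ WW X → Inv A K → K = ⊥ ∨ K = WW X :=
  T5_aux_core H (WCARD H) hW

end Cfsg.Agent.S1904P
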