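import Cfsg.Agent.Helper28.S2258Defs
import Cfsg.Agent.Helper18.Dickson45

/-! S2258 piece A4L (helper19): two lemmas on pairs of elements of `A₄`, by `decide`. -/

set_option autoImplicit false

namespace Cfsg.Agent.S2258P

open Cfsg.Agent.Helper18.Dickson

namespace A4L

set_option maxRecDepth 100000 in
theorem a4_invol_aux : ∀ a b : alternatingGroup (Fin 4), a ^ 2 = 1 →
    a * b = b * a ∨ (b ^ 3 = 1 ∧ (a * b) ^ 3 = 1) := by
  decide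

set_option maxRecDepth 100000 in
theorem a4_three_aux : ∀ a b : alternatingGroup (Fin 4), a ^ 3 = 1 → a ≠ 1 →
    (b = 1 ∨ b = a ∨ b = a ^ 2) ∨ (b ^ 2 = 1 ∧ (a * b) ^ 3 = 1) ∨
      (b ^ 3 = 1 ∧ (a⁻¹ * b) ^ 2 = 1) ∨ (b ^ 3 = 1 ∧ (a * b) ^ 2 = 1) := by
  decide

end A4L

/-- A4L (S, `decide`). -/
theorem a4_invol (a b : alternatingGroup (Fin 4)) (ha : a ^ 2 = 1) :
    a * b = b * a ∨ (b ^ 3 = 1 ∧ (a * b) ^ 3 = 1) :=
  A4L.a4_invol_aux a b ha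

/-- A4L (S, `decide`). -/
theorem a4_three (a b : alternatingGroup (Fin 4)) (ha : a ^ 3 = 1) (ha1 : a ≠ 1) :
    b ∈ Subgroup.zpowers a ∨ (b ^ 2 = 1 ∧ (a * b) ^ 3 = 1) ∨ (b ^ 3 = 1 ∧ (a⁻¹ * b) ^ 2 = 1) ∨
      (b ^ 3 = 1 ∧ (a * b) ^ 2 = 1) := by
  rcases A4L.a4_three_aux a b ha ha1 with h | h
  · left
    rcases h with rfl | rfl | rfl
    · exact Subgroup.one_mem _
    · exact Subgroup.mem_zpowers _
    · exact Subgroup.pow_mem _ (Subgroup.mem_zpowers _) 2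
  · exact Or.inr h

end Cfsg.Agent.S2258P
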