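import Mathlib
import Cfsg.Agent.Helper13.S2276Defs

set_option autoImplicit false
set_option linter.unusedSectionVars false
set_option linter.unusedVariables false

/-! # S2276 piece GLUEGOOD (helper19)

`glue` is the injective homomorphism `gl : Perm (Fin a) × Perm (Fin b) →* Perm (Fin (a + b))`.  If
`glue (x*y) (x'*y')` were a `p`-element, so would be `x * y` (first projection).  The closure of
`{glue x x', glue y y'}` is the image under `gl` of the closure `C` of `{(x, x'), (y, y')}`; if it were solvable,
so would be `C` (`gl` injective) and its image `closure {x, y}` under the first projection. -/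

namespace Cfsg.Agent.S2276P

open Equiv Equiv.Perm

namespace GLUEGOOD

/-- `glue` as a monoid homomorphism from the product -/
def gl (a b : ℕ) : Perm (Fin a) × Perm (Fin b) →* Perm (Fin (a + b)) :=
  (finSumFinEquiv.permCongrHom.toMonoidHom).comp (Equiv.Perm.sumCongrHom (Fin a) (Fin b))

theorem gl_apply {a b : ℕ} (z : Perm (Fin a) × Perm (Fin b)) : gl a b z = glue z.1 z.2 := rfl

theorem gl_injective (a b : ℕ) : Function.Injective (gl a b) := by
  unfold gl
  rw [MonoidHom.coe_comp]
  exact (finSumFinEquiv.permCongrHom.injective).comp Equiv.Perm.sumCongrHom_injective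

theorem glue_mul {a b : ℕ} (x x' : Perm (Fin a)) (y y' : Perm (Fin b)) :
    glue x y * glue x' y' = glue (x * x') (y * y') := by
  have := map_mul (gl a b) (x, y) (x', y')
  rw [gl_apply, gl_apply, gl_apply] at this
  exact this.symm

end GLUEGOOD

/-- GLUEGOOD [M]: `Good` on the first block gives `Good` for the glued pair: the order of
`glue (x*y) (x'*y')` is the lcm of the two orders (or: its power `p ^ k` is `1` so `(x*y) ^ p^k = 1`,
`orderOf_dvd_of_pow_eq_one`, `Nat.dvd_prime_pow`); the closure maps onto `closure {x, y}` by the first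
projection of `Perm (Fin a) × Perm (Fin b)` (`glue` = injective hom from the product; solvability
passes to quotients/images: `solvable_of_surjective`, `solvable_of_solvable_injective`). -/
theorem GLUEGOOD.main {a b : ℕ} {p : ℕ} (hp : p.Prime) {x y : Perm (Fin a)} (x' y' : Perm (Fin b))
    (h : Good p x y) : Good p (glue x x') (glue y y') := by
  obtain ⟨h1, h2⟩ := h
  refine ⟨?_, ?_⟩
  · rintro ⟨k, hk⟩
    apply h1
    rw [GLUEGOOD.glue_mul] at hk
    have e1 : (GLUEGOOD.gl a b (x * y, x' * y')) ^ (p ^ k) = 1 := by
      rw [GLUEGOOD.gl_apply, ← hk]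
      exact pow_orderOf_eq_one _
    rw [← map_pow, ← map_one (GLUEGOOD.gl a b)] at e1
    have e2 := GLUEGOOD.gl_injective a b e1
    have e3 : (x * y) ^ (p ^ k) = 1 := by
      have := congrArg Prod.fst e2
      simpa using this
    have e4 : orderOf (x * y) ∣ p ^ k := orderOf_dvd_of_pow_eq_one e3
    obtain ⟨j, _, hj⟩ := (Nat.dvd_prime_pow hp).mp e4
    exact ⟨j, hj⟩
  · intro hsol
    apply h2
    set C : Subgroup (Perm (Fin a) × Perm (Fin b)) :=
      Subgroup.closure ({(x, x'), (y, y')} : Set (Perm (Fin a) × Perm (Fin b))) with hC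
    have hmap : C.map (GLUEGOOD.gl a b) =
        Subgroup.closure ({glue x x', glue y y'} : Set (Perm (Fin (a + b)))) := by
      rw [hC, MonoidHom.map_closure]
      congr 1
      rw [Set.image_pair]
      rfl
    have hfst : C.map (MonoidHom.fst (Perm (Fin a)) (Perm (Fin b))) =
        Subgroup.closure ({x, y} : Set (Perm (Fin a))) := by
      rw [hC, MonoidHom.map_closure]
      congr 1
      rw [Set.image_pair]
      rfl
    -- `C` is solvable
    haveI hs1 : Group.IsSolvable (C.map (GLUEGOOD.gl a b)) := by rw [hmap]; exact hsol
    haveI hs2 : Group.IsSolvable C :=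
      Group.isSolvable_of_isSolvable_injective
        (f := (GLUEGOOD.gl a b).subgroupMap C)
        (by
          intro u w huw
          have := congrArg Subtype.val huw
          exact Subtype.ext (GLUEGOOD.gl_injective a b this))
    have hs3 : Group.IsSolvable (C.map (MonoidHom.fst (Perm (Fin a)) (Perm (Fin b)))) :=
      Group.isSolvable_of_surjective
        (f := (MonoidHom.fst (Perm (Fin a)) (Perm (Fin b))).subgroupMap C)
        (MonoidHom.subgroupMap_surjective _ _)
    rwa [hfst] at hs3

end Cfsg.Agent.S2276P
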