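import Mathlib
import Cfsg.Agent.Helper29.S2264Defs

/-! S2264 / S2265, piece RECIP1: basic API of the normalized reciprocal polynomial `recip`. -/

set_option autoImplicit false

namespace Cfsg.Agent.S2264P

open Polynomial
open scoped Classical

noncomputable section

variable {F : Type*} [Field F]

namespace RECIP1

theorem natTrailingDegree_eq_zero_of_coeff {f : F[X]} (h0 : f.coeff 0 ≠ 0) :
    f.natTrailingDegree = 0 :=
  Polynomial.natTrailingDegree_eq_zero.mpr (Or.inr h0)

theorem reverse_natDegree_of_coeff {f : F[X]} (h0 : f.coeff 0 ≠ 0) :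
    f.reverse.natDegree = f.natDegree := by
  rw [reverse_natDegree, natTrailingDegree_eq_zero_of_coeff h0, Nat.sub_zero]

theorem reverse_reverse_of_coeff {f : F[X]} (h0 : f.coeff 0 ≠ 0) : f.reverse.reverse = f := by
  ext n
  rw [coeff_reverse, coeff_reverse, reverse_natDegree_of_coeff h0, revAt_invol]

end RECIP1

open RECIP1

theorem recip_one : recip (1 : F[X]) = 1 := by
  unfold recip
  have h1 : (1 : F[X]).reverse = 1 := by rw [← C_1, reverse_C]
  rw [coeff_one_zero, inv_one, C_1, one_mul, h1]

theorem recip_mul (f g : F[X]) : recip (f * g) = recip f * recip g := by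
  unfold recip
  rw [mul_coeff_zero, reverse_mul_of_domain, mul_inv, C_mul]
  ring

theorem recip_pow (f : F[X]) (k : ℕ) : recip (f ^ k) = recip f ^ k := by
  induction k with
  | zero => rw [pow_zero, pow_zero, recip_one]
  | succ k ih => rw [pow_succ, pow_succ, recip_mul, ih]

theorem recip_monic {f : F[X]} (h0 : f.coeff 0 ≠ 0) : (recip f).Monic := by
  unfold recip Monic
  rw [leadingCoeff_mul, leadingCoeff_C, reverse_leadingCoeff, trailingCoeff,
    natTrailingDegree_eq_zero_of_coeff h0, inv_mul_cancel₀ h0]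

theorem natDegree_recip {f : F[X]} (h0 : f.coeff 0 ≠ 0) : (recip f).natDegree = f.natDegree := by
  unfold recip
  rw [natDegree_C_mul (inv_ne_zero h0), reverse_natDegree_of_coeff h0]

theorem coeff_zero_recip {f : F[X]} (hm : f.Monic) : (recip f).coeff 0 = (f.coeff 0)⁻¹ := by
  unfold recip
  rw [coeff_C_mul, coeff_zero_reverse, hm.leadingCoeff, mul_one]

theorem recip_recip {f : F[X]} (hm : f.Monic) (h0 : f.coeff 0 ≠ 0) : recip (recip f) = f := by
  have h1 : (recip f).coeff 0 = (f.coeff 0)⁻¹ := coeff_zero_recip hm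
  have h2 : (recip f).reverse = C (f.coeff 0)⁻¹ * f := by
    unfold recip
    rw [reverse_mul_of_domain, reverse_C, reverse_reverse_of_coeff h0]
  show C ((recip f).coeff 0)⁻¹ * (recip f).reverse = f
  rw [h1, h2, inv_inv, ← mul_assoc, ← C_mul, mul_inv_cancel₀ h0, C_1, one_mul]

theorem recip_X_sub_C {a : F} (ha : a ≠ 0) : recip (X - C a) = X - C a⁻¹ := by
  have hrev : (X - C a : F[X]).reverse = 1 - C a * X := by
    ext n
    rw [coeff_reverse, natDegree_X_sub_C]
    rcases n with _ | _ | n
    · have h1 : revAt 1 0 = 1 := by rw [revAt_le (by omega)]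
      rw [h1]
      simp [coeff_X, coeff_one, coeff_C]
    · have h1 : revAt 1 (0 + 1) = 0 := by rw [revAt_le (by omega)]
      rw [h1]
      simp [coeff_X, coeff_one, coeff_C]
    · have h1 : revAt 1 (n + 1 + 1) = n + 1 + 1 := by
        rw [revAt_eq_self_of_lt (by omega)]
      rw [h1]
      simp [coeff_X, coeff_one]
  unfold recip
  rw [hrev]
  have h0 : (X - C a : F[X]).coeff 0 = -a := by simp
  rw [h0, mul_sub, mul_one, ← mul_assoc, ← C_mul, inv_neg, neg_mul, inv_mul_cancel₀ ha]
  simp only [map_neg, C_1, neg_mul, one_mul, sub_neg_eq_add]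
  ring

end

end Cfsg.Agent.S2264P
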