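import Mathlib
import Cfsg.Prelude.Def_Classical
import Cfsg.Agent.Helper8.MatBNDefs
import Cfsg.Agent.Helper8.S2546Defs
import Cfsg.Agent.Helper21.S2549Defs

set_option autoImplicit false
open scoped Matrix

/-!
# S2549 piece ENTRY (helper19): the entries of `rho`

`rho g = reindex (PMinv * g.map inc * PM)` with `PM = fromBlocks 1 0 0 P2`, `PMinv = fromBlocks 1 0 0 P2inv`,
so in block form `rho g = [[A, B * P2], [P2inv * C, P2inv * D * P2]]`.
-/

namespace Cfsg.Agent.S2549P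

open Cfsg.Agent.MatBN

variable {F : Type*} [Field F] {a b : F} {K : Type*} [Field K]

namespace ENTRY

/-- `rho` as an entry of the conjugated matrix -/
theorem rho_apply (E : QExt F a b K) (m : ℕ) (g : OG m F a b) (r c : Fin (2 * m + 2)) :
    rho E m g r c =
      (PMinv E m * (((g : Matrix.GeneralLinearGroup (Idx m) F) : Matrix (Idx m) (Idx m) F).map E.inc) *
        PM E m) (idx m r) (idx m c) := rfl

/-- the conjugated matrix in block form -/
theorem conj_blocks (E : QExt F a b K) (m : ℕ) (G : Matrix (Idx m) (Idx m) K) :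
    PMinv E m * G * PM E m =
      Matrix.fromBlocks G.toBlocks₁₁ (G.toBlocks₁₂ * P2 E) (P2inv E * G.toBlocks₂₁)
        (P2inv E * G.toBlocks₂₂ * P2 E) := by
  conv_lhs => rw [← Matrix.fromBlocks_toBlocks G]
  unfold PMinv PM
  rw [Matrix.fromBlocks_multiply, Matrix.fromBlocks_multiply]
  simp

theorem idx_outside (m : ℕ) (r : Fin (2 * m + 2)) (hr : ¬ (m ≤ r.val ∧ r.val ≤ m + 1)) :
    ∃ i : Fin m ⊕ Fin m, idx m r = .inl i := by
  unfold idx
  by_cases h : r.val < m
  · rw [dif_pos h]; exact ⟨_, rfl⟩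
  · rw [dif_neg h]
    have h' : ¬ r.val < m + 2 := by omega
    rw [dif_neg h']; exact ⟨_, rfl⟩

theorem P2inv_apply (E : QExt F a b K) (k : Fin 2) :
    P2inv E k 0 = 1 ∧ P2inv E k 1 = (if k = 0 then E.θ else E.σ E.θ) := by
  unfold P2inv
  fin_cases k <;> simp

theorem P2_apply (E : QExt F a b K) (k : Fin 2) :
    P2 E 0 k = (E.θ - E.σ E.θ)⁻¹ * (if k = 0 then -(E.σ E.θ) else E.θ) ∧
    P2 E 1 k = (E.θ - E.σ E.θ)⁻¹ * (if k = 0 then 1 else -1) := by
  unfold P2
  fin_cases k <;> simp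

end ENTRY

open ENTRY

/-- both positions outside the middle -/
theorem rho_apply_oo (E : QExt F a b K) (m : ℕ) (g : OG m F a b) (r c : Fin (2 * m + 2))
    (hr : ¬ (m ≤ r.val ∧ r.val ≤ m + 1)) (hc : ¬ (m ≤ c.val ∧ c.val ≤ m + 1)) :
    rho E m g r c =
      E.inc (((g : Matrix.GeneralLinearGroup (Idx m) F) : Matrix (Idx m) (Idx m) F) (idx m r) (idx m c)) := by
  obtain ⟨i, hi⟩ := idx_outside m r hr
  obtain ⟨j, hj⟩ := idx_outside m c hc
  rw [rho_apply, conj_blocks, hi, hj]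
  simp [Matrix.toBlocks₁₁]

/-- row in the middle (`k = 0`: row `m`, `k = 1`: row `m+1`), column outside -/
theorem rho_apply_mo (E : QExt F a b K) (m : ℕ) (g : OG m F a b) (k : Fin 2) (c : Fin (2 * m + 2))
    (hc : ¬ (m ≤ c.val ∧ c.val ≤ m + 1)) :
    rho E m g (pos m (.inr k)) c =
      E.inc (((g : Matrix.GeneralLinearGroup (Idx m) F) : Matrix (Idx m) (Idx m) F) (.inr 0) (idx m c))
        + (if k = 0 then E.θ else E.σ E.θ) *
          E.inc (((g : Matrix.GeneralLinearGroup (Idx m) F) : Matrix (Idx m) (Idx m) F) (.inr 1) (idx m c)) := by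
  obtain ⟨j, hj⟩ := idx_outside m c hc
  rw [rho_apply, conj_blocks, idx_pos, hj]
  rw [Matrix.fromBlocks_apply₂₁, Matrix.mul_apply, Fin.sum_univ_two, (P2inv_apply E k).1,
    (P2inv_apply E k).2]
  simp [Matrix.toBlocks₂₁]

/-- row outside, column in the middle -/
theorem rho_apply_om (E : QExt F a b K) (m : ℕ) (g : OG m F a b) (r : Fin (2 * m + 2)) (k : Fin 2)
    (hr : ¬ (m ≤ r.val ∧ r.val ≤ m + 1)) :
    rho E m g r (pos m (.inr k)) =
      (E.θ - E.σ E.θ)⁻¹ *
        ((if k = 0 then -(E.σ E.θ) else E.θ) *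
          E.inc (((g : Matrix.GeneralLinearGroup (Idx m) F) : Matrix (Idx m) (Idx m) F) (idx m r) (.inr 0))
        + (if k = 0 then 1 else -1) *
          E.inc (((g : Matrix.GeneralLinearGroup (Idx m) F) : Matrix (Idx m) (Idx m) F) (idx m r) (.inr 1))) := by
  obtain ⟨i, hi⟩ := idx_outside m r hr
  rw [rho_apply, conj_blocks, idx_pos, hi]
  rw [Matrix.fromBlocks_apply₁₂, Matrix.mul_apply, Fin.sum_univ_two, (P2_apply E k).1,
    (P2_apply E k).2]
  simp only [Matrix.toBlocks₁₂, Matrix.of_apply, Matrix.map_apply]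
  ring

/-- the middle block -/
theorem rho_apply_mm (E : QExt F a b K) (m : ℕ) (g : OG m F a b) (k l : Fin 2) :
    rho E m g (pos m (.inr k)) (pos m (.inr l)) =
      (P2inv E * (Matrix.of fun i j : Fin 2 =>
        E.inc (((g : Matrix.GeneralLinearGroup (Idx m) F) : Matrix (Idx m) (Idx m) F) (.inr i) (.inr j))) *
        P2 E) k l := by
  rw [rho_apply, conj_blocks, idx_pos, idx_pos, Matrix.fromBlocks_apply₂₂]
  rfl

end Cfsg.Agent.S2549P
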