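import Cfsg.Agent.Helper27.S2834Defs

/-!
# S2834 (L-Lemma), piece S12: steps (S1) and (S2) of the blueprint

(S1) `A` cannot be normal in two conjugates of `T` with different fixed points.
(S2) normalizers grow in the `p`-group `T'`: an admissible datum exists.
-/

set_option autoImplicit false
set_option linter.unusedVariables false

namespace Cfsg.Agent.S2834P

open Cfsg

universe u v

variable {H : Type u} [Group H] {Ω : Type v} [MulAction H Ω] {p : ℕ} [Fact p.Prime]

omit [Fact p.Prime] in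
/-- membership in the conjugate `g • T` -/
theorem S12_aux_mem_smul (g : H) (T : Sylow p H) (x : H) :
    x ∈ ((g • T : Sylow p H) : Subgroup H) ↔ g⁻¹ * x * g ∈ (T : Subgroup H) := by
  rw [Sylow.coe_subgroup_smul, Subgroup.mem_pointwise_smul_iff_inv_smul_mem]
  simp [MulAut.smul_def]

/-- (S1) `A` cannot be normal in two Sylow subgroups with different fixed points. -/
theorem S1 {T : Sylow p H} {w : Ω} (hT : IsCT T w) {A : Subgroup H} (hmv : Moves A w) {g g' : H}
    (hne : g • w ≠ g' • w) (hg : A ≤ ((g • T : Sylow p H) : Subgroup H))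
    (hg' : A ≤ ((g' • T : Sylow p H) : Subgroup H))
    (hn : ((g • T : Sylow p H) : Subgroup H) ≤ Subgroup.normalizer (A : Set H)) :
    ¬ ((g' • T : Sylow p H) : Subgroup H) ≤ Subgroup.normalizer (A : Set H) := by
  intro hn'
  obtain ⟨-, hTw, hTonly, hTmax⟩ := hT
  by_cases htop : Subgroup.normalizer (A : Set H) = ⊤
  · -- `A` is normal in `H`, so it fixes the whole orbit
    obtain ⟨a, ha, h, hah⟩ := hmv
    apply hah
    -- `k = h g⁻¹`
    have hk : (h * g⁻¹)⁻¹ ∈ Subgroup.normalizer (A : Set H) := by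
      rw [htop]
      trivial
    have ha' : (h * g⁻¹)⁻¹ * a * (h * g⁻¹)⁻¹⁻¹ ∈ A := (Subgroup.mem_normalizer_iff.1 hk a).1 ha
    have h1 : g⁻¹ * ((h * g⁻¹)⁻¹ * a * (h * g⁻¹)⁻¹⁻¹) * g ∈ (T : Subgroup H) :=
      (S12_aux_mem_smul g T _).1 (hg ha')
    have h2 := hTw _ h1
    have h3 : g⁻¹ * ((h * g⁻¹)⁻¹ * a * (h * g⁻¹)⁻¹⁻¹) * g = h⁻¹ * a * h := by group
    rw [h3, mul_smul, mul_smul, inv_smul_eq_iff] at h2
    exact h2
  · -- `N(A)` is proper, so it fixes `g • w`; hence `g' • T` fixes `g • w`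
    have hX : ∀ x ∈ (Subgroup.normalizer (A : Set H)).map (MulAut.conj g⁻¹).toMonoidHom,
        x • w = w := by
      apply hTmax
      · intro t ht
        refine ⟨g * t * g⁻¹, hn ((S12_aux_mem_smul g T _).2 ?_), ?_⟩
        · have : g⁻¹ * (g * t * g⁻¹) * g = t := by group
          rw [this]
          exact ht
        · simp [mul_assoc]
      · intro hXtop
        apply htop
        rw [eq_top_iff]
        intro x _
        have hx : g⁻¹ * x * g ∈
            (Subgroup.normalizer (A : Set H)).map (MulAut.conj g⁻¹).toMonoidHom := by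
          rw [hXtop]
          trivial
        obtain ⟨n, hnN, hnx⟩ := hx
        have hnx' : g⁻¹ * n * g⁻¹⁻¹ = g⁻¹ * x * g := hnx
        have : n = x := by
          have h5 : n = g * (g⁻¹ * n * g⁻¹⁻¹) * g⁻¹ := by group
          rw [h5, hnx']
          group
        rw [← this]
        exact hnN
    apply hne
    have hfix : ∀ t ∈ (T : Subgroup H), t • (g'⁻¹ * g) • w = (g'⁻¹ * g) • w := by
      intro t ht
      have h1 : g' * t * g'⁻¹ ∈ ((g' • T : Sylow p H) : Subgroup H) := by
        rw [S12_aux_mem_smul]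
        have : g'⁻¹ * (g' * t * g'⁻¹) * g' = t := by group
        rw [this]
        exact ht
      have h2 : g⁻¹ * (g' * t * g'⁻¹) * g ∈
          (Subgroup.normalizer (A : Set H)).map (MulAut.conj g⁻¹).toMonoidHom :=
        ⟨g' * t * g'⁻¹, hn' h1, by simp [mul_assoc]⟩
      have h3 := hX _ h2
      have h4 : g⁻¹ * (g' * t * g'⁻¹) * g = (g'⁻¹ * g)⁻¹ * t * (g'⁻¹ * g) := by group
      rw [h4, mul_smul, mul_smul, inv_smul_eq_iff] at h3
      exact h3
    have h5 := hTonly (g'⁻¹ * g) hfix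
    rw [mul_smul, inv_smul_eq_iff] at h5
    exact h5

/-- normalizer condition in a finite `p`-group -/
theorem S12_aux_exists_normalizer [Finite H] {S N : Subgroup H} (hS : IsPGroup p ↥S) (hNS : N ≤ S)
    (hne : N ≠ S) : ∃ t ∈ S, t ∈ Subgroup.normalizer (N : Set H) ∧ t ∉ N := by
  have hlt : N.subgroupOf S < ⊤ := by
    rw [lt_top_iff_ne_top]
    intro htop
    apply hne
    apply le_antisymm hNS
    intro x hx
    have : (⟨x, hx⟩ : S) ∈ N.subgroupOf S := by rw [htop]; trivial
    exact Subgroup.mem_subgroupOf.1 this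
  have : Group.IsNilpotent S := hS.isNilpotent
  have hnc := Group.normalizerCondition_of_isNilpotent (G := S) (N.subgroupOf S) hlt
  obtain ⟨x, hxN, hxT⟩ := SetLike.exists_of_lt hnc
  refine ⟨x, x.2, ?_, fun h => hxT (Subgroup.mem_subgroupOf.2 h)⟩
  rw [Subgroup.mem_normalizer_iff]
  intro g
  rw [Subgroup.mem_normalizer_iff] at hxN
  constructor
  · intro hg
    exact Subgroup.mem_subgroupOf.1 ((hxN ⟨g, hNS hg⟩).1 (Subgroup.mem_subgroupOf.2 hg))
  · intro hg
    have hgS : g ∈ S := by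
      have h1 : (x : H) * g * (x : H)⁻¹ ∈ S := hNS hg
      have h2 : g = (x : H)⁻¹ * ((x : H) * g * (x : H)⁻¹) * (x : H) := by group
      rw [h2]
      exact S.mul_mem (S.mul_mem (S.inv_mem x.2) h1) x.2
    exact Subgroup.mem_subgroupOf.1 ((hxN ⟨g, hgS⟩).2 (Subgroup.mem_subgroupOf.2 hg))

/-- (S2) normalizers grow in the `p`-group `T'`. -/
theorem S2 [Finite H] {T' : Sylow p H} {A : Subgroup H} (hA : A ≤ (T' : Subgroup H))
    (hn : ¬ (T' : Subgroup H) ≤ Subgroup.normalizer (A : Set H)) : ∃ y : H, Adm A T' y := by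
  have hN1ne : (T' : Subgroup H) ⊓ Subgroup.normalizer (A : Set H) ≠ (T' : Subgroup H) := by
    intro heq
    apply hn
    rw [← heq]
    exact inf_le_right
  obtain ⟨y, hyT, hyN, hyN1⟩ := S12_aux_exists_normalizer T'.isPGroup' inf_le_left hN1ne
  have hAN1 : A ≤ (T' : Subgroup H) ⊓ Subgroup.normalizer (A : Set H) :=
    le_inf hA Subgroup.le_normalizer
  have hmapN1 : ((T' : Subgroup H) ⊓ Subgroup.normalizer (A : Set H)).map
      (MulAut.conj y).toMonoidHom = (T' : Subgroup H) ⊓ Subgroup.normalizer (A : Set H) :=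
    Subgroup.mem_normalizer_iff_map_conj_eq.1 hyN
  refine ⟨y, hA, hyT, ?_, ?_, ?_⟩
  · intro heq
    apply hyN1
    exact ⟨hyT, Subgroup.mem_normalizer_iff_map_conj_eq.2 heq⟩
  · rw [← hmapN1]
    exact Subgroup.map_mono hAN1
  · refine hAN1.trans ?_
    rw [← hmapN1]
    exact (Subgroup.map_mono inf_le_right).trans (Subgroup.le_normalizer_map _)

end Cfsg.Agent.S2834P
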