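import Mathlib
import Cfsg.Agent.Helper12.S2999Basic

/-!
# S2999 board, piece QUADg, core (helper19): the conjugates of a quadratic `A` are quadratic.
`QUADg` itself is `QUADg_aux S (QUAD S) hg` (module `Cfsg.Agent.Helper19.S2999QUADg`).
-/

set_option autoImplicit false

namespace Cfsg.Agent.S2999P

open Cfsg.Agent.S2789P
open scoped commutatorElement

variable {G : Type*} [Group G] [Finite G] {p : ℕ} [Fact p.Prime] {V P Mg Tg R A : Subgroup G}

omit [Finite G] [Fact (Nat.Prime p)] in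
/-- QUADg from QUAD: conjugate `⁅V, A⁆ ≤ C_V(A)` by `g ∈ P`. -/
theorem QUADg_aux (S : Setup p V P Mg Tg R A) (hQ : ⁅V, A⁆ ≤ fixV V A) {g : G} (hg : g ∈ P) :
    ⁅V, cjs g A⁆ ≤ fixV V (cjs g A) := by
  have h1 : cjs g ⁅V, A⁆ ≤ cjs g (fixV V A) := cj_mono hQ
  rw [cj_comm, S.cjV hg, ← S.cjfix A hg] at h1
  exact h1

end Cfsg.Agent.S2999P
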