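import Mathlib
import Cfsg.Agent.Helper12.S2999Basic
import Cfsg.Agent.Helper6.S2999QUAD
import Cfsg.Agent.Helper19.S2999QUADgAux

/-!
# S2999 board, piece QUADg (helper19): the conjugates of `A` are quadratic on `V`.
-/

set_option autoImplicit false

namespace Cfsg.Agent.S2999P

open Cfsg.Agent.S2789P
open scoped commutatorElement

variable {G : Type*} [Group G] [Finite G] {p : ℕ} [Fact p.Prime] {V P Mg Tg R A : Subgroup G}

/-- QUADg (S): conjugate QUAD (`cj_comm`, `S.cjV`, `S.cjfix`). -/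
theorem QUADg (S : Setup p V P Mg Tg R A) {g : G} (hg : g ∈ P) : ⁅V, cjs g A⁆ ≤ fixV V (cjs g A) :=
  QUADg_aux S (QUAD S) hg

end Cfsg.Agent.S2999P
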