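import Mathlib
import Cfsg.Agent.Helper28.S3000Defs
import Cfsg.Agent.Lead.CoprimeAbelian

/-! s3000pieces COPR: coprime action on an abelian subgroup (wrapper over `Lead.coprime_abelian_decomp`). -/

set_option autoImplicit false

namespace Cfsg.Agent.S3000P

open Cfsg.Agent.S2789P Cfsg.Agent.S2999P Cfsg.Agent.S3000P
open scoped commutatorElement

variable {G : Type*} [Group G] [Finite G]

/-- COPR (M): coprime action on an abelian subgroup: `X = [X,H] × C_X(H)`. -/
theorem COPR {X H : Subgroup G} (hX : ∀ x ∈ X, ∀ y ∈ X, x * y = y * x) (hn : ∀ h ∈ H, cjs h X = X)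
    (hcop : (Nat.card ↥H).Coprime (Nat.card ↥X)) : ⁅X, H⁆ ⊔ fixV X H = X ∧ ⁅X, H⁆ ⊓ fixV X H = ⊥ := by
  have : IsMulCommutative ↥X := ⟨⟨fun a b => Subtype.ext (hX a.1 a.2 b.1 b.2)⟩⟩
  have hHX : H ≤ Subgroup.normalizer (X : Set G) := by
    intro h hh
    rw [Subgroup.mem_normalizer_iff]
    intro x
    have h1 : cjs h X = X := hn h hh
    constructor
    · intro hx
      rw [← h1]
      exact ⟨x, hx, rfl⟩
    · intro hx
      rw [← h1] at hx
      obtain ⟨y, hy, hyx⟩ := hx
      have : y = x := by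
        have : h * y * h⁻¹ = h * x * h⁻¹ := hyx
        simpa using this
      exact this ▸ hy
  obtain ⟨h1, h2⟩ := Cfsg.Agent.Lead.coprime_abelian_decomp H X hHX hcop
  refine ⟨?_, ?_⟩
  · rw [sup_comm]; exact h2
  · rw [inf_comm]; exact h1

end Cfsg.Agent.S3000P
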