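import Mathlib
import Cfsg.Agent.Helper28.S3000Defs

/-! Board `s3000pieces`, piece BASIC: `EXQ` (a least order `q` of strict offenders exists), `QGE2` (`2 ≤ q`),
`InA.conj` (the set `𝒜` is invariant under conjugation by `P`). -/

set_option autoImplicit false
set_option linter.unusedSectionVars false

namespace Cfsg.Agent.S3000P

open Cfsg.Agent.S2789P Cfsg.Agent.S2999P
open scoped commutatorElement

variable {G : Type*} [Group G] [Finite G] {p : ℕ} [Fact p.Prime] {V P : Subgroup G} {T : Sylow p ↥P} {M : Subgroup ↥P} {q : ℕ}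

/-- EXQ (S) -/
theorem EXQ (h : ∃ A : Subgroup G, A ≤ P ∧ StrictOff p V A) : ∃ q, MinQ p V P q := by
  classical
  have hex : ∃ n : ℕ, ∃ A : Subgroup G, A ≤ P ∧ StrictOff p V A ∧ Nat.card ↥A = n := by
    obtain ⟨A, hAP, hA⟩ := h
    exact ⟨Nat.card ↥A, A, hAP, hA, rfl⟩
  refine ⟨Nat.find hex, Nat.find_spec hex, ?_⟩
  intro D hDP hD
  exact Nat.find_min' hex ⟨D, hDP, hD, rfl⟩

/-- QGE2 (S) -/
theorem QGE2 (hq : MinQ p V P q) : 2 ≤ q := by
  obtain ⟨⟨A, _, hA, hc⟩, _⟩ := hq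
  rw [← hc]
  have hne : Nontrivial ↥A := (Subgroup.nontrivial_iff_ne_bot A).2 hA.ne
  exact Finite.one_lt_card

/-- INAconj (S) -/
theorem InA.conj (Hy : Hyp p V P T M) {A : Subgroup G} (hA : InA p V P q A) {x : G} (hx : x ∈ P) :
    InA p V P q (cjs x A) := by
  refine ⟨cj_le_of_mem hx hA.le, hA.so.conj (Hy.hPV hx), ?_⟩
  rw [cj_card]
  exact hA.card

end Cfsg.Agent.S3000P
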