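import Cfsg.Agent.Helper11.S3786Defs

/-! Board `s3786pieces`, row Y_norm: `w⁻¹`, `z`, `z⁻¹` normalise `B`. -/

set_option autoImplicit false
set_option linter.unusedSectionVars false
set_option linter.unusedVariables false

namespace Cfsg.Agent.S3786P

open Subgroup

universe u

/-- powers of an element mapping `B` into itself by conjugation do so too -/
theorem Y_norm_aux_pow {Γ : Type*} [Group Γ] (B : Subgroup Γ) (u : Γ) (h : ∀ b ∈ B, u * b * u⁻¹ ∈ B) (k : ℕ) :
    ∀ b ∈ B, u ^ k * b * (u ^ k)⁻¹ ∈ B := by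
  induction k with
  | zero => intro b hb; simpa using hb
  | succ k ih =>
    intro b hb
    have h1 := ih _ (h b hb)
    have e : u ^ (k + 1) * b * (u ^ (k + 1))⁻¹ = u ^ k * (u * b * u⁻¹) * (u ^ k)⁻¹ := by
      rw [pow_succ]; group
    rw [e]; exact h1

section Y

variable {p : ℕ} [Fact p.Prime] {Γ : Type*} [Group Γ] {M : Type*} [AddCommGroup M] [DistribMulAction Γ M] {Z : Type*}
  [AddCommGroup Z] {B : Subgroup Γ} {w z : Γ} {N : ℕ} {β : M → M → Z}

/-- `z` normalises `B` (it is a power of `w`), and so does `w⁻¹` (`B` is finite). -/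
theorem Y_norm (S : YSet p B w z N β) [Finite ↥B] :
    (∀ b ∈ B, w⁻¹ * b * w ∈ B) ∧ (∀ b ∈ B, z * b * z⁻¹ ∈ B) ∧ (∀ b ∈ B, z⁻¹ * b * z ∈ B) := by
  have hN2 := S.N2
  obtain ⟨i, hi⟩ := S.zw 1 (by omega) (by omega)
  rw [pow_one] at hi
  have hwinv : w ^ (N - 1) = w⁻¹ := by
    apply eq_inv_of_mul_eq_one_left
    rw [← pow_succ]
    have : N - 1 + 1 = N := by omega
    rw [this, S.wN]
  have h1 : ∀ b ∈ B, w⁻¹ * b * w ∈ B := by
    intro b hb
    have := Y_norm_aux_pow B w S.wB (N - 1) b hb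
    rw [hwinv, inv_inv] at this
    exact this
  have h1' : ∀ b ∈ B, w⁻¹ * b * w⁻¹⁻¹ ∈ B := by
    intro b hb
    rw [inv_inv]; exact h1 b hb
  refine ⟨h1, ?_, ?_⟩
  · intro b hb
    rw [hi]
    exact Y_norm_aux_pow B w S.wB i b hb
  · intro b hb
    have := Y_norm_aux_pow B w⁻¹ h1' i b hb
    rw [inv_pow, inv_inv] at this
    rw [hi]
    exact this

end Y

end Cfsg.Agent.S3786P
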