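import Cfsg.Agent.Helper19.S3786Yctrivcore
import Cfsg.Agent.Helper20.S3786Y_avg

/-! Board `s3786pieces`, row Y_c_triv (wrapper of `Y_c_triv_aux_core` with row Y_D_zero). -/

set_option autoImplicit false
set_option linter.unusedSectionVars false
set_option linter.unusedVariables false

namespace Cfsg.Agent.S3786P

open Subgroup

universe u

section Y

variable {p : ℕ} [Fact p.Prime] {Γ : Type*} [Group Γ] {M : Type*} [AddCommGroup M] [DistribMulAction Γ M] {Z : Type*}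
  [AddCommGroup Z] {B : Subgroup Γ} {w z : Γ} {N : ℕ} {β : M → M → Z}

/-- Y4. If `c = [z,b]` commutes with `z` then `c` is trivial on `L`. -/
theorem Y_c_triv (S : YSet p B w z N β) [Fintype ↥B] (Y₁ : Subgroup Γ) [Fintype ↥Y₁] (hY₁B : Y₁ ≤ B)
    (hYk : ∀ k, 0 < k → k < N → ∀ y ∈ Y₁, ∃ b ∈ B, y = (w ^ k)⁻¹ * b * w ^ k * b⁻¹)
    (hY₁z : ∀ y ∈ Y₁, z * y = y * z)
    {b : Γ} (hb : b ∈ B) (hc : z * (z * b * z⁻¹ * b⁻¹) = (z * b * z⁻¹ * b⁻¹) * z)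
    (m : M) (hm : ∑ y : ↥Y₁, (y : Γ) • m = 0) : (z * b * z⁻¹ * b⁻¹) • m = m :=
  Y_c_triv_aux_core S Y₁ hY₁B hY₁z hb hc (fun m' hm' => Y_D_zero S Y₁ hYk m' hm' hb) m hm

end Y

end Cfsg.Agent.S3786P
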