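import Mathlib
import Cfsg.Agent.Helper26.S3911Defs

/-! Board `s3911pieces`, piece ML3. -/

set_option autoImplicit false

namespace Cfsg.Agent.S3911P

open scoped commutatorElement

/-- ML3 (S/M): if `Ab` is abelian, commutators of `A₀` lie in `A₀ ∩ M`. -/
theorem ML3 {G : Type*} [Group G] (M : Subgroup G) [M.Normal] (Ab : Subgroup (G ⧸ M))
    (A₀ : Subgroup G) (h : A₀.map (QuotientGroup.mk' M) = Ab) (hAb : IsMulCommutative ↥Ab) :
    commutator ↥A₀ ≤ (A₀ ⊓ M).subgroupOf A₀ := by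
  rw [commutator_def, Subgroup.commutator_le]
  intro a _ b _
  rw [Subgroup.mem_subgroupOf]
  refine Subgroup.mem_inf.2 ⟨SetLike.coe_mem _, ?_⟩
  have ha : QuotientGroup.mk' M (a : G) ∈ Ab := by
    rw [← h]; exact Subgroup.mem_map_of_mem _ a.2
  have hb : QuotientGroup.mk' M (b : G) ∈ Ab := by
    rw [← h]; exact Subgroup.mem_map_of_mem _ b.2
  have hcomm : QuotientGroup.mk' M (a : G) * QuotientGroup.mk' M (b : G)
      = QuotientGroup.mk' M (b : G) * QuotientGroup.mk' M (a : G) := by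
    have := hAb.is_comm.comm (⟨_, ha⟩ : Ab) ⟨_, hb⟩
    exact congrArg Subtype.val this
  have hval : ((⁅a, b⁆ : ↥A₀) : G) = (a : G) * (b : G) * (a : G)⁻¹ * (b : G)⁻¹ := by
    rw [commutatorElement_def]; rfl
  rw [hval, ← QuotientGroup.eq_one_iff, ← QuotientGroup.mk'_apply]
  rw [map_mul, map_mul, map_mul, map_inv, map_inv, hcomm]
  group

end Cfsg.Agent.S3911P
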