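import Mathlib
import Cfsg.Agent.Helper26.S3911Defs
import Cfsg.Agent.Helper10.S3911ML8b
import Cfsg.Agent.Helper27.S3911ML8a

/-!
# S3912 board, piece C2d (helper19): the order of a minimal lift when `|N| = 2` and `N` contains all
involutions.
-/

set_option autoImplicit false

namespace Cfsg.Agent.S3912P

open Cfsg.Agent.S3911P

/-- C2d (M): the order of a minimal lift (`|N| = 2`, `N` contains all involutions). -/
theorem C2d {G : Type*} [Group G] [Finite G] (N : Subgroup G) [N.Normal] (hN : Nat.card ↥N = 2)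
    (hinv : ∀ t : G, orderOf t = 2 → t ∈ N)
    (Ab : Subgroup (G ⧸ N)) (A₀ : Subgroup G) (h : MinLift N Ab A₀) (hnil : Group.IsNilpotent ↥A₀) :
    Nat.card ↥A₀ = Nat.card ↥Ab * (if 2 ∣ Nat.card ↥Ab then 2 else 1) := by
  have h8b := ML8b N Ab A₀ h.1
  have hdvdN : Nat.card ↥(A₀ ⊓ N) ∣ 2 := by
    rw [← hN]; exact Subgroup.card_dvd_of_le inf_le_right
  have hdvdA : Nat.card ↥(A₀ ⊓ N) ∣ Nat.card ↥A₀ := Subgroup.card_dvd_of_le inf_le_left
  have hcases : Nat.card ↥(A₀ ⊓ N) = 1 ∨ Nat.card ↥(A₀ ⊓ N) = 2 :=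
    (Nat.dvd_prime Nat.prime_two).mp hdvdN
  by_cases h2 : 2 ∣ Nat.card ↥Ab
  · rw [if_pos h2]
    have h2A : 2 ∣ Nat.card ↥A₀ := by
      rw [h8b]; exact Dvd.dvd.mul_right h2 _
    have : Fact (Nat.Prime 2) := ⟨Nat.prime_two⟩
    obtain ⟨t, ht⟩ := exists_prime_orderOf_dvd_card' (G := ↥A₀) 2 h2A
    have ht' : orderOf (t : G) = 2 := by rw [Subgroup.orderOf_coe]; exact ht
    have htN : (t : G) ∈ N := hinv _ ht'
    have hne : Nat.card ↥(A₀ ⊓ N) ≠ 1 := by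
      intro hone
      have hbot : A₀ ⊓ N = ⊥ := Subgroup.card_eq_one.mp hone
      have hmem : (t : G) ∈ A₀ ⊓ N := ⟨t.2, htN⟩
      rw [hbot, Subgroup.mem_bot] at hmem
      rw [hmem, orderOf_one] at ht'
      omega
    rcases hcases with h1 | h1
    · exact absurd h1 hne
    · rw [h8b, h1]
  · rw [if_neg h2]
    have : Fact (Nat.Prime 2) := ⟨Nat.prime_two⟩
    have h2A : ¬ 2 ∣ Nat.card ↥A₀ := fun hd => h2 (ML8a N Ab A₀ h hnil 2 hd)
    rcases hcases with h1 | h1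
    · rw [h8b, h1]
    · exfalso; apply h2A; rw [← h1]; exact hdvdA

end Cfsg.Agent.S3912P
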