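import Mathlib
import Cfsg.Agent.Helper26.S3911Defs

/-!
# S3912 board, piece TR (helper19): the B-property is invariant under isomorphism.
-/

set_option autoImplicit false

namespace Cfsg.Agent.S3912P

open Cfsg.Agent.S3911P

/-- TR (S): the B-property is invariant under isomorphism. -/
theorem TR {G H : Type*} [Group G] [Group H] (e : G ≃* H) (h : BProp G) : BProp H := by
  intro A B hA hB hcard
  -- pull back along `e`
  have hinj : Function.Injective e.symm.toMonoidHom := e.symm.injective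
  have hA' : IsMulCommutative ↥(A.map e.symm.toMonoidHom) := by
    refine ⟨⟨?_⟩⟩
    rintro ⟨x, hx⟩ ⟨y, hy⟩
    obtain ⟨a, ha, rfl⟩ := Subgroup.mem_map.mp hx
    obtain ⟨b, hb, rfl⟩ := Subgroup.mem_map.mp hy
    apply Subtype.ext
    change e.symm.toMonoidHom a * e.symm.toMonoidHom b = e.symm.toMonoidHom b * e.symm.toMonoidHom a
    rw [← map_mul, ← map_mul]
    have := hA.is_comm.comm ⟨a, ha⟩ ⟨b, hb⟩
    have h2 : a * b = b * a := congrArg Subtype.val this
    rw [h2]
  have hB' : IsMulCommutative ↥(B.map e.symm.toMonoidHom) := by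
    refine ⟨⟨?_⟩⟩
    rintro ⟨x, hx⟩ ⟨y, hy⟩
    obtain ⟨a, ha, rfl⟩ := Subgroup.mem_map.mp hx
    obtain ⟨b, hb, rfl⟩ := Subgroup.mem_map.mp hy
    apply Subtype.ext
    change e.symm.toMonoidHom a * e.symm.toMonoidHom b = e.symm.toMonoidHom b * e.symm.toMonoidHom a
    rw [← map_mul, ← map_mul]
    have := hB.is_comm.comm ⟨a, ha⟩ ⟨b, hb⟩
    have h2 : a * b = b * a := congrArg Subtype.val this
    rw [h2]
  have hc : Nat.card ↥(A.map e.symm.toMonoidHom) = Nat.card ↥(B.map e.symm.toMonoidHom) := by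
    rw [Nat.card_congr (A.equivMapOfInjective _ hinj).symm.toEquiv,
      Nat.card_congr (B.equivMapOfInjective _ hinj).symm.toEquiv]
    exact hcard
  obtain ⟨g, hg⟩ := h _ _ hA' hB' hc
  refine ⟨e g, ?_⟩
  ext y
  constructor
  · intro hy
    have h1 : e.symm y ∈ B.map e.symm.toMonoidHom := Subgroup.mem_map.mpr ⟨y, hy, rfl⟩
    rw [hg] at h1
    obtain ⟨x, hx, hxy⟩ := Subgroup.mem_map.mp h1
    obtain ⟨a, ha, rfl⟩ := Subgroup.mem_map.mp hx
    refine Subgroup.mem_map.mpr ⟨a, ha, ?_⟩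
    have h3 : g * e.symm a * g⁻¹ = e.symm y := hxy
    change e g * a * (e g)⁻¹ = y
    have h4 := congrArg e h3
    simpa using h4
  · intro hy
    obtain ⟨a, ha, rfl⟩ := Subgroup.mem_map.mp hy
    have h1 : g * e.symm a * g⁻¹ ∈ (A.map e.symm.toMonoidHom).map (MulAut.conj g).toMonoidHom :=
      Subgroup.mem_map.mpr ⟨e.symm a, Subgroup.mem_map.mpr ⟨a, ha, rfl⟩, rfl⟩
    rw [← hg] at h1
    obtain ⟨b, hb, hbe⟩ := Subgroup.mem_map.mp h1
    have h3 : e.symm b = g * e.symm a * g⁻¹ := hbe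
    have h4 := congrArg e h3
    have h5 : b = e g * a * (e g)⁻¹ := by simpa using h4
    change e g * a * (e g)⁻¹ ∈ B
    rw [← h5]; exact hb

end Cfsg.Agent.S3912P
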