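import Mathlib
import Cfsg.Prelude.Def_Transfer
import Cfsg.Prelude.Def_Solvable
import Cfsg.Agent.Helper11.S4409Defs
import Cfsg.Agent.Helper9.S4415Defs

/-! s4415pieces MOD2 (Maschke / coprime action): `E = C_E(Y) ⊕ [E,Y]` for a subgroup `Y` of order prime to `3`
(`π = |Y|⁻¹ ∑_{y ∈ Y} ρ y` is a projection onto `C_E(Y)` with kernel `[E,Y]`). -/

set_option autoImplicit false
set_option linter.unusedVariables false
set_option linter.unusedSectionVars false

namespace Cfsg.Agent.S4415P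

open Subgroup
open Cfsg.Agent.S4409P (Zc Fr Der IsV4 IsQ8 SpecialInt IsAb)

variable {S : Type*} [Group S] [Finite S] {E : Type*} [AddCommGroup E] [Module (ZMod 3) E] [Finite E]

omit [Finite S] [Finite E] in
theorem Mod2_aux_apply_mul (ρ : Representation (ZMod 3) S E) (g h : S) (v : E) : ρ (g * h) v = ρ g (ρ h v) := by
  rw [map_mul]; rfl

/-- MOD2 (Maschke / coprime action): `E = C_E(Y) ⊕ [E,Y]` for a subgroup `Y` of order prime to `3`
(`π = |Y|⁻¹ ∑_{y ∈ Y} ρ y` is a projection onto `C_E(Y)` with kernel `[E,Y]`). -/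
theorem ce_comE_compl (ρ : Representation (ZMod 3) S E) (Y : Subgroup S) (hY : (Nat.card ↥Y).Coprime 3) :
    CE ρ Y ⊓ ComE ρ Y = ⊥ ∧ CE ρ Y ⊔ ComE ρ Y = ⊤ := by
  classical
  let _ : Fintype ↥Y := Fintype.ofFinite _
  have hn0 : ((Nat.card ↥Y : ℕ) : ZMod 3) ≠ 0 := by
    intro h0
    rw [ZMod.natCast_eq_zero_iff] at h0
    have h1 : 3 ∣ Nat.gcd (Nat.card ↥Y) 3 := Nat.dvd_gcd h0 dvd_rfl
    rw [hY] at h1
    omega
  set c : ZMod 3 := ((Nat.card ↥Y : ℕ) : ZMod 3)⁻¹ with hc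
  have hcn : c * ((Nat.card ↥Y : ℕ) : ZMod 3) = 1 := inv_mul_cancel₀ hn0
  -- the averaging operator
  let π : E → E := fun v => c • ∑ y : ↥Y, ρ (y : S) v
  have hcard : Fintype.card ↥Y = Nat.card ↥Y := (Nat.card_eq_fintype_card).symm
  -- `c • (n • v) = v`
  have hcv : ∀ v : E, c • ∑ _y : ↥Y, v = v := by
    intro v
    rw [Finset.sum_const, Finset.card_univ, hcard, ← Nat.cast_smul_eq_nsmul (ZMod 3), smul_smul, hcn, one_smul]
  -- (a) `π v ∈ C_E(Y)`
  have ha : ∀ v, π v ∈ CE ρ Y := by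
    intro v z hz
    show ρ z (c • ∑ y : ↥Y, ρ (y : S) v) = c • ∑ y : ↥Y, ρ (y : S) v
    rw [map_smul, map_sum]
    congr 1
    have e1 : ∀ y : ↥Y, ρ z (ρ (y : S) v) = ρ (((⟨z, hz⟩ : ↥Y) * y : ↥Y) : S) v := by
      intro y
      rw [Subgroup.coe_mul, Mod2_aux_apply_mul]
    rw [Finset.sum_congr rfl (fun y _ => e1 y)]
    exact Equiv.sum_comp (Equiv.mulLeft (⟨z, hz⟩ : ↥Y)) (fun y : ↥Y => ρ (y : S) v)
  -- (b) `v - π v ∈ [E,Y]`
  have hb : ∀ v, v - π v ∈ ComE ρ Y := by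
    intro v
    have e : v - π v = c • ∑ y : ↥Y, (v - ρ (y : S) v) := by
      show v - c • ∑ y : ↥Y, ρ (y : S) v = _
      rw [Finset.sum_sub_distrib, smul_sub, hcv]
    rw [e]
    refine Submodule.smul_mem _ _ (Submodule.sum_mem _ ?_)
    intro y' _
    have h3 := sub_mem_ComE ρ y'.property v
    have e2 : v - ρ (y' : S) v = -(ρ (y' : S) v - v) := by abel
    rw [e2]
    exact Submodule.neg_mem _ h3
  -- (c) `π v = v` on `C_E(Y)`
  have hcfix : ∀ v ∈ CE ρ Y, π v = v := by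
    intro v hv
    show c • ∑ y : ↥Y, ρ (y : S) v = v
    rw [Finset.sum_congr rfl (fun (y : ↥Y) _ => hv (y : S) y.2)]
    exact hcv v
  -- `π` is additive and homogeneous
  have hadd : ∀ u v, π (u + v) = π u + π v := by
    intro u v
    show c • ∑ y : ↥Y, ρ (y : S) (u + v) = c • ∑ y : ↥Y, ρ (y : S) u + c • ∑ y : ↥Y, ρ (y : S) v
    rw [← smul_add, ← Finset.sum_add_distrib]
    congr 1
    exact Finset.sum_congr rfl (fun y _ => map_add _ _ _)
  have hsmul : ∀ (a : ZMod 3) v, π (a • v) = a • π v := by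
    intro a v
    show c • ∑ y : ↥Y, ρ (y : S) (a • v) = a • (c • ∑ y : ↥Y, ρ (y : S) v)
    have e : ∑ y : ↥Y, ρ (y : S) (a • v) = a • ∑ y : ↥Y, ρ (y : S) v := by
      rw [Finset.smul_sum]
      exact Finset.sum_congr rfl (fun y _ => map_smul _ _ _)
    rw [e, smul_comm]
  -- (d) `π` kills `[E,Y]`
  have hd : ∀ w ∈ ComE ρ Y, π w = 0 := by
    intro w hw
    unfold ComE at hw
    induction hw using Submodule.span_induction with
    | mem x hx =>
      obtain ⟨y, hy, v, rfl⟩ := hx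
      show c • ∑ z : ↥Y, ρ (z : S) (ρ y v - v) = 0
      have e1 : ∀ z : ↥Y, ρ (z : S) (ρ y v - v) = ρ ((z * (⟨y, hy⟩ : ↥Y) : ↥Y) : S) v - ρ (z : S) v := by
        intro z
        rw [map_sub, Subgroup.coe_mul, Mod2_aux_apply_mul]
      have e3 : ∑ x : ↥Y, ρ ((x * (⟨y, hy⟩ : ↥Y) : ↥Y) : S) v = ∑ x : ↥Y, ρ (x : S) v :=
        Equiv.sum_comp (Equiv.mulRight (⟨y, hy⟩ : ↥Y)) (fun z : ↥Y => ρ (z : S) v)
      rw [Finset.sum_congr rfl (fun z _ => e1 z), Finset.sum_sub_distrib, e3, sub_self, smul_zero]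
    | zero =>
      show c • ∑ z : ↥Y, ρ (z : S) 0 = 0
      simp
    | add u v _ _ hu hv => rw [hadd, hu, hv, add_zero]
    | smul a u _ hu => rw [hsmul, hu, smul_zero]
  constructor
  · rw [eq_bot_iff]
    intro v hv
    obtain ⟨h1, h2⟩ := Submodule.mem_inf.1 hv
    rw [Submodule.mem_bot, ← hcfix v h1]
    exact hd v h2
  · rw [eq_top_iff]
    intro v _
    have e : v = π v + (v - π v) := by abel
    rw [e]
    exact Submodule.add_mem_sup (ha v) (hb v)

end Cfsg.Agent.S4415P
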