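import Cfsg.Agent.Helper1.S5639Lib

set_option autoImplicit false

/-! # S5639 piece EXPERP (helper19): fewer than `n` rational vectors are killed by a common non-zero rational
covector. -/

namespace Cfsg.Agent.S5639P

open Matrix
open Cfsg.Agent.Helper28.SLMax Cfsg.Agent.Helper28.SimMax

variable {F : Type*} [Field F] {n : ℕ}

local notation "GLn" => Matrix.GeneralLinearGroup (Fin n) F
local notation "Mat" => Matrix (Fin n) (Fin n) F

/-- EXPERP: fewer than `n` rational vectors are killed by a common non-zero rational covector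
(rank-nullity over `↥F₀`). -/
theorem EXPERP.exists_rat_perp (F₀ : Subfield F) (l : List (Fin n → F)) (hl : ∀ x ∈ l, Rat F₀ x)
    (hlen : l.length < n) :
    ∃ χ : Fin n → F, Rat F₀ χ ∧ χ ≠ 0 ∧ ∀ x ∈ l, χ ⬝ᵥ x = 0 := by
  classical
  let A : Matrix (Fin l.length) (Fin n) F₀ :=
    Matrix.of fun k i => ⟨l.get k i, hl _ (List.get_mem l k) i⟩
  have hker : LinearMap.ker (Matrix.mulVecLin A) ≠ ⊥ := by
    apply LinearMap.ker_ne_bot_of_finrank_lt
    rw [Module.finrank_fin_fun, Module.finrank_fin_fun]
    exact hlen
  obtain ⟨χK, hχK, hne⟩ := Submodule.exists_mem_ne_zero_of_ne_bot hker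
  refine ⟨fun i => (χK i : F), fun i => (χK i).2, ?_, ?_⟩
  · intro h0
    apply hne
    funext i
    have := congrFun h0 i
    exact Subtype.ext this
  · intro x hx
    obtain ⟨k, rfl⟩ := List.get_of_mem hx
    have h1 : (A.mulVec χK) k = 0 := by
      have := LinearMap.mem_ker.mp hχK
      rw [Matrix.mulVecLin_apply] at this
      exact congrFun this k
    have h2 := congrArg (Subtype.val) h1
    simp only [Matrix.mulVec, dotProduct, A, Matrix.of_apply, AddSubmonoidClass.coe_finset_sum,
      MulMemClass.coe_mul, ZeroMemClass.coe_zero] at h2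
    rw [dotProduct, ← h2]
    apply Finset.sum_congr rfl
    intro i _
    rw [mul_comm]

end Cfsg.Agent.S5639P
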