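import Cfsg.Agent.Helper1.S5639Lib
import Cfsg.Agent.Helper19.S5639EXPERP

set_option autoImplicit false

/-! # S5639 piece TWOPERP (helper19): two independent rational covectors killing a rational vector. -/

namespace Cfsg.Agent.S5639P

open Matrix
open Cfsg.Agent.Helper28.SLMax Cfsg.Agent.Helper28.SimMax

variable {F : Type*} [Field F] {n : ℕ}

local notation "GLn" => Matrix.GeneralLinearGroup (Fin n) F
local notation "Mat" => Matrix (Fin n) (Fin n) F

/-- TWOPERP: two `F`-independent rational covectors killing the rational vector `u₀` (from EXPERP: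
take `χ₁ ⊥ u₀`, a coordinate vector `y` with `χ₁ y ≠ 0`, and `χ₂ ⊥ u₀, y`). -/
theorem TWOPERP.exists_two_perp (F₀ : Subfield F) (hn : 3 ≤ n) (u₀ : Fin n → F) (hu : Rat F₀ u₀) :
    ∃ χ₁ χ₂ : Fin n → F, Rat F₀ χ₁ ∧ Rat F₀ χ₂ ∧ χ₁ ⬝ᵥ u₀ = 0 ∧ χ₂ ⬝ᵥ u₀ = 0 ∧
      ∀ s t : F, s • χ₁ + t • χ₂ = 0 → s = 0 ∧ t = 0 := by
  classical
  obtain ⟨χ₁, hr1, hne1, hp1⟩ := EXPERP.exists_rat_perp F₀ [u₀]
    (by intro x hx; rw [List.mem_singleton] at hx; rw [hx]; exact hu)
    (by simp only [List.length_singleton]; omega)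
  have hp1' : χ₁ ⬝ᵥ u₀ = 0 := hp1 u₀ (List.mem_singleton.mpr rfl)
  obtain ⟨i, hi⟩ : ∃ i, χ₁ i ≠ 0 := by
    by_contra h
    push Not at h
    exact hne1 (funext h)
  have hy : Rat F₀ (Pi.single i (1 : F) : Fin n → F) := Rat.single i F₀.one_mem
  obtain ⟨χ₂, hr2, hne2, hp2⟩ := EXPERP.exists_rat_perp F₀ [u₀, Pi.single i (1 : F)]
    (by
      intro x hx
      simp only [List.mem_cons, List.not_mem_nil, or_false] at hx
      rcases hx with rfl | rfl
      · exact hu
      · exact hy)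
    (by simp only [List.length_cons, List.length_nil]; omega)
  have hp2' : χ₂ ⬝ᵥ u₀ = 0 := hp2 u₀ (by simp)
  have hp2y : χ₂ i = 0 := by
    have := hp2 (Pi.single i (1 : F)) (by simp)
    rwa [dotProduct_single, mul_one] at this
  obtain ⟨j, hj⟩ : ∃ j, χ₂ j ≠ 0 := by
    by_contra h
    push Not at h
    exact hne2 (funext h)
  refine ⟨χ₁, χ₂, hr1, hr2, hp1', hp2', ?_⟩
  intro s t hst
  have hs : s = 0 := by
    have := congrFun hst i
    simp only [Pi.add_apply, Pi.smul_apply, smul_eq_mul, hp2y, mul_zero, add_zero,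
      Pi.zero_apply] at this
    rcases mul_eq_zero.mp this with h | h
    · exact h
    · exact absurd h hi
  refine ⟨hs, ?_⟩
  have := congrFun hst j
  simp only [Pi.add_apply, Pi.smul_apply, smul_eq_mul, hs, zero_mul, zero_add,
    Pi.zero_apply] at this
  rcases mul_eq_zero.mp this with h | h
  · exact h
  · exact absurd h hj

end Cfsg.Agent.S5639P
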