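import Cfsg.Agent.Helper1.S5665.Lib
import Cfsg.Agent.Helper5.S5700EXK
import Cfsg.Agent.Helper25.S5700DUAL
import Cfsg.Agent.Helper2.FieldBasics
import Cfsg.Agent.Helper5.S5665RHO
import Cfsg.Agent.Helper10.S5665HEIS
import Cfsg.Agent.Helper23.S5665PHASE

set_option autoImplicit false
set_option linter.unusedSectionVars false
set_option linter.unusedVariables false

/-! # S5665, piece ONE: the first root group -/

namespace Cfsg.Agent.S5665P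

open Matrix Module Cfsg.Agent.Helper2.Sp Cfsg.Agent.Helper28.Sg Cfsg.Agent.S5700P

variable {F : Type*} [Field F] [Fintype F] {m : ℕ}
  {δ : Matrix (Fin m ⊕ Fin m) (Fin m ⊕ Fin m) F} {d : F}

local notation "V" => (Fin m ⊕ Fin m → F)
local notation "Mat" => Matrix (Fin m ⊕ Fin m) (Fin m ⊕ Fin m) F
local notation "Sp" => Matrix.symplecticGroup (Fin m) F

theorem ONE.mem (U : SData δ d) (h2 : (2 : F) ≠ 0) (hm : 7 ≤ m) (M : Subgroup Sp)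
    (hH : ∀ g : Sp, InH δ g → g ∈ M) {g : Sp} (hg : g ∈ M) {z : V} (hz : Qs δ z = 0)
    (hgz : Qs δ (g.1 *ᵥ z) ≠ 0) : ∀ s : F, Tg z s ∈ M := by
  intro s
  obtain ⟨r, hrH, hr⟩ := RHO.exists_rho U hgz
  have hrM : r ∈ M := hH r hrH
  set t : F := Qs δ (g.1 *ᵥ z) with ht
  set y0 : V := (g⁻¹).1 *ᵥ (-(t)⁻¹ • δ *ᵥ (g.1 *ᵥ z)) with hy0
  have hi0M : g⁻¹ * r * g ∈ M := M.mul_mem (M.mul_mem (M.inv_mem hg) hrM) hg
  have hi0 : IsIota (g⁻¹ * r * g) z y0 := by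
    have := hr.conj' g
    rwa [inv_mulVec_mulVec] at this
  have h0 : om z y0 = 1 := by
    rw [hy0, om_inv_right, om_smul_right, U.om_self_delta, ← ht]
    field_simp
  obtain ⟨u₁, u₂, hu₁, hu₂, h1z, h1z', h2z, h2z', hne⟩ :=
    PHASE.exists_u U h2 hm hz (by rw [h0]; exact one_ne_zero : om z y0 ≠ 0)
  set n₁ : V := -(d * om u₁ y0) • u₁ + om (δ *ᵥ u₁) y0 • δ *ᵥ u₁ with hn₁
  set n₂ : V := -(d * om u₂ y0) • u₂ + om (δ *ᵥ u₂) y0 • δ *ᵥ u₂ with hn₂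
  have h8 : (8 : F) ≠ 0 := by
    have : (8 : F) = 2 * 2 * 2 := by norm_num
    rw [this]
    exact mul_ne_zero (mul_ne_zero h2 h2) h2
  set c : F := s / (8 * om n₁ n₂) with hc
  -- the two conjugating unitary transvections
  have hh1M : Ug δ d u₁ c ∈ M := hH _ (U.Ug_inH hu₁ c)
  have hh2M : Ug δ d u₂ 1 ∈ M := hH _ (U.Ug_inH hu₂ 1)
  have hfix1 : (Ug δ d u₁ c).1 *ᵥ z = z := U.Ug_fix hu₁ c h1z h1z'
  have hfix2 : (Ug δ d u₂ 1).1 *ᵥ z = z := U.Ug_fix hu₂ 1 h2z h2z'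
  have hi1 : IsIota (Ug δ d u₁ c * (g⁻¹ * r * g) * (Ug δ d u₁ c)⁻¹) z ((Ug δ d u₁ c).1 *ᵥ y0) := by
    have := hi0.conj (Ug δ d u₁ c)
    rwa [hfix1] at this
  have hi2 : IsIota (Ug δ d u₂ 1 * (g⁻¹ * r * g) * (Ug δ d u₂ 1)⁻¹) z ((Ug δ d u₂ 1).1 *ᵥ y0) := by
    have := hi0.conj (Ug δ d u₂ 1)
    rwa [hfix2] at this
  have hy1 : om z ((Ug δ d u₁ c).1 *ᵥ y0) = 1 := by
    have := om_g (Ug δ d u₁ c) z y0
    rw [hfix1] at this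
    rw [this, h0]
  have hy2 : om z ((Ug δ d u₂ 1).1 *ᵥ y0) = 1 := by
    have := om_g (Ug δ d u₂ 1) z y0
    rw [hfix2] at this
    rw [this, h0]
  have hcomm := HEIS.comm h0 hy1 hy2 hi0 hi1 hi2
  have hi1M : Ug δ d u₁ c * (g⁻¹ * r * g) * (Ug δ d u₁ c)⁻¹ ∈ M :=
    M.mul_mem (M.mul_mem hh1M hi0M) (M.inv_mem hh1M)
  have hi2M : Ug δ d u₂ 1 * (g⁻¹ * r * g) * (Ug δ d u₂ 1)⁻¹ ∈ M :=
    M.mul_mem (M.mul_mem hh2M hi0M) (M.inv_mem hh2M)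
  have hmem : Tg z (8 * om ((Ug δ d u₁ c).1 *ᵥ y0 - y0) ((Ug δ d u₂ 1).1 *ᵥ y0 - y0)) ∈ M := by
    rw [← hcomm]
    exact M.mul_mem (M.mul_mem (M.mul_mem (M.mul_mem hi0M hi1M) (M.mul_mem hi0M hi2M))
      (M.inv_mem (M.mul_mem hi0M hi1M))) (M.inv_mem (M.mul_mem hi0M hi2M))
  have hd1 : (Ug δ d u₁ c).1 *ᵥ y0 - y0 = c • n₁ := by
    rw [U.Ug_mulVec hu₁, hn₁]
    module
  have hd2 : (Ug δ d u₂ 1).1 *ᵥ y0 - y0 = n₂ := by
    rw [U.Ug_mulVec hu₂, hn₂]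
    module
  rw [hd1, hd2, om_smul_left] at hmem
  have hval : 8 * (c * om n₁ n₂) = s := by
    rw [hc]
    field_simp
  rw [hval] at hmem
  exact hmem

end Cfsg.Agent.S5665P
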