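import Mathlib
import Cfsg.Prelude.Def_GeometricClasses
import Cfsg.Prelude.Def_ClassicalGeometry
import Cfsg.Agent.Helper23.S5961Defs
import Cfsg.Agent.Helper21.S5949CYCMAIN
import Cfsg.Agent.Helper24.S5961DUALPAIR
import Cfsg.Agent.Helper18.S5961NDSUB
import Cfsg.Agent.Helper18.S5961ARITH
import Cfsg.Agent.Helper1.S5961EVENA
import Cfsg.Agent.Helper1.S5961EVENB

set_option autoImplicit false
open scoped MatrixGroups

/-! S5961, piece BLOCKEX: a fixed-point-free isometry of prime order `r` of a nonzero
nondegenerate alternating space has an invariant nondegenerate subspace of dimension `cc`. -/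

namespace Cfsg.Agent.S5961P

open Polynomial Cfsg.Agent.Helper2.SympInvol Cfsg.Agent.Helper2.SympUnits

namespace BLOCKEX

variable {F V : Type*} [Field F] [AddCommGroup V] [Module F V] [FiniteDimensional F V]

/-- the orthogonal of an invariant subspace is invariant under an injective isometry -/
theorem orthogonal_invariant (B : LinearMap.BilinForm F V) (y : Module.End F V)
    (hyB : ∀ u v, B (y u) (y v) = B u v) (hinj : Function.Injective y)
    (U : Submodule F V) (hU : U.map y ≤ U) : (B.orthogonal U).map y ≤ B.orthogonal U := by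
  have hUeq : U.map y = U := by
    apply Submodule.eq_of_le_of_finrank_eq hU
    exact (LinearEquiv.finrank_eq (Submodule.equivMapOfInjective y hinj U)).symm
  rintro _ ⟨m, hm, rfl⟩
  rw [LinearMap.BilinForm.mem_orthogonal_iff]
  intro n hn
  show B n (y m) = 0
  rw [← hUeq] at hn
  obtain ⟨n0, hn0, rfl⟩ := hn
  rw [hyB]
  exact (LinearMap.BilinForm.mem_orthogonal_iff.mp hm) _ hn0

/-- invariant subspaces of a minimal invariant subspace -/
theorem sub_dichotomy (y : Module.End F V) (i : ℕ)
    (hdiv : ∀ W : Submodule F V, W.map y ≤ W → i ∣ Module.finrank F W)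
    (U : Submodule F V) (hUi : Module.finrank F U = i) (W : Submodule F V)
    (hW : W.map y ≤ W) (hWU : W ≤ U) : W = ⊥ ∨ W = U := by
  obtain ⟨k, hk⟩ := hdiv W hW
  have hle : Module.finrank F W ≤ i := hUi ▸ Submodule.finrank_mono hWU
  rcases Nat.eq_zero_or_pos k with rfl | hkpos
  · left
    rw [mul_zero] at hk
    exact Submodule.finrank_eq_zero.mp hk
  · right
    have h1 : Module.finrank F W = i := by nlinarith
    exact Submodule.eq_of_le_of_finrank_eq hWU (h1.trans hUi.symm)

/-- a minimal invariant subspace is nondegenerate or totally isotropic -/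
theorem nondeg_or_isotropic (B : LinearMap.BilinForm F V) (halt : ∀ v, B v v = 0)
    (y : Module.End F V) (hyB : ∀ u v, B (y u) (y v) = B u v) (hinj : Function.Injective y)
    (i : ℕ) (hdiv : ∀ W : Submodule F V, W.map y ≤ W → i ∣ Module.finrank F W)
    (U : Submodule F V) (hU : U.map y ≤ U) (hUi : Module.finrank F U = i) :
    Nondeg B U ∨ Orth B U U := by
  have hR : (U ⊓ B.orthogonal U).map y ≤ U ⊓ B.orthogonal U :=
    (Submodule.map_inf_le _).trans (inf_le_inf hU (orthogonal_invariant B y hyB hinj U hU))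
  rcases sub_dichotomy y i hdiv U hUi _ hR inf_le_left with h | h
  · left
    intro m hm hm0
    by_contra hcon
    push Not at hcon
    apply hm0
    have hmem : m ∈ U ⊓ B.orthogonal U := by
      refine Submodule.mem_inf.mpr ⟨hm, ?_⟩
      rw [LinearMap.BilinForm.mem_orthogonal_iff]
      intro n hn
      show B n m = 0
      rw [skew B halt, hcon n hn, neg_zero]
    rw [h] at hmem
    exact (Submodule.mem_bot F).mp hmem
  · right
    intro u hu v hv
    have hmem : v ∈ U ⊓ B.orthogonal U := by rw [h]; exact hv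
    exact (LinearMap.BilinForm.mem_orthogonal_iff.mp hmem.2) u hu

end BLOCKEX

/-- BLOCKEX (uses S5949P.cyc_main, DUALPAIR, EVENA, EVENB, NDSUB.1, ARITH) -/
theorem exists_block {F V : Type*} [Field F] [Fintype F] [AddCommGroup V] [Module F V]
    [FiniteDimensional F V] {p : ℕ} [Fact p.Prime] [CharP F p] (r : ℕ) [Fact r.Prime]
    (hr2 : r ≠ 2) (hrp : r ≠ p) (B : LinearMap.BilinForm F V) (halt : ∀ v, B v v = 0)
    (hnd : Nondeg B ⊤) (y : Module.End F V) (hyB : ∀ u v, B (y u) (y v) = B u v)
    (hy : y ^ r = 1) (hfix : LinearMap.ker (y - 1) = ⊥) (hV : 0 < Module.finrank F V) :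
    ∃ U : Submodule F V, U.map y ≤ U ∧ Nondeg B U ∧ Module.finrank F U = cc F r := by
  classical
  have hr : r.Prime := Fact.out
  obtain ⟨hi0, hcc0, hcce, hicc, -, -, -, hhalf⟩ := cc_arith (F := F) (p := p) r hr2 hrp
  obtain ⟨h1, h2, h3⟩ := Cfsg.Agent.S5949P.cyc_main (p := p) r hrp y hy
  have hccdef := cc_def F r
  obtain ⟨i, hi⟩ : ∃ i : ℕ, i = orderOf ((Fintype.card F : ℕ) : ZMod r) := ⟨_, rfl⟩
  rw [← hi] at hi0 hicc hhalf h1 h2 h3 hccdef
  have hk0 : Module.finrank F (LinearMap.ker (y - 1)) = 0 := by rw [hfix, finrank_bot]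
  have hdiv : ∀ W : Submodule F V, W.map y ≤ W → i ∣ Module.finrank F W := by
    intro W hW
    obtain ⟨a', b', ha', hW'⟩ := h2 W hW
    rw [hk0] at ha'
    exact ⟨b', by omega⟩
  have hiV : i ≤ Module.finrank F V := by
    rw [hk0, Nat.sub_zero] at h1
    exact Nat.le_of_dvd hV h1
  obtain ⟨U, hU, hUi⟩ := h3 0 1 (Nat.zero_le _) (by rw [hk0]; omega)
  rw [zero_add, mul_one] at hUi
  have hinj : Function.Injective y := by
    intro a b hab
    obtain ⟨r0, hr0⟩ : ∃ r0, r = r0 + 1 := ⟨r - 1, by have := hr.pos; omega⟩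
    have h4 : (y ^ r) a = (y ^ r) b := by
      rw [hr0, pow_succ, Module.End.mul_apply, Module.End.mul_apply, hab]
    rwa [hy, Module.End.one_apply, Module.End.one_apply] at h4
  -- a nondegenerate invariant subspace of dimension `i` finishes the proof
  have hfin : ∀ U : Submodule F V, U.map y ≤ U → Module.finrank F U = i → Nondeg B U →
      ∃ U : Submodule F V, U.map y ≤ U ∧ Nondeg B U ∧ Module.finrank F U = cc F r := by
    intro U hU hUi hUnd
    have hev : Even i := hUi ▸ (exists_nondeg_sub B halt U hUnd).1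
    refine ⟨U, hU, hUnd, ?_⟩
    rw [hccdef, if_pos hev, hUi]
  rcases BLOCKEX.nondeg_or_isotropic B halt y hyB hinj i hdiv U hU hUi with hUnd | hUU
  · exact hfin U hU hUi hUnd
  obtain ⟨U', hU', hU'i, hpair⟩ := exists_dual_pair (p := p) r hrp B halt hnd y hyB hy U hU
  rw [hUi] at hU'i
  rcases BLOCKEX.nondeg_or_isotropic B halt y hyB hinj i hdiv U' hU' hU'i with hUnd' | hUU'
  · exact hfin U' hU' hU'i hUnd'
  have hU'0 : U' ≠ ⊥ := by
    intro h
    rw [h, finrank_bot] at hU'i
    omega
  by_cases hev : Even i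
  · -- `i` even
    obtain ⟨g, hg, hgd, hgk⟩ := exists_poly_kills_pair (p := p) r hr2 hrp B y hyB hy
      (hi ▸ hev) U U' hU hU' hpair
    rw [hUi] at hgd
    obtain ⟨Y, -, hY, hYnd, hYi⟩ := exists_nondeg_cyclic r hr2 B halt y hyB hy hfix i hi0 hdiv U U'
      hU hU' hUU hUU' hU'0 hpair g hg hgd hgk
    exact hfin Y hY hYi hYnd
  · -- `i` odd: take `U ⊔ U'`
    have hdisj : Disjoint U U' := by
      rw [Submodule.disjoint_def]
      intro v hv hv'
      exact hpair v hv' (fun u hu => hUU u hu v hv)
    -- the left kernel of the pairing is trivial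
    have hK : (U ⊓ B.orthogonal U').map y ≤ U ⊓ B.orthogonal U' :=
      (Submodule.map_inf_le _).trans
        (inf_le_inf hU (BLOCKEX.orthogonal_invariant B y hyB hinj U' hU'))
    have hKbot : U ⊓ B.orthogonal U' = ⊥ := by
      rcases BLOCKEX.sub_dichotomy y i hdiv U hUi _ hK inf_le_left with h | h
      · exact h
      · exfalso
        apply hU'0
        rw [Submodule.eq_bot_iff]
        intro u' hu'
        apply hpair u' hu'
        intro u hu
        have hmem : u ∈ U ⊓ B.orthogonal U' := by rw [h]; exact hu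
        have := (LinearMap.BilinForm.mem_orthogonal_iff.mp hmem.2) u' hu'
        change B u' u = 0 at this
        rw [skew B halt, this, neg_zero]
    refine ⟨U ⊔ U', ?_, ?_, ?_⟩
    · rw [Submodule.map_sup]
      exact sup_le_sup hU hU'
    · intro m hm hm0
      obtain ⟨u, hu, u', hu', rfl⟩ := Submodule.mem_sup.mp hm
      by_cases hu'0 : u' = 0
      · subst hu'0
        rw [add_zero] at hm0
        -- `u ≠ 0` in `U`: some `u'' ∈ U'` with `B u u'' ≠ 0`
        by_contra hcon
        push Not at hcon
        apply hm0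
        have hmem : u ∈ U ⊓ B.orthogonal U' := by
          refine Submodule.mem_inf.mpr ⟨hu, ?_⟩
          rw [LinearMap.BilinForm.mem_orthogonal_iff]
          intro n hn
          show B n u = 0
          have := hcon n (Submodule.mem_sup_right hn)
          rw [add_zero] at this
          rw [skew B halt, this, neg_zero]
        rw [hKbot] at hmem
        exact (Submodule.mem_bot F).mp hmem
      · have : ¬ ∀ u0 ∈ U, B u0 u' = 0 := fun h => hu'0 (hpair u' hu' h)
        push Not at this
        obtain ⟨u0, hu0, hu0'⟩ := this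
        refine ⟨u0, Submodule.mem_sup_left hu0, ?_⟩
        rw [map_add, LinearMap.add_apply, hUU u hu u0 hu0, zero_add, skew B halt]
        exact neg_ne_zero.mpr hu0'
    · have h5 := Submodule.finrank_sup_add_finrank_inf_eq U U'
      rw [hdisj.eq_bot, finrank_bot, add_zero, hUi, hU'i] at h5
      rw [hccdef, if_neg hev, h5]
      ring

end Cfsg.Agent.S5961P
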