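import Mathlib
import Cfsg.Agent.Helper19.NarrowAut

set_option autoImplicit false

/-! Minimal normal subgroups with non-trivial coprime action (the Hall–Higman type reduction used in
`Helper19.NarrowAut`, extracted for reuse).

Let `P` be a normal `p`-subgroup of `X`, `p` odd, and `𝔅` a conjugation-invariant set of
`p'`-elements whose closure `B₁` does not centralize `P`.  A normal subgroup `N ≤ P` of `X` minimal
subject to not being centralized by `B₁` has exponent `p`, satisfies `[N, P] ≤ N₀ := C_N(B₁)` and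
`N₀ ≤ Z(N)`. -/

namespace Cfsg.Agent.Helper19.MinNormal

open Subgroup Cfsg.Agent.Helper19.NarrowAut
open scoped commutatorElement

theorem exists_minimal_normal {X : Type*} [Group X] [Finite X] {p : ℕ} [hp : Fact p.Prime]
    (hp2 : p ≠ 2) (P : Subgroup X) [hPn : P.Normal] (hP : IsPGroup p P) (𝔅 : Set X)
    (h𝔅conj : ∀ g ∈ 𝔅, ∀ x : X, x * g * x⁻¹ ∈ 𝔅) (h𝔅cop : ∀ g ∈ 𝔅, (orderOf g).Coprime p)
    (hne : ¬ P ≤ centralizer (closure 𝔅 : Set X)) :
    ∃ N : Subgroup X, N.Normal ∧ N ≤ P ∧ ¬ N ≤ centralizer (closure 𝔅 : Set X) ∧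
      (∀ M : Subgroup X, M.Normal → M ≤ N → M ≠ N → M ≤ centralizer (closure 𝔅 : Set X)) ∧
      (∀ M₀ : Subgroup X, M₀ ≤ centralizer (closure 𝔅 : Set X) →
        (∀ g ∈ 𝔅, ∀ n ∈ N, ⁅n, g⁆ ∈ M₀) → False) ∧
      ⁅N, P⁆ ≤ N ⊓ centralizer (closure 𝔅 : Set X) ∧
      N ≤ centralizer ((N ⊓ centralizer (closure 𝔅 : Set X) : Subgroup X) : Set X) ∧
      (∀ n ∈ N, n ^ p = 1) := by
  classical
  have hpp : p.Prime := hp.out
  have hpel : ∀ x ∈ P, ∃ k : ℕ, x ^ p ^ k = 1 := by
    intro x hx
    obtain ⟨k, hk⟩ := hP ⟨x, hx⟩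
    exact ⟨k, by simpa using congrArg Subtype.val hk⟩
  set B₁ : Subgroup X := closure 𝔅 with hB₁def
  haveI hB₁n : B₁.Normal := closure_normal_of_conj h𝔅conj
  let S : Set (Subgroup X) := {N | N.Normal ∧ N ≤ P ∧ ¬ N ≤ centralizer (B₁ : Set X)}
  obtain ⟨N, hNS, hNmin⟩ := wellFounded_lt.has_min S ⟨P, hPn, le_rfl, hne⟩
  obtain ⟨hNn, hNP, hNnc⟩ := hNS
  haveI := hNn
  have hmin : ∀ M : Subgroup X, M.Normal → M ≤ N → M ≠ N → M ≤ centralizer (B₁ : Set X) := by
    intro M hMn hMN hMne
    by_contra hc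
    exact hNmin M ⟨hMn, hMN.trans hNP, hc⟩ (lt_of_le_of_ne hMN hMne)
  have hNbot : N ≠ ⊥ := by
    rintro rfl
    exact hNnc bot_le
  have hNpg : IsPGroup p N := hP.to_le hNP
  -- the coprime-action key step
  have hkey : ∀ M₀ : Subgroup X, M₀ ≤ centralizer (B₁ : Set X) →
      (∀ g ∈ 𝔅, ∀ n ∈ N, ⁅n, g⁆ ∈ M₀) → False := by
    intro M₀ hM₀ hcomm
    apply hNnc
    intro n hn
    have h1 : B₁ ≤ centralizer ({n} : Set X) := by
      rw [hB₁def, closure_le]
      intro g hg
      rw [SetLike.mem_coe, mem_centralizer_iff]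
      intro y hy
      rw [Set.mem_singleton_iff] at hy
      subst hy
      have hcg : ⁅y, g⁆ ∈ M₀ := hcomm g hg y hn
      have hc1 : Commute ⁅y, g⁆ g := by
        have h2 := hM₀ hcg
        rw [mem_centralizer_iff] at h2
        exact (h2 g (subset_closure hg)).symm
      have hcN : ⁅y, g⁆ ∈ N := by
        rw [commutatorElement_def]
        have h3 : g * y⁻¹ * g⁻¹ ∈ N := hNn.conj_mem _ (N.inv_mem hn) g
        have h4 : y * g * y⁻¹ * g⁻¹ = y * (g * y⁻¹ * g⁻¹) := by group
        rw [h4]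
        exact N.mul_mem hn h3
      exact commute_of_commutator_commute g y (h𝔅cop g hg) (hpel _ (hNP hcN)) hc1
    rw [mem_centralizer_iff]
    intro g hg
    have h2 := h1 hg
    rw [mem_centralizer_iff] at h2
    exact (h2 n rfl).symm
  -- the fixed points `N₀`
  set N₀ : Subgroup X := N ⊓ centralizer (B₁ : Set X) with hN₀def
  haveI hN₀n : N₀.Normal := by rw [hN₀def]; infer_instance
  have hN₀N : N₀ ≤ N := inf_le_left
  have hN₀c : N₀ ≤ centralizer (B₁ : Set X) := inf_le_right
  have hN₀ne : N₀ ≠ N := by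
    intro h
    apply hNnc
    rw [← h]
    exact hN₀c
  -- `[N, P] ≤ N₀`
  have hNPcomm : ⁅N, P⁆ ≤ N₀ := by
    have h1 : ⁅N, P⁆ ≤ N := commutator_le_left N P
    have h2 : ⁅N, P⁆ ≠ N := commutator_ne_self P N hP hNP hNbot
    exact le_inf h1 (hmin _ inferInstance h1 h2)
  -- `N₀ ≤ Z(N)`
  have hNcN₀ : N ≤ centralizer (N₀ : Set X) := by
    set M : Subgroup X := N ⊓ centralizer (N₀ : Set X) with hMdef
    haveI hMn : M.Normal := by rw [hMdef]; infer_instance
    have h1 : ⁅N, B₁⁆ ≤ M := by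
      apply le_inf (commutator_le_left N B₁)
      rw [← commutator_eq_bot_iff_le_centralizer]
      apply commutator_commutator_eq_bot_of_rotate
      · have h2 : ⁅B₁, N₀⁆ = ⊥ := by
          rw [commutator_comm, commutator_eq_bot_iff_le_centralizer]
          exact hN₀c
        rw [h2, commutator_bot_left]
      · rw [commutator_eq_bot_iff_le_centralizer]
        exact (commutator_le_left N₀ N).trans hN₀c
    by_cases hMN : M = N
    · rw [← hMN]; exact inf_le_right
    · exfalso
      have h2 := hmin M hMn inf_le_left hMN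
      apply hkey M h2
      intro g hg n hn
      exact h1 (commutator_mem_commutator hn (subset_closure hg))
  have hcommN₀ : ∀ n ∈ N, ∀ z ∈ N₀, z * n = n * z := by
    intro n hn z hz
    have h1 := hNcN₀ hn
    rw [mem_centralizer_iff] at h1
    exact h1 z hz
  -- `N` has exponent `p`
  have hΩ : ∀ n ∈ N, n ^ p = 1 := by
    set Ω : Subgroup X := closure {x | x ∈ N ∧ x ^ p = 1} with hΩdef
    haveI hΩn : Ω.Normal := by
      apply closure_normal_of_conj
      rintro g ⟨hgN, hgp⟩ x
      exact ⟨hNn.conj_mem g hgN x, by rw [conj_pow, hgp]; group⟩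
    have hΩN : Ω ≤ N := by
      rw [hΩdef, closure_le]
      exact fun x hx => hx.1
    have hΩeq : Ω = N := by
      by_contra hΩne
      have hΩc := hmin Ω hΩn hΩN hΩne
      apply hkey ⊥ bot_le
      intro g hg n hn
      have h1 : ⁅N, zpowers g⁆ = ⊥ := by
        apply Cfsg.Agent.Helper19.commutator_eq_bot_of_centralizes_omega_one hp2 N (zpowers g) hNpg
        · rw [normalizer_eq_top_iff.mpr hNn]; exact le_top
        · rw [Nat.card_zpowers]; exact (h𝔅cop g hg)
        · intro x hx hxp a ha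
          have h2 : x ∈ Ω := subset_closure ⟨hx, hxp⟩
          have h3 := hΩc h2
          rw [mem_centralizer_iff] at h3
          have h4 : zpowers g ≤ B₁ := by
            rw [zpowers_le]; exact subset_closure hg
          exact h3 a (h4 ha)
      rw [mem_bot, ← mem_bot (G := X), ← h1]
      exact commutator_mem_commutator hn (mem_zpowers g)
    intro n hn
    rw [← hΩeq] at hn
    have h1 : n ∈ N ∧ n ^ p = 1 := by
      induction hn using closure_induction with
      | mem w hw => exact hw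
      | one => exact ⟨N.one_mem, one_pow _⟩
      | mul u v _ _ hu hv =>
        refine ⟨N.mul_mem hu.1 hv.1, ?_⟩
        have hc : ⁅v, u⁆ ∈ N₀ :=
          hNPcomm (commutator_mem_commutator hv.1 (hNP hu.1))
        have hcu : Commute ⁅v, u⁆ u := hcommN₀ u hu.1 _ hc
        have hcv : Commute ⁅v, u⁆ v := hcommN₀ v hv.1 _ hc
        have h2 := Cfsg.Agent.Helper19.mul_pow_of_commute_comm u v hcu hcv p
        have h3 : ⁅v, u⁆ ^ p = 1 := by
          rw [← Cfsg.Agent.Helper19.commutator_pow_left_of_commute_comm u v hcv p, hv.2,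
            commutatorElement_one_left]
        have h4 : p ∣ p.choose 2 := by
          apply hpp.dvd_choose_self (by norm_num)
          have := hpp.two_le
          omega
        obtain ⟨m, hm⟩ := h4
        rw [h2, hu.2, hv.2, hm, pow_mul, h3, one_pow, one_mul, one_mul]
      | inv u _ hu => exact ⟨N.inv_mem hu.1, by rw [inv_pow, hu.2, inv_one]⟩
    exact h1.2
  exact ⟨N, hNn, hNP, hNnc, hmin, hkey, hNPcomm, hNcN₀, hΩ⟩

end Cfsg.Agent.Helper19.MinNormal
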