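import Mathlib
import Cfsg.Agent.Helper19.NarrowAut
import Cfsg.Agent.Helper19.MinNormal
import Cfsg.Agent.Helper19.OmegaOne
import Cfsg.Agent.Helper19.Huppert
import Cfsg.Agent.Helper17.Basic
import Cfsg.Agent.Helper26.Thompson
import Cfsg.Agent.S1447

set_option autoImplicit false

/-! A `p`-group `P` (`p > 3`) of rank at most two admitting a `p'`-group `A` of automorphisms that acts
trivially on all invariant sections of order `p`, with `[P, A] = P` non-abelian, has order `p ^ 3`. -/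

namespace Cfsg.Agent.Helper19.CubeCard

open Subgroup Cfsg Cfsg.Agent.Helper19.NarrowAut Cfsg.Agent.Helper26
open scoped commutatorElement

theorem card_eq_cube {X : Type*} [Group X] [Finite X] {p : ℕ} [hp : Fact p.Prime]
    (hp3 : 3 < p) (P : Subgroup X) [hPn : P.Normal] (hP : IsPGroup p P)
    (hrk : ∀ E : Subgroup X, E ≤ P → (∀ a ∈ E, ∀ b ∈ E, a * b = b * a) → (∀ a ∈ E, a ^ p = 1) →
      Nat.card E ≤ p ^ 2)
    (A : Subgroup X) (hcop : (Nat.card A).Coprime p)
    (hsec : ∀ a ∈ A, ∀ N N₀ : Subgroup X, N.Normal → N₀.Normal → N₀ ≤ N → N ≤ P →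
      Nat.card N = p * Nat.card N₀ → ∀ n ∈ N, ⁅n, a⁆ ∈ N₀)
    (hPA : ⁅P, A⁆ = P) (hnonab : ∃ x ∈ P, ∃ y ∈ P, x * y ≠ y * x) :
    Nat.card P = p ^ 3 := by
  classical
  have hpp : p.Prime := hp.out
  have hp2 : p ≠ 2 := by omega
  -- the "maximality trick"
  have MT : ∀ E : Subgroup X, E ≤ P → (∀ a ∈ E, ∀ b ∈ E, a * b = b * a) → (∀ a ∈ E, a ^ p = 1) →
      Nat.card E = p ^ 2 → ∀ d ∈ P, d ^ p = 1 → (∀ a ∈ E, d * a = a * d) → d ∈ E := by
    intro E hEP hEc hEe hEcard d hdP hdp hdE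
    by_contra hdn
    have hEel : IsElementaryAbelian p E := isElementaryAbelian_iff.mpr ⟨hEc, hEe⟩
    have h1 : IsElementaryAbelian p (E ⊔ zpowers d) := by
      apply isElementaryAbelian_sup hEel (isElementaryAbelian_zpowers_of_orderOf_eq hdp)
      intro a ha b hb
      obtain ⟨k, rfl⟩ := mem_zpowers_iff.mp hb
      have h2 : Commute d a := hdE a ha
      exact ((h2.zpow_left k).eq).symm
    have h1' := isElementaryAbelian_iff.mp h1
    have hle : E ⊔ zpowers d ≤ P := sup_le hEP (zpowers_le.mpr hdP)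
    have h2 : Nat.card (E ⊔ zpowers d : Subgroup X) ≤ p ^ 2 := hrk _ hle h1'.1 h1'.2
    have h3 : E ≠ E ⊔ zpowers d := by
      intro h3
      apply hdn
      rw [h3]
      exact (le_sup_right : zpowers d ≤ E ⊔ zpowers d) (mem_zpowers d)
    have h4 := mul_card_le_of_ne (hP.to_le hle) le_sup_left h3
    rw [hEcard] at h4
    have h5 : 0 < p ^ 2 := by positivity
    nlinarith [hpp.two_le]
  -- the conjugates of the elements of `A`
  obtain ⟨𝔅, h𝔅def⟩ : ∃ 𝔅 : Set X, 𝔅 = {g | ∃ a ∈ A, ∃ x : X, g = x * a * x⁻¹} := ⟨_, rfl⟩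
  have h𝔅conj : ∀ g ∈ 𝔅, ∀ x : X, x * g * x⁻¹ ∈ 𝔅 := by
    intro g hg x
    rw [h𝔅def] at hg ⊢
    obtain ⟨a, ha, y, rfl⟩ := hg
    exact ⟨a, ha, x * y, by group⟩
  have h𝔅cop : ∀ g ∈ 𝔅, (orderOf g).Coprime p := by
    intro g hg
    rw [h𝔅def] at hg
    obtain ⟨a, ha, y, rfl⟩ := hg
    have h1 : orderOf (y * a * y⁻¹) = orderOf a :=
      orderOf_injective (MulAut.conj y).toMonoidHom (MulAut.conj y).injective a
    rw [h1]
    exact Nat.Coprime.coprime_dvd_left (Subgroup.orderOf_dvd_natCard A ha) hcop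
  have hA𝔅 : ∀ a ∈ A, a ∈ 𝔅 := by
    intro a ha
    rw [h𝔅def]
    exact ⟨a, ha, 1, by group⟩
  have h𝔅sec : ∀ g ∈ 𝔅, ∀ N N₀ : Subgroup X, N.Normal → N₀.Normal → N₀ ≤ N → N ≤ P →
      Nat.card N = p * Nat.card N₀ → ∀ n ∈ N, ⁅n, g⁆ ∈ N₀ := by
    intro g hg N N₀ hNn hN₀n hle hNP hcard n hn
    rw [h𝔅def] at hg
    obtain ⟨a, ha, y, rfl⟩ := hg
    have h0 : y⁻¹ * n * y ∈ N := by
      have := hNn.conj_mem n hn y⁻¹
      simpa using this
    have h1 : ⁅y⁻¹ * n * y, a⁆ ∈ N₀ := hsec a ha N N₀ hNn hN₀n hle hNP hcard _ h0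
    have h2 : ⁅n, y * a * y⁻¹⁆ = y * ⁅y⁻¹ * n * y, a⁆ * y⁻¹ := by
      simp only [commutatorElement_def]; group
    rw [h2]
    exact hN₀n.conj_mem _ h1 y
  clear h𝔅def
  obtain ⟨B₁, hB₁def⟩ : ∃ B₁ : Subgroup X, B₁ = closure 𝔅 := ⟨_, rfl⟩
  haveI hB₁n : B₁.Normal := by rw [hB₁def]; exact closure_normal_of_conj h𝔅conj
  have hAB₁ : A ≤ B₁ := by
    intro a ha
    rw [hB₁def]
    exact subset_closure (hA𝔅 a ha)
  have hPB₁ : P ≤ B₁ := by
    have h1 : ⁅P, A⁆ ≤ B₁ := (commutator_mono le_rfl hAB₁).trans (commutator_le_right P B₁)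
    calc P = ⁅P, A⁆ := hPA.symm
      _ ≤ B₁ := h1
  have hne : ¬ P ≤ centralizer (closure 𝔅 : Set X) := by
    rw [← hB₁def]
    intro h
    obtain ⟨x, hx, y, hy, hxy⟩ := hnonab
    apply hxy
    have h1 := h hx
    rw [mem_centralizer_iff] at h1
    exact (h1 y (hPB₁ hy)).symm
  obtain ⟨N, hNn, hNP, hNnc, hmin, hkey, hNPcomm, hNcN₀, hNexp⟩ :=
    Cfsg.Agent.Helper19.MinNormal.exists_minimal_normal hp2 P hP 𝔅 h𝔅conj h𝔅cop hne
  rw [← hB₁def] at hNnc hmin hkey hNPcomm hNcN₀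
  haveI := hNn
  obtain ⟨N₀, hN₀def⟩ : ∃ N₀ : Subgroup X, N₀ = N ⊓ centralizer (B₁ : Set X) := ⟨_, rfl⟩
  rw [← hN₀def] at hNPcomm hNcN₀
  haveI hN₀n : N₀.Normal := by rw [hN₀def]; infer_instance
  have hN₀N : N₀ ≤ N := by rw [hN₀def]; exact inf_le_left
  have hN₀c : N₀ ≤ centralizer (B₁ : Set X) := by rw [hN₀def]; exact inf_le_right
  have hN₀ne : N₀ ≠ N := by
    intro h; apply hNnc; rw [← h]; exact hN₀c
  have hNpg : IsPGroup p N := hP.to_le hNP
  have hN₀pg : IsPGroup p N₀ := hNpg.to_le hN₀N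
  -- `N₀` is central in `P`
  have hN₀P : ∀ z ∈ N₀, ∀ x ∈ P, z * x = x * z := by
    intro z hz x hx
    have h1 := hN₀c hz
    rw [mem_centralizer_iff] at h1
    exact (h1 x (hPB₁ hx)).symm
  have hN₀comm : ∀ a ∈ N₀, ∀ b ∈ N₀, a * b = b * a :=
    fun a ha b hb => hN₀P a ha b (hNP (hN₀N hb))
  have hN₀exp : ∀ a ∈ N₀, a ^ p = 1 := fun a ha => hNexp a (hN₀N ha)
  have hN₀card : Nat.card N₀ ≤ p ^ 2 := hrk N₀ (hN₀N.trans hNP) hN₀comm hN₀exp
  -- Claim 1
  have hN₀card2 : Nat.card N₀ ≠ p ^ 2 := by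
    intro h
    apply hN₀ne
    apply le_antisymm hN₀N
    intro n hn
    exact MT N₀ (hN₀N.trans hNP) hN₀comm hN₀exp h n (hNP hn) (hNexp n hn)
      (fun a ha => (hN₀P a ha n (hNP hn)).symm)
  -- Claim 2 : `N` is non-abelian
  have hNnonab : ¬ (∀ a ∈ N, ∀ b ∈ N, a * b = b * a) := by
    intro hNc
    have hNcard : Nat.card N ≤ p ^ 2 := hrk N hNP hNc hNexp
    have h1 : p * Nat.card N₀ ≤ Nat.card N := mul_card_le_of_ne hNpg hN₀N hN₀ne
    obtain ⟨k, hk⟩ := IsPGroup.iff_card.mp hNpg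
    obtain ⟨j, hj⟩ := IsPGroup.iff_card.mp hN₀pg
    have hk2 : k ≤ 2 := by
      rw [hk] at hNcard; exact (Nat.pow_le_pow_iff_right hpp.one_lt).mp hNcard
    have hjk : j + 1 ≤ k := by
      rw [hk, hj, ← pow_succ'] at h1
      exact (Nat.pow_le_pow_iff_right hpp.one_lt).mp h1
    by_cases hcase : k = j + 1
    · apply hkey N₀ hN₀c
      intro g hg n hn
      exact h𝔅sec g hg N N₀ hNn hN₀n hN₀N hNP (by rw [hk, hj, hcase, pow_succ']) n hn
    · have hk' : k = 2 := by omega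
      have hj' : j = 0 := by omega
      have hN₀bot : N₀ = ⊥ := by
        rw [hj', pow_zero] at hj
        exact Subgroup.card_eq_one.mp hj
      have hNcent : ∀ n ∈ N, ∀ x ∈ P, n * x = x * n := by
        intro n hn x hx
        have h2 : ⁅n, x⁆ ∈ N₀ := hNPcomm (commutator_mem_commutator hn hx)
        rw [hN₀bot, mem_bot, commutatorElement_eq_one_iff_mul_comm] at h2
        exact h2
      have hΩ : ∀ d ∈ P, d ^ p = 1 → d ∈ N := by
        intro d hd hdp
        exact MT N hNP hNc hNexp (by rw [hk, hk']) d hd hdp (fun a ha => (hNcent a ha d hd).symm)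
      have hsmall : Cfsg.Agent.Helper19.Huppert.Small p ↥P := by
        unfold Cfsg.Agent.Helper19.Huppert.Small
        have hmem : ∀ x : {x : ↥P // x ^ p = 1}, ((x.1 : ↥P) : X) ∈ N := by
          intro x
          apply hΩ _ x.1.2
          have h5 := congrArg Subtype.val x.2
          simpa using h5
        have h3 : Nat.card {x : ↥P // x ^ p = 1} ≤ Nat.card N := by
          apply Nat.card_le_card_of_injective
            (fun x : {x : ↥P // x ^ p = 1} => (⟨((x.1 : ↥P) : X), hmem x⟩ : ↥N))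
          intro x y hxy
          have h5 : ((x.1 : ↥P) : X) = ((y.1 : ↥P) : X) := by
            simpa using congrArg Subtype.val hxy
          exact Subtype.ext (Subtype.ext h5)
        rw [hk, hk'] at h3; exact h3
      have hmeta : Cfsg.IsMetacyclic ↥P :=
        Cfsg.Agent.Helper19.Huppert.metacyclic_of_small hp3 _ ↥P rfl hP hsmall
      have h4 := (Cfsg.Agent.S1447.result p hp2 P A hP hmeta
        (by rw [normalizer_eq_top_iff.mpr hPn]; exact le_top) hcop).1
      obtain ⟨x, hx, y, hy, hxy⟩ := hnonab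
      apply hxy
      rw [← hPA] at hx hy
      obtain ⟨⟨hc⟩⟩ := h4
      exact congrArg Subtype.val (hc ⟨x, hx⟩ ⟨y, hy⟩)
  -- Claim 3
  have hN₀bot : N₀ ≠ ⊥ := by
    intro h
    apply hNnonab
    intro a ha b hb
    have h2 : ⁅a, b⁆ ∈ N₀ := hNPcomm (commutator_mem_commutator ha (hNP hb))
    rw [h, mem_bot, commutatorElement_eq_one_iff_mul_comm] at h2
    exact h2
  have hN₀cardp : Nat.card N₀ = p := by
    obtain ⟨j, hj⟩ := IsPGroup.iff_card.mp hN₀pg
    have hj2 : j ≤ 2 := by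
      rw [hj] at hN₀card; exact (Nat.pow_le_pow_iff_right hpp.one_lt).mp hN₀card
    have hj0 : j ≠ 0 := by
      rintro rfl
      rw [pow_zero] at hj
      exact hN₀bot (Subgroup.card_eq_one.mp hj)
    have hj2' : j ≠ 2 := by rintro rfl; exact hN₀card2 hj
    have : j = 1 := by omega
    rw [hj, this, pow_one]
  obtain ⟨n₁, hn₁N, hn₁N₀⟩ : ∃ n₁ ∈ N, n₁ ∉ N₀ := by
    by_contra hcon
    push Not at hcon
    exact hN₀ne (le_antisymm hN₀N hcon)
  have hNN₀comm : ∀ n ∈ N, ∀ z ∈ N₀, z * n = n * z := by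
    intro n hn z hz
    have h1 := hNcN₀ hn
    rw [mem_centralizer_iff] at h1
    exact h1 z hz
  obtain ⟨E₂, hE₂def⟩ : ∃ E₂ : Subgroup X, E₂ = N₀ ⊔ zpowers n₁ := ⟨_, rfl⟩
  have hE₂N : E₂ ≤ N := by rw [hE₂def]; exact sup_le hN₀N (zpowers_le.mpr hn₁N)
  have hE₂el : IsElementaryAbelian p E₂ := by
    rw [hE₂def]
    apply isElementaryAbelian_sup (isElementaryAbelian_iff.mpr ⟨hN₀comm, hN₀exp⟩)
      (isElementaryAbelian_zpowers_of_orderOf_eq (hNexp n₁ hn₁N))
    intro a ha b hb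
    obtain ⟨k, rfl⟩ := mem_zpowers_iff.mp hb
    have h2 : Commute a n₁ := hNN₀comm n₁ hn₁N a ha
    exact (h2.zpow_right k).eq
  have hE₂ := isElementaryAbelian_iff.mp hE₂el
  have hE₂card : Nat.card E₂ = p ^ 2 := by
    apply le_antisymm (hrk E₂ (hE₂N.trans hNP) hE₂.1 hE₂.2)
    have h1 : N₀ ≠ E₂ := by
      intro h; apply hn₁N₀; rw [h, hE₂def]
      exact (le_sup_right : zpowers n₁ ≤ N₀ ⊔ zpowers n₁) (mem_zpowers n₁)
    have h2 := mul_card_le_of_ne (hNpg.to_le hE₂N)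
      (show N₀ ≤ E₂ by rw [hE₂def]; exact le_sup_left) h1
    rw [hN₀cardp] at h2
    calc p ^ 2 = p * p := sq p
      _ ≤ _ := h2
  have hcommN₀ : ∀ m ∈ P, ∀ n ∈ N, ⁅m, n⁆ ∈ N₀ := by
    intro m hm n hn
    have h1 : ⁅n, m⁆ ∈ N₀ := hNPcomm (commutator_mem_commutator hn hm)
    have h2 : ⁅m, n⁆ = ⁅n, m⁆⁻¹ := (commutatorElement_inv n m).symm
    rw [h2]; exact N₀.inv_mem h1
  have hE₂neN : E₂ ≠ N := by
    intro h
    apply hNnonab
    rw [← h]; exact hE₂.1
  have hNcard : Nat.card N = p ^ 3 := by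
    apply le_antisymm
    · have h1 := card_le_card_centralizer_mul N N₀ n₁ (fun m hm => hcommN₀ m (hNP hm) n₁ hn₁N)
      have h2 : (N ⊓ centralizer {n₁} : Subgroup X) ≤ E₂ := by
        intro d hd
        have hdc : d ∈ centralizer ({n₁} : Set X) := hd.2
        rw [mem_centralizer_iff] at hdc
        apply MT E₂ (hE₂N.trans hNP) hE₂.1 hE₂.2 hE₂card d (hNP hd.1) (hNexp d hd.1)
        intro a ha
        have h3 : E₂ ≤ centralizer ({d} : Set X) := by
          rw [hE₂def]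
          apply sup_le
          · intro z hz
            rw [mem_centralizer_iff]
            rintro _ rfl
            exact (hNN₀comm _ hd.1 z hz).symm
          · rw [zpowers_le, mem_centralizer_iff]
            rintro _ rfl
            exact (hdc n₁ rfl).symm
        have h4 := h3 ha
        rw [mem_centralizer_iff] at h4
        exact h4 d rfl
      have h3 : Nat.card (N ⊓ centralizer {n₁} : Subgroup X) ≤ p ^ 2 := by
        rw [← hE₂card]; exact Subgroup.card_le_of_le h2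
      calc Nat.card N ≤ _ := h1
        _ ≤ p ^ 2 * p := by rw [hN₀cardp]; exact Nat.mul_le_mul_right _ h3
        _ = p ^ 3 := by ring
    · have h2 := mul_card_le_of_ne hNpg hE₂N hE₂neN
      rw [hE₂card] at h2
      calc p ^ 3 = p * p ^ 2 := by ring
        _ ≤ _ := h2
  -- the centre of `N`
  obtain ⟨ZN, hZNdef⟩ : ∃ ZN : Subgroup X, ZN = N ⊓ centralizer (N : Set X) := ⟨_, rfl⟩
  haveI hZNn : ZN.Normal := by rw [hZNdef]; infer_instance
  have hZNN : ZN ≤ N := by rw [hZNdef]; exact inf_le_left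
  have hZNne : ZN ≠ N := by
    intro h
    apply hNnonab
    intro a ha b hb
    have h1 : a ∈ ZN := by rw [h]; exact ha
    rw [hZNdef] at h1
    have h2 : a ∈ centralizer (N : Set X) := h1.2
    rw [mem_centralizer_iff] at h2
    exact (h2 b hb).symm
  have hZNN₀ : ZN ≤ N₀ := by
    rw [hN₀def]
    exact le_inf hZNN (hmin ZN hZNn hZNN hZNne)
  -- the centralizer of `N` in `P`
  obtain ⟨C, hCdef⟩ : ∃ C : Subgroup X, C = P ⊓ centralizer (N : Set X) := ⟨_, rfl⟩
  haveI hCn : C.Normal := by rw [hCdef]; infer_instance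
  have hCP : C ≤ P := by rw [hCdef]; exact inf_le_left
  have hCN : C ≤ centralizer (N : Set X) := by rw [hCdef]; exact inf_le_right
  have hCΩ : ∀ x ∈ C, x ^ p = 1 → x ∈ N₀ := by
    intro x hx hxp
    have hxc : x ∈ centralizer (N : Set X) := hCN hx
    have hxc' := hxc
    rw [mem_centralizer_iff] at hxc'
    have h1 : x ∈ E₂ := MT E₂ (hE₂N.trans hNP) hE₂.1 hE₂.2 hE₂card x (hCP hx) hxp
      (fun a ha => (hxc' a (hE₂N ha)).symm)
    apply hZNN₀
    rw [hZNdef]
    exact ⟨hE₂N h1, hxc⟩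
  have hCcent : ∀ c ∈ C, ∀ b ∈ B₁, b * c = c * b := by
    have h1 : ∀ g ∈ 𝔅, ⁅C, zpowers g⁆ = ⊥ := by
      intro g hg
      apply Cfsg.Agent.Helper19.commutator_eq_bot_of_centralizes_omega_one hp2 C (zpowers g)
        (hP.to_le hCP)
      · rw [normalizer_eq_top_iff.mpr hCn]; exact le_top
      · rw [Nat.card_zpowers]; exact h𝔅cop g hg
      · intro x hx hxp a ha
        have h3 := hN₀c (hCΩ x hx hxp)
        rw [mem_centralizer_iff] at h3
        have h4 : zpowers g ≤ B₁ := by rw [zpowers_le, hB₁def]; exact subset_closure hg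
        exact h3 a (h4 ha)
    have h2 : B₁ ≤ centralizer (C : Set X) := by
      rw [hB₁def, closure_le]
      intro g hg
      have h3 := h1 g hg
      rw [commutator_eq_bot_iff_le_centralizer] at h3
      rw [SetLike.mem_coe, mem_centralizer_iff]
      intro c hc
      have h4 := h3 hc
      rw [mem_centralizer_iff] at h4
      exact (h4 g (mem_zpowers g)).symm
    intro c hc b hb
    have h3 := h2 hb
    rw [mem_centralizer_iff] at h3
    exact (h3 c hc).symm
  -- `|P| ≤ p ^ 2 * |C|`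
  obtain ⟨n₂, hn₂N, hn₂E⟩ : ∃ n₂ ∈ N, n₂ ∉ E₂ := by
    by_contra hcon
    push Not at hcon
    exact hE₂neN (le_antisymm hE₂N hcon)
  have hNgen : N = E₂ ⊔ zpowers n₂ := by
    symm
    have hle : E₂ ⊔ zpowers n₂ ≤ N := sup_le hE₂N (zpowers_le.mpr hn₂N)
    apply Subgroup.eq_of_le_of_card_ge hle
    have h1 : E₂ ≠ E₂ ⊔ zpowers n₂ := by
      intro h; apply hn₂E; rw [h]
      exact (le_sup_right : zpowers n₂ ≤ E₂ ⊔ zpowers n₂) (mem_zpowers n₂)
    have h2 := mul_card_le_of_ne (hNpg.to_le hle) le_sup_left h1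
    rw [hE₂card] at h2
    rw [hNcard]
    calc p ^ 3 = p * p ^ 2 := by ring
      _ ≤ _ := h2
  have hPcardle : Nat.card P ≤ p ^ 2 * Nat.card C := by
    have h1 := card_le_card_centralizer_mul P N₀ n₁ (fun m hm => hcommN₀ m hm n₁ hn₁N)
    have h2 := card_le_card_centralizer_mul (P ⊓ centralizer {n₁}) N₀ n₂
      (fun m hm => hcommN₀ m hm.1 n₂ hn₂N)
    have h3 : (P ⊓ centralizer {n₁} ⊓ centralizer {n₂} : Subgroup X) ≤ C := by
      intro d hd
      have hdP : d ∈ P := hd.1.1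
      have hd1 : d ∈ centralizer ({n₁} : Set X) := hd.1.2
      have hd2 : d ∈ centralizer ({n₂} : Set X) := hd.2
      rw [mem_centralizer_iff] at hd1 hd2
      have h4 : E₂ ⊔ zpowers n₂ ≤ centralizer ({d} : Set X) := by
        rw [hE₂def]
        refine sup_le (sup_le ?_ ?_) ?_
        · intro z hz
          rw [mem_centralizer_iff]
          rintro _ rfl
          exact (hN₀P z hz _ hdP).symm
        · rw [zpowers_le, mem_centralizer_iff]
          rintro _ rfl
          exact (hd1 n₁ rfl).symm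
        · rw [zpowers_le, mem_centralizer_iff]
          rintro _ rfl
          exact (hd2 n₂ rfl).symm
      have h6 : d ∈ centralizer (N : Set X) := by
        rw [mem_centralizer_iff]
        intro n hn
        rw [hNgen] at hn
        have h5 := h4 hn
        rw [mem_centralizer_iff] at h5
        exact (h5 d rfl).symm
      rw [hCdef]
      exact ⟨hdP, h6⟩
    have h4 := Subgroup.card_le_of_le h3
    rw [hN₀cardp] at h1 h2
    calc Nat.card P ≤ Nat.card (P ⊓ centralizer {n₁} : Subgroup X) * p := h1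
      _ ≤ (Nat.card (P ⊓ centralizer {n₁} ⊓ centralizer {n₂} : Subgroup X) * p) * p :=
          Nat.mul_le_mul_right _ h2
      _ ≤ (Nat.card C * p) * p := Nat.mul_le_mul_right _ (Nat.mul_le_mul_right _ h4)
      _ = p ^ 2 * Nat.card C := by ring
  -- `P = N C`
  have hPNC : N ⊔ C = P := by
    apply Subgroup.eq_of_le_of_card_ge (sup_le hNP hCP)
    have h1 := Cfsg.Agent.Helper17.card_sup_mul_card_inf_of_normal N C
    have h2 : Nat.card (N ⊓ C : Subgroup X) ≤ p := by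
      rw [← hN₀cardp]
      apply Subgroup.card_le_of_le
      intro x hx
      apply hZNN₀
      rw [hZNdef]
      exact ⟨hx.1, hCN hx.2⟩
    rw [hNcard] at h1
    have h3 : Nat.card (N ⊔ C : Subgroup X) * p ≥ p ^ 3 * Nat.card C := by
      rw [← h1]; exact Nat.mul_le_mul_left _ h2
    have h4 : p * (p ^ 2 * Nat.card C) ≤ p * Nat.card (N ⊔ C : Subgroup X) := by
      calc p * (p ^ 2 * Nat.card C) = p ^ 3 * Nat.card C := by ring
        _ ≤ Nat.card (N ⊔ C : Subgroup X) * p := h3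
        _ = p * Nat.card (N ⊔ C : Subgroup X) := by ring
    exact hPcardle.trans (Nat.le_of_mul_le_mul_left h4 hpp.pos)
  have hAC : ∀ a ∈ A, ∀ c ∈ C, a * c = c * a := fun a ha c hc => hCcent c hc a (hAB₁ ha)
  have hPAN : ⁅P, A⁆ ≤ N := by
    rw [Subgroup.commutator_le]
    intro x hx a ha
    rw [← hPNC] at hx
    have hx' : x ∈ ((N ⊔ C : Subgroup X) : Set X) := hx
    rw [Subgroup.normal_mul] at hx'
    obtain ⟨n, hn, c, hc, rfl⟩ := Set.mem_mul.mp hx'
    have h1 : ⁅n * c, a⁆ = ⁅n, a⁆ := by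
      rw [commutatorElement_def, commutatorElement_def]
      have h2 : c * a = a * c := (hAC a ha c hc).symm
      calc n * c * a * (n * c)⁻¹ * a⁻¹ = n * (c * a) * c⁻¹ * n⁻¹ * a⁻¹ := by group
        _ = n * (a * c) * c⁻¹ * n⁻¹ * a⁻¹ := by rw [h2]
        _ = n * a * n⁻¹ * a⁻¹ := by group
    rw [h1, commutatorElement_def]
    have h3 : a * n⁻¹ * a⁻¹ ∈ N := hNn.conj_mem _ (N.inv_mem hn) a
    have h4 : n * a * n⁻¹ * a⁻¹ = n * (a * n⁻¹ * a⁻¹) := by group
    rw [h4]; exact N.mul_mem hn h3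
  have hPN : P = N := by
    apply le_antisymm _ hNP
    calc P = ⁅P, A⁆ := hPA.symm
      _ ≤ N := hPAN
  rw [hPN]; exact hNcard

end Cfsg.Agent.Helper19.CubeCard
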