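import Mathlib

/-!
# S3044 board, piece CY, context-free core (helper19).

`G = Y L`, `Y ⊴ G`, `O ⊴ G`, `L` normalizes `Q`, `Y ≤ ⟨Q^G⟩`, `X` normalized by `Y`, `[X,Q] ≤ O`  ⟹  `[X,Y] ≤ O`.
-/

set_option autoImplicit false

namespace Cfsg.Agent.Helper15.Iso44.CY

open Subgroup
open scoped commutatorElement

variable {G : Type*} [Group G]

/-- the elements centralizing `X` modulo the normal subgroup `O` -/
def cen (X O : Subgroup G) [O.Normal] : Subgroup G where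
  carrier := {z | ∀ x ∈ X, ⁅x, z⁆ ∈ O}
  one_mem' := by
    intro x _
    rw [commutatorElement_def]
    have : x * 1 * x⁻¹ * (1 : G)⁻¹ = 1 := by group
    rw [this]; exact O.one_mem
  mul_mem' := by
    intro a b ha hb x hx
    have h1 := ha x hx
    have h2 := hb x hx
    have e : ⁅x, a * b⁆ = ⁅x, a⁆ * (a * ⁅x, b⁆ * a⁻¹) := by
      simp only [commutatorElement_def]; group
    rw [e]
    exact O.mul_mem h1 (Normal.conj_mem inferInstance _ h2 a)
  inv_mem' := by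
    intro a ha x hx
    have h1 := ha x hx
    have e : ⁅x, a⁻¹⁆ = a⁻¹ * (⁅x, a⁆)⁻¹ * a⁻¹⁻¹ := by
      simp only [commutatorElement_def]; group
    rw [e]
    exact Normal.conj_mem inferInstance _ (O.inv_mem h1) a⁻¹

theorem mem_cen {X O : Subgroup G} [O.Normal] {z : G} : z ∈ cen X O ↔ ∀ x ∈ X, ⁅x, z⁆ ∈ O := Iff.rfl

/-- context-free core of CY -/
theorem core (Y L Q O X : Subgroup G) [hYn : Y.Normal] [hOn : O.Normal] (hYL : Y ⊔ L = ⊤)
    (hLQ : L ≤ normalizer (Q : Set G)) (hZ : Y ≤ normalClosure (Q : Set G))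
    (hYX : Y ≤ normalizer (X : Set G)) (hc : ⁅X, Q⁆ ≤ O) : ⁅X, Y⁆ ≤ O := by
  -- every conjugate of an element of `Q` lies in `cen X O`
  have hconj : ∀ g : G, ∀ q ∈ Q, g * q * g⁻¹ ∈ cen X O := by
    intro g q hq
    have hg : g ∈ ((Y ⊔ L : Subgroup G) : Set G) := by rw [hYL]; exact Set.mem_univ g
    rw [Subgroup.normal_mul] at hg
    obtain ⟨y, hy, l, hl, rfl⟩ := Set.mem_mul.mp hg
    have hq' : l * q * l⁻¹ ∈ Q := (Subgroup.mem_normalizer_iff.mp (hLQ hl) q).mp hq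
    intro x hx
    have hx' : y⁻¹ * x * y⁻¹⁻¹ ∈ X :=
      (Subgroup.mem_normalizer_iff.mp (hYX (Y.inv_mem hy)) x).mp hx
    have h1 : ⁅y⁻¹ * x * y⁻¹⁻¹, l * q * l⁻¹⁆ ∈ O := hc (Subgroup.commutator_mem_commutator hx' hq')
    have e : ⁅x, y * l * q * (y * l)⁻¹⁆ = y * ⁅y⁻¹ * x * y⁻¹⁻¹, l * q * l⁻¹⁆ * y⁻¹ := by
      simp only [commutatorElement_def]; group
    rw [e]
    exact Normal.conj_mem inferInstance _ h1 y
  have hle : normalClosure (Q : Set G) ≤ cen X O := by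
    rw [normalClosure, Subgroup.closure_le]
    intro a ha
    obtain ⟨b, hb, hba⟩ := Group.mem_conjugatesOfSet_iff.mp ha
    obtain ⟨c, hc'⟩ := isConj_iff.mp hba
    rw [← hc']
    exact hconj c b hb
  rw [Subgroup.commutator_le]
  intro x hx y hy
  exact (hle (hZ hy)) x hx

end Cfsg.Agent.Helper15.Iso44.CY
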