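import Cfsg.Agent.Helper15.Iso44Defs
import Cfsg.Agent.Helper15.Iso44Bas
import Cfsg.Agent.S2905

/-!
# S3044 board, piece ZCL (helper19, hedge): `D ≤ ⟨Q_L^G⟩`, `Y ≤ ⟨Q_L^G⟩` (via S2905 (3) then (1)).
-/

set_option autoImplicit false

namespace Cfsg.Agent.Helper15.Iso44

open Cfsg Subgroup

variable {G : Type*} [Group G] [Finite G] {p : ℕ} [Fact p.Prime] {S : Sylow p G} {P : Subgroup G}

namespace ZCLh

omit [Finite G] [Fact (Nat.Prime p)] in
/-- the image in `G` of the normal closure (in `↥P`) of `Q.subgroupOf P` lies in the normal closure of `Q` in `G` -/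
theorem map_normalClosure_le (P Q : Subgroup G) :
    (normalClosure ((Q.subgroupOf P : Subgroup ↥P) : Set ↥P)).map P.subtype ≤ normalClosure (Q : Set G) := by
  rw [Subgroup.map_le_iff_le_comap]
  apply Subgroup.normalClosure_le_normal
  intro x hx
  rw [SetLike.mem_coe, Subgroup.mem_comap]
  apply Subgroup.subset_normalClosure
  exact Subgroup.mem_subgroupOf.mp hx

end ZCLh

theorem D_le_normalClosure_QL (h : Ctx p S P) :
    Dsub p P ≤ normalClosure (QLsub p S P : Set G) := by
  have hQS : QLsub p S P ≤ (S : Subgroup G) := QL_le_S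
  have hQP : QLsub p S P ≤ P := hQS.trans h.hSP
  -- the Sylow subgroup of `↥P` and its maximal overgroup
  let S' : Sylow p ↥P := S.subtype h.hSP
  have hS' : (S' : Subgroup ↥P) = (S : Subgroup G).subgroupOf P := Sylow.coe_subtype S h.hSP
  obtain ⟨_, M, ⟨hM, hSM⟩, _⟩ := h.hPmin S'
  obtain ⟨h1, _, h3, _, _⟩ := Cfsg.Agent.S2905.result h.hPmin S' M hM hSM
  let Q' : Subgroup ↥P := (QLsub p S P).subgroupOf P
  let R : Subgroup ↥P := normalClosure (Q' : Set ↥P)
  have hRn : R.Normal := Subgroup.normalClosure_normal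
  rcases h3 R hRn with hcase | hcase
  · -- `O^p(P) ≤ R`
    have : Dsub p P ≤ R.map P.subtype := Subgroup.map_mono hcase
    exact this.trans (ZCLh.map_normalClosure_le P (QLsub p S P))
  · -- `R ≤ core(M)`: contradiction with `Q_L ≰ Q_P`
    exfalso
    apply h.hiso
    have hRM : R ≤ M := hcase.trans (Subgroup.normalCore_le M)
    have h4 : R ⊓ (S' : Subgroup ↥P) ≤ Cfsg.pCore p ↥P := h1 R hRn.isSubnormal hRM
    have hQ'R : Q' ≤ R := Subgroup.le_normalClosure
    have hQ'S : Q' ≤ (S' : Subgroup ↥P) := by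
      rw [hS']
      exact Subgroup.subgroupOf_mono P hQS
    have h5 : Q' ≤ Cfsg.pCore p ↥P := (le_inf hQ'R hQ'S).trans h4
    have h6 : Q'.map P.subtype ≤ (Cfsg.pCore p ↥P).map P.subtype := Subgroup.map_mono h5
    have h7 : Q'.map P.subtype = QLsub p S P := by
      rw [Subgroup.subgroupOf_map_subtype]
      exact inf_eq_left.mpr hQP
    rw [h7] at h6
    exact h6

theorem Y_le_normalClosure_QL (h : Ctx p S P) :
    Ysub p P ≤ normalClosure (QLsub p S P : Set G) := by
  apply Subgroup.normalClosure_le_normal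
  exact D_le_normalClosure_QL h

end Cfsg.Agent.Helper15.Iso44
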