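import Cfsg.Agent.Helper15.Iso44Defs
import Cfsg.Agent.Helper15.Iso44Bas
import Cfsg.Agent.Helper20.Iso44YL1
import Cfsg.Agent.Helper19.Iso44ZCL
import Cfsg.Agent.Helper10.Iso44CQ
import Cfsg.Agent.Helper19.Iso44CYcore

/-!
# S3044 board, piece CY (helper19): `[X,Q_L] ≤ O`, `X` normalized by `Y` ⟹ `[X,Y] ≤ O`; `[Y_L,Y] ≤ O`.
-/

set_option autoImplicit false

namespace Cfsg.Agent.Helper15.Iso44

open Cfsg Subgroup

variable {G : Type*} [Group G] [Finite G] {p : ℕ} [Fact p.Prime] {S : Sylow p G} {P : Subgroup G}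

theorem comm_Y_le_of_comm_QL (h : Ctx p S P) (X : Subgroup G) (hXY : X ≤ Ysub p P)
    (hYX : Ysub p P ≤ normalizer (X : Set G)) (hc : ⁅X, QLsub p S P⁆ ≤ Osub p P) :
    ⁅X, Ysub p P⁆ ≤ Osub p P :=
  CY.core (Ysub p P) (Lsub p S P) (QLsub p S P) (Osub p P) X (Y_sup_L h) L_le_normalizer_QL
    (Y_le_normalClosure_QL h) hYX hc

theorem comm_YL_Y (h : Ctx p S P) : ⁅YLsub p S P, Ysub p P⁆ ≤ Osub p P := by
  have hn : ∀ K : Subgroup G, K ≤ normalizer ((YLsub p S P : Subgroup G) : Set G) := by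
    intro K
    rw [Subgroup.normalizer_eq_top]
    exact le_top
  exact comm_Y_le_of_comm_QL h (YLsub p S P) YL_le_Y (hn _)
    (comm_QL_le_O (YLsub p S P) YL_le_Y YL_le_L (hn _) (hn _))

end Cfsg.Agent.Helper15.Iso44
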