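import Mathlib
import Cfsg.Agent.Helper27.S0429Defs

/-!
# S0429 board, piece KAPLE, core (helper19): `kap a z p ≤ 2` with K33 as a hypothesis.
-/

set_option autoImplicit false

namespace Cfsg.Agent.S0429P

open Finset

variable {V : Type*} [Fintype V] [DecidableEq V] {G : SimpleGraph V} [DecidableRel G.Adj]

/-- KAPLE from K33. -/
theorem KAPLE_aux (h : G.IsSRGWith 77 16 0 4)
    (hK33 : ∀ {a b c : V}, a ≠ b → a ≠ c → b ≠ c → ¬ G.Adj a b → ¬ G.Adj a c → ¬ G.Adj b c →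
      m3 G a b c ≤ 2)
    {a z p : V} (hz : Far G a z) (hp : Far G a p) (hzp : z ≠ p) : kap G a z p ≤ 2 := by
  unfold kap
  by_cases hadj : G.Adj z p
  · rw [if_pos hadj, m3_eq_zero_of_adj h hadj a]
  · rw [if_neg hadj, Nat.zero_add]
    exact hK33 (Ne.symm hz.1) (Ne.symm hp.1) hzp hz.2 hp.2 hadj

end Cfsg.Agent.S0429P
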