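import Mathlib
import Cfsg.Agent.Helper27.S0429Defs
import Cfsg.Agent.Helper27.S0429K33
import Cfsg.Agent.Helper19.S0429KAPLEaux

/-! Board `s0429pieces`, piece KAPLE: `kap a z p ≤ 2` for distinct `z, p` far from `a`
(core in `S0429KAPLEaux`, fed with K33). -/

set_option autoImplicit false

namespace Cfsg.Agent.S0429P

open Finset

variable {V : Type*} [Fintype V] [DecidableEq V] {G : SimpleGraph V} [DecidableRel G.Adj]

/-- KAPLE (S): `kap ≤ 2`. -/
theorem KAPLE (h : G.IsSRGWith 77 16 0 4) {a z p : V} (hz : Far G a z) (hp : Far G a p) (hzp : z ≠ p) :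
    kap G a z p ≤ 2 :=
  KAPLE_aux h (fun hab hac hbc nab nac nbc => K33 h hab hac hbc nab nac nbc) hz hp hzp

end Cfsg.Agent.S0429P
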