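import Mathlib
import Cfsg.Agent.Helper18.S0747Defs

/-! Board `s0747pieces`, row B_SWAP: if every non-identity element fixes at most `k` points and the pointwise
stabilizers of the `k`-subsets have even order, any two points of a `(k+1)`-set are interchanged by an element fixing the
other points of the set. -/

set_option autoImplicit false
set_option linter.unusedSectionVars false

namespace Cfsg.Agent.S0747P

open MulAction

/-- An involution with fixed point set exactly `T`. -/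
theorem B_SWAP_aux_invol {α : Type*} [Fintype α] [DecidableEq α] (G : Subgroup (Equiv.Perm α)) {k : ℕ}
    (hsemi : ∀ g ∈ G, g ≠ 1 → (Finset.univ.filter fun a => g a = a).card ≤ k)
    (T : Finset α) (hT : T.card = k) (heven : Even (Nat.card (fixingSubgroup ↥G (T : Set α)))) :
    ∃ t : Equiv.Perm α, t ∈ G ∧ t * t = 1 ∧ ∀ x, t x = x ↔ x ∈ T := by
  have : Fact (Nat.Prime 2) := ⟨Nat.prime_two⟩
  obtain ⟨x, hx⟩ := exists_prime_orderOf_dvd_card' 2 (even_iff_two_dvd.1 heven)
  have hx1 : x ≠ 1 := by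
    intro h
    rw [h, orderOf_one] at hx
    omega
  have hx2 : x * x = 1 := by rw [← sq, ← hx, pow_orderOf_eq_one]
  have hfix : ∀ y ∈ T, ((x : ↥G) : Equiv.Perm α) y = y := by
    intro y hy
    have h := (mem_fixingSubgroup_iff ↥G).1 x.2 y (by exact_mod_cast hy)
    exact h
  have hne : ((x : ↥G) : Equiv.Perm α) ≠ 1 := by
    intro h
    apply hx1
    apply Subtype.ext
    apply Subtype.ext
    exact h
  have hmul : ((x : ↥G) : Equiv.Perm α) * ((x : ↥G) : Equiv.Perm α) = 1 := by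
    have h := congrArg (fun y : ↥(fixingSubgroup ↥G (T : Set α)) => ((y : ↥G) : Equiv.Perm α)) hx2
    exact h
  refine ⟨((x : ↥G) : Equiv.Perm α), (x : ↥G).2, hmul, ?_⟩
  have hcard := hsemi _ (x : ↥G).2 hne
  have hsub : T ⊆ Finset.univ.filter fun a => ((x : ↥G) : Equiv.Perm α) a = a := by
    intro y hy
    simp [hfix y hy]
  have heq := Finset.eq_of_subset_of_card_le hsub (by rw [hT]; exact hcard)
  intro y
  constructor
  · intro hy
    rw [heq]
    simp [hy]
  · exact hfix y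

/-- B_SWAP: if every non-identity element fixes at most `k` points and the pointwise stabilizers of the `k`-subsets
have even order, any two points `u`, `v` of a `(k+1)`-set `Δ` are interchanged by an element fixing the other points
of `Δ`. -/
theorem B_SWAP {α : Type*} [Fintype α] [DecidableEq α] (G : Subgroup (Equiv.Perm α)) {k : ℕ} (hk : 1 ≤ k)
    (hsemi : ∀ g ∈ G, g ≠ 1 → (Finset.univ.filter fun a => g a = a).card ≤ k)
    (heven : ∀ T : Finset α, T.card = k → Even (Nat.card (fixingSubgroup ↥G (T : Set α))))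
    (Δ : Finset α) (hΔ : Δ.card = k + 1) (u v : α) (hu : u ∈ Δ) (hv : v ∈ Δ) (huv : u ≠ v) :
    ∃ g ∈ G, g u = v ∧ g v = u ∧ ∀ w ∈ Δ, w ≠ u → w ≠ v → g w = w := by
  obtain ⟨Γ', hΓ'⟩ : ∃ Γ' : Finset α, Γ' = (Δ.erase u).erase v := ⟨_, rfl⟩
  have hvΔu : v ∈ Δ.erase u := Finset.mem_erase.2 ⟨huv.symm, hv⟩
  have hΓ'card : Γ'.card + 1 = k := by
    rw [hΓ', Finset.card_erase_of_mem hvΔu, Finset.card_erase_of_mem hu, hΔ]
    omega
  have huΓ' : u ∉ Γ' := by simp [hΓ']
  have hvΓ' : v ∉ Γ' := by simp [hΓ']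
  have hmemΓ' : ∀ w ∈ Δ, w ≠ u → w ≠ v → w ∈ Γ' := by
    intro w hw hwu hwv
    simp [hΓ', hw, hwu, hwv]
  -- involutions
  have hex : ∀ c : α, ∃ t : Equiv.Perm α,
      c ∉ Γ' → (t ∈ G ∧ t * t = 1 ∧ ∀ x, t x = x ↔ x ∈ insert c Γ') := by
    intro c
    by_cases hc : c ∈ Γ'
    · exact ⟨1, fun h => absurd hc h⟩
    · have hT : (insert c Γ').card = k := by
        rw [Finset.card_insert_of_notMem hc, hΓ'card]
      obtain ⟨t, h1, h2, h3⟩ := B_SWAP_aux_invol G hsemi (insert c Γ') hT (heven _ hT)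
      exact ⟨t, fun _ => ⟨h1, h2, h3⟩⟩
  choose t ht using hex
  have htt : ∀ c, c ∉ Γ' → ∀ x, t c (t c x) = x := by
    intro c hc x
    have h := congrArg (fun s : Equiv.Perm α => s x) (ht c hc).2.1
    simpa [Equiv.Perm.mul_apply] using h
  obtain ⟨D, hD⟩ : ∃ D : Finset α, D = (insert u Γ')ᶜ := ⟨_, rfl⟩
  have hDmem : ∀ c, c ∈ D ↔ c ≠ u ∧ c ∉ Γ' := by
    intro c
    simp [hD, Finset.mem_compl]
  -- `u` is not fixed by `t c`
  have hnotfix : ∀ c ∈ D, t c u ≠ u := by
    intro c hc h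
    obtain ⟨hcu, hcΓ⟩ := (hDmem c).1 hc
    have h' := ((ht c hcΓ).2.2 u).1 h
    rcases Finset.mem_insert.1 h' with h'' | h''
    · exact hcu h''.symm
    · exact huΓ' h''
  -- `c ↦ t c u` maps `D` to `D`
  have hφ : ∀ c ∈ D, t c u ∈ D := by
    intro c hc
    obtain ⟨hcu, hcΓ⟩ := (hDmem c).1 hc
    rw [hDmem]
    refine ⟨hnotfix c hc, ?_⟩
    intro h
    have h4 : t c (t c u) = t c u := ((ht c hcΓ).2.2 _).2 (Finset.mem_insert_of_mem h)
    exact hnotfix c hc ((t c).injective h4)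
  -- injectivity
  have hinj : ∀ c ∈ D, ∀ d ∈ D, t c u = t d u → c = d := by
    intro c hc d hd hcd
    obtain ⟨hcu, hcΓ⟩ := (hDmem c).1 hc
    obtain ⟨hdu, hdΓ⟩ := (hDmem d).1 hd
    have hwD := (hDmem _).1 (hφ c hc)
    by_contra hne
    have hs : t d * t c ∈ G := G.mul_mem (ht d hdΓ).1 (ht c hcΓ).1
    have hs1 : t d * t c = 1 := by
      by_contra hs1
      have hcard := hsemi _ hs hs1
      have hsub : insert (t c u) (insert u Γ') ⊆ Finset.univ.filter fun a => (t d * t c) a = a := by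
        intro x hx
        rw [Finset.mem_filter]
        refine ⟨Finset.mem_univ _, ?_⟩
        rw [Equiv.Perm.mul_apply]
        rcases Finset.mem_insert.1 hx with hx | hx
        · rw [hx, htt c hcΓ, ← hcd]
        · rcases Finset.mem_insert.1 hx with hx | hx
          · rw [hx, hcd, htt d hdΓ]
          · rw [((ht c hcΓ).2.2 x).2 (Finset.mem_insert_of_mem hx),
              ((ht d hdΓ).2.2 x).2 (Finset.mem_insert_of_mem hx)]
      have h1 : (insert (t c u) (insert u Γ')).card = k + 1 := by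
        rw [Finset.card_insert_of_notMem, Finset.card_insert_of_notMem huΓ', hΓ'card]
        intro h
        rcases Finset.mem_insert.1 h with h | h
        · exact hwD.1 h
        · exact hwD.2 h
      have h2 := Finset.card_le_card hsub
      omega
    -- `t c = t d`
    have hcfix : t c c = c := ((ht c hcΓ).2.2 c).2 (Finset.mem_insert_self _ _)
    have hdc : t d c = c := by
      have h := congrArg (fun s : Equiv.Perm α => s c) hs1
      simp only [Equiv.Perm.mul_apply, hcfix, Equiv.Perm.one_apply] at h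
      exact h
    have h' := ((ht d hdΓ).2.2 c).1 hdc
    rcases Finset.mem_insert.1 h' with h'' | h''
    · exact hne h''
    · exact hcΓ h''
  -- surjectivity
  have hvD : v ∈ D := (hDmem v).2 ⟨huv.symm, hvΓ'⟩
  let φ : ↥D → ↥D := fun c => ⟨t c.1 u, hφ c.1 c.2⟩
  have hφinj : Function.Injective φ := by
    intro c d hcd
    apply Subtype.ext
    exact hinj c.1 c.2 d.1 d.2 (congrArg Subtype.val hcd)
  obtain ⟨c, hc⟩ := (Finite.injective_iff_surjective.1 hφinj) ⟨v, hvD⟩
  have hcv : t c.1 u = v := congrArg Subtype.val hc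
  obtain ⟨hcu, hcΓ⟩ := (hDmem c.1).1 c.2
  refine ⟨t c.1, (ht c.1 hcΓ).1, hcv, ?_, ?_⟩
  · rw [← hcv, htt c.1 hcΓ]
  · intro w hw hwu hwv
    exact ((ht c.1 hcΓ).2.2 w).2 (Finset.mem_insert_of_mem (hmemΓ' w hw hwu hwv))

end Cfsg.Agent.S0747P
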