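import Mathlib
import Cfsg.Agent.Helper10.S2092.DefsP
import Cfsg.Agent.Helper23.S2092PBASIC
import Cfsg.Agent.Helper22.S2094RBCOMB
import Cfsg.Agent.Helper29.S2092MODELW
import Cfsg.Agent.Helper13.S2092MCONJ
import Cfsg.Agent.Helper16.S2092SOFTC

set_option autoImplicit false
set_option linter.unusedSectionVars false
set_option linter.unusedVariables false

/-! S2092, part P, piece WIT (helper19): a Weyl element `m ∈ nS s` of a simple root `s` exchanges the root elements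
of `s` and `-s`: the root element of `s` is a commutator of root elements of roots `≠ ±s` (on which `m` acts by
SOFTC) up to a root element of a third root; the correction term vanishes by a look at the matrices. -/

namespace Cfsg.Agent.S2092P

open scoped commutatorElement
open Matrix Cfsg.Agent.S3352P Cfsg.Agent.S2096P Cfsg.Agent.S2094P Cfsg.Agent.RGD

variable {n : ℕ} {F : Type*} [Field F] {M : Type*} [Group M] {Ys : J n → J n → F → M}
  {Yl : J n → F → M} {π : M →* Matrix (J n) (J n) F}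

namespace WIT

theorem conj_comm (m x y : M) : m * ⁅x, y⁆ * m⁻¹ = ⁅m * x * m⁻¹, m * y * m⁻¹⁆ := by
  simp only [commutatorElement_def]
  group

theorem isRoot_ng_right {a b : J n} (hab : IsRoot a b) : IsRoot a (ng b) :=
  ⟨hab.2, by rw [ng_ng]; exact hab.1⟩

theorem isRoot_ng_left {a b : J n} (hab : IsRoot a b) : IsRoot (ng a) b :=
  ⟨fun h => hab.2 (by rw [← h, ng_ng]), fun h => hab.1 (ng_injective h)⟩

/-- recombination, short root: `ε_a - ε_b = (ε_a + ε_b) + (-2ε_b)` -/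
theorem recomb_lg (hY : CRel Ys Yl) {a b a' b' : J n} (hab : IsRoot a b) (hab' : IsRoot a' b')
    (m : M) (η1 η2 η3 : F)
    (e1 : ∀ u : F, m * Ys a (ng b) u * m⁻¹ = Ys a' (ng b') (η1 * u))
    (e2 : ∀ u : F, m * Yl (ng b) u * m⁻¹ = Yl (ng b') (η2 * u))
    (e3 : ∀ u : F, m * Yl a u * m⁻¹ = Yl a' (η3 * u)) (u : F) :
    ∃ β : F, m * Ys a b u * m⁻¹ = Ys a' b' (η1 * η2 * u) * Yl a' β := by
  have s1 := hY.sl a (ng b) (isRoot_ng_right hab) u 1
  rw [ng_ng] at s1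
  have s2 := hY.sl a' (ng b') (isRoot_ng_right hab') (η1 * u) (η2 * 1)
  rw [ng_ng] at s2
  have hx : Ys a b (u * 1) = ⁅Ys a (ng b) u, Yl (ng b) 1⁆ *
      (Yl a (sgF F a * sgF F (ng b) * u ^ 2 * 1))⁻¹ := by
    rw [s1, mul_inv_cancel_right]
  rw [mul_one] at hx
  refine ⟨sgF F a' * sgF F (ng b') * (η1 * u) ^ 2 * (η2 * 1) +
    -(η3 * (sgF F a * sgF F (ng b) * u ^ 2 * 1)), ?_⟩
  have e3' : m * (Yl a (sgF F a * sgF F (ng b) * u ^ 2 * 1))⁻¹ * m⁻¹ =
      Yl a' (-(η3 * (sgF F a * sgF F (ng b) * u ^ 2 * 1))) := by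
    rw [← Yl_inv_c hY, ← e3]
    group
  calc m * Ys a b u * m⁻¹
      = (m * ⁅Ys a (ng b) u, Yl (ng b) 1⁆ * m⁻¹) *
        (m * (Yl a (sgF F a * sgF F (ng b) * u ^ 2 * 1))⁻¹ * m⁻¹) := by
        rw [hx]; group
    _ = ⁅Ys a' (ng b') (η1 * u), Yl (ng b') (η2 * 1)⁆ *
        Yl a' (-(η3 * (sgF F a * sgF F (ng b) * u ^ 2 * 1))) := by
        rw [conj_comm, e1, e2, e3']
    _ = _ := by
        rw [s2, hY.addl, mul_assoc]
        congr 2
        ring

/-- recombination, long root: `2ε_a = (ε_a - ε_b) + (ε_a + ε_b)` -/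
theorem recomb_sh (hY : CRel Ys Yl) {a b a' : J n} (hab : IsRoot a b) (hab' : IsRoot a' b)
    (m : M) (η1 η2 η3 : F)
    (e1 : ∀ u : F, m * Ys a (ng b) u * m⁻¹ = Ys a' (ng b) (η1 * u))
    (e2 : ∀ u : F, m * Ys a b u * m⁻¹ = Ys a' b (η2 * u))
    (e3 : ∀ u : F, m * Yl b u * m⁻¹ = Yl b (η3 * u)) (τ : F) :
    ∃ α : F, m * Yl a (sgF F a * sgF F b * τ) * m⁻¹ =
      Ys a' (ng b) α * Yl a' (sgF F a' * sgF F b * η2 ^ 2 * η3 * τ) := by
  have s1 := hY.sl a b hab 1 τ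
  have s2 := hY.sl a' b hab' (η2 * 1) (η3 * τ)
  have hx : Yl a (sgF F a * sgF F b * 1 ^ 2 * τ) = (Ys a (ng b) (1 * τ))⁻¹ * ⁅Ys a b 1, Yl b τ⁆ := by
    rw [s1, inv_mul_cancel_left]
  rw [one_pow, mul_one, one_mul] at hx
  refine ⟨-(η1 * τ) + η2 * 1 * (η3 * τ), ?_⟩
  have e1' : m * (Ys a (ng b) τ)⁻¹ * m⁻¹ = Ys a' (ng b) (-(η1 * τ)) := by
    rw [← Ys_inv_c hY (isRoot_ng_right hab'), ← e1]
    group
  calc m * Yl a (sgF F a * sgF F b * τ) * m⁻¹
      = (m * (Ys a (ng b) τ)⁻¹ * m⁻¹) * (m * ⁅Ys a b 1, Yl b τ⁆ * m⁻¹) := by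
        rw [hx]; group
    _ = Ys a' (ng b) (-(η1 * τ)) * ⁅Ys a' b (η2 * 1), Yl b (η3 * τ)⁆ := by
        rw [conj_comm, e1', e2, e3]
    _ = _ := by
        rw [s2, hY.adds a' (ng b) (isRoot_ng_right hab'), ← mul_assoc]
        congr 2
        ring

/-! ### the matrices -/

theorem xs_apply (a b : J n) (t : F) (x y : J n) :
    xs a b t x y = (1 : Matrix (J n) (J n) F) x y +
      t * ((if a = x ∧ b = y then 1 else 0) -
        sgF F a * sgF F b * (if ng b = x ∧ ng a = y then 1 else 0)) := by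
  simp only [xs, Matrix.add_apply, Matrix.smul_apply, Matrix.sub_apply, Matrix.single_apply,
    smul_eq_mul]

theorem xl_apply (a : J n) (t : F) (x y : J n) :
    xl a t x y = (1 : Matrix (J n) (J n) F) x y + t * (if a = x ∧ ng a = y then 1 else 0) := by
  simp only [xl, Matrix.add_apply, Matrix.smul_apply, Matrix.single_apply, smul_eq_mul]

theorem mul_xl_apply (A : Matrix (J n) (J n) F) (a : J n) (t : F) (x y : J n) :
    (A * xl a t) x y = A x y + t * (if y = ng a then A x a else 0) := by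
  unfold xl
  rw [mul_add, mul_one, Matrix.add_apply, Matrix.mul_smul, Matrix.smul_apply, smul_eq_mul]
  congr 2
  by_cases hy : y = ng a
  · subst hy
    rw [if_pos rfl, Matrix.mul_single_apply_same, mul_one]
  · rw [if_neg hy, Matrix.mul_single_apply_of_ne (hbj := hy)]

/-- the correction term of `recomb_lg` vanishes -/
theorem beta_zero {a b : J n} (hab : IsRoot a b) {α β γ : F}
    (he : xs a b α * xl a β = xs a b γ) : β = 0 := by
  have e := congrFun (congrFun he a) (ng a)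
  have h1 : a ≠ ng a := (ng_ne a).symm
  have h2 : ¬ (b = ng a) := fun h => hab.symm.2 h
  have h3 : ¬ (ng b = a) := fun h => hab.2 h.symm
  have h4 : ¬ (b = a) := fun h => hab.1 h.symm
  rw [mul_xl_apply, if_pos rfl, xs_apply, xs_apply, xs_apply] at e
  simp only [Matrix.one_apply_ne h1, Matrix.one_apply_eq, h2, h3, h4, and_false, false_and,
    if_false, mul_zero, sub_zero, zero_add, add_zero, mul_one, true_and] at e
  exact e

/-- the correction term of `recomb_sh` vanishes -/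
theorem alpha_zero {a b : J n} (hab : IsRoot a b) {α β γ : F}
    (he : xs a (ng b) α * xl a β = xl a γ) : α = 0 := by
  have e := congrFun (congrFun he a) (ng b)
  have h1 : a ≠ ng b := hab.2
  have h2 : ¬ (ng b = ng a) := fun h => hab.1 (ng_injective h).symm
  have h3 : ¬ (ng (ng b) = a) := fun h => hab.1 (by rw [← h, ng_ng])
  have h4 : ¬ (ng a = ng b) := fun h => hab.1 (ng_injective h)
  rw [mul_xl_apply, if_neg h2, xs_apply, xl_apply] at e
  simp only [Matrix.one_apply_ne h1, h3, h4, and_false, false_and, true_and, and_self, if_true,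
    if_false, mul_zero, sub_zero, zero_add, add_zero, mul_one] at e
  exact e

theorem pi_xr (h : PHyp Ys Yl π) {r : RB n} (hr : r.Valid) (u : F) :
    π (xr Ys Yl r u) = xrm r u := by
  cases r with
  | lg a b => exact h.pis a b hr u
  | sh a => exact h.pil a u

/-- the matrix of a conjugate of a root element by a Weyl element -/
theorem pi_conj (h : PHyp Ys Yl π) (s : RootB n) {m : M} (hm : m ∈ (datumC Ys Yl).nS s)
    {r : RB n} (hr : r.Valid) :
    ∃ η : F, η ≠ 0 ∧ ∀ u : F, π (m * xr Ys Yl r u * m⁻¹) = xrm (r.map s.1.perm) (η * u) := by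
  obtain ⟨t, ht, hπm⟩ := pi_nS h s hm
  obtain ⟨η, hη, hc⟩ := mW_conj (F := F) s.2 hr ht
  refine ⟨η, hη, fun u => ?_⟩
  have hmm : π m * π m⁻¹ = 1 := by rw [← map_mul, mul_inv_cancel, map_one]
  calc π (m * xr Ys Yl r u * m⁻¹) = (π m * π (xr Ys Yl r u)) * π m⁻¹ := by
        rw [map_mul, map_mul]
    _ = (xrm (r.map s.1.perm) (η * u) * π m) * π m⁻¹ := by
        rw [pi_xr h hr, hπm, hc u]
    _ = _ := by rw [mul_assoc, hmm, mul_one]

theorem ne_of_val_ne {r r' : RootB n} (h : r.1 ≠ r'.1) : r ≠ r' := fun e => h (congrArg _ e)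

/-- the short simple roots -/
theorem conj_lg [Finite F] (hn : 2 ≤ n) (h : PHyp Ys Yl π) {a b : J n} (hab : IsRoot a b)
    (hs : (RB.lg a b : RB n).Simple) {m : M}
    (hm : m ∈ (datumC Ys Yl).nS ⟨RB.lg a b, hab⟩)
    {c d : J n} (hcd : IsRoot c d) (hc : sw a b c = d) (hd : sw a b d = c)
    (hcase : (c = a ∧ d = b) ∨ (c = b ∧ d = a)) :
    ∃ η : F, η ≠ 0 ∧ ∀ u : F, m * Ys c d u * m⁻¹ = Ys d c (η * u) := by
  set s : RootB n := ⟨RB.lg a b, hab⟩ with hsdef
  have hY := h.rel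
  have hab2 : a ≠ ng b := hab.2
  have hba2 : b ≠ ng a := hab.symm.2
  have hne : a ≠ b := hab.1
  have hna : a ≠ ng a := (ng_ne a).symm
  have hnb : b ≠ ng b := (ng_ne b).symm
  -- the three auxiliary roots
  have v1 : (RB.lg c (ng d) : RB n).Valid := isRoot_ng_right hcd
  have v2 : (RB.sh (ng d) : RB n).Valid := trivial
  have v3 : (RB.sh c : RB n).Valid := trivial
  have key : ∀ x y : J n, ((x = a ∧ y = b) ∨ (x = ng b ∧ y = ng a) ∨ (x = b ∧ y = a) ∨
      (x = ng a ∧ y = ng b)) → (RB.lg c (ng d) : RB n) ≠ RB.lg x y := by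
    intro x y hxy e
    injection e with e1 e2
    have hnb' : ng b ≠ b := ng_ne b
    have hna' : ng a ≠ a := ng_ne a
    rcases hcase with ⟨hc1, hd1⟩ | ⟨hc1, hd1⟩ <;>
      rcases hxy with ⟨hx, hy⟩ | ⟨hx, hy⟩ | ⟨hx, hy⟩ | ⟨hx, hy⟩ <;>
      (rw [hc1, hx] at e1; rw [hd1, hy] at e2;
       first
        | exact hne e1 | exact hne e1.symm | exact hab2 e1 | exact hba2 e1 | exact hna e1
        | exact hnb e1 | exact hnb' e2 | exact hna' e2)
  obtain ⟨η1, hη1, c1⟩ := nS_conj_ne hn h hs hm (r := ⟨RB.lg c (ng d), v1⟩)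
    (ne_of_val_ne (key _ _ (Or.inl ⟨rfl, rfl⟩)))
    (ne_of_val_ne (key _ _ (Or.inr (Or.inl ⟨rfl, rfl⟩))))
    (ne_of_val_ne (key _ _ (Or.inr (Or.inr (Or.inl ⟨rfl, rfl⟩)))))
    (ne_of_val_ne (key _ _ (Or.inr (Or.inr (Or.inr ⟨rfl, rfl⟩)))))
  obtain ⟨η2, hη2, c2⟩ := nS_conj_ne hn h hs hm (r := ⟨RB.sh (ng d), v2⟩)
    (ne_of_val_ne (by intro e; cases e)) (ne_of_val_ne (by intro e; cases e))
    (ne_of_val_ne (by intro e; cases e)) (ne_of_val_ne (by intro e; cases e))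
  obtain ⟨η3, hη3, c3⟩ := nS_conj_ne hn h hs hm (r := ⟨RB.sh c, v3⟩)
    (ne_of_val_ne (by intro e; cases e)) (ne_of_val_ne (by intro e; cases e))
    (ne_of_val_ne (by intro e; cases e)) (ne_of_val_ne (by intro e; cases e))
  have p1 : (RB.lg c (ng d) : RB n).map (RB.lg a b : RB n).perm = RB.lg d (ng c) := by
    show RB.lg (sw a b c) (sw a b (ng d)) = _
    rw [sw_ng, hc, hd]
  have p2 : (RB.sh (ng d) : RB n).map (RB.lg a b : RB n).perm = RB.sh (ng c) := by
    show RB.sh (sw a b (ng d)) = _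
    rw [sw_ng, hd]
  have p3 : (RB.sh c : RB n).map (RB.lg a b : RB n).perm = RB.sh d := by
    show RB.sh (sw a b c) = _
    rw [hc]
  have p4 : (RB.lg c d : RB n).map (RB.lg a b : RB n).perm = RB.lg d c := by
    show RB.lg (sw a b c) (sw a b d) = _
    rw [hc, hd]
  simp only [hsdef, p1, p2, p3] at c1 c2 c3
  obtain ⟨η, hη, c4⟩ := pi_conj h s hm (r := RB.lg c d) hcd
  simp only [hsdef, p4] at c4
  refine ⟨η1 * η2, mul_ne_zero hη1 hη2, fun u => ?_⟩
  obtain ⟨β, hβ⟩ := recomb_lg hY hcd hcd.symm m η1 η2 η3 c1 c2 c3 u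
  have e : π (m * Ys c d u * m⁻¹) = xs d c (η * u) := c4 u
  rw [hβ, map_mul, h.pis d c hcd.symm, h.pil] at e
  have hβ0 : β = 0 := beta_zero hcd.symm e
  rw [hβ, hβ0, Yl_zero_c hY, mul_one]

/-- the long simple root -/
theorem conj_sh [Finite F] (hn : 2 ≤ n) (h : PHyp Ys Yl π) {a : J n}
    (hs : (RB.sh a : RB n).Simple) {m : M}
    (hm : m ∈ (datumC Ys Yl).nS ⟨RB.sh a, trivial⟩) {b : J n} (hab : IsRoot a b)
    {c c' : J n} (hc : sc a c = c') (hcase : (c = a ∧ c' = ng a) ∨ (c = ng a ∧ c' = a)) :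
    ∃ η : F, η ≠ 0 ∧ ∀ u : F, m * Yl c u * m⁻¹ = Yl c' (η * u) := by
  set s : RootB n := ⟨RB.sh a, trivial⟩ with hsdef
  have hY := h.rel
  have hcb : IsRoot c b := by
    rcases hcase with ⟨rfl, -⟩ | ⟨rfl, -⟩
    · exact hab
    · exact isRoot_ng_left hab
  have hcb' : IsRoot c' b := by
    rcases hcase with ⟨-, rfl⟩ | ⟨-, rfl⟩
    · exact isRoot_ng_left hab
    · exact hab
  have hb1 : b ≠ a := hab.1.symm
  have hb2 : b ≠ ng a := hab.symm.2
  have hb3 : ng b ≠ a := fun e => hab.2 e.symm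
  have hb4 : ng b ≠ ng a := fun e => hab.1 (ng_injective e).symm
  have scb : sc a b = b := Equiv.swap_apply_of_ne_of_ne hb1 hb2
  have scnb : sc a (ng b) = ng b := Equiv.swap_apply_of_ne_of_ne hb3 hb4
  have v1 : (RB.lg c (ng b) : RB n).Valid := isRoot_ng_right hcb
  have v2 : (RB.lg c b : RB n).Valid := hcb
  have v3 : (RB.sh b : RB n).Valid := trivial
  have key : ∀ x : J n, (x = a ∨ x = ng a) → (RB.sh b : RB n) ≠ RB.sh x := by
    intro x hx e
    injection e with e1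
    rcases hx with rfl | rfl
    · exact hb1 e1
    · exact hb2 e1
  obtain ⟨η1, hη1, c1⟩ := nS_conj_ne hn h hs hm (r := ⟨RB.lg c (ng b), v1⟩)
    (ne_of_val_ne (by intro e; cases e)) (ne_of_val_ne (by intro e; cases e))
    (ne_of_val_ne (by intro e; cases e)) (ne_of_val_ne (by intro e; cases e))
  obtain ⟨η2, hη2, c2⟩ := nS_conj_ne hn h hs hm (r := ⟨RB.lg c b, v2⟩)
    (ne_of_val_ne (by intro e; cases e)) (ne_of_val_ne (by intro e; cases e))
    (ne_of_val_ne (by intro e; cases e)) (ne_of_val_ne (by intro e; cases e))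
  obtain ⟨η3, hη3, c3⟩ := nS_conj_ne hn h hs hm (r := ⟨RB.sh b, v3⟩)
    (ne_of_val_ne (key _ (Or.inl rfl))) (ne_of_val_ne (key _ (Or.inl rfl)))
    (ne_of_val_ne (key _ (Or.inr rfl))) (ne_of_val_ne (key _ (Or.inr rfl)))
  have p1 : (RB.lg c (ng b) : RB n).map (RB.sh a : RB n).perm = RB.lg c' (ng b) := by
    show RB.lg (sc a c) (sc a (ng b)) = _
    rw [hc, scnb]
  have p2 : (RB.lg c b : RB n).map (RB.sh a : RB n).perm = RB.lg c' b := by
    show RB.lg (sc a c) (sc a b) = _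
    rw [hc, scb]
  have p3 : (RB.sh b : RB n).map (RB.sh a : RB n).perm = RB.sh b := by
    show RB.sh (sc a b) = _
    rw [scb]
  have p4 : (RB.sh c : RB n).map (RB.sh a : RB n).perm = RB.sh c' := by
    show RB.sh (sc a c) = _
    rw [hc]
  simp only [hsdef, p1, p2, p3] at c1 c2 c3
  obtain ⟨η, hη, c4⟩ := pi_conj h s hm (r := RB.sh c) trivial
  simp only [hsdef, p4] at c4
  have main : ∀ τ : F, m * Yl c (sgF F c * sgF F b * τ) * m⁻¹ =
      Yl c' (sgF F c' * sgF F b * η2 ^ 2 * η3 * τ) := by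
    intro τ
    obtain ⟨α, hα⟩ := recomb_sh hY hcb hcb' m η1 η2 η3 c1 c2 c3 τ
    have e : π (m * Yl c (sgF F c * sgF F b * τ) * m⁻¹) =
        xl c' (η * (sgF F c * sgF F b * τ)) := c4 _
    rw [hα, map_mul, h.pis c' (ng b) (isRoot_ng_right hcb'), h.pil] at e
    have hα0 : α = 0 := alpha_zero hcb' e
    rw [hα, hα0, Ys_zero_c hY (isRoot_ng_right hcb'), one_mul]
  refine ⟨sgF F c' * sgF F b * η2 ^ 2 * η3 * (sgF F c * sgF F b), ?_, fun u => ?_⟩
  · have := PBASIC.sgF_ne_zero (F := F) c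
    have := PBASIC.sgF_ne_zero (F := F) c'
    have := PBASIC.sgF_ne_zero (F := F) b
    have := pow_ne_zero 2 hη2
    repeat' apply mul_ne_zero
    all_goals assumption
  · have e := main (sgF F c * sgF F b * u)
    have hu : sgF F c * sgF F b * (sgF F c * sgF F b * u) = u := by
      calc sgF F c * sgF F b * (sgF F c * sgF F b * u)
          = (sgF F c * sgF F c) * (sgF F b * sgF F b) * u := by ring
        _ = u := by rw [sgF_mul_self, sgF_mul_self, one_mul, one_mul]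
    rw [hu] at e
    rw [e]
    congr 1
    ring

end WIT

/-- WIT -/
theorem nS_conj_self [Finite F] (hn : 2 ≤ n) (h : PHyp Ys Yl π) {s : RootB n} (hs : s.1.Simple) {m : M}
    (hm : m ∈ (datumC Ys Yl).nS s) :
    (∃ η : F, η ≠ 0 ∧ ∀ u : F, m * xr Ys Yl s.1 u * m⁻¹ = xr Ys Yl s.1.neg (η * u)) ∧
    ∃ η : F, η ≠ 0 ∧ ∀ u : F, m * xr Ys Yl s.1.neg u * m⁻¹ = xr Ys Yl s.1 (η * u) := by
  obtain ⟨s, hsv⟩ := s
  cases s with
  | lg a b =>
    have hab : IsRoot a b := hsv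
    refine ⟨?_, ?_⟩
    · exact WIT.conj_lg hn h hab hs hm hab (WCONJ.sw_left a b hab) (WCONJ.sw_right a b hab)
        (Or.inl ⟨rfl, rfl⟩)
    · exact WIT.conj_lg hn h hab hs hm hab.symm (WCONJ.sw_right a b hab) (WCONJ.sw_left a b hab)
        (Or.inr ⟨rfl, rfl⟩)
  | sh a =>
    -- an index `b` with `IsRoot a b`
    obtain ⟨j, hj, rfl⟩ : ∃ j : Fin n, j.val + 1 = n ∧ a = Sum.inl j := hs
    have hab : IsRoot (Sum.inl j : J n) (Sum.inl (⟨0, by omega⟩ : Fin n)) := by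
      refine ⟨fun e => ?_, fun e => ?_⟩
      · have := congrArg Fin.val (Sum.inl_injective e)
        simp only at this
        omega
      · cases e
    have sc1 : sc (Sum.inl j : J n) (Sum.inl j) = ng (Sum.inl j) := Equiv.swap_apply_left _ _
    have sc2 : sc (Sum.inl j : J n) (ng (Sum.inl j)) = Sum.inl j := Equiv.swap_apply_right _ _
    refine ⟨?_, ?_⟩
    · exact WIT.conj_sh hn h ⟨j, hj, rfl⟩ hm hab sc1 (Or.inl ⟨rfl, rfl⟩)
    · exact WIT.conj_sh hn h ⟨j, hj, rfl⟩ hm hab sc2 (Or.inr ⟨rfl, rfl⟩)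

end Cfsg.Agent.S2092P
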