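import Mathlib
import Cfsg.Agent.Helper10.S2092.DefsP
import Cfsg.Agent.Helper23.S2092UNITRI
import Cfsg.Agent.Helper29.S2092MODELW

set_option autoImplicit false
set_option linter.unusedSectionVars false
set_option linter.unusedVariables false

/-! S2092, part P, piece POSB (helper19): an element `m` whose matrix is that of an element of `B̂` maps positive
root subgroups to positive root subgroups. -/

namespace Cfsg.Agent.S2092P

open scoped commutatorElement
open Matrix Cfsg.Agent.S3352P Cfsg.Agent.S2096P Cfsg.Agent.S2094P Cfsg.Agent.RGD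

variable {n : ℕ} {F : Type*} [Field F] {M : Type*} [Group M] {Ys : J n → J n → F → M}
  {Yl : J n → F → M} {π : M →* Matrix (J n) (J n) F}

namespace POSB

/-- upper triangular with nonzero diagonal, for the order `rk` -/
def UT (A : Matrix (J n) (J n) F) : Prop := (∀ x, A x x ≠ 0) ∧ ∀ x y, rk y < rk x → A x y = 0

theorem UT_one : UT (1 : Matrix (J n) (J n) F) := by
  refine ⟨fun x => by simp, fun x y hxy => ?_⟩
  rw [Matrix.one_apply_ne]
  rintro rfl
  exact lt_irrefl _ hxy

theorem UT_mul {A B : Matrix (J n) (J n) F} (hA : UT A) (hB : UT B) : UT (A * B) := by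
  refine ⟨fun x => ?_, fun x y hxy => ?_⟩
  · rw [Matrix.mul_apply, Finset.sum_eq_single x]
    · exact mul_ne_zero (hA.1 x) (hB.1 x)
    · intro z _ hzx
      rcases lt_trichotomy (rk z) (rk x) with h | h | h
      · rw [hA.2 x z h, zero_mul]
      · exact absurd (rk_injective h) hzx
      · rw [hB.2 z x h, mul_zero]
    · intro hx
      exact absurd (Finset.mem_univ x) hx
  · rw [Matrix.mul_apply]
    apply Finset.sum_eq_zero
    intro z _
    by_cases h : rk z < rk x
    · rw [hA.2 x z h, zero_mul]
    · rw [hB.2 z y (by omega), mul_zero]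

/-- the position of the main entry of the nilpotent part of a model root element -/
def src : RB n → J n
  | RB.lg a _ => a
  | RB.sh a => a

def tgt : RB n → J n
  | RB.lg _ b => b
  | RB.sh a => ng a

/-- the nilpotent part of the model root element -/
def Er (r : RB n) : Matrix (J n) (J n) F := xrm r 1 - 1

theorem xrm_eq (r : RB n) (u : F) : xrm r u = 1 + u • (Er r : Matrix (J n) (J n) F) := by
  cases r with
  | lg a b =>
    simp only [Er, xrm, xs]
    simp
  | sh a =>
    simp only [Er, xrm, xl]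
    simp

theorem Er_row {r : RB n} (hr : r.Valid) (z : J n) :
    (Er r : Matrix (J n) (J n) F) (src r) z = if z = tgt r then 1 else 0 := by
  cases r with
  | lg a b =>
    obtain ⟨h1, h2⟩ := hr
    have h3 : ng b ≠ a := fun h => h2 h.symm
    simp only [Er, xrm, xs, src, tgt]
    by_cases hz : z = b
    · subst hz
      simp [Matrix.single_apply, h3]
    · have hz' : ¬ b = z := fun h => hz h.symm
      simp [Matrix.single_apply, h3, hz, hz']
  | sh a =>
    simp only [Er, xrm, xl, src, tgt]
    by_cases hz : z = ng a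
    · subst hz
      simp [Matrix.single_apply]
    · have hz' : ¬ ng a = z := fun h => hz h.symm
      simp [Matrix.single_apply, hz, hz']

theorem Er_col {r : RB n} (hr : r.Valid) (z : J n) :
    (Er r : Matrix (J n) (J n) F) z (tgt r) = if z = src r then 1 else 0 := by
  cases r with
  | lg a b =>
    obtain ⟨h1, h2⟩ := hr
    have h3 : ng a ≠ b := fun h => h2 (by rw [← h, ng_ng])
    simp only [Er, xrm, xs, src, tgt]
    by_cases hz : z = a
    · subst hz
      simp [Matrix.single_apply, h3]
    · have hz' : ¬ a = z := fun h => hz h.symm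
      simp [Matrix.single_apply, h3, hz, hz']
  | sh a =>
    simp only [Er, xrm, xl, src, tgt]
    by_cases hz : z = a
    · subst hz
      simp [Matrix.single_apply]
    · have hz' : ¬ a = z := fun h => hz h.symm
      simp [Matrix.single_apply, hz, hz']

theorem Er_upper {r : RB n} (hr : r.Valid) (hp : r.Pos) (z w : J n)
    (hzw : (Er r : Matrix (J n) (J n) F) z w ≠ 0) : rk z < rk w := by
  cases r with
  | lg a b =>
    have hp' : rk a < rk b := hp
    by_cases h1 : a = z ∧ b = w
    · rw [← h1.1, ← h1.2]; exact hp'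
    · by_cases h2 : ng b = z ∧ ng a = w
      · rw [← h2.1, ← h2.2, POSCOMB.rk_ng', POSCOMB.rk_ng']
        have := POSCOMB.rk_lt a
        have := POSCOMB.rk_lt b
        omega
      · exfalso
        apply hzw
        simp only [Er, xrm, xs]
        simp [Matrix.single_apply, h1, h2]
  | sh a =>
    obtain ⟨i, rfl⟩ := hp
    by_cases h1 : (Sum.inl i : J n) = z ∧ ng (Sum.inl i : J n) = w
    · rw [← h1.1, ← h1.2, POSCOMB.rk_ng', POSCOMB.rk_inl]
      have := i.isLt
      omega
    · exfalso
      apply hzw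
      have h1' : ¬ ((Sum.inl i : J n) = z ∧ (Sum.inr i : J n) = w) := h1
      simp only [Er, xrm, xl]
      simp only [one_smul, add_sub_cancel_left]
      rw [Matrix.single_apply]
      exact if_neg h1'

theorem tgt_lt_src {r : RB n} (hr : r.Valid) (hp : ¬ r.Pos) : rk (tgt r) < rk (src r) := by
  cases r with
  | lg a b =>
    have hp' : ¬ rk a < rk b := hp
    have hne : rk a ≠ rk b := fun h => hr.1 (rk_injective h)
    show rk b < rk a
    omega
  | sh a =>
    show rk (ng a) < rk a
    cases a with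
    | inl i => exact absurd ⟨i, rfl⟩ hp
    | inr i =>
      rw [POSCOMB.rk_ng', POSCOMB.rk_inr]
      have := i.isLt
      omega

/-- the matrices of the elements of a root subgroup -/
theorem pi_mem_U (h : PHyp Ys Yl π) (r : RootB n) {g : M} (hg : g ∈ (datumC Ys Yl).U r) :
    ∃ u : F, π g = xrm r.1 u := by
  obtain ⟨r, hr⟩ := r
  cases r with
  | lg a b =>
    have hr' : IsRoot a b := hr
    have h0 : Ys a b (0 : F) = 1 := by
      have := h.rel.adds a b hr' 0 0
      rw [add_zero] at this
      exact (mul_eq_left.1 this.symm)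
    change g ∈ Subgroup.closure {g | ∃ t : F, g = Ys a b t} at hg
    induction hg using Subgroup.closure_induction with
    | mem x hx =>
      obtain ⟨t, rfl⟩ := hx
      exact ⟨t, h.pis a b hr' t⟩
    | one =>
      exact ⟨0, by rw [← h0, h.pis a b hr']; rfl⟩
    | mul x y _ _ hx hy =>
      obtain ⟨u, hu⟩ := hx
      obtain ⟨v, hv⟩ := hy
      refine ⟨u + v, ?_⟩
      rw [map_mul, hu, hv]
      show xs a b u * xs a b v = xs a b (u + v)
      rw [← h.pis a b hr', ← h.pis a b hr', ← h.pis a b hr', ← map_mul, h.rel.adds a b hr']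
    | inv x _ hx =>
      obtain ⟨u, hu⟩ := hx
      refine ⟨-u, ?_⟩
      have e1 : π x⁻¹ * π x = 1 := by rw [← map_mul, inv_mul_cancel, map_one]
      have e2 : π (Ys a b u) * π (Ys a b (-u)) = 1 := by
        rw [← map_mul, ← h.rel.adds a b hr', add_neg_cancel, h0, map_one]
      have e3 : π x = π (Ys a b u) := by rw [hu, h.pis a b hr']; rfl
      show π x⁻¹ = xs a b (-u)
      rw [← h.pis a b hr']
      calc π x⁻¹ = π x⁻¹ * (π (Ys a b u) * π (Ys a b (-u))) := by rw [e2, mul_one]
        _ = (π x⁻¹ * π x) * π (Ys a b (-u)) := by rw [e3, mul_assoc]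
        _ = π (Ys a b (-u)) := by rw [e1, one_mul]
  | sh a =>
    have h0 : Yl a (0 : F) = 1 := by
      have := h.rel.addl a 0 0
      rw [add_zero] at this
      exact (mul_eq_left.1 this.symm)
    change g ∈ Subgroup.closure {g | ∃ t : F, g = zl Yl a t} at hg
    induction hg using Subgroup.closure_induction with
    | mem x hx =>
      obtain ⟨t, rfl⟩ := hx
      exact ⟨sgF F a * t, h.pil a _⟩
    | one =>
      exact ⟨0, by rw [← h0, h.pil a]; rfl⟩
    | mul x y _ _ hx hy =>
      obtain ⟨u, hu⟩ := hx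
      obtain ⟨v, hv⟩ := hy
      refine ⟨u + v, ?_⟩
      rw [map_mul, hu, hv]
      show xl a u * xl a v = xl a (u + v)
      rw [← h.pil a, ← h.pil a, ← h.pil a, ← map_mul, h.rel.addl a]
    | inv x _ hx =>
      obtain ⟨u, hu⟩ := hx
      refine ⟨-u, ?_⟩
      have e1 : π x⁻¹ * π x = 1 := by rw [← map_mul, inv_mul_cancel, map_one]
      have e2 : π (Yl a u) * π (Yl a (-u)) = 1 := by
        rw [← map_mul, ← h.rel.addl a, add_neg_cancel, h0, map_one]
      have e3 : π x = π (Yl a u) := by rw [hu, h.pil a]; rfl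
      show π x⁻¹ = xl a (-u)
      rw [← h.pil a]
      calc π x⁻¹ = π x⁻¹ * (π (Yl a u) * π (Yl a (-u))) := by rw [e2, mul_one]
        _ = (π x⁻¹ * π x) * π (Yl a (-u)) := by rw [e3, mul_assoc]
        _ = π (Yl a (-u)) := by rw [e1, one_mul]

/-- the matrices of the elements of `B̂` are upper triangular with nonzero diagonal -/
theorem UT_of_mem_Bh (h : PHyp Ys Yl π) {b : M} (hb : b ∈ (datumC Ys Yl).Bh) : UT (π b) := by
  have hgen : ∀ x ∈ ((datumC Ys Yl).Uh : Set M) ∪ ((datumC Ys Yl).T : Set M), UT (π x) := by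
    rintro x (hx | hx)
    · obtain ⟨h1, h2⟩ := unitri_of_mem_Uh h hx
      exact ⟨fun y => by rw [h1 y]; exact one_ne_zero, h2⟩
    · obtain ⟨d, hd, hπ⟩ := diag_of_mem_T h hx
      rw [hπ]
      refine ⟨fun y => by rw [Matrix.diagonal_apply_eq]; exact hd y, fun y z hyz => ?_⟩
      rw [Matrix.diagonal_apply_ne]
      rintro rfl
      exact lt_irrefl _ hyz
  change b ∈ (datumC Ys Yl).Uh ⊔ (datumC Ys Yl).T at hb
  rw [Subgroup.sup_eq_closure] at hb
  induction hb using Subgroup.closure_induction'' with
  | mem x hx => exact hgen x hx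
  | inv_mem x hx =>
    apply hgen
    rcases hx with hx | hx
    · exact Or.inl (inv_mem hx)
    · exact Or.inr (inv_mem hx)
  | one => rw [map_one]; exact UT_one
  | mul x y _ _ hx hy => rw [map_mul]; exact UT_mul hx hy

end POSB

open POSB in
/-- POSB -/
theorem pos_of_map_eq (h : PHyp Ys Yl π) {m b : M} (hb : b ∈ (datumC Ys Yl).Bh) (hmb : π m = π b)
    {r r' : RootB n} (hr : (datumC Ys Yl).Pos r)
    (hx : ∀ x ∈ (datumC Ys Yl).U r, m * x * m⁻¹ ∈ (datumC Ys Yl).U r') : (datumC Ys Yl).Pos r' := by
  have hB : UT (π b) := UT_of_mem_Bh h hb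
  set B := π b with hBdef
  -- the element `x` with `π x = xrm r 1`
  obtain ⟨x, hxU, hπx⟩ : ∃ x ∈ (datumC Ys Yl).U r, π x = xrm r.1 (1 : F) := by
    obtain ⟨r, hrv⟩ := r
    cases r with
    | lg a c =>
      refine ⟨Ys a c 1, Subgroup.subset_closure ⟨1, rfl⟩, h.pis a c hrv 1⟩
    | sh a =>
      refine ⟨zl Yl a (sgF F a), Subgroup.subset_closure ⟨sgF F a, rfl⟩, ?_⟩
      show π (Yl a (sgF F a * sgF F a)) = xl a 1
      rw [sgF_mul_self, h.pil]
  obtain ⟨u, hu⟩ := pi_mem_U h r' (hx x hxU)
  -- the matrix identity `B * E_r = u • E_{r'} * B`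
  have hmm : π m * π m⁻¹ = 1 := by rw [← map_mul, mul_inv_cancel, map_one]
  have key : B * (Er r.1 : Matrix (J n) (J n) F) = (u • (Er r'.1 : Matrix (J n) (J n) F)) * B := by
    have e1 : π (m * x * m⁻¹) * π m = π m * π x := by
      rw [← map_mul, ← map_mul]
      congr 1
      group
    rw [hu, hπx, hmb, xrm_eq, xrm_eq, one_smul] at e1
    rw [add_mul, one_mul, mul_add, mul_one] at e1
    exact (add_left_cancel e1).symm
  show r'.1.Pos
  by_contra hneg
  have hlt := tgt_lt_src r'.2 hneg
  -- the entry `(src r', tgt r')`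
  have e2 := congrFun (congrFun key (src r'.1)) (tgt r'.1)
  have hL : (B * (Er r.1 : Matrix (J n) (J n) F)) (src r'.1) (tgt r'.1) = 0 := by
    rw [Matrix.mul_apply]
    apply Finset.sum_eq_zero
    intro z _
    by_cases hz : rk z < rk (src r'.1)
    · rw [hB.2 _ _ hz, zero_mul]
    · by_cases hE : (Er r.1 : Matrix (J n) (J n) F) z (tgt r'.1) = 0
      · rw [hE, mul_zero]
      · have := Er_upper r.2 hr z (tgt r'.1) hE
        omega
  have hR : ((u • (Er r'.1 : Matrix (J n) (J n) F)) * B) (src r'.1) (tgt r'.1) =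
      u * B (tgt r'.1) (tgt r'.1) := by
    rw [Matrix.mul_apply, Finset.sum_eq_single (tgt r'.1)]
    · rw [Matrix.smul_apply, Er_row r'.2, if_pos rfl, smul_eq_mul, mul_one]
    · intro z _ hz
      rw [Matrix.smul_apply, Er_row r'.2, if_neg hz, smul_zero, zero_mul]
    · intro hx
      exact absurd (Finset.mem_univ _) hx
  rw [hL, hR] at e2
  have hu0 : u = 0 := by
    rcases mul_eq_zero.1 e2.symm with h0 | h0
    · exact h0
    · exact absurd h0 (hB.1 _)
  -- then `B * E_r = 0`, impossible
  rw [hu0, zero_smul, zero_mul] at key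
  have e3 := congrFun (congrFun key (src r.1)) (tgt r.1)
  rw [Matrix.mul_apply, Finset.sum_eq_single (src r.1)] at e3
  · rw [Er_col r.2, if_pos rfl, mul_one] at e3
    exact hB.1 _ e3
  · intro z _ hz
    rw [Er_col r.2, if_neg hz, mul_zero]
  · intro hx
    exact absurd (Finset.mem_univ _) hx

end Cfsg.Agent.S2092P
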