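import Mathlib
import Cfsg.Agent.Helper10.S2092.DefsQ
import Cfsg.Agent.Helper7.S2092QCL45

set_option autoImplicit false
set_option linter.unusedSectionVars false
set_option linter.unusedVariables false

/-! S2092, wave Q, piece QCLS (helper19): the lifts of commuting short root elements of type `C_n`, `n ≥ 4`, commute
(any field): the commutator trick with a fourth index, or, when the four indices are distinct (`n = 4`!), with a
long root element. -/

namespace Cfsg.Agent.S2092P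

open scoped commutatorElement
open Cfsg.Agent.S3352P Cfsg.Agent.S2096P
open Cfsg.Agent.S2086P (CL cl)

variable {n : ℕ} {F : Type*} [Field F] {G : Type*} [Group G] {E : Type*} [Group E]
  {Xs : J n → J n → F → G} {Xl : J n → F → G}

namespace QCLS

theorem CL_mul_right {ψ : E →* G} (hψ : Function.Surjective ψ) {u g g' : G} (h1 : CL ψ u g)
    (h2 : CL ψ u g') : CL ψ u (g * g') := by
  intro e e' he he'
  obtain ⟨x, hx⟩ := hψ g
  have hx' : ψ (x⁻¹ * e') = g' := by rw [map_mul, map_inv, hx, he', inv_mul_cancel_left]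
  have c1 : Commute e x := h1 e x he hx
  have c2 : Commute e (x⁻¹ * e') := h2 e _ he hx'
  have : e' = x * (x⁻¹ * e') := by group
  rw [this]
  exact c1.mul_right c2

theorem CL_inv_right {ψ : E →* G} {u g : G} (h1 : CL ψ u g) : CL ψ u g⁻¹ := by
  intro e e' he he'
  have hx' : ψ e'⁻¹ = g := by rw [map_inv, he', inv_inv]
  have c := h1 e _ he hx'
  exact (Commute.inv_right_iff.1 c)

theorem ab_ne_of {x y : J n} (h1 : x ≠ y) (h2 : x ≠ ng y) : ab x ≠ ab y := by
  intro h
  rcases eq_or_eq_ng_of_ab_eq h with h | h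
  · exact h1 h
  · exact h2 h

theorem ne_of_ab_ne {x y : J n} (h : ab x ≠ ab y) : x ≠ y := fun e => h (by rw [e])

theorem ne_ng_of_ab_ne {x y : J n} (h : ab x ≠ ab y) : x ≠ ng y := fun e => h (by rw [e, ab_ng])

end QCLS

open QCLS in
theorem dcl_of_cRel (hn : 4 ≤ n) (h : CRel Xs Xl) (ψ : E →* G) (hψ : Function.Surjective ψ)
    (hc : ψ.ker ≤ Subgroup.center E) : DCL ψ Xs := by
  intro a b c d hab hcd h1 h2 h3 h4 h5 h6 s t
  by_cases hcase : c = a ∨ d = b
  · -- a fourth index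
    obtain ⟨k0, hk⟩ : ∃ k0 : Fin n, k0 ≠ ab a ∧ k0 ≠ ab b ∧ k0 ≠ ab c ∧ k0 ≠ ab d := by
      rcases hcase with rfl | rfl
      · obtain ⟨k0, e1, e2, e3⟩ := Cfsg.Agent.S2086P.exists_fourth hn (ab c) (ab b) (ab d)
        exact ⟨k0, e1, e2, e1, e3⟩
      · obtain ⟨k0, e1, e2, e3⟩ := Cfsg.Agent.S2086P.exists_fourth hn (ab a) (ab d) (ab c)
        exact ⟨k0, e1, e2, e3, e2⟩
    obtain ⟨ka, kb, kc, kd⟩ := hk
    set k : J n := Sum.inl k0 with hkdef
    have abk : ab k = k0 := rfl
    have hck : IsRoot c k := isRoot_iff_ab.2 (by rw [abk]; exact kc.symm)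
    have hkd : IsRoot k d := isRoot_iff_ab.2 (by rw [abk]; exact kd)
    have e : Xs c d t = ⁅Xs c k t, Xs k d 1⁆ := by
      rw [h.mul c k d hck hkd hcd, mul_one]
    rw [e]
    have na : ab a ≠ ab k := by rw [abk]; exact ka.symm
    have nb : ab b ≠ ab k := by rw [abk]; exact kb.symm
    apply Cfsg.Agent.S2086P.CL_of_comm ψ hψ hc
    · exact h.comm a b c k hab hck h1 (ne_of_ab_ne na) h3 (ne_ng_of_ab_ne na) h5 (ne_ng_of_ab_ne nb) s t
    · exact h.comm a b k d hab hkd (ne_of_ab_ne nb) h2 (ne_ng_of_ab_ne na) h4 (ne_ng_of_ab_ne nb) h6 s 1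
  · push Not at hcase
    obtain ⟨hca, hdb⟩ := hcase
    -- the long root trick
    have hcnd : IsRoot c (ng d) := ⟨hcd.2, by rw [ng_ng]; exact hcd.1⟩
    have s1 := h.sl c (ng d) hcnd t 1
    rw [ng_ng] at s1
    have e : Xs c d (t * 1) = ⁅Xs c (ng d) t, Xl (ng d) 1⁆ *
        (Xl c (sgF F c * sgF F (ng d) * t ^ 2 * 1))⁻¹ := by
      rw [s1, mul_inv_cancel_right]
    rw [mul_one] at e
    rw [e]
    apply CL_mul_right hψ
    · apply Cfsg.Agent.S2086P.CL_of_comm ψ hψ hc
      · refine h.comm a b c (ng d) hab hcnd h1 h4 h3 ?_ h5 ?_ s t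
        · rw [ng_ng]; exact h2
        · rw [ng_ng]; exact fun e => hdb e.symm
      · refine h.slcomm a b (ng d) hab (fun e => h6 e.symm) (fun e => h2 (ng_injective e).symm) s 1
    · exact CL_inv_right (cl_short_long hn h ψ hψ hc hab (fun e => h1 e.symm)
        (fun e => h3 (by rw [e, ng_ng])) s _)

end Cfsg.Agent.S2092P
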