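import Mathlib
import Cfsg.Agent.Helper2.S2096.Defs
import Cfsg.Agent.Helper2.PSLM.Main
import Cfsg.Agent.Helper3.S2096HALFSTD

set_option autoImplicit false
set_option linter.unusedSectionVars false
set_option linter.unusedVariables false

/-! S2096/S2097 part A, piece C2H (helper19): commuting root elements of `D_n` have commuting lifts in a
central extension: the two roots lie in a common half, where the type `A_{n-1}` result
`Cfsg.Agent.S2086P.MAIN.c2_all` applies. -/

namespace Cfsg.Agent.S2096P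

open Cfsg.Agent.S3352P Cfsg.Agent.S3351P Cfsg.Agent.S2086P
open scoped commutatorElement

variable {n : ℕ} {F : Type*} [Field F] [Fintype F] {G : Type*} [Group G] {E : Type*} [Group E]
  {X : J n → J n → F → G}

namespace C2H

/-- a signed index is recovered from its absolute value in a half containing it and not its negative -/
theorem half_ab (B : Finset (Fin n)) (x : J n) (h1 : ∀ i, x = Sum.inr i → i ∈ B)
    (h2 : ∀ i, x = Sum.inl i → i ∉ B) : half B (ab x) = x := by
  unfold half
  cases x with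
  | inl i =>
    rw [ab_inl, if_neg (h2 i rfl)]
  | inr i =>
    rw [ab_inr, if_pos (h1 i rfl)]

theorem ab_ne_of_ne {x y : J n} (h1 : x ≠ y) (h2 : x ≠ ng y) : ab x ≠ ab y := by
  intro h
  rcases eq_or_eq_ng_of_ab_eq h with h | h
  · exact h1 h
  · exact h2 h

theorem not_exc_of_big (hbig : Big n F) : ¬ MAIN.Exc n (Fintype.card F) := by
  rintro (⟨h1, h2⟩ | ⟨h1, h2⟩ | ⟨h1, h2⟩)
  · rcases hbig with h | ⟨h, -⟩ <;> omega
  · rcases hbig with h | ⟨h, -⟩ <;> omega
  · rcases hbig with h | ⟨h, h'⟩ <;> omega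

theorem three_le_of_big (hbig : Big n F) : 3 ≤ n := by
  rcases hbig with h | ⟨h, -⟩ <;> omega

end C2H

/-- C2H -/
theorem cl_comm (hbig : Big n F) (hX : DRel X) (ψ : E →* G) (hψ : Function.Surjective ψ)
    (hc : ψ.ker ≤ Subgroup.center E) {a b c d : J n} (hab : IsRoot a b) (hcd : IsRoot c d)
    (h1 : b ≠ c) (h2 : a ≠ d) (h3 : a ≠ ng c) (h4 : a ≠ ng d) (h5 : b ≠ ng c) (h6 : b ≠ ng d)
    (s t : F) : CL ψ (X a b s) (X c d t) := by
  classical
  have hn : 3 ≤ n := C2H.three_le_of_big hbig
  -- the half containing `a, b, c, d`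
  set B : Finset (Fin n) := Finset.univ.filter
    (fun i => a = Sum.inr i ∨ b = Sum.inr i ∨ c = Sum.inr i ∨ d = Sum.inr i) with hB
  have hmem : ∀ i, i ∈ B ↔ (a = Sum.inr i ∨ b = Sum.inr i ∨ c = Sum.inr i ∨ d = Sum.inr i) := by
    intro i
    rw [hB, Finset.mem_filter]
    simp
  -- no two of the four indices are opposite
  have key : ∀ x : J n, (x = a ∨ x = b ∨ x = c ∨ x = d) →
      ∀ i, x = Sum.inl i → i ∉ B := by
    intro x hx i hxi hiB
    rw [hmem] at hiB
    have hng : ng x = Sum.inr i := by rw [hxi]; rfl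
    -- one of `a b c d` equals `ng x`
    have h' : a = ng x ∨ b = ng x ∨ c = ng x ∨ d = ng x := by
      rw [hng]; exact hiB
    have e1 : a ≠ ng a := (ng_ne a).symm
    have e2 : b ≠ ng b := (ng_ne b).symm
    have e3 : c ≠ ng c := (ng_ne c).symm
    have e4 : d ≠ ng d := (ng_ne d).symm
    have f1 : b ≠ ng a := fun h => hab.2 (by rw [h, ng_ng])
    have f2 : c ≠ ng a := fun h => h3 (by rw [h, ng_ng])
    have f3 : d ≠ ng a := fun h => h4 (by rw [h, ng_ng])
    have f4 : c ≠ ng b := fun h => h5 (by rw [h, ng_ng])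
    have f5 : d ≠ ng b := fun h => h6 (by rw [h, ng_ng])
    have f6 : d ≠ ng c := fun h => hcd.2 (by rw [h, ng_ng])
    rcases hx with rfl | rfl | rfl | rfl
    · rcases h' with h | h | h | h
      · exact e1 h
      · exact f1 h
      · exact f2 h
      · exact f3 h
    · rcases h' with h | h | h | h
      · exact hab.2 h
      · exact e2 h
      · exact f4 h
      · exact f5 h
    · rcases h' with h | h | h | h
      · exact h3 h
      · exact h5 h
      · exact e3 h
      · exact f6 h
    · rcases h' with h | h | h | h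
      · exact h4 h
      · exact h6 h
      · exact hcd.2 h
      · exact e4 h
  have ha : half B (ab a) = a := C2H.half_ab B a
    (fun i h => (hmem i).2 (Or.inl h)) (key a (Or.inl rfl))
  have hb : half B (ab b) = b := C2H.half_ab B b
    (fun i h => (hmem i).2 (Or.inr (Or.inl h))) (key b (Or.inr (Or.inl rfl)))
  have hc' : half B (ab c) = c := C2H.half_ab B c
    (fun i h => (hmem i).2 (Or.inr (Or.inr (Or.inl h)))) (key c (Or.inr (Or.inr (Or.inl rfl))))
  have hd : half B (ab d) = d := C2H.half_ab B d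
    (fun i h => (hmem i).2 (Or.inr (Or.inr (Or.inr h)))) (key d (Or.inr (Or.inr (Or.inr rfl))))
  obtain ⟨S, hS⟩ := exists_half_stD (F := F) (X := X) hn hX B
  have r1 := hS (rt (ab a) (ab b) (isRoot_iff_ab.1 hab)) s
  have r2 := hS (rt (ab c) (ab d) (isRoot_iff_ab.1 hcd)) t
  rw [rt_fst, rt_snd, ha, hb] at r1
  rw [rt_fst, rt_snd, hc', hd] at r2
  rw [← r1, ← r2]
  exact MAIN.c2_all S ψ hψ hc hn (C2H.not_exc_of_big hbig) _ _ s t
    (C2H.ab_ne_of_ne h2 h4) (C2H.ab_ne_of_ne h1 h5)

end Cfsg.Agent.S2096P
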