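import Mathlib
import Cfsg.Agent.Helper2.S2400.Defs
import Cfsg.Agent.Helper2.Stein.Tab
import Cfsg.Prelude.Def_KGroupFacts
import Cfsg.Prelude.Def_Steinberg

set_option autoImplicit false
set_option linter.unusedSectionVars false
set_option linter.unusedVariables false

/-! S2400, piece SECQB: over the field with three elements, the commutator sections `secQ` over the
long root subgroups satisfy the relation (II) and are torus-equivariant. -/

namespace Cfsg.Agent.S2400P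

open scoped commutatorElement
open Cfsg.Lie Cfsg.Agent.Helper2.Stb Cfsg.Agent.Helper2.StPerf Cfsg.Agent.Helper2.Stein
open Cfsg.Agent.S2086P (CL cl map_cl cl_eq commute_comm CL_of_comm)

universe u

variable {K : Type*} [Field K] {G : Type*} [Group G] {E : Type*} [Group E]

namespace SECQB

theorem isS_add_two : ∀ k : ZMod 8, IsS k → IsS (k + 2) := by decide

theorem isS_of_add_two : ∀ k : ZMod 8, IsS (k + 2) → IsS k := by decide

theorem isS_of_isL_succ : ∀ k : ZMod 8, IsL (k + 1) → IsS k := by decide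

theorem cA_succ : ∀ j k : ZMod 8, IsS k → cA j (k + 1) = cA j k + cA j (k + 2) := by decide

theorem cases3 [Fintype K] (h3 : Fintype.card K = 3) (u : K) : u = 0 ∨ u = 1 ∨ u = -1 := by
  have h := FiniteField.pow_card u
  rw [h3] at h
  have h0 : u * (u - 1) * (u + 1) = 0 := by linear_combination h
  rcases mul_eq_zero.mp h0 with h1 | h1
  · rcases mul_eq_zero.mp h1 with h2 | h2
    · exact Or.inl h2
    · exact Or.inr (Or.inl (sub_eq_zero.mp h2))
  · exact Or.inr (Or.inr (eq_neg_of_add_eq_zero_left h1))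

theorem two_ne_zero3 [Fintype K] (h3 : Fintype.card K = 3) : (2 : K) ≠ 0 := by
  intro h
  have h3' : ((Fintype.card K : ℕ) : K) = 0 := FiniteField.cast_card_eq_zero K
  rw [h3] at h3'
  have h3'' : (3 : K) = 0 := by exact_mod_cast h3'
  have : (1 : K) = 0 := by linear_combination h3'' - h
  exact one_ne_zero this

theorem conj_comm (g a b : E) : g * ⁅a, b⁆ * g⁻¹ = ⁅g * a * g⁻¹, g * b * g⁻¹⁆ := by
  simp only [commutatorElement_def]; group

theorem secQ_succ (S : B2C K G) (Ys : ZMod 8 → K → E) (k : ZMod 8) (w : K) :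
    secQ S Ys (k + 1) w = ⁅Ys k (w / (2 * S.e3 k 1)), Ys (k + 2) 1⁆ := by
  unfold secQ
  rw [add_sub_cancel_right, add_assoc, one_add_one_eq_two]

section

variable (S : B2C K G) (ψ : E →* G) {Ys : ZMod 8 → K → E} (hYs : LiftS S ψ Ys)
  (h45 : ∀ k, CLr S ψ k (k + 1))

include hYs

theorem Ys_zero {k : ZMod 8} (hk : IsS k) : Ys k 0 = 1 := by
  have h := hYs.add k hk 0 0
  rw [add_zero] at h
  exact mul_eq_left.mp h

theorem map_F {k : ZMod 8} (hk : IsS k) (t u : K) :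
    ψ ⁅Ys k t, Ys (k + 2) u⁆ = S.X (k + 1) (2 * S.e3 k 1 * t * u) := by
  rw [map_commutatorElement, hYs.map k hk, hYs.map (k + 2) (isS_add_two k hk)]
  have h := S.circ.relII k hk 1 (Or.inl rfl) t u
  rwa [mul_one] at h

include h45

theorem F_add_left {k : ZMod 8} (hk : IsS k) (t t' u : K) :
    ⁅Ys k (t + t'), Ys (k + 2) u⁆ = ⁅Ys k t', Ys (k + 2) u⁆ * ⁅Ys k t, Ys (k + 2) u⁆ := by
  rw [← hYs.add k hk t t']
  have e : ⁅Ys k t * Ys k t', Ys (k + 2) u⁆ =
      Ys k t * ⁅Ys k t', Ys (k + 2) u⁆ * (Ys k t)⁻¹ * ⁅Ys k t, Ys (k + 2) u⁆ := by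
    simp only [commutatorElement_def]; group
  have hcm : Commute (Ys k t) ⁅Ys k t', Ys (k + 2) u⁆ :=
    h45 k t (2 * S.e3 k 1 * t' * u) _ _ (hYs.map k hk t) (map_F S ψ hYs hk t' u)
  rw [e, hcm.eq, mul_inv_cancel_right]

theorem F_add_right {k : ZMod 8} (hk : IsS k) (t u u' : K) :
    ⁅Ys k t, Ys (k + 2) (u + u')⁆ = ⁅Ys k t, Ys (k + 2) u⁆ * ⁅Ys k t, Ys (k + 2) u'⁆ := by
  rw [← hYs.add (k + 2) (isS_add_two k hk) u u']
  have e : ⁅Ys k t, Ys (k + 2) u * Ys (k + 2) u'⁆ =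
      ⁅Ys k t, Ys (k + 2) u⁆ * (Ys (k + 2) u * ⁅Ys k t, Ys (k + 2) u'⁆ * (Ys (k + 2) u)⁻¹) := by
    simp only [commutatorElement_def]; group
  have h12 : k + 1 + 1 = k + 2 := by rw [add_assoc, one_add_one_eq_two]
  have hcm : Commute ⁅Ys k t, Ys (k + 2) u'⁆ (Ys (k + 2) u) := by
    have h := h45 (k + 1) (2 * S.e3 k 1 * t * u') u ⁅Ys k t, Ys (k + 2) u'⁆ (Ys (k + 2) u)
      (map_F S ψ hYs hk t u') (by rw [h12]; exact hYs.map (k + 2) (isS_add_two k hk) u)
    exact h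
  rw [e, ← hcm.eq, mul_inv_cancel_right]

theorem F_neg_left {k : ZMod 8} (hk : IsS k) (t u : K) :
    ⁅Ys k (-t), Ys (k + 2) u⁆ = (⁅Ys k t, Ys (k + 2) u⁆)⁻¹ := by
  have h := F_add_left S ψ hYs h45 hk t (-t) u
  rw [add_neg_cancel, Ys_zero S ψ hYs hk, commutatorElement_one_left] at h
  exact eq_inv_of_mul_eq_one_left h.symm

theorem F_neg_right {k : ZMod 8} (hk : IsS k) (t u : K) :
    ⁅Ys k t, Ys (k + 2) (-u)⁆ = (⁅Ys k t, Ys (k + 2) u⁆)⁻¹ := by
  have h := F_add_right S ψ hYs h45 hk t u (-u)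
  rw [add_neg_cancel, Ys_zero S ψ hYs (isS_add_two k hk), commutatorElement_one_right] at h
  exact eq_inv_of_mul_eq_one_right h.symm

/-- over the field with three elements the commutator only depends on the product -/
theorem F_mul [Fintype K] (h3 : Fintype.card K = 3) {k : ZMod 8} (hk : IsS k) (t u : K) :
    ⁅Ys k t, Ys (k + 2) u⁆ = ⁅Ys k (t * u), Ys (k + 2) 1⁆ := by
  rcases cases3 h3 u with rfl | rfl | rfl
  · rw [mul_zero, Ys_zero S ψ hYs hk, Ys_zero S ψ hYs (isS_add_two k hk),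
      commutatorElement_one_left, commutatorElement_one_right]
  · rw [mul_one]
  · rw [mul_neg, mul_one, F_neg_left S ψ hYs h45 hk, F_neg_right S ψ hYs h45 hk]

end

end SECQB

open SECQB

theorem secQ_relII [Fintype K] (S : B2C K G) (ψ : E →* G) (hψ : Function.Surjective ψ)
    (hc : ψ.ker ≤ Subgroup.center E) (h3 : Fintype.card K = 3) {Ys : ZMod 8 → K → E}
    (hYs : LiftS S ψ Ys) (h45 : ∀ k, CLr S ψ k (k + 1)) (k : ZMod 8) (hk : IsS k) (s : ZMod 8)
    (hs : s = 1 ∨ s = -1) (t u : K) :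
    ⁅Ys k t, Ys (k + 2 * s) u⁆ = secQ S Ys (k + s) (2 * S.e3 k s * t * u) := by
  have h2 : (2 : K) ≠ 0 := two_ne_zero3 h3
  have he3 : ∀ k s, S.e3 k s ≠ 0 := by
    intro k s h
    have := S.e3_sq k s
    rw [h, mul_zero] at this
    exact zero_ne_one this
  rcases hs with rfl | rfl
  · rw [mul_one, secQ_succ, F_mul S ψ hYs h45 h3 hk t u]
    congr 2
    field_simp [h2, he3 k 1]
  · obtain ⟨k', rfl⟩ : ∃ k', k = k' + 2 := ⟨k - 2, by ring⟩
    have hk' : IsS k' := isS_of_add_two k' hk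
    have e1 : k' + 2 + 2 * -1 = k' := by ring
    have e2 : k' + 2 + -1 = k' + 1 := by ring
    rw [e1, e2, secQ_succ, ← commutatorElement_inv, F_mul S ψ hYs h45 h3 hk' u t,
      ← F_neg_left S ψ hYs h45 hk']
    congr 2
    rw [S.e3_anti k' hk']
    field_simp [h2, he3 k' 1]

theorem secQ_conj [Fintype K] (S : B2C K G) (ψ : E →* G) (hψ : Function.Surjective ψ)
    (hc : ψ.ker ≤ Subgroup.center E) (h3 : Fintype.card K = 3) {Ys : ZMod 8 → K → E}
    (hYs : LiftS S ψ Ys) (h45 : ∀ k, CLr S ψ k (k + 1)) (l : ZMod 8) (hl : IsL l) {g : E}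
    {j : ZMod 8} {w : K} (hw : w ≠ 0) (hg : ψ g = S.H j w) (t : K) :
    g * secQ S Ys l t * g⁻¹ = secQ S Ys l (w ^ (cA j l) * t) := by
  obtain ⟨k, rfl⟩ : ∃ k, l = k + 1 := ⟨l - 1, by ring⟩
  have hk : IsS k := isS_of_isL_succ k hl
  rw [secQ_succ, secQ_succ, conj_comm, hYs.conj g j w hw hg k hk,
    hYs.conj g j w hw hg (k + 2) (isS_add_two k hk), F_mul S ψ hYs h45 h3 hk, cA_succ j k hk,
    zpow_add₀ hw]
  congr 2
  ring

end Cfsg.Agent.S2400P
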