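import Mathlib
import Cfsg.Agent.Helper10.S2092.DefsT
import Cfsg.Agent.Helper2.S2400.MainB2
import Cfsg.Agent.Helper22.S2092B2CS

set_option autoImplicit false
set_option linter.unusedSectionVars false
set_option linter.unusedVariables false

/-! S2092, part T: same-root `CL` for short roots (helper19; own copy under fresh names in `CLSAME`, so that
CLCROSS and ELIFTS do not wait for piece SAME). -/

namespace Cfsg.Agent.S2092P

open scoped commutatorElement
open Cfsg.Agent.S3352P Cfsg.Agent.S2096P Cfsg.Agent.S2400P
open Cfsg.Agent.S2086P (CL cl)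

variable {n : ℕ} {F : Type*} [Field F] {G : Type*} [Group G] {E : Type*} [Group E]

namespace CLSAME

/-- all lifts of elements of the same root subgroup of a `B2C` commute (`|F| ≥ 3`) -/
theorem clr_same [Fintype F] (hF : 3 ≤ Fintype.card F) (B : B2C F G) (ψ : E →* G)
    (hψ : Function.Surjective ψ) (hc : ψ.ker ≤ Subgroup.center E) : ∀ k, CLr B ψ k k := by
  classical
  rcases Nat.lt_or_ge 3 (Fintype.card F) with h4 | h3
  · have hK : 4 ≤ Fintype.card F := h4
    obtain ⟨v, hv0, hv2⟩ := exists_sq_ne_one hK
    have hv1 : v ≠ 1 := by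
      intro h; apply hv2; rw [h]; ring
    have h45 := clr_45 B ψ hψ hc hv0 hv1
    have hLs := clr_same_long B ψ hψ hc h45
    have hSs : ∀ k, IsS k → CLr B ψ k k := by
      by_cases h2 : (2 : F) = 0
      · exact clr_same_short_of_two B ψ hψ hc h2 h45
      · have h5 : 5 ≤ Fintype.card F := by
          rcases Nat.lt_or_ge 4 (Fintype.card F) with h | h
          · exact h
          · exact absurd (two_eq_zero_of_card_four (le_antisymm h hK)) h2
        obtain ⟨d, hd0, hd1, hd⟩ := Cfsg.Agent.Helper2.Stb.exists_stepA_scalar (K := F)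
          ⟨Finset.univ, by rw [Finset.card_univ]; omega⟩
        exact clr_same_short_of_scalar B ψ hψ hc hd0 hd1 hd
    intro k
    rcases isS_or_isL k with h | h
    · exact hSs k h
    · exact hLs k h
  · exact clr_same_of_card_three B ψ hψ hc (le_antisymm h3 hF)

/-- same-root `CL` for the short roots -/
theorem cl_same_s' [Fintype F] (hF : 3 ≤ Fintype.card F) (S : CnT n F G) (ψ : E →* G)
    (hψ : Function.Surjective ψ) (hc : ψ.ker ≤ Subgroup.center E) (a b : J n) (hab : IsRoot a b)
    (s t : F) : CL ψ (S.Xs a b s) (S.Xs a b t) := by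
  have hne : ab a ≠ ab b := isRoot_iff_ab.mp hab
  have key : ∀ (i j : Fin n) (hij : i ≠ j) (k : ZMod 8) (s' t' : F),
      CL ψ (cX S.Xs S.Xl i j k s') (cX S.Xs S.Xl i j k t') := by
    intro i j hij k s' t'
    obtain ⟨B, hBX, -, -, -, -⟩ := exists_b2c_of_cnT S i j hij
    have h := clr_same hF B ψ hψ hc k s' t'
    rw [hBX] at h
    exact h
  cases a with
  | inl i =>
    cases b with
    | inl j => exact key i j hne 0 s t
    | inr j => exact key i j hne 2 s t
  | inr i =>
    cases b with
    | inl j => exact key i j hne 6 s t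
    | inr j =>
      have hij : i ≠ j := hne
      have hji : IsRoot (Sum.inl j : J n) (Sum.inl i) := by
        rw [isRoot_iff_ab]
        exact fun h => hij h.symm
      have hf : ∀ u : F, S.Xs (Sum.inr i) (Sum.inr j) u =
          S.Xs (Sum.inl j) (Sum.inl i) (-(sgF F (Sum.inl j : J n) * sgF F (Sum.inl i : J n)) * u) :=
        fun u => S.rel.flip (Sum.inl j) (Sum.inl i) hji u
      rw [hf, hf]
      exact key j i (fun h => hij h.symm) 0 _ _

end CLSAME

end Cfsg.Agent.S2092P
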