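import Mathlib
import Cfsg.Agent.Helper10.S2092.DefsT
import Cfsg.Agent.Helper2.S2400.MainB2
import Cfsg.Agent.Helper23.S2092GEN
import Cfsg.Agent.Helper19.S2092CLSAME

set_option autoImplicit false
set_option linter.unusedSectionVars false
set_option linter.unusedVariables false

/-! S2092, part T, piece CLCROSS (helper19): lifts of commuting root elements on different circles commute
(via `CL_of_scale` with a suitable torus element). -/

namespace Cfsg.Agent.S2092P

open scoped commutatorElement
open Cfsg.Agent.S3352P Cfsg.Agent.S2096P Cfsg.Agent.S2400P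
open Cfsg.Agent.S2086P (CL cl)

variable {n : ℕ} {F : Type*} [Field F] {G : Type*} [Group G] {E : Type*} [Group E]

namespace CLCROSS

/-- the character of `dOne i v` is trivial away from `i` -/
theorem chi_dOne_of_ne (i : Fin n) (v : Fˣ) (x : J n) (h : ab x ≠ i) :
    chi (dOne i v) x = (1 : F) := by
  cases x with
  | inl k =>
    have hk : k ≠ i := h
    simp [dOne, hk]
  | inr k =>
    have hk : k ≠ i := h
    simp [dOne, hk]

/-- the character of `dOne i v` at an index over `i` is `v` or `v⁻¹` -/
theorem chi_dOne_self_ne_one (i : Fin n) (v : Fˣ) (hv : ((v : Fˣ) : F) ≠ 1) (x : J n)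
    (h : ab x = i) : chi (dOne i v) x ≠ (1 : F) := by
  cases x with
  | inl k =>
    have hk : k = i := h
    simp [dOne, hk, hv]
  | inr k =>
    have hk : k = i := h
    simp only [chi_inr, dOne, hk, if_true]
    intro h1
    apply hv
    have h2 : (v⁻¹ : Fˣ) = 1 := Units.ext (by simpa using h1)
    have h3 : v = 1 := inv_eq_one.mp h2
    rw [h3]
    simp

/-- a unit `≠ 1` of a field with at least three elements -/
theorem exists_unit_ne_one [Fintype F] (hF : 3 ≤ Fintype.card F) :
    ∃ v : Fˣ, ((v : Fˣ) : F) ≠ 1 := by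
  classical
  by_contra hcon
  push Not at hcon
  have h : ∀ x : F, x = 0 ∨ x = 1 := by
    intro x
    by_cases hx : x = 0
    · exact Or.inl hx
    · exact Or.inr (hcon (Units.mk0 x hx))
  have hle : Fintype.card F ≤ 2 := by
    have : (Finset.univ : Finset F) ⊆ {0, 1} := by
      intro x _
      rcases h x with rfl | rfl <;> simp
    calc Fintype.card F = (Finset.univ : Finset F).card := rfl
      _ ≤ ({0, 1} : Finset F).card := Finset.card_le_card this
      _ ≤ 2 := Finset.card_le_two
  omega

/-- `Commute` from a trivial conjugation -/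
theorem commute_of_conj {M : Type*} [Group M] {g u : M} (h : g * u * g⁻¹ = u) : Commute u g := by
  have : g * u = u * g := by
    calc g * u = (g * u * g⁻¹) * g := by group
      _ = u * g := by rw [h]
  exact this.symm

/-- the scaling of `Xs a b` by the torus element of `dOne i v`, `i = ab a` -/
theorem conj_left (S : CnT n F G) (v : Fˣ) (a b : J n) (hab : IsRoot a b) (t : F) :
    S.H (dOne (ab a) v) * S.Xs a b t * (S.H (dOne (ab a) v))⁻¹ =
      S.Xs a b (chi (dOne (ab a) v) a * t) := by
  rw [S.conjs _ a b hab t, chi_dOne_of_ne (ab a) v b (isRoot_iff_ab.mp hab).symm, inv_one, mul_one]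

/-- the scaling of `Xs a b` by the torus element of `dOne i v`, `i = ab b` -/
theorem conj_right (S : CnT n F G) (v : Fˣ) (a b : J n) (hab : IsRoot a b) (t : F) :
    S.H (dOne (ab b) v) * S.Xs a b t * (S.H (dOne (ab b) v))⁻¹ =
      S.Xs a b ((chi (dOne (ab b) v) b)⁻¹ * t) := by
  rw [S.conjs _ a b hab t, chi_dOne_of_ne (ab b) v a (isRoot_iff_ab.mp hab), one_mul]

/-- a torus element away from the support of a short root centralizes its root elements -/
theorem conj_away (S : CnT n F G) (v : Fˣ) (i : Fin n) (a b : J n) (hab : IsRoot a b)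
    (ha : ab a ≠ i) (hb : ab b ≠ i) (t : F) :
    S.H (dOne i v) * S.Xs a b t * (S.H (dOne i v))⁻¹ = S.Xs a b t := by
  rw [S.conjs _ a b hab t, chi_dOne_of_ne i v a ha, chi_dOne_of_ne i v b hb, inv_one, mul_one,
    one_mul]

/-- a torus element away from the support of a long root centralizes its root elements -/
theorem conj_away_l (S : CnT n F G) (v : Fˣ) (i : Fin n) (c : J n) (hc : ab c ≠ i) (t : F) :
    S.H (dOne i v) * S.Xl c t * (S.H (dOne i v))⁻¹ = S.Xl c t := by
  rw [S.conjl _ c t, chi_dOne_of_ne i v c hc, one_pow, one_mul]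

/-- additivity of the short root elements, directly from the circle relations -/
theorem xs_add (S : CnT n F G) (a b : J n) (hab : IsRoot a b) (s t : F) :
    S.Xs a b (s + t) = S.Xs a b s * S.Xs a b t := by
  have hne : ab a ≠ ab b := isRoot_iff_ab.mp hab
  cases a with
  | inl i =>
    cases b with
    | inl j =>
      have hij : i ≠ j := hne
      exact ((S.rel.circ i j hij).add 0 s t).symm
    | inr j =>
      have hij : i ≠ j := hne
      exact ((S.rel.circ i j hij).add 2 s t).symm
  | inr i =>
    cases b with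
    | inl j =>
      have hij : i ≠ j := hne
      exact ((S.rel.circ i j hij).add 6 s t).symm
    | inr j =>
      have hij : i ≠ j := hne
      have hji : IsRoot (Sum.inl j : J n) (Sum.inl i) := by
        rw [isRoot_iff_ab]
        exact fun h => hij h.symm
      have hf : ∀ u : F, S.Xs (Sum.inr i) (Sum.inr j) u =
          S.Xs (Sum.inl j) (Sum.inl i) (-(sgF F (Sum.inl j : J n) * sgF F (Sum.inl i : J n)) * u) :=
        fun u => S.rel.flip (Sum.inl j) (Sum.inl i) hji u
      rw [hf, hf, hf, mul_add]
      exact ((S.rel.circ j i (fun h => hij h.symm)).add 0 _ _).symm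

end CLCROSS

open CLCROSS

theorem cl_comm_s [Fintype F] (hF : 3 ≤ Fintype.card F) (S : CnT n F G) (ψ : E →* G)
    (hψ : Function.Surjective ψ) (hc : ψ.ker ≤ Subgroup.center E) (a b c d : J n)
    (hab : IsRoot a b) (hcd : IsRoot c d) (h1 : b ≠ c) (h2 : a ≠ d) (h3 : a ≠ ng c) (h4 : a ≠ ng d)
    (h5 : b ≠ ng c) (h6 : b ≠ ng d) (s t : F) : CL ψ (S.Xs a b s) (S.Xs c d t) := by
  obtain ⟨v, hv⟩ := exists_unit_ne_one (F := F) hF
  have hcomm : ∀ s' : F, Commute (S.Xs c d t) (S.Xs a b s') := fun s' =>
    (S.rel.comm a b c d hab hcd h1 h2 h3 h4 h5 h6 s' t).symm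
  by_cases hac : a = c
  · subst hac
    by_cases hbd : b = d
    · subst hbd
      exact CLSAME.cl_same_s' hF S ψ hψ hc a b hab s t
    · -- `i = ab b`
      have hdb : ab d ≠ ab b := by
        intro h
        rcases eq_or_eq_ng_of_ab_eq h with h | h
        · exact hbd h.symm
        · exact h6 (by rw [h, ng_ng])
      have hne : (chi (dOne (ab b) v) b)⁻¹ ≠ (1 : F) := by
        intro h
        exact chi_dOne_self_ne_one (ab b) v hv b rfl (inv_eq_one.mp h)
      have hug : Commute (S.Xs a d t) (S.H (dOne (ab b) v)) :=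
        commute_of_conj (conj_away S v (ab b) a d hcd (isRoot_iff_ab.mp hab) hdb t)
      exact (CL_of_scale ψ hψ hc (xs_add S a b hab) (conj_right S v a b hab) hne hug hcomm s).symm
  · -- `i = ab a`
    have hca : ab c ≠ ab a := by
      intro h
      rcases eq_or_eq_ng_of_ab_eq h with h | h
      · exact hac h.symm
      · exact h3 (by rw [h, ng_ng])
    have hda : ab d ≠ ab a := by
      intro h
      rcases eq_or_eq_ng_of_ab_eq h with h | h
      · exact h2 h.symm
      · exact h4 (by rw [h, ng_ng])
    have hne : chi (dOne (ab a) v) a ≠ (1 : F) := chi_dOne_self_ne_one (ab a) v hv a rfl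
    have hug : Commute (S.Xs c d t) (S.H (dOne (ab a) v)) :=
      commute_of_conj (conj_away S v (ab a) c d hcd hca hda t)
    exact (CL_of_scale ψ hψ hc (xs_add S a b hab) (conj_left S v a b hab) hne hug hcomm s).symm

theorem cl_slcomm [Fintype F] (hF : 3 ≤ Fintype.card F) (S : CnT n F G) (ψ : E →* G)
    (hψ : Function.Surjective ψ) (hc : ψ.ker ≤ Subgroup.center E) (a b c : J n)
    (hab : IsRoot a b) (h1 : ab c ≠ ab a) (h2 : ab c ≠ ab b) (s t : F) :
    CL ψ (S.Xs a b s) (S.Xl c t) := by
  obtain ⟨v, hv⟩ := exists_unit_ne_one (F := F) hF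
  have hcomm : ∀ s' : F, Commute (S.Xl c t) (S.Xs a b s') := fun s' =>
    (S.rel.slcomm a b c hab h1 h2 s' t).symm
  have hne : chi (dOne (ab a) v) a ≠ (1 : F) := chi_dOne_self_ne_one (ab a) v hv a rfl
  have hug : Commute (S.Xl c t) (S.H (dOne (ab a) v)) :=
    commute_of_conj (conj_away_l S v (ab a) c h1 t)
  exact (CL_of_scale ψ hψ hc (xs_add S a b hab) (conj_left S v a b hab) hne hug hcomm s).symm

end Cfsg.Agent.S2092P
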