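import Mathlib
import Cfsg.Agent.Helper10.S2092.DefsT
import Cfsg.Agent.Helper2.S2400.MainB2
import Cfsg.Agent.Helper23.S2092GEN
import Cfsg.Agent.Helper19.S2092CLSAME
import Cfsg.Agent.Helper19.S2092CLCROSS

set_option autoImplicit false
set_option linter.unusedSectionVars false
set_option linter.unusedVariables false

/-! S2092, part T, piece ELIFTS (helper19): the canonical short lifts `cYs` are torus-equivariant additive lifts. -/

namespace Cfsg.Agent.S2092P

open scoped commutatorElement
open Cfsg.Agent.S3352P Cfsg.Agent.S2096P Cfsg.Agent.S2400P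
open Cfsg.Agent.S2086P (CL cl)

variable {n : ℕ} {F : Type*} [Field F] {G : Type*} [Group G] {E : Type*} [Group E]

open CLCROSS

namespace ELIFTS

/-- torus elements commute -/
theorem commute_H (S : CnT n F G) (d d' : Fin n → Fˣ) : Commute (S.H d) (S.H d') := by
  show S.H d * S.H d' = S.H d' * S.H d
  rw [← map_mul, ← map_mul, mul_comm]

end ELIFTS

open ELIFTS

theorem eLiftS_canon [Fintype F] (hF : 3 ≤ Fintype.card F) (S : CnT n F G) (ψ : E →* G)
    (hψ : Function.Surjective ψ) (hc : ψ.ker ≤ Subgroup.center E) (v : Fˣ)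
    (hv : ((v : Fˣ) : F) ≠ 1) : ELiftS S ψ (cYs S ψ hψ v) := by
  have hne : ∀ a : J n, chi (dOne (ab a) v) a ≠ (1 : F) := fun a =>
    chi_dOne_self_ne_one (ab a) v hv a rfl
  refine ⟨?_, ?_, ?_, ?_⟩
  · intro a b hab t
    exact map_sec ψ hψ (xs_add S a b hab) (conj_left S v a b hab) (hne a) t
  · intro a b hab s t
    exact sec_add ψ hψ hc (xs_add S a b hab) (conj_left S v a b hab) (hne a)
      (fun s' t' => CLSAME.cl_same_s' hF S ψ hψ hc a b hab s' t') s t
  · intro e d he a b hab t
    unfold cYs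
    apply sec_conj ψ hψ hc
    · rw [he]
      exact commute_H S d _
    · intro t'
      rw [he]
      exact S.conjs d a b hab t'
  · intro a b hab t
    have hba : IsRoot (ng b) (ng a) := by
      rw [isRoot_iff_ab, ab_ng, ab_ng]
      exact (isRoot_iff_ab.mp hab).symm
    have hfun : S.Xs (ng b) (ng a) = fun u => S.Xs a b (-(sgF F a * sgF F b) * u) := by
      funext u
      exact S.rel.flip a b hab u
    show sec ψ hψ (S.H (dOne (ab (ng b)) v)) (S.Xs (ng b) (ng a)) (chi (dOne (ab (ng b)) v) (ng b)) t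
      = sec ψ hψ (S.H (dOne (ab a) v)) (S.Xs a b) (chi (dOne (ab a) v) a) (-(sgF F a * sgF F b) * t)
    rw [hfun, sec_reparam, ab_ng]
    have hg' : ∀ t' : F, S.H (dOne (ab b) v) * S.Xs a b t' * (S.H (dOne (ab b) v))⁻¹ =
        S.Xs a b (chi (dOne (ab b) v) (ng b) * t') := by
      intro t'
      rw [conj_right S v a b hab t', chi_ng]
    have hne' : chi (dOne (ab b) v) (ng b) ≠ (1 : F) := by
      have := hne (ng b)
      rwa [ab_ng] at this
    exact sec_indep ψ hψ hc (xs_add S a b hab) hg' (conj_left S v a b hab) hne' (hne a)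
      (commute_H S _ _) (fun s' t' => CLSAME.cl_same_s' hF S ψ hψ hc a b hab s' t') _

end Cfsg.Agent.S2092P
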