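import Mathlib
import Cfsg.Agent.Helper10.S2092.Defs
import Cfsg.Agent.Helper29.S2092MODELW

set_option autoImplicit false
set_option linter.unusedSectionVars false
set_option linter.unusedVariables false

/-! S2092, wave M, piece XMATA (helper19): the model root elements of `Sp_{2n}`: zero, flip, additivity. -/

namespace Cfsg.Agent.S2092P

open scoped commutatorElement
open Matrix Cfsg.Agent.S3352P Cfsg.Agent.S2096P

variable {n : ℕ} {F : Type*} [Field F]

theorem xs_zero (a b : J n) : xs a b (0 : F) = 1 := by
  unfold xs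
  rw [zero_smul, add_zero]

theorem xl_zero (a : J n) : xl a (0 : F) = 1 := by
  unfold xl
  rw [zero_smul, add_zero]

theorem xs_flip {a b : J n} (hab : IsRoot a b) (t : F) :
    xs (ng b) (ng a) t = xs a b (-(sgF F a * sgF F b) * t) := by
  have ea : sgF F a * sgF F a = 1 := sgF_mul_self F a
  have eb : sgF F b * sgF F b = 1 := sgF_mul_self F b
  unfold xs
  rw [ng_ng, ng_ng, sgF_ng, sgF_ng]
  ext x y
  simp only [Matrix.add_apply, Matrix.smul_apply, Matrix.sub_apply, smul_eq_mul]
  generalize Matrix.single (ng b) (ng a) (1 : F) x y = S1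
  generalize Matrix.single a b (1 : F) x y = S2
  linear_combination (-(t * S1 * sgF F b * sgF F b)) * ea + (-(t * S1)) * eb

theorem xs_add {a b : J n} (hab : IsRoot a b) (s t : F) : xs a b (s + t) = xs a b s * xs a b t := by
  rw [ MODELW.xs_eq, MODELW.xs_eq, MODELW.xs_eq, mul_add, add_mul, add_mul, one_mul, one_mul, mul_one,
    Matrix.smul_mul, Matrix.mul_smul, MODELW.Es_mul_self hab, smul_zero, smul_zero, add_zero,
    add_smul, add_assoc]

theorem xl_add (a : J n) (s t : F) : xl a (s + t) = xl a s * xl a t := by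
  rw [ MODELW.xl_eq, MODELW.xl_eq, MODELW.xl_eq, mul_add, add_mul, add_mul, one_mul, one_mul, mul_one,
    Matrix.smul_mul, Matrix.mul_smul, MODELW.El_mul_self, smul_zero, smul_zero, add_zero,
    add_smul, add_assoc]

end Cfsg.Agent.S2092P
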