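import Mathlib
import Cfsg.Agent.Helper10.S2548Defs
import Cfsg.Agent.Helper10.MatBNC
import Cfsg.Agent.Helper10.S2548PRES
import Cfsg.Agent.Helper10.S2548ROOTMEM

set_option autoImplicit false
open scoped Matrix

/-!
# S2548 piece WMON (helper19): the signed monomial lifts `wM n i k = x_{ik}(1) x_{ki}(-1) x_{ik}(1)`
-/

namespace Cfsg.Agent.S2548P

open Cfsg.Agent.MatBN
open Cfsg.Agent.S2546P (E)

variable {K : Type*} [Field K] {n : ℕ}

namespace WMON

open ROOTMEM

/-- product of two matrix units -/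
theorem ss (x y z w : Fin n) (s t : K) :
    Matrix.single x y s * Matrix.single z w t = if y = z then Matrix.single x w (s * t) else 0 := by
  by_cases h : y = z
  · subst h
    rw [if_pos rfl, Matrix.single_mul_single_same]
  · rw [if_neg h, Matrix.single_mul_single_of_ne _ _ _ _ h]

theorem single_neg' (x y : Fin n) (t : K) :
    Matrix.single x y (-t) = -Matrix.single x y t := by
  ext a b
  simp only [Matrix.single_apply, Matrix.neg_apply]
  split_ifs <;> simp

/-- the `Fin`-indexed version of `wM` -/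
def wF (a c : Fin n) : Matrix (Fin n) (Fin n) K :=
  1 - Matrix.single a a 1 - Matrix.single c c 1 - Matrix.single a.rev a.rev 1 -
    Matrix.single c.rev c.rev 1 + Matrix.single a c 1 - Matrix.single c a 1 -
    Matrix.single c.rev a.rev 1 + Matrix.single a.rev c.rev 1

theorem wM_eq_wF {i k : ℕ} (h : IsRt n i k) :
    (wM n i k : Matrix (Fin n) (Fin n) K) = wF (⟨i, h.1⟩ : Fin n) ⟨k, h.2.1⟩ := by
  have hi := h.1
  have hk := h.2.1
  have hi' : n - 1 - i < n := by omega
  have hk' : n - 1 - k < n := by omega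
  have e_i : (⟨n - 1 - i, hi'⟩ : Fin n) = (⟨i, hi⟩ : Fin n).rev := by
    apply Fin.ext
    rw [Fin.val_rev]
    show n - 1 - i = n - (i + 1)
    omega
  have e_k : (⟨n - 1 - k, hk'⟩ : Fin n) = (⟨k, hk⟩ : Fin n).rev := by
    apply Fin.ext
    rw [Fin.val_rev]
    show n - 1 - k = n - (k + 1)
    omega
  unfold wM wF
  rw [E_eq_single' hi hi, E_eq_single' hk hk, E_eq_single' hi' hi', E_eq_single' hk' hk',
    E_eq_single' hi hk, E_eq_single' hk hi, E_eq_single' hk' hi', E_eq_single' hi' hk', e_i, e_k]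

/-- the distinctness facts -/
theorem distinct (hn : n % 2 = 0) {a c : Fin n} (hac : a ≠ c) (hac' : a ≠ c.rev) :
    a.rev ≠ a ∧ c.rev ≠ c ∧ c ≠ a.rev ∧ a.rev ≠ c.rev :=
  ⟨rev_ne_self hn a, rev_ne_self hn c, fun e => hac' (by rw [e, Fin.rev_rev]),
    fun e => hac (Fin.rev_injective e)⟩

theorem wF_eq (hn : n % 2 = 0) {a c : Fin n} (hac : a ≠ c) (hac' : a ≠ c.rev) :
    (wF a c : Matrix (Fin n) (Fin n) K) = xF a c 1 * xF c a (-1) * xF a c 1 := by
  obtain ⟨h1, h2, h3, h4⟩ := distinct hn hac hac'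
  unfold wF xF
  rw [single_neg', single_neg']
  simp only [mul_add, add_mul, mul_sub, sub_mul, mul_one, one_mul, mul_neg, neg_mul, ss,
    hac, hac.symm, hac', hac'.symm, h1, h1.symm, h2, h2.symm, h3, h3.symm, h4, h4.symm, if_true,
    if_false, mul_zero, zero_mul, sub_zero, add_zero, neg_zero, zero_add, zero_sub, sub_neg_eq_add,
    neg_neg]
  abel

theorem wF_mul_xF (hn : n % 2 = 0) {a c : Fin n} (hac : a ≠ c) (hac' : a ≠ c.rev) (t : K) :
    (wF a c : Matrix (Fin n) (Fin n) K) * xF a c t = xF c a (-t) * wF a c := by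
  obtain ⟨h1, h2, h3, h4⟩ := distinct hn hac hac'
  unfold wF xF
  rw [single_neg', single_neg']
  simp only [mul_add, add_mul, mul_sub, sub_mul, mul_one, one_mul, mul_neg, neg_mul, ss,
    hac, hac.symm, hac', hac'.symm, h1, h1.symm, h2, h2.symm, h3, h3.symm, h4, h4.symm, if_true,
    if_false, mul_zero, zero_mul, sub_zero, add_zero, neg_zero, zero_add, zero_sub, sub_neg_eq_add,
    neg_neg]
  abel

theorem mon_wF (hn : n % 2 = 0) {a c : Fin n} (hac : a ≠ c) (hac' : a ≠ c.rev) :
    Mon (wF a c : Matrix (Fin n) (Fin n) K) (Equiv.swap a c * Equiv.swap a.rev c.rev) := by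
  obtain ⟨h1, h2, h3, h4⟩ := distinct hn hac hac'
  intro x y
  rw [Equiv.Perm.mul_apply]
  by_cases e1 : y = a
  · subst e1
    rw [Equiv.swap_apply_of_ne_of_ne h1.symm hac', Equiv.swap_apply_left]
    by_cases x1 : x = c
    · subst x1
      simp [wF, Matrix.sub_apply, Matrix.add_apply, Matrix.one_apply, Matrix.single_apply, hac, hac.symm, hac', hac'.symm, h1, h1.symm, h2, h2.symm, h3, h3.symm, h4, h4.symm]
    · by_cases x2 : x = y
      · subst x2
        simp [wF, Matrix.sub_apply, Matrix.add_apply, Matrix.one_apply, Matrix.single_apply, hac, hac.symm, hac', hac'.symm, h1, h1.symm, h2, h2.symm, h3, h3.symm, h4, h4.symm]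
      · have x1' := Ne.symm x1
        have x2' := Ne.symm x2
        simp [wF, Matrix.sub_apply, Matrix.add_apply, Matrix.one_apply, Matrix.single_apply, hac, hac.symm, hac', hac'.symm, h1, h1.symm, h2, h2.symm, h3, h3.symm, h4, h4.symm, x1, x1', x2, x2']
  · by_cases e2 : y = c
    · subst e2
      rw [Equiv.swap_apply_of_ne_of_ne h3 h2.symm, Equiv.swap_apply_right]
      by_cases x1 : x = a
      · subst x1
        simp [wF, Matrix.sub_apply, Matrix.add_apply, Matrix.one_apply, Matrix.single_apply, hac, hac.symm, hac', hac'.symm, h1, h1.symm, h2, h2.symm, h3, h3.symm, h4, h4.symm]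
      · by_cases x2 : x = y
        · subst x2
          simp [wF, Matrix.sub_apply, Matrix.add_apply, Matrix.one_apply, Matrix.single_apply, hac, hac.symm, hac', hac'.symm, h1, h1.symm, h2, h2.symm, h3, h3.symm, h4, h4.symm]
        · have x1' := Ne.symm x1
          have x2' := Ne.symm x2
          simp [wF, Matrix.sub_apply, Matrix.add_apply, Matrix.one_apply, Matrix.single_apply, hac, hac.symm, hac', hac'.symm, h1, h1.symm, h2, h2.symm, h3, h3.symm, h4, h4.symm, x1, x1', x2, x2']
    · by_cases e3 : y = a.rev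
      · subst e3
        rw [Equiv.swap_apply_left, Equiv.swap_apply_of_ne_of_ne hac'.symm h2]
        by_cases x1 : x = c.rev
        · subst x1
          simp [wF, Matrix.sub_apply, Matrix.add_apply, Matrix.one_apply, Matrix.single_apply, hac, hac.symm, hac', hac'.symm, h1, h1.symm, h2, h2.symm, h3, h3.symm, h4, h4.symm]
        · by_cases x2 : x = a.rev
          · subst x2
            simp [wF, Matrix.sub_apply, Matrix.add_apply, Matrix.one_apply, Matrix.single_apply, hac, hac.symm, hac', hac'.symm, h1, h1.symm, h2, h2.symm, h3, h3.symm, h4, h4.symm]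
          · have x1' := Ne.symm x1
            have x2' := Ne.symm x2
            simp [wF, Matrix.sub_apply, Matrix.add_apply, Matrix.one_apply, Matrix.single_apply, hac, hac.symm, hac', hac'.symm, h1, h1.symm, h2, h2.symm, h3, h3.symm, h4, h4.symm, x1, x1', x2, x2']
      · by_cases e4 : y = c.rev
        · subst e4
          rw [Equiv.swap_apply_right, Equiv.swap_apply_of_ne_of_ne h1 h3.symm]
          by_cases x1 : x = a.rev
          · subst x1
            simp [wF, Matrix.sub_apply, Matrix.add_apply, Matrix.one_apply, Matrix.single_apply, hac, hac.symm, hac', hac'.symm, h1, h1.symm, h2, h2.symm, h3, h3.symm, h4, h4.symm]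
          · by_cases x2 : x = c.rev
            · subst x2
              simp [wF, Matrix.sub_apply, Matrix.add_apply, Matrix.one_apply, Matrix.single_apply, hac, hac.symm, hac', hac'.symm, h1, h1.symm, h2, h2.symm, h3, h3.symm, h4, h4.symm]
            · have x1' := Ne.symm x1
              have x2' := Ne.symm x2
              simp [wF, Matrix.sub_apply, Matrix.add_apply, Matrix.one_apply, Matrix.single_apply, hac, hac.symm, hac', hac'.symm, h1, h1.symm, h2, h2.symm, h3, h3.symm, h4, h4.symm, x1, x1', x2, x2']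
        · rw [Equiv.swap_apply_of_ne_of_ne e3 e4, Equiv.swap_apply_of_ne_of_ne e1 e2]
          have e1' := Ne.symm e1
          have e2' := Ne.symm e2
          have e3' := Ne.symm e3
          have e4' := Ne.symm e4
          by_cases x2 : x = y
          · subst x2
            simp [wF, Matrix.sub_apply, Matrix.add_apply, Matrix.one_apply, Matrix.single_apply, e1, e1', e2, e2', e3, e3', e4, e4']
          · simp [wF, Matrix.sub_apply, Matrix.add_apply, Matrix.one_apply, Matrix.single_apply, e1, e1', e2, e2', e3, e3', e4, e4', x2]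

theorem tauIK_eq {i k : ℕ} (h : IsRt n i k) :
    tauIK n i k = Equiv.swap (⟨i, h.1⟩ : Fin n) ⟨k, h.2.1⟩ *
      Equiv.swap (⟨i, h.1⟩ : Fin n).rev (⟨k, h.2.1⟩ : Fin n).rev := by
  unfold tauIK
  rw [dif_pos ⟨h.1, h.2.1⟩]
  congr 2
  · apply Fin.ext
    rw [Fin.val_rev]
    show n - 1 - i = n - (i + 1)
    omega
  · apply Fin.ext
    rw [Fin.val_rev]
    show n - 1 - k = n - (k + 1)
    omega

theorem wM_eq (hn : n % 2 = 0) {i k : ℕ} (h : IsRt n i k) :
    (wM n i k : Matrix (Fin n) (Fin n) K) = xR n i k 1 * xR n k i (-1) * xR n i k 1 := by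
  have hf := isRt_fin (a := (⟨i, h.1⟩ : Fin n)) (c := ⟨k, h.2.1⟩) h
  have h' : IsRt n k i := ⟨h.2.1, h.1, h.2.2.1.symm, by have := h.2.2.2; omega⟩
  rw [wM_eq_wF h, xR_eq_xF h, xR_eq_xF h', wF_eq hn hf.1 hf.2.1]

theorem presQ_wM (hn : n % 2 = 0) {i k : ℕ} (h : IsRt n i k) :
    PresQ n (wM n i k : Matrix (Fin n) (Fin n) K) := by
  have h' : IsRt n k i := ⟨h.2.1, h.1, h.2.2.1.symm, by have := h.2.2.2; omega⟩
  obtain ⟨g₁, hg₁⟩ := PRES.exists_of_presQ hn _ (presQ_xR (K := K) hn h 1)
  obtain ⟨g₂, hg₂⟩ := PRES.exists_of_presQ hn _ (presQ_xR (K := K) hn h' (-1))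
  have e : (wM n i k : Matrix (Fin n) (Fin n) K) = mat n (g₁ * g₂ * g₁) := by
    rw [map_mul, map_mul, hg₁, hg₂, wM_eq hn h]
  rw [e]
  exact PRES.presQ_of_mem hn _

theorem mon_wM (hn : n % 2 = 0) {i k : ℕ} (h : IsRt n i k) :
    Mon (wM n i k : Matrix (Fin n) (Fin n) K) (tauIK n i k) := by
  have hf := isRt_fin (a := (⟨i, h.1⟩ : Fin n)) (c := ⟨k, h.2.1⟩) h
  rw [wM_eq_wF h, tauIK_eq h]
  exact mon_wF hn hf.1 hf.2.1

theorem wM_mul_xR (hn : n % 2 = 0) {i k : ℕ} (h : IsRt n i k) (t : K) :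
    wM n i k * xR n i k t = xR n k i (-t) * wM n i k := by
  have hf := isRt_fin (a := (⟨i, h.1⟩ : Fin n)) (c := ⟨k, h.2.1⟩) h
  have h' : IsRt n k i := ⟨h.2.1, h.1, h.2.2.1.symm, by have := h.2.2.2; omega⟩
  rw [wM_eq_wF h, xR_eq_xF h, xR_eq_xF h', wF_mul_xF hn hf.1 hf.2.1]

end WMON

end Cfsg.Agent.S2548P
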