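import Mathlib
import Cfsg.Agent.Helper10.S2548Defs
import Cfsg.Agent.Helper10.MatBNC
import Cfsg.Agent.Helper10.S2548PRES
import Cfsg.Agent.Helper10.S2548ROOTMEM
import Cfsg.Agent.Helper18.S2548TRIMID
import Cfsg.Agent.Helper25.S2546PGRP

set_option autoImplicit false
open scoped Matrix

/-!
# S2548 piece DIAG (helper19): the diagonal part of an upper triangular element of `Ω` lies in `Ω`

`h = diag(b_ii)` is an isometry, `u = h⁻¹ b` is unitriangular, so `u^(p^n) = 1`, and `h^(q-1) = 1`.
In the abelianization the image of `h` is the inverse of the image of `u` (as `b ∈ Ω = [O,O]`), so its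
order divides the coprime numbers `p^n` and `q - 1`.
-/

namespace Cfsg.Agent.S2548P

open Cfsg.Agent.MatBN
open Cfsg.Agent.S2546P (E)

variable {K : Type*} [Field K] {n : ℕ}

namespace DIAG

/-- an element of a group whose image in the abelianization has order dividing two coprime numbers
lies in the commutator subgroup -/
theorem mem_commutator_of_coprime {G : Type*} [Group G] (h b : G) (hb : b ∈ commutator G) (M N : ℕ)
    (hMN : Nat.Coprime M N) (h1 : (h⁻¹ * b) ^ M = 1) (h2 : h ^ N = 1) : h ∈ commutator G := by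
  have hb1 : Abelianization.of b = 1 := (QuotientGroup.eq_one_iff b).mpr hb
  have e1 : (Abelianization.of h) ^ M = 1 := by
    have := congrArg Abelianization.of h1
    rw [map_pow, map_mul, map_inv, hb1, mul_one, map_one, inv_pow, inv_eq_one] at this
    exact this
  have e2 : (Abelianization.of h) ^ N = 1 := by
    rw [← map_pow, h2, map_one]
  have hd : orderOf (Abelianization.of h) ∣ Nat.gcd M N :=
    Nat.dvd_gcd (orderOf_dvd_of_pow_eq_one e1) (orderOf_dvd_of_pow_eq_one e2)
  rw [hMN.gcd_eq_one, Nat.dvd_one, orderOf_eq_one_iff] at hd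
  exact (QuotientGroup.eq_one_iff h).mp hd

theorem exists_diag [Fintype K] (p : ℕ) [Fact p.Prime] [CharP K p] (hn : n % 2 = 0) (b : OmJ K n)
    (hb : IsTri (rho n b)) : ∃ t : OmJ K n, rho n t = Matrix.diagonal (fun i => rho n b i i) := by
  classical
  have hp : p.Prime := Fact.out
  obtain ⟨d, hd⟩ : ∃ d : Fin n → K, d = fun i => rho n b i i := ⟨_, rfl⟩
  have hdd : ∀ i, d i * d i.rev = 1 := by
    intro i
    rw [hd]
    exact TRIMID.tri_diag hn (b : OJ K n) hb i
  have hd0 : ∀ i, d i ≠ 0 := fun i h0 => by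
    have := hdd i
    rw [h0, zero_mul] at this
    exact zero_ne_one this
  obtain ⟨h, hh⟩ := PRES.exists_of_presQ hn _ (ROOTMEM.presQ_diagonal hn d hdd)
  -- the inverse of `h`
  have hinv : mat n h⁻¹ = Matrix.diagonal (fun i => (d i)⁻¹) := by
    have e1 : mat n h⁻¹ * mat n h = 1 := by rw [← map_mul, inv_mul_cancel, map_one]
    have e2 : Matrix.diagonal d * Matrix.diagonal (fun i => (d i)⁻¹) = (1 : Matrix (Fin n) (Fin n) K) := by
      rw [Matrix.diagonal_mul_diagonal, ← Matrix.diagonal_one]
      congr 1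
      funext i
      exact mul_inv_cancel₀ (hd0 i)
    calc mat n h⁻¹ = mat n h⁻¹ * (Matrix.diagonal d * Matrix.diagonal (fun i => (d i)⁻¹)) := by
          rw [e2, mul_one]
      _ = (mat n h⁻¹ * mat n h) * Matrix.diagonal (fun i => (d i)⁻¹) := by rw [hh, mul_assoc]
      _ = Matrix.diagonal (fun i => (d i)⁻¹) := by rw [e1, one_mul]
  -- `u = h⁻¹ b` is unitriangular
  have hu : IsUni (mat n (h⁻¹ * (b : OJ K n))) := by
    rw [map_mul, hinv]
    refine ⟨?_, ?_⟩
    · intro a c hca
      rw [Matrix.diagonal_mul]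
      have : mat n (b : OJ K n) a c = 0 := hb a c hca
      rw [this, mul_zero]
    · intro a
      rw [Matrix.diagonal_mul]
      have : mat n (b : OJ K n) a a = d a := by rw [hd]; rfl
      rw [this]
      exact inv_mul_cancel₀ (hd0 a)
  have hup : (h⁻¹ * (b : OJ K n)) ^ (p ^ n) = 1 := by
    apply PRES.mat_injective
    rw [map_pow, map_one]
    exact PGRP.pow_eq_one p _ hu
  have hhq : h ^ (Fintype.card K - 1) = 1 := by
    apply PRES.mat_injective
    rw [map_pow, map_one, hh, Matrix.diagonal_pow, ← Matrix.diagonal_one]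
    congr 1
    funext i
    exact FiniteField.pow_card_sub_one_eq_one (d i) (hd0 i)
  -- coprimality
  obtain ⟨f, -, hf⟩ := FiniteField.card K p
  have hcop : Nat.Coprime (p ^ n) (Fintype.card K - 1) := by
    apply Nat.Coprime.pow_left
    rw [Nat.Prime.coprime_iff_not_dvd hp]
    intro hdvd
    have hq : p ∣ Fintype.card K := by
      rw [hf]
      exact dvd_pow_self p (PNat.ne_zero f)
    have hpos : 0 < Fintype.card K := Fintype.card_pos
    have h1 : p ∣ Fintype.card K - (Fintype.card K - 1) := Nat.dvd_sub hq hdvd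
    have h2 : Fintype.card K - (Fintype.card K - 1) = 1 := by omega
    rw [h2, Nat.dvd_one] at h1
    exact hp.one_lt.ne' h1
  have hmem : h ∈ OmJ K n :=
    mem_commutator_of_coprime h (b : OJ K n) b.2 _ _ hcop hup hhq
  exact ⟨⟨h, hmem⟩, by rw [← hd]; exact hh⟩

end DIAG

end Cfsg.Agent.S2548P
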