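import Mathlib
import Cfsg.Agent.Helper7.S2862Defs

/-! s2862pieces CP3: `mem_fixP` — the generating set of `fixP Vt Vb A` is already a subgroup (since `Vt ≤ O_p(H) ≤ H` normalises `Vb`). -/

set_option autoImplicit false
set_option linter.unusedVariables false

namespace Cfsg.Agent.S2862P

open Cfsg
open Cfsg.Agent.Helper14 (cj)
open Subgroup
open scoped commutatorElement

variable {G : Type*} [Group G] [Finite G] {p : ℕ} [Fact p.Prime]
variable {H Y D L L0 Vt Vb : Subgroup G}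

omit [Finite G] [Fact p.Prime] in
theorem CP3_aux_Vt_norm (C : ChiefPair p H Vt Vb) {v : G} (hv : v ∈ Vt) : v ∈ normalizer (Vb : Set G) := by
  apply C.nb
  have h1 : v ∈ pCoreOf p H := C.le hv
  obtain ⟨x, _, rfl⟩ := h1
  exact x.2

/-- CP3 -/
theorem mem_fixP (C : ChiefPair p H Vt Vb) {A : Subgroup G} (hA : A ≤ H) {v : G} :
    v ∈ fixP Vt Vb A ↔ v ∈ Vt ∧ ∀ a ∈ A, ⁅v, a⁆ ∈ Vb := by
  constructor
  · intro hv
    unfold fixP at hv
    induction hv using Subgroup.closure_induction with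
    | mem x hx => exact hx
    | one =>
      refine ⟨Vt.one_mem, ?_⟩
      intro a _
      rw [commutatorElement_def]
      simp
    | mul x y _ _ hx hy =>
      obtain ⟨hxV, hxA⟩ := hx
      obtain ⟨hyV, hyA⟩ := hy
      refine ⟨Vt.mul_mem hxV hyV, ?_⟩
      intro a ha
      have hn := CP3_aux_Vt_norm C hxV
      have h1 : x * ⁅y, a⁆ * x⁻¹ ∈ Vb := (mem_normalizer_iff.mp hn _).mp (hyA a ha)
      have h2 : ⁅x * y, a⁆ = (x * ⁅y, a⁆ * x⁻¹) * ⁅x, a⁆ := by
        simp only [commutatorElement_def]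
        group
      rw [h2]
      exact Vb.mul_mem h1 (hxA a ha)
    | inv x _ hx =>
      obtain ⟨hxV, hxA⟩ := hx
      refine ⟨Vt.inv_mem hxV, ?_⟩
      intro a ha
      have hn := CP3_aux_Vt_norm C (Vt.inv_mem hxV)
      have h1 : x⁻¹ * ⁅x, a⁆⁻¹ * x⁻¹⁻¹ ∈ Vb := (mem_normalizer_iff.mp hn _).mp (Vb.inv_mem (hxA a ha))
      have h2 : ⁅x⁻¹, a⁆ = x⁻¹ * ⁅x, a⁆⁻¹ * x⁻¹⁻¹ := by
        simp only [commutatorElement_def]
        group
      rw [h2]
      exact h1
  · intro hv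
    exact Subgroup.subset_closure hv

end Cfsg.Agent.S2862P
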