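import Mathlib
import Cfsg.Agent.Helper29.TV2Basic

/-! Board `tv2pieces`, piece DUAL, stub-free core: the dual criterion `d ∈ M ↔ ζ (c_d) = 0` from the
facts of DE / USPAN / L0ND / COFIX2 taken as hypotheses. -/

set_option autoImplicit false
set_option linter.unusedSectionVars false

namespace Cfsg.Agent.TV2

variable {P : Type*} [Group P] [Finite P] {W : Type*} [AddCommGroup W] [Module (ZMod 2) W] [Finite W] [DistribMulAction P W]

theorem DUAL_aux_core (C : Ctx P W)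
    (hTv : ∀ {d : P}, d ∈ C.D → Tv W d)
    (hconjD1 : ∀ {d : P}, d ∈ C.D1 → ∀ {m : P}, m ∈ C.M → m * d * m⁻¹ ∈ C.D1)
    (hcen : ∀ {d : P}, d ∈ C.D → cen W d ∈ C.U)
    (hUT : ∀ {x : P}, x ∈ C.D1 →
      C.U = cspan W {d | ∃ t ∈ (C.T : Subgroup P), d = t * x * t⁻¹})
    (hUD1 : C.U = cspan W C.D1)
    (hND : ∀ {d : P}, d ∈ C.D → ∃ d' ∈ C.D, B W d d' = 1)
    (hcofix : ∃ ζ : W →+ ZMod 2, (∃ u ∈ C.U, ζ u ≠ 0) ∧
      ∀ h ∈ (C.T : Subgroup P), ∀ u ∈ C.U, ζ (h • u) = ζ u) :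
    ∃ ζ : W →+ ZMod 2, ∀ d ∈ C.D, (d ∈ C.M ↔ ζ (cen W d) = 0) := by
  obtain ⟨ζ, ⟨u0, hu0U, hu0⟩, hζT⟩ := hcofix
  -- (ζ1)
  have h1 : ∀ {x : P}, x ∈ C.D1 → ζ (cen W x) = 1 := by
    intro x hx
    apply zmod2_ne_zero
    intro h0
    apply hu0
    have hu0' : u0 ∈ cspan W {d | ∃ t ∈ (C.T : Subgroup P), d = t * x * t⁻¹} := by
      rw [← hUT hx]; exact hu0U
    unfold cspan at hu0'
    refine AddSubgroup.closure_induction (p := fun u _ => ζ u = 0) ?_ ?_ ?_ ?_ hu0'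
    · rintro u ⟨d, ⟨t, ht, rfl⟩, rfl⟩
      rw [(hTv hx.1).cen_conj t, hζT t ht _ (hcen hx.1), h0]
    · exact map_zero ζ
    · intro a b _ _ ha hb
      rw [map_add, ha, hb, add_zero]
    · intro a _ ha
      rw [map_neg, ha, neg_zero]
  -- (ζ3)
  have h3 : ∀ {m : P}, m ∈ C.M → ∀ {u : W}, u ∈ C.U → ζ (m • u) = ζ u := by
    intro m hm u hu
    rw [hUD1] at hu
    unfold cspan at hu
    refine AddSubgroup.closure_induction (p := fun u _ => ζ (m • u) = ζ u) ?_ ?_ ?_ ?_ hu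
    · rintro u ⟨x, hx, rfl⟩
      rw [← (hTv hx.1).cen_conj m, h1 (hconjD1 hx hm), h1 hx]
    · rw [smul_zero]
    · intro a b _ _ ha hb
      rw [smul_add, map_add, map_add, ha, hb]
    · intro a _ ha
      rw [smul_neg, map_neg, map_neg, ha]
  -- (ζ2)
  have h2 : ∀ {d : P}, d ∈ C.D → d ∈ C.M → ζ (cen W d) = 0 := by
    intro d hd hdM
    obtain ⟨d', hd', hB⟩ := hND hd
    have hact : d • cen W d' = cen W d' + cen W d := by
      rw [Tv.smul_cen (hTv hd), hB, one_smul]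
    have := h3 hdM (hcen hd')
    rw [hact, map_add] at this
    exact left_eq_add.mp this.symm
  refine ⟨ζ, fun d hd => ⟨fun hdM => h2 hd hdM, fun h0 => ?_⟩⟩
  by_contra hdM
  have := h1 (x := d) ⟨hd, hdM⟩
  rw [h0] at this
  exact zero_ne_one this

end Cfsg.Agent.TV2
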