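import Mathlib
import Cfsg.Agent.Helper29.TV2Basic
import Cfsg.Agent.Helper24.TV2_DE
import Cfsg.Agent.Helper18.TV2_USPAN
import Cfsg.Agent.Helper11.TV2_L0ND
import Cfsg.Agent.Helper2.TV2_COFIX2
import Cfsg.Agent.Helper19.TV2_DUALcore

/-! Board `tv2pieces`, piece DUAL: the dual criterion `d ∈ M ↔ ζ (c_d) = 0`. -/

set_option autoImplicit false
set_option linter.unusedSectionVars false

namespace Cfsg.Agent.TV2

variable {P : Type*} [Group P] [Finite P] {W : Type*} [AddCommGroup W] [Module (ZMod 2) W] [Finite W] [DistribMulAction P W]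

theorem DUAL (C : Ctx P W) : ∃ ζ : W →+ ZMod 2, ∀ d ∈ C.D, (d ∈ C.M ↔ ζ (cen W d) = 0) := by
  have hne : C.U ≠ ⊥ := by
    intro h
    have hmem : cen W C.a ∈ C.U := USPAN_cen_mem C (DE_a_mem C)
    rw [h, AddSubgroup.mem_bot] at hmem
    exact (Tv.cen_ne_zero C.ha) hmem
  have hcofix := COFIX2 (C.T : Subgroup P) C.T.isPGroup' C.U
    (fun h _ u hu => USPAN_U_inv C h hu) hne
  exact DUAL_aux_core C (fun hd => DE_tv C hd) (fun hd _ hm => DE_conj_D1 C hd hm)
    (fun hd => USPAN_cen_mem C hd) (fun hx => USPAN_T C hx) (USPAN_D1 C) (fun hd => ND C hd) hcofix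

end Cfsg.Agent.TV2
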