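import Mathlib
import Cfsg.Agent.Helper27.S3001QDefs
import Cfsg.Agent.Helper27.S3001G1

/-! s3001qpieces G3: `pre` versus `hat`, `⊓`, `⊔`, `⨆`. -/

set_option autoImplicit false

namespace Cfsg.Agent.S3001P

open Cfsg.Agent.S2789P Cfsg.Agent.S2999P Cfsg.Agent.S3000P Cfsg.Agent.S3001P

universe u

variable {G : Type u} [Group G]

/-! ### G3: `pre` -/

theorem pre_hat {R X : Subgroup G} (hX : X ≤ NR R) : pre R (hat R X) = X ⊔ R := by
  apply le_antisymm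
  · intro x hx
    obtain ⟨hN, hq⟩ := mem_pre.1 hx
    obtain ⟨x', hx'X, hx'q⟩ := mem_hat.1 hq
    have h1 : (x' : G)⁻¹ * x ∈ R := (qpi_eq_iff x' ⟨x, hN⟩).1 hx'q
    have h2 : x = (x' : G) * ((x' : G)⁻¹ * x) := by group
    rw [h2]
    exact Subgroup.mul_mem_sup hx'X h1
  · apply sup_le
    · intro x hx
      exact mem_pre.2 ⟨hX hx, qpi_mem_hat ⟨x, hX hx⟩ hx⟩
    · exact R_le_pre _

theorem hat_pre {R : Subgroup G} (Y : Subgroup (QG R)) : hat R (pre R Y) = Y := by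
  apply le_antisymm
  · intro y hy
    obtain ⟨x, hxp, rfl⟩ := mem_hat.1 hy
    obtain ⟨hN, hq⟩ := mem_pre.1 hxp
    exact hq
  · intro y hy
    obtain ⟨a, rfl⟩ := qpi_surj R y
    exact qpi_mem_hat a (mem_pre.2 ⟨a.2, hy⟩)

theorem pre_inf {R : Subgroup G} (Y Z : Subgroup (QG R)) : pre R (Y ⊓ Z) = pre R Y ⊓ pre R Z := by
  ext x
  rw [Subgroup.mem_inf, mem_pre, mem_pre, mem_pre]
  constructor
  · rintro ⟨hN, hq⟩
    exact ⟨⟨hN, hq.1⟩, ⟨hN, hq.2⟩⟩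
  · rintro ⟨⟨hN, h1⟩, ⟨_, h2⟩⟩
    exact ⟨hN, ⟨h1, h2⟩⟩

theorem G3_aux_pre_le_of_le_hat {R W : Subgroup G} (hW : W ≤ NR R) (hR : R ≤ W) {Y : Subgroup (QG R)}
    (hY : Y ≤ hat R W) : pre R Y ≤ W := by
  calc pre R Y ≤ pre R (hat R W) := pre_mono hY
    _ = W ⊔ R := pre_hat hW
    _ = W := sup_eq_left.2 hR

theorem pre_sup {R : Subgroup G} (Y Z : Subgroup (QG R)) : pre R (Y ⊔ Z) = pre R Y ⊔ pre R Z := by
  apply le_antisymm
  · apply G3_aux_pre_le_of_le_hat (sup_le (pre_le_NR Y) (pre_le_NR Z)) ((R_le_pre Y).trans le_sup_left)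
    apply sup_le
    · calc Y = hat R (pre R Y) := (hat_pre Y).symm
        _ ≤ hat R (pre R Y ⊔ pre R Z) := hat_mono le_sup_left
    · calc Z = hat R (pre R Z) := (hat_pre Z).symm
        _ ≤ hat R (pre R Y ⊔ pre R Z) := hat_mono le_sup_right
  · exact sup_le (pre_mono le_sup_left) (pre_mono le_sup_right)

theorem pre_iSup {ι : Sort*} [Nonempty ι] {R : Subgroup G} (Y : ι → Subgroup (QG R)) :
    pre R (⨆ i, Y i) = ⨆ i, pre R (Y i) := by
  apply le_antisymm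
  · obtain ⟨i₀⟩ := ‹Nonempty ι›
    apply G3_aux_pre_le_of_le_hat (iSup_le fun i => pre_le_NR (Y i))
      ((R_le_pre (Y i₀)).trans (le_iSup (fun i => pre R (Y i)) i₀))
    apply iSup_le
    intro i
    calc Y i = hat R (pre R (Y i)) := (hat_pre (Y i)).symm
      _ ≤ hat R (⨆ i, pre R (Y i)) := hat_mono (le_iSup (fun i => pre R (Y i)) i)
  · exact iSup_le fun i => pre_mono (le_iSup Y i)

end Cfsg.Agent.S3001P
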