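import Mathlib

set_option autoImplicit false

/-! S3557 piece SPLIT (helper19): two different orbits of size `p²` fill a set of size `2p²`. -/

namespace Cfsg.Agent.S3557P

open MulAction

theorem SPLIT {P Ω : Type*} [Group P] [MulAction P Ω] [Finite Ω] (p : ℕ)
    (hcard : Nat.card Ω = 2 * p ^ 2) (horb : ∀ x : Ω, Nat.card (orbit P x) = p ^ 2)
    (a b : Ω) (hab : b ∉ orbit P a) : ∀ x : Ω, x ∈ orbit P a ∨ x ∈ orbit P b := by
  have hdisj : Disjoint (orbit P a) (orbit P b) := by
    rcases MulAction.orbit.eq_or_disjoint (G := P) a b with h | h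
    · exact absurd (h ▸ MulAction.mem_orbit_self b) hab
    · exact h
  have hA : (orbit P a).ncard = p ^ 2 := by
    rw [← Nat.card_coe_set_eq]; exact horb a
  have hB : (orbit P b).ncard = p ^ 2 := by
    rw [← Nat.card_coe_set_eq]; exact horb b
  have hU : (orbit P a ∪ orbit P b).ncard = Nat.card Ω := by
    rw [Set.ncard_union_eq hdisj (Set.toFinite _) (Set.toFinite _), hA, hB, hcard]; ring
  have huniv : orbit P a ∪ orbit P b = Set.univ := (Set.eq_univ_iff_ncard _).mpr hU
  intro x
  have : x ∈ orbit P a ∪ orbit P b := by rw [huniv]; trivial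
  exact this

end Cfsg.Agent.S3557P
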