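import Mathlib
import Cfsg.Agent.Helper10.S4017Defs

set_option autoImplicit false

/-! # S4017 piece CENTRAL (helper19): no central element of order `p`. -/

namespace Cfsg.Agent.S4017P

theorem CENTRAL_aux_dvd {p : ℕ} (hp : p.Prime) (s : ℕ) (hs : s.Prime) (hsp : s ≠ p) (m : ℕ)
    (hm : s ∣ m * p) : s ∣ m := by
  rcases (Nat.Prime.dvd_mul hs).1 hm with h1 | h1
  · exact h1
  · exact absurd ((Nat.prime_dvd_prime_iff_eq hs hp).1 h1) hsp

theorem CENTRAL_aux_notq {X : Type*} [Group X] [Finite X] {q : ℕ} (hq : q.Prime)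
    (Hb : Subgroup X) (hnq : ¬ IsPGroup q Hb) :
    ∃ s : ℕ, s.Prime ∧ s ≠ q ∧ s ∣ Nat.card Hb := by
  by_contra hcon
  push Not at hcon
  apply hnq
  haveI : Fact q.Prime := ⟨hq⟩
  have h1 : Nat.card Hb = q ^ (Nat.card Hb).primeFactorsList.length :=
    Nat.eq_prime_pow_of_unique_prime_dvd (Nat.card_pos.ne')
      (fun {d} hd hdd => by_contra fun hne => hcon d hd hne hdd)
  exact IsPGroup.of_card h1

theorem CENTRAL.{u} {G : Type u} [Group G] [Finite G] {p q : ℕ} (h : Hyp G p q)
    (ih : IH.{u} p q (Nat.card G))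
    (hI : ∀ H : Subgroup G, H ≠ ⊤ → q ∣ Nat.card H → PQ p q (Nat.card H))
    (r : ℕ) (hr : r.Prime) (hrG : r ∣ Nat.card G) (hrp : r ≠ p) (hrq : r ≠ q) :
    ∀ c ∈ Subgroup.center G, orderOf c = p → False := by
  intro c hc hcp
  haveI : Fact p.Prime := ⟨h.hp⟩
  obtain ⟨N, hNdef⟩ : ∃ N : Subgroup G, N = Subgroup.zpowers c := ⟨_, rfl⟩
  have hNle : N ≤ Subgroup.center G := by rw [hNdef]; exact Subgroup.zpowers_le.2 hc
  haveI hNn : N.Normal := by
    refine ⟨fun n hn g => ?_⟩
    have h1 := Subgroup.mem_center_iff.1 (hNle hn) g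
    rw [h1, mul_inv_cancel_right]
    exact hn
  have hNcard : Nat.card N = p := by rw [hNdef, Nat.card_zpowers, hcp]
  have hcard : Nat.card G = Nat.card (G ⧸ N) * p := by
    rw [← hNcard]; exact Subgroup.card_eq_card_quotient_mul_card_subgroup N
  have hpos : 0 < Nat.card (G ⧸ N) := Nat.card_pos
  have hqQ : q ∣ Nat.card (G ⧸ N) := by
    have := h.hqG
    rw [hcard] at this
    exact CENTRAL_aux_dvd h.hp q h.hq (Ne.symm h.hpq) _ this
  have hrQ : r ∣ Nat.card (G ⧸ N) := by
    have := hrG
    rw [hcard] at this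
    exact CENTRAL_aux_dvd h.hp r hr hrp _ this
  by_cases hpQ : p ∣ Nat.card (G ⧸ N)
  · -- case (b): pass to `G ⧸ N`
    have hfac : (Nat.card (G ⧸ N)).factorization q = (Nat.card G).factorization q := by
      rw [hcard, Nat.factorization_mul hpos.ne' h.hp.ne_zero, Finsupp.add_apply,
        Nat.factorization_eq_zero_of_not_dvd (n := p) (p := q), add_zero]
      intro hqp
      exact h.hpq ((Nat.prime_dvd_prime_iff_eq h.hq h.hp).1 hqp).symm
    have hyp : Hyp (G ⧸ N) p q := by
      refine ⟨h.hp, h.hq, h.hpq, h.hp2, hpQ, hqQ, ?_, ?_⟩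
      · intro Hb hHb hnq hqHb
        obtain ⟨H, hHdef⟩ : ∃ H : Subgroup G, H = Hb.comap (QuotientGroup.mk' N) := ⟨_, rfl⟩
        have hHne : H ≠ ⊤ := by
          intro htop
          apply hHb
          have h1 := Subgroup.map_comap_eq_self_of_surjective (QuotientGroup.mk'_surjective N) Hb
          rw [← hHdef, htop, ← MonoidHom.range_eq_map,
            MonoidHom.range_eq_top.2 (QuotientGroup.mk'_surjective N)] at h1
          exact h1.symm
        have hidx : H.index = Hb.index := by
          rw [hHdef]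
          exact Subgroup.index_comap_of_surjective Hb (QuotientGroup.mk'_surjective N)
        have hHcard : Nat.card H = Nat.card Hb * p := by
          have h1 := Subgroup.card_mul_index H
          have h2 := Subgroup.card_mul_index Hb
          rw [hidx, hcard, ← h2] at h1
          have h3 : Hb.index ≠ 0 := Subgroup.index_ne_zero_of_finite
          have h4 : Nat.card H * Hb.index = Nat.card Hb * p * Hb.index := by
            rw [h1]; ring
          exact Nat.eq_of_mul_eq_mul_right (Nat.pos_of_ne_zero h3) h4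
        have hqH : q ∣ Nat.card H := by rw [hHcard]; exact dvd_mul_of_dvd_left hqHb p
        have hpqH := hI H hHne hqH
        obtain ⟨s, hs, hsq, hsd⟩ := CENTRAL_aux_notq h.hq Hb hnq
        have hsH : s ∣ Nat.card H := by rw [hHcard]; exact dvd_mul_of_dvd_left hsd p
        rcases hpqH s hs hsH with h5 | h5
        · rw [← h5]; exact hsd
        · exact absurd h5 hsq
      · rcases h.hlarge with h1 | ⟨h1, h2⟩
        · left; rw [hfac]; exact h1
        · right
          refine ⟨by rw [hfac]; exact h1, ?_⟩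
          intro Pb
          obtain ⟨P0, hP0def⟩ : ∃ P0 : Subgroup G,
            P0 = (Pb : Subgroup (G ⧸ N)).comap (QuotientGroup.mk' N) := ⟨_, rfl⟩
          have hP0 : IsPGroup p P0 := by
            rintro ⟨g, hg⟩
            have hg' : QuotientGroup.mk' N g ∈ (Pb : Subgroup (G ⧸ N)) := by
              rw [hP0def] at hg; exact hg
            obtain ⟨k, hk⟩ := Pb.isPGroup' ⟨QuotientGroup.mk' N g, hg'⟩
            have hk' : QuotientGroup.mk' N (g ^ p ^ k) = 1 := by
              rw [map_pow]
              exact congrArg Subtype.val hk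
            have hgN : g ^ p ^ k ∈ N := by
              rw [QuotientGroup.mk'_apply, QuotientGroup.eq_one_iff] at hk'
              exact hk'
            have h3 : (⟨g ^ p ^ k, hgN⟩ : N) ^ p = 1 := by
              have h5 : (⟨g ^ p ^ k, hgN⟩ : N) ^ Nat.card N = 1 := pow_card_eq_one'
              rw [hNcard] at h5
              exact h5
            have h4 : (g ^ p ^ k) ^ p = 1 := congrArg Subtype.val h3
            refine ⟨k + 1, Subtype.ext ?_⟩
            change g ^ p ^ (k + 1) = 1
            rw [pow_succ, pow_mul]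
            exact h4
          obtain ⟨P, hP⟩ := hP0.exists_le_sylow
          haveI := h2 P
          refine ⟨⟨fun a b => ?_⟩⟩
          obtain ⟨a, ha⟩ := a
          obtain ⟨b, hb⟩ := b
          obtain ⟨a', rfl⟩ := QuotientGroup.mk'_surjective N a
          obtain ⟨b', rfl⟩ := QuotientGroup.mk'_surjective N b
          have ha' : a' ∈ (P : Subgroup G) := hP (by rw [hP0def]; exact ha)
          have hb' : b' ∈ (P : Subgroup G) := hP (by rw [hP0def]; exact hb)
          have hcomm : (⟨a', ha'⟩ : P) * ⟨b', hb'⟩ = ⟨b', hb'⟩ * ⟨a', ha'⟩ :=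
            IsMulCommutative.is_comm.comm _ _
          have hcomm' : a' * b' = b' * a' := congrArg Subtype.val hcomm
          apply Subtype.ext
          change QuotientGroup.mk' N a' * QuotientGroup.mk' N b' =
            QuotientGroup.mk' N b' * QuotientGroup.mk' N a'
          rw [← map_mul, ← map_mul, hcomm']
    have hlt : Nat.card (G ⧸ N) < Nat.card G := by
      rw [hcard]; exact lt_mul_of_one_lt_right hpos h.hp.one_lt
    rcases ih (G ⧸ N) hlt hyp r hr hrQ with h1 | h1
    · exact hrp h1
    · exact hrq h1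
  · -- case (a): Schur–Zassenhaus complement
    have hcop : Nat.Coprime (Nat.card N) N.index := by
      rw [hNcard, Subgroup.index_eq_card]
      exact (Nat.Prime.coprime_iff_not_dvd h.hp).2 hpQ
    obtain ⟨K, hK⟩ := Subgroup.exists_right_complement'_of_coprime hcop
    have hKc : Nat.card K = Nat.card (G ⧸ N) := by
      have h1 := hK.card_mul
      rw [hNcard, hcard, mul_comm] at h1
      exact Nat.eq_of_mul_eq_mul_right h.hp.pos h1
    have hKne : K ≠ ⊤ := by
      intro htop
      have h1 : Nat.card K = Nat.card G := by rw [htop, Subgroup.card_top]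
      rw [hKc, hcard] at h1
      have h2 : Nat.card (G ⧸ N) * 1 = Nat.card (G ⧸ N) * p := by rw [mul_one]; exact h1
      have h3 := Nat.eq_of_mul_eq_mul_left hpos h2
      exact h.hp.one_lt.ne h3
    have hKq : ¬ IsPGroup q K := by
      intro hq
      haveI : Fact q.Prime := ⟨h.hq⟩
      obtain ⟨k, hk⟩ := IsPGroup.iff_card.1 hq
      rw [hKc] at hk
      rw [hk] at hrQ
      exact hrq ((Nat.prime_dvd_prime_iff_eq hr h.hq).1 (hr.dvd_of_dvd_pow hrQ))
    have := h.hmix K hKne hKq (by rw [hKc]; exact hqQ)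
    rw [hKc] at this
    exact hpQ this

end Cfsg.Agent.S4017P
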