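import Mathlib
import Cfsg.Agent.Helper10.S4017Defs

set_option autoImplicit false

/-! # S4017 piece PROPER (helper19): `N_G(<y>)` is proper for a `p`-element `y ≠ 1` inverted by an
involution. -/

namespace Cfsg.Agent.S4017P

theorem PROPER {G : Type*} [Group G] [Finite G] {p a : ℕ} {Q : Subgroup G} {z : G}
    (h : Cfg G p a Q z) (helem : ∀ x ∈ Q, x * x = 1)
    (hsyl : ∀ S : Subgroup G, IsPGroup 2 S → ∃ g : G, ∀ x ∈ S, g * x * g⁻¹ ∈ Q) :
    ∀ y s : G, y ≠ 1 → IsPEl p y → orderOf s = 2 → s * y * s⁻¹ = y⁻¹ →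
      Subgroup.normalizer ((Subgroup.zpowers y : Subgroup G) : Set G) ≠ ⊤ := by
  intro y s hy1 hyp hs2 hinv htop
  haveI : Fact p.Prime := ⟨h.hp⟩
  haveI hYn : (Subgroup.zpowers y).Normal := Subgroup.normalizer_eq_top_iff.1 htop
  -- `s` inverts `Y = <y>` elementwise
  have hsY : ∀ w ∈ Subgroup.zpowers y, s * w * s⁻¹ = w⁻¹ := by
    intro w hw
    obtain ⟨k, rfl⟩ := Subgroup.mem_zpowers_iff.1 hw
    rw [← conj_zpow, hinv, inv_zpow]
  -- conjugate `s` into `Q`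
  have hS2 : IsPGroup 2 (Subgroup.zpowers s) :=
    IsPGroup.of_card (n := 1) (by rw [Nat.card_zpowers, hs2, pow_one])
  obtain ⟨g, hg⟩ := hsyl _ hS2
  obtain ⟨t, ht⟩ : ∃ t : G, t = g * s * g⁻¹ := ⟨_, rfl⟩
  have htQ : t ∈ Q := by rw [ht]; exact hg s (Subgroup.mem_zpowers s)
  have hs1 : s ≠ 1 := by
    intro h1
    rw [h1, orderOf_one] at hs2
    norm_num at hs2
  have ht1 : t ≠ 1 := by
    intro h1
    apply hs1
    have h2 : s = g⁻¹ * t * g := by rw [ht]; group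
    rw [h2, h1]; group
  have htY : ∀ w ∈ Subgroup.zpowers y, t * w * t⁻¹ = w⁻¹ := by
    intro w hw
    have hw' : g⁻¹ * w * g ∈ Subgroup.zpowers y := by
      have := hYn.conj_mem w hw g⁻¹
      simpa using this
    have h1 := hsY _ hw'
    have h2 : t * w * t⁻¹ = g * (s * (g⁻¹ * w * g) * s⁻¹) * g⁻¹ := by rw [ht]; group
    rw [h2, h1]; group
  -- `z` centralizes `Y`
  have hzp : IsPGroup p (Subgroup.zpowers z) := by
    obtain ⟨k, hk⟩ := h.hzp
    exact IsPGroup.of_card (n := k) (by rw [Nat.card_zpowers, hk])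
  have hYp : IsPGroup p (Subgroup.zpowers y) := by
    obtain ⟨k, hk⟩ := hyp
    exact IsPGroup.of_card (n := k) (by rw [Nat.card_zpowers, hk])
  have hsup : IsPGroup p (Subgroup.zpowers y ⊔ Subgroup.zpowers z : Subgroup G) :=
    IsPGroup.to_sup_of_normal_left hYp hzp
  have hzY : ∀ w ∈ Subgroup.zpowers y, z * w = w * z := fun w hw =>
    h.hab _ hsup z (Subgroup.mem_sup_right (Subgroup.mem_zpowers z)) w (Subgroup.mem_sup_left hw)
  have hziY : ∀ (i : ℕ), ∀ w ∈ Subgroup.zpowers y, z ^ i * w = w * z ^ i := by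
    intro i w hw
    exact (show Commute z w from hzY w hw).pow_left i
  -- every `v ∈ Q - 1` inverts `Y`
  have hvY : ∀ v ∈ Q, v ≠ 1 → ∀ w ∈ Subgroup.zpowers y, v * w * v⁻¹ = w⁻¹ := by
    intro v hv hv1 w hw
    obtain ⟨i, hi⟩ := h.htrans t htQ ht1 v hv hv1
    have hc : z ^ i * w = w * z ^ i := hziY i w hw
    have hc' : (z ^ i)⁻¹ * w * z ^ i = w := by
      rw [mul_assoc, ← hc, inv_mul_cancel_left]
    rw [← hi]
    have h2 : (z ^ i * t * (z ^ i)⁻¹) * w * (z ^ i * t * (z ^ i)⁻¹)⁻¹ =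
        z ^ i * (t * ((z ^ i)⁻¹ * w * z ^ i) * t⁻¹) * (z ^ i)⁻¹ := by group
    rw [h2, hc', htY w hw]
    have hc2 : z ^ i * w⁻¹ = w⁻¹ * z ^ i := hziY i w⁻¹ (inv_mem hw)
    rw [hc2, mul_inv_cancel_right]
  -- two distinct nonidentity elements of `Q`
  have hQ4 : 4 ≤ Nat.card Q := by
    rw [h.hQ, h.ha]
    have h1 := h.hp.two_le
    have h2 := h.hp2
    omega
  have ht2 : orderOf t ≤ 2 :=
    Nat.le_of_dvd (by norm_num) (orderOf_dvd_of_pow_eq_one (by rw [pow_two]; exact helem t htQ))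
  obtain ⟨v, hvQ, hvt⟩ : ∃ v ∈ Q, v ∉ Subgroup.zpowers t := by
    by_contra hcon
    push Not at hcon
    have hle : Q ≤ Subgroup.zpowers t := hcon
    have h1 : Nat.card Q ≤ Nat.card (Subgroup.zpowers t) := Subgroup.card_le_of_le hle
    rw [Nat.card_zpowers] at h1
    omega
  have hv1 : v ≠ 1 := by rintro rfl; exact hvt (one_mem _)
  have hvt' : v ≠ t := by rintro rfl; exact hvt (Subgroup.mem_zpowers _)
  have hvt1 : v * t ≠ 1 := by
    intro h1
    have h2 := helem t htQ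
    have : v = t := by
      calc v = v * (t * t) := by rw [h2, mul_one]
        _ = (v * t) * t := by rw [mul_assoc]
        _ = t := by rw [h1, one_mul]
    exact hvt' this
  have hyY : y ∈ Subgroup.zpowers y := Subgroup.mem_zpowers y
  have e1 := hvY (v * t) (mul_mem hvQ htQ) hvt1 y hyY
  have e2 := hvY v hvQ hv1 y hyY
  have e3 := htY y hyY
  have e4 : (v * t) * y * (v * t)⁻¹ = v * (t * y * t⁻¹) * v⁻¹ := by group
  rw [e4, e3] at e1
  have e5 : v * y⁻¹ * v⁻¹ = (v * y * v⁻¹)⁻¹ := by group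
  rw [e5, e2, inv_inv] at e1
  -- e1 : y = y⁻¹
  have hy2 : y ^ 2 = 1 := by
    rw [pow_two]
    calc y * y = y * y⁻¹ := by rw [← e1]
      _ = 1 := mul_inv_cancel y
  obtain ⟨k, hk⟩ := hyp
  have hd : orderOf y ∣ 2 := orderOf_dvd_of_pow_eq_one hy2
  have hcop : Nat.Coprime (orderOf y) 2 := by
    rw [hk]
    exact Nat.Coprime.pow_left k ((Nat.coprime_primes h.hp Nat.prime_two).2 h.hp2)
  have h1 : orderOf y = 1 := Nat.Coprime.eq_one_of_dvd hcop hd
  exact hy1 (orderOf_eq_one_iff.1 h1)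

end Cfsg.Agent.S4017P
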