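import Mathlib
import Cfsg.Prelude.Def_GeometricClasses
import Cfsg.Agent.Helper19.Mono.Defs

/-! S5634 monomial half, piece CONJMAX: maximality in `SL` transports along `GL`-conjugation. -/

set_option autoImplicit false

namespace Cfsg.Agent.MonoP

open Matrix

variable {ι : Type} [Fintype ι] [DecidableEq ι] {K : Type*} [Field K] [Fintype K]

namespace CONJMAX

theorem conj_mem_SL (B g : GL ι K) (hg : g ∈ Cfsg.Geo.specialLinear ι K) :
    B * g * B⁻¹ ∈ Cfsg.Geo.specialLinear ι K := by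
  have hn : (Cfsg.Geo.specialLinear ι K).Normal := by
    unfold Cfsg.Geo.specialLinear
    infer_instance
  exact hn.conj_mem g hg B

theorem conj_mem_SL' (B g : GL ι K) (hg : g ∈ Cfsg.Geo.specialLinear ι K) :
    B⁻¹ * g * B ∈ Cfsg.Geo.specialLinear ι K := by
  have := conj_mem_SL B⁻¹ g hg
  rwa [inv_inv] at this

end CONJMAX

/-- CONJMAX (S-M): maximality in `SL` transports along conjugation by an element of `GL` (`SL` is normal). -/
theorem CONJMAX.isMaximalIn (B : GL ι K) (H₀ H : Subgroup (GL ι K))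
    (hH : ∀ g : GL ι K, g ∈ H ↔ B⁻¹ * g * B ∈ H₀)
    (hmax : Cfsg.Geo.IsMaximalIn (Cfsg.Geo.specialLinear ι K) (H₀ ⊓ Cfsg.Geo.specialLinear ι K)) :
    Cfsg.Geo.IsMaximalIn (Cfsg.Geo.specialLinear ι K) (H ⊓ Cfsg.Geo.specialLinear ι K) := by
  obtain ⟨hlt, hall⟩ := hmax
  have hcancel : ∀ x : GL ι K, B⁻¹ * (B * x * B⁻¹) * B = x := fun x => by group
  have hcancel' : ∀ x : GL ι K, B * (B⁻¹ * x * B) * B⁻¹ = x := fun x => by group
  refine ⟨lt_of_le_of_ne inf_le_right ?_, ?_⟩
  · intro heq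
    apply hlt.ne
    apply le_antisymm inf_le_right
    intro x hx
    refine ⟨?_, hx⟩
    have h1 : B * x * B⁻¹ ∈ Cfsg.Geo.specialLinear ι K := CONJMAX.conj_mem_SL B x hx
    rw [← heq] at h1
    have h2 := (hH _).mp h1.1
    rwa [hcancel] at h2
  · intro M h1 h2
    let M' : Subgroup (GL ι K) := M.comap (MulAut.conj B).toMonoidHom
    have hM' : ∀ x : GL ι K, x ∈ M' ↔ B * x * B⁻¹ ∈ M := fun x => by
      show (MulAut.conj B) x ∈ M ↔ _
      rw [MulAut.conj_apply]
    have h1' : H₀ ⊓ Cfsg.Geo.specialLinear ι K ≤ M' := by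
      intro x hx
      rw [hM']
      apply h1
      refine ⟨?_, CONJMAX.conj_mem_SL B x hx.2⟩
      show B * x * B⁻¹ ∈ H
      rw [hH, hcancel]
      exact hx.1
    have h2' : M' ≤ Cfsg.Geo.specialLinear ι K := by
      intro x hx
      rw [hM'] at hx
      have := CONJMAX.conj_mem_SL' B _ (h2 hx)
      rwa [hcancel] at this
    rcases hall M' h1' h2' with h | h
    · left
      apply le_antisymm _ h1
      intro x hx
      have hx' : B⁻¹ * x * B ∈ M' := by
        rw [hM', hcancel']; exact hx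
      rw [h] at hx'
      exact ⟨(hH x).mpr hx'.1, h2 hx⟩
    · right
      apply le_antisymm h2
      intro x hx
      have hx' : B⁻¹ * x * B ∈ M' := by
        rw [h]; exact CONJMAX.conj_mem_SL' B x hx
      rw [hM', hcancel'] at hx'
      exact hx'

end Cfsg.Agent.MonoP
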