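import Mathlib
import Cfsg.Prelude.Def_GeometricClasses
import Cfsg.Agent.Helper18.S5707.Defs

/-! # S5707, piece PERM: the factor-permutation matrices -/

set_option autoImplicit false

namespace Cfsg.Agent.S5707P

open Matrix

variable {F : Type*} [Field F] {k t : ℕ}

namespace PERM

theorem comp_eq_iff (σ : Equiv.Perm (Fin t)) (x y : X k t) : y = x ∘ σ ↔ y ∘ (σ⁻¹ : Equiv.Perm (Fin t)) = x := by
  constructor
  · rintro rfl
    funext i
    simp
  · rintro rfl
    funext i
    simp

theorem permM_mul_apply (σ : Equiv.Perm (Fin t)) (M : Matrix (X k t) (X k t) F) (x z : X k t) :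
    ((permM k σ : Matrix (X k t) (X k t) F) * M) x z = M (x ∘ σ) z := by
  rw [Matrix.mul_apply, Finset.sum_eq_single (x ∘ σ)]
  · simp [permM]
  · intro y _ hy
    simp [permM, hy]
  · intro h; exact absurd (Finset.mem_univ _) h

theorem mul_permM_apply (σ : Equiv.Perm (Fin t)) (M : Matrix (X k t) (X k t) F) (x z : X k t) :
    (M * (permM k σ : Matrix (X k t) (X k t) F)) x z = M x (z ∘ (σ⁻¹ : Equiv.Perm (Fin t))) := by
  rw [Matrix.mul_apply, Finset.sum_eq_single (z ∘ (σ⁻¹ : Equiv.Perm (Fin t)))]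
  · have : z = (z ∘ (σ⁻¹ : Equiv.Perm (Fin t))) ∘ σ := by
      funext i; simp
    simp only [permM]
    rw [if_pos this, mul_one]
  · intro y _ hy
    have : ¬ z = y ∘ σ := by
      intro h
      apply hy
      rw [h]
      funext i; simp
    simp only [permM]
    rw [if_neg this, mul_zero]
  · intro h; exact absurd (Finset.mem_univ _) h

end PERM

/-- piece PERM (M): the factor-permutation matrices.  `(permM σ *ᵥ v) x = v (x ∘ σ)`. -/
theorem PERM.permM_mul (σ τ : Equiv.Perm (Fin t)) :
    (permM k σ : Matrix (X k t) (X k t) F) * permM k τ = permM k (σ * τ) := by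
  ext x z
  rw [PERM.permM_mul_apply]
  simp only [permM]
  have : (x ∘ σ) ∘ τ = x ∘ ((σ * τ : Equiv.Perm (Fin t))) := by
    funext i; simp
  rw [this]

theorem PERM.permM_one : (permM k (1 : Equiv.Perm (Fin t)) : Matrix (X k t) (X k t) F) = 1 := by
  ext x y
  rw [Matrix.one_apply]
  unfold permM
  by_cases h : x = y
  · have h' : y = x ∘ ((1 : Equiv.Perm (Fin t)) : Fin t → Fin t) := by
      rw [h]; rfl
    rw [if_pos h', if_pos h]
  · have h' : ¬ y = x ∘ ((1 : Equiv.Perm (Fin t)) : Fin t → Fin t) := by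
      intro h''
      apply h
      rw [h'']; rfl
    rw [if_neg h', if_neg h]

theorem PERM.permM_mul_tensM (σ : Equiv.Perm (Fin t)) (Ms : Fin t → Matrix (Fin k) (Fin k) F) :
    permM k σ * tensM Ms = tensM (fun i => Ms (σ⁻¹ i)) * permM k σ := by
  ext x z
  rw [PERM.permM_mul_apply, PERM.mul_permM_apply]
  simp only [tensM, Function.comp_apply]
  exact Fintype.prod_equiv σ _ _ (fun i => by simp)

theorem PERM.permM_transpose (σ : Equiv.Perm (Fin t)) :
    (permM k σ : Matrix (X k t) (X k t) F)ᵀ = permM k σ⁻¹ := by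
  ext x y
  simp only [Matrix.transpose_apply, permM]
  by_cases h : x = y ∘ σ
  · have h' : y = x ∘ (σ⁻¹ : Equiv.Perm (Fin t)) := by
      rw [h]; funext i; simp
    rw [if_pos h, if_pos h']
  · have h' : ¬ y = x ∘ (σ⁻¹ : Equiv.Perm (Fin t)) := by
      intro h''
      apply h
      rw [h'']; funext i; simp
    rw [if_neg h, if_neg h']

end Cfsg.Agent.S5707P
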