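import Mathlib
import Cfsg.Prelude.Def_ClassicalGeometry
import Cfsg.Prelude.Def_GeometricClasses
import Cfsg.Agent.Helper16.S5972Defs
import Cfsg.Agent.Helper2.QuadOdd

set_option autoImplicit false
open scoped MatrixGroups

/-! S5972, piece COUNTPERP: the number of singular vectors orthogonal to a singular `k`-frame of
`quadFormOdd d F` is `q ^ (2 d - k)`. -/

universe u

namespace Cfsg.Agent.S5972P

open Polynomial Cfsg.Agent.Helper2.SympInvol Cfsg.Agent.Helper2.SympUnits Cfsg.Agent.S5961P
  Cfsg.Agent.S5955P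

namespace COUNTPERP

open Cfsg.Agent.Helper2.Quad QuadraticMap

section gen

variable {F : Type*} [Field F] {V : Type*} [AddCommGroup V] [Module F V]
  {Q : QuadraticForm F V}

/-- vectors orthogonal to a family are orthogonal to its span -/
theorem polar_eq_zero_of_mem_span {κ : Type*} (x : κ → V) (v : V)
    (h : ∀ i, polar Q (x i) v = 0) {u : V} (hu : u ∈ Submodule.span F (Set.range x)) :
    polar Q u v = 0 := by
  have hle : Submodule.span F (Set.range x) ≤
      LinearMap.ker ((QuadraticMap.polarBilin Q).flip v) := by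
    rw [Submodule.span_le]
    rintro _ ⟨i, rfl⟩
    exact h i
  exact hle hu

/-- a singular frame extends to a hyperbolic frame with the same span of first members -/
theorem exists_hyp_frame (hND : NonSing Q) : ∀ (k : ℕ) (x : Fin k → V),
    LinearIndependent F x → (∀ i, Q (x i) = 0) → (∀ i j, polar Q (x i) (x j) = 0) →
    ∃ c : Fin k → V × V, IsHyp Q c ∧
      Submodule.span F (Set.range (Prod.fst ∘ c)) = Submodule.span F (Set.range x) := by
  intro k
  induction k with
  | zero =>
    intro x _ _ _
    refine ⟨fun i => i.elim0, ⟨fun i => i.elim0, fun i => i.elim0, fun i => i.elim0,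
      fun i => i.elim0, fun i => i.elim0⟩, ?_⟩
    rw [Set.range_eq_empty, Set.range_eq_empty]
  | succ k ih =>
    intro x hli hs ho
    obtain ⟨hli', hx0⟩ := (linearIndependent_fin_succ (K := F) (v := x)).mp hli
    obtain ⟨c', hc', hspan⟩ := ih (Fin.tail x) hli' (fun i => hs i.succ)
      (fun i j => ho i.succ j.succ)
    -- the modified first vector
    obtain ⟨p, hp⟩ : ∃ p : Fin k → F × F,
        p = fun j => (polar Q (x 0) (c' j).2, polar Q (x 0) (c' j).1) := ⟨_, rfl⟩
    have hmem1 : ∀ j, (c' j).1 ∈ Submodule.span F (Set.range (Fin.tail x)) := by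
      intro j
      rw [← hspan]
      exact Submodule.subset_span ⟨j, rfl⟩
    have hp2 : ∀ j, (p j).2 = 0 := by
      intro j
      rw [hp]
      show polar Q (x 0) (c' j).1 = 0
      rw [polar_comm]
      exact polar_eq_zero_of_mem_span (Fin.tail x) (x 0)
        (fun i => by rw [polar_comm]; exact ho 0 i.succ) (hmem1 j)
    have hcomb : comb c' p ∈ Submodule.span F (Set.range (Fin.tail x)) := by
      unfold comb
      refine Submodule.sum_mem _ (fun j _ => ?_)
      rw [hp2 j, zero_smul, add_zero]
      exact Submodule.smul_mem _ _ (hmem1 j)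
    obtain ⟨e, he⟩ : ∃ e : V, e = x 0 - comb c' p := ⟨_, rfl⟩
    have heP : e ∈ Perp Q c' := by
      rw [he, hp]
      exact sub_comb_mem hc' (x 0)
    have hx0e : x 0 = comb c' p + e := by rw [he]; abel
    have hqe : Q e = 0 := by
      have h1 := Q_decomp hc' p heP
      rw [← hx0e, hs 0] at h1
      have h2 : ∑ j, (p j).1 * (p j).2 = 0 :=
        Finset.sum_eq_zero (fun j _ => by rw [hp2 j, mul_zero])
      rw [h2, zero_add] at h1
      exact h1.symm
    have he0 : e ≠ 0 := by
      intro h0
      apply hx0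
      rw [hx0e, h0, add_zero]
      exact hcomb
    obtain ⟨f, hfP, hqf, hef⟩ := exists_partner hND hc' heP he0 hqe
    refine ⟨Fin.cons (e, f) c', (isHyp_cons c' e f).mpr ⟨hc', heP, hfP, hqe, hqf, hef⟩, ?_⟩
    have h1 : (Prod.fst ∘ (Fin.cons (e, f) c' : Fin (k + 1) → V × V)) =
        Fin.cons e (Prod.fst ∘ c') := by
      funext i
      refine Fin.cases ?_ (fun i' => ?_) i
      · simp
      · simp
    have h2 : x = Fin.cons (x 0) (Fin.tail x) := (Fin.cons_self_tail x).symm
    rw [h1, h2, Fin.range_cons, Fin.range_cons, Submodule.span_insert, Submodule.span_insert,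
      hspan]
    apply le_antisymm
    · apply sup_le
      · rw [Submodule.span_singleton_le_iff_mem, he]
        exact Submodule.sub_mem _
          (Submodule.mem_sup_left (Submodule.mem_span_singleton_self _))
          (Submodule.mem_sup_right hcomb)
      · exact le_sup_right
    · apply sup_le
      · rw [Submodule.span_singleton_le_iff_mem, hx0e]
        exact Submodule.add_mem _ (Submodule.mem_sup_right hcomb)
          (Submodule.mem_sup_left (Submodule.mem_span_singleton_self _))
      · exact le_sup_right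

/-- the singular vectors orthogonal to the first members of a hyperbolic frame -/
theorem card_sing_perp_frame [Fintype F] [Finite V] {k : ℕ} {c : Fin k → V × V}
    (hc : IsHyp Q c) :
    Nat.card {v : V // Q v = 0 ∧ ∀ i, polar Q (c i).1 v = 0} =
      Fintype.card F ^ k * NW Q c 0 := by
  classical
  have E1 : {v : V // Q v = 0 ∧ ∀ i, polar Q (c i).1 v = 0} ≃
      {pw : (Fin k → F × F) × Perp Q c // (∀ i, (pw.1 i).2 = 0) ∧ Q pw.2.1 = 0} := by
    refine (decompEquiv hc).subtypeEquiv ?_
    intro v
    have hv : v = (decompEquiv hc).symm ((decompEquiv hc) v) := by simp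
    have hQ : Q v = ∑ j, (((decompEquiv hc) v).1 j).1 * (((decompEquiv hc) v).1 j).2 +
        Q ((decompEquiv hc) v).2.1 := by
      conv_lhs => rw [hv]
      change Q (comb c ((decompEquiv hc) v).1 + ((decompEquiv hc) v).2.1) = _
      rw [Q_decomp hc _ ((decompEquiv hc) v).2.2]
    have hp2 : ∀ i, (((decompEquiv hc) v).1 i).2 = polar Q (c i).1 v := by
      intro i
      show polar Q v (c i).1 = polar Q (c i).1 v
      exact polar_comm _ _ _
    constructor
    · rintro ⟨h1, h2⟩
      have h3 : ∀ i, (((decompEquiv hc) v).1 i).2 = 0 := fun i => by rw [hp2 i, h2 i]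
      refine ⟨h3, ?_⟩
      rw [hQ, Finset.sum_eq_zero (fun j _ => by rw [h3 j, mul_zero]), zero_add] at h1
      exact h1
    · rintro ⟨h3, h4⟩
      refine ⟨?_, fun i => by rw [← hp2 i, h3 i]⟩
      rw [hQ, Finset.sum_eq_zero (fun j _ => by rw [h3 j, mul_zero]), zero_add]
      exact h4
  have E2 : {pw : (Fin k → F × F) × Perp Q c // (∀ i, (pw.1 i).2 = 0) ∧ Q pw.2.1 = 0} ≃
      {p : Fin k → F × F // ∀ i, (p i).2 = 0} × {w : Perp Q c // Q w.1 = 0} :=
    Equiv.subtypeProdEquivProd (p := fun p : Fin k → F × F => ∀ i, (p i).2 = 0)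
      (q := fun w : Perp Q c => Q w.1 = 0)
  have E3 : {p : Fin k → F × F // ∀ i, (p i).2 = 0} ≃ (Fin k → F) :=
    { toFun := fun p i => (p.1 i).1
      invFun := fun a => ⟨fun i => (a i, 0), fun _ => rfl⟩
      left_inv := by
        rintro ⟨p, hp⟩
        apply Subtype.ext
        funext i
        exact Prod.ext rfl (hp i).symm
      right_inv := fun a => rfl }
  rw [Nat.card_congr (E1.trans E2), Nat.card_prod, Nat.card_congr E3, Nat.card_eq_fintype_card,
    Fintype.card_fun, Fintype.card_fin]
  rfl

end gen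

end COUNTPERP

open COUNTPERP Cfsg.Agent.Helper2.Quad in
/-- COUNTPERP: the singular vectors orthogonal to a singular frame -/
theorem card_sing_perp {F : Type*} [Field F] [Fintype F] (h2 : (2 : F) ≠ 0) (d k : ℕ)
    (hkd : k ≤ d) (x : Fin k → (Unit ⊕ (Fin d ⊕ Fin d) → F)) (hli : LinearIndependent F x)
    (hsing : ∀ i, Cfsg.quadFormOdd d F (x i) = 0)
    (horth : ∀ i j, QuadraticMap.polar (Cfsg.quadFormOdd d F) (x i) (x j) = 0) :
    Nat.card {v : Unit ⊕ (Fin d ⊕ Fin d) → F // Cfsg.quadFormOdd d F v = 0 ∧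
      ∀ i, QuadraticMap.polar (Cfsg.quadFormOdd d F) (x i) v = 0} =
      Fintype.card F ^ (2 * d - k) := by
  classical
  rw [quadFormOdd_eq d] at hsing horth ⊢
  obtain ⟨c, hc, hspan⟩ := exists_hyp_frame (oddModel F d).nonSing k x hli hsing horth
  have hiff : ∀ v : Unit ⊕ (Fin d ⊕ Fin d) → F,
      (∀ i, QuadraticMap.polar (oddModel F d).Q (x i) v = 0) ↔
      (∀ i, QuadraticMap.polar (oddModel F d).Q (c i).1 v = 0) := by
    intro v
    constructor
    · intro h i
      apply polar_eq_zero_of_mem_span x v h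
      rw [← hspan]
      exact Submodule.subset_span ⟨i, rfl⟩
    · intro h i
      apply polar_eq_zero_of_mem_span (Prod.fst ∘ c) v h
      rw [hspan]
      exact Submodule.subset_span ⟨i, rfl⟩
  have E : {v : Unit ⊕ (Fin d ⊕ Fin d) → F // (fun v => (oddModel F d).Q v) v = 0 ∧
      ∀ i, QuadraticMap.polar (fun v => (oddModel F d).Q v) (x i) v = 0} ≃
      {v : Unit ⊕ (Fin d ⊕ Fin d) → F // (oddModel F d).Q v = 0 ∧
        ∀ i, QuadraticMap.polar (oddModel F d).Q (c i).1 v = 0} :=
    Equiv.subtypeEquivRight (fun v => and_congr Iff.rfl (hiff v))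
  rw [Nat.card_congr E, card_sing_perp_frame hc]
  have hNW : NW (oddModel F d).Q c = Sk (d - k) (oddModel F d).N₀ :=
    NW_eq (j := d - k) hc (oddModel F d).N₀
      (by rw [Nat.sub_add_cancel hkd]; exact (oddModel F d).NV_eq)
  rw [hNW, Sk_zero_odd _ (oddModel F d).N₀_zero
    (by rw [(oddModel F d).sum_N₀]; simp) (d - k), ← pow_add]
  congr 1
  omega

end Cfsg.Agent.S5972P
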