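import Mathlib
import Cfsg.Prelude.Def_Characters
import Cfsg.Agent.Helper12.LSpWDefs
import Cfsg.Agent.Helper12.LSpWPDefs
import Cfsg.Agent.Helper12.LSLDefs
import Cfsg.Agent.Helper12.RUSpB
import Cfsg.Agent.Helper20.PermCharI
import Cfsg.Agent.Helper25.SpUH
import Cfsg.Agent.Helper12.WGDefs
import Cfsg.Agent.Helper12.WGDefsC
import Cfsg.Agent.Helper12.WGDefsD
import Cfsg.Agent.Helper12.WGStruct

set_option autoImplicit false

/-! # S2524 part B, piece IOTASURJ: the stabiliser of `e0` is the range of `iota`. -/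

namespace Cfsg.Agent.S2524P

open Matrix Cfsg Cfsg.Agent.S2333P Cfsg.Agent.Helper2.Sp Cfsg.Agent.Helper12.LSp Cfsg.Agent.Helper25
open Cfsg.Agent.Helper12.LSL Cfsg.Agent.Helper20.PermChar

variable {F : Type*} [Field F] [Fintype F]

/-- pairing with `e0` reads off the coordinate `inr 0` -/
theorem iotasurj_om_e0 {m : ℕ} (y : Vec (m + 1) F) : om (e0 : Vec (m + 1) F) y = - y (Sum.inr 0) := by
  rw [om_split, e0_inl_zero, e0_inr_zero, res_e0, om_zero_left']
  ring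

/-- pairing with `f0` reads off the coordinate `inl 0` -/
theorem iotasurj_om_f0 {m : ℕ} (y : Vec (m + 1) F) : om (f0 : Vec (m + 1) F) y = y (Sum.inl 0) := by
  rw [om_split, f0_inl_zero, f0_inr_zero, res_f0, om_zero_left']
  ring

/-- **IOTASURJ** -/
theorem iota_mulVec_e0 {m : ℕ} (x : Gam m F) :
    ((iota m F x : symplecticGroup (Fin (m + 1)) F) :
      Matrix (Fin (m + 1) ⊕ Fin (m + 1)) (Fin (m + 1) ⊕ Fin (m + 1)) F) *ᵥ e0 = e0 := by
  rw [iota_mulVec]
  apply vec_ext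
  · rw [iotaFun_inl_zero, res_e0, mulVec_zero, om_zero_right', e0_inr_zero, e0_inl_zero]
    ring
  · rw [iotaFun_inr_zero]
  · rw [res_iotaFun, res_e0, mulVec_zero, e0_inr_zero, zero_smul, add_zero]

/-- **IOTASURJ**: the stabiliser of `e0` is the range of `iota` -/
theorem exists_iota_eq {m : ℕ} (g : ↥(symplecticGroup (Fin (m + 1)) F))
    (hg : (g : Matrix (Fin (m + 1) ⊕ Fin (m + 1)) (Fin (m + 1) ⊕ Fin (m + 1)) F) *ᵥ e0 = e0) :
    ∃ x : Gam m F, iota m F x = g := by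
  -- abbreviations
  obtain ⟨G, hG⟩ : ∃ G : Matrix (Fin (m + 1) ⊕ Fin (m + 1)) (Fin (m + 1) ⊕ Fin (m + 1)) F,
      G = (g : Matrix (Fin (m + 1) ⊕ Fin (m + 1)) (Fin (m + 1) ⊕ Fin (m + 1)) F) := ⟨_, rfl⟩
  have hom : ∀ x y : Vec (m + 1) F, om (G *ᵥ x) (G *ᵥ y) = om x y := by
    intro x y
    rw [hG]
    exact om_g g x y
  have hGe : G *ᵥ e0 = e0 := by rw [hG]; exact hg
  -- the coordinate `inr 0` is preserved
  have hinr : ∀ y : Vec (m + 1) F, (G *ᵥ y) (Sum.inr 0) = y (Sum.inr 0) := by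
    intro y
    have h1 := hom e0 y
    rw [hGe, iotasurj_om_e0, iotasurj_om_e0] at h1
    exact neg_injective h1
  have hf0r : (G *ᵥ (f0 : Vec (m + 1) F)) (Sum.inr 0) = 1 := by rw [hinr, f0_inr_zero]
  have hembr : ∀ w : Vec m F, (G *ᵥ emb w) (Sum.inr 0) = 0 := by
    intro w
    rw [hinr, emb_inr_zero]
  -- the components of the element
  obtain ⟨v, hv⟩ : ∃ v : Vec m F, v = res (G *ᵥ (f0 : Vec (m + 1) F)) := ⟨_, rfl⟩
  obtain ⟨s, hs⟩ : ∃ s : F, s = - (G *ᵥ (f0 : Vec (m + 1) F)) (Sum.inl 0) := ⟨_, rfl⟩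
  obtain ⟨φ, hφ⟩ : ∃ φ : Vec m F → Vec m F, φ = fun w => res (G *ᵥ emb w) := ⟨_, rfl⟩
  have hφadd : ∀ x y, φ (x + y) = φ x + φ y := by
    intro x y
    rw [hφ]
    show res (G *ᵥ emb (x + y)) = res (G *ᵥ emb x) + res (G *ᵥ emb y)
    rw [emb_add, mulVec_add, res_add]
  have hφsmul : ∀ (c : F) x, φ (c • x) = c • φ x := by
    intro c x
    rw [hφ]
    show res (G *ᵥ emb (c • x)) = c • res (G *ᵥ emb x)
    rw [emb_smul, mulVec_smul, res_smul]
  have hφom : ∀ x y, om (φ x) (φ y) = om x y := by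
    intro x y
    rw [hφ]
    show om (res (G *ᵥ emb x)) (res (G *ᵥ emb y)) = om x y
    have h1 := hom (emb x) (emb y)
    rw [om_split, om_split (emb x) (emb y), hembr, hembr, emb_inr_zero, emb_inr_zero, res_emb,
      res_emb] at h1
    linear_combination h1
  -- the coordinate `inl 0` of the image of `emb w`
  have hembl : ∀ w : Vec m F, (G *ᵥ emb w) (Sum.inl 0) = - om v (φ w) := by
    intro w
    have h1 := hom f0 (emb w)
    rw [iotasurj_om_f0, emb_inl_zero, om_split, hf0r, hembr, ← hv] at h1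
    rw [hφ]
    show (G *ᵥ emb w) (Sum.inl 0) = - om v (res (G *ᵥ emb w))
    linear_combination h1
  refine ⟨⟨⟨v, s⟩, spOfFun φ hφadd hφsmul hφom⟩, ?_⟩
  apply ext_mulVec
  intro y
  rw [iota_mulVec, ← hG]
  show iotaFun (⟨v, s⟩ : Heis m F) (spOfFun φ hφadd hφsmul hφom) y = G *ᵥ y
  -- decompose `G y`
  have hGy : G *ᵥ y = y (Sum.inl 0) • e0 + y (Sum.inr 0) • (G *ᵥ f0) + G *ᵥ emb (res y) := by
    conv_lhs => rw [vec_decomp y]
    rw [mulVec_add, mulVec_add, mulVec_smul, mulVec_smul, hGe]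
  apply vec_ext
  · rw [iotaFun_inl_zero, spOfFun_mulVec, hGy]
    simp only [Pi.add_apply, Pi.smul_apply, smul_eq_mul]
    rw [hembl, e0_inl_zero]
    show y (Sum.inl 0) - om v (φ (res y)) - s * y (Sum.inr 0) = _
    rw [hs]
    ring
  · rw [iotaFun_inr_zero, hinr]
  · rw [res_iotaFun, spOfFun_mulVec, hGy, res_add, res_add, res_smul, res_smul, res_e0, smul_zero,
      zero_add, ← hv]
    show φ (res y) + y (Sum.inr 0) • v = y (Sum.inr 0) • v + res (G *ᵥ emb (res y))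
    rw [hφ, add_comm]

end Cfsg.Agent.S2524P
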