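import Mathlib
import Cfsg.Agent.Helper7.K2M.Defs

set_option autoImplicit false
set_option linter.unusedSectionVars false
set_option linter.unusedVariables false

/-! # S5694, `k = 2` minus blocks (designer helper7), piece UNIV (helper19): an anisotropic binary form over a
finite field represents every nonzero scalar. -/

namespace Cfsg.Agent.K2M

open Matrix Cfsg.Agent.OC2P Cfsg.Agent.Helper28.Sg Cfsg.Agent.Helper28.Spin
  Cfsg.Agent.Helper12.OrthGen

variable {F : Type*} [Field F] {t : ℕ} {Q : QuadraticForm F (Fin t × Fin 2 → F)}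
  {q : QuadraticForm F (Fin 2 → F)}

theorem UNIV.card_odd [Fintype F] (h2 : (2 : F) ≠ 0) : Fintype.card F % 2 = 1 := by
  rcases Nat.mod_two_eq_zero_or_one (Fintype.card F) with h | h
  · exfalso
    apply h2
    have hd : 2 ∣ Fintype.card F := Nat.dvd_of_mod_eq_zero h
    have h0 : ((Fintype.card F : ℕ) : F) = 0 := Nat.cast_card_eq_zero F
    obtain ⟨p, hp⟩ := CharP.exists F
    haveI := hp
    haveI : Fact p.Prime := ⟨CharP.char_is_prime F p⟩
    obtain ⟨n, hn⟩ := FiniteField.card F p
    have hp2 : p = 2 := by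
      have : 2 ∣ p ^ (n : ℕ) := hn.2 ▸ hd
      have h2p := (Nat.Prime.dvd_of_dvd_pow Nat.prime_two this)
      exact ((Nat.prime_dvd_prime_iff_eq Nat.prime_two (Fact.out)).mp h2p).symm
    subst hp2
    exact_mod_cast CharP.cast_eq_zero F 2
  · exact h

theorem UNIV.diag [Fintype F] (h2 : (2 : F) ≠ 0) {α β : F} (hα : α ≠ 0) (hβ : β ≠ 0) (γ : F) :
    ∃ x y : F, α * x ^ 2 + β * y ^ 2 = γ := by
  open Polynomial in
  have hf : (Polynomial.C α * Polynomial.X ^ 2 : F[X]).degree = 2 := by
    rw [Polynomial.degree_C_mul_X_pow 2 hα]; rfl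
  have hg : (Polynomial.C β * Polynomial.X ^ 2 - Polynomial.C γ : F[X]).degree = 2 := by
    rw [Polynomial.degree_sub_eq_left_of_degree_lt]
    · rw [Polynomial.degree_C_mul_X_pow 2 hβ]; rfl
    · rw [Polynomial.degree_C_mul_X_pow 2 hβ]
      exact lt_of_le_of_lt Polynomial.degree_C_le (by decide)
  obtain ⟨x, y, hxy⟩ := FiniteField.exists_root_sum_quadratic hf hg (UNIV.card_odd h2)
  refine ⟨x, y, ?_⟩
  simp only [Polynomial.eval_mul, Polynomial.eval_C, Polynomial.eval_pow, Polynomial.eval_X,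
    Polynomial.eval_sub] at hxy
  linear_combination hxy

theorem UNIV.main [Fintype F] (bm : BM Q q) {c : F} (hc : c ≠ 0) : ∃ y : Fin 2 → F, q y = c := by
  classical
  have he0 : (Pi.single (0 : Fin 2) (1 : F) : Fin 2 → F) ≠ 0 := by
    intro h0
    have := congrFun h0 0
    rw [Pi.single_eq_same] at this
    exact one_ne_zero this
  set y₀ : Fin 2 → F := Pi.single (0 : Fin 2) (1 : F) with hy₀
  have ha : q y₀ ≠ 0 := fun h => he0 (bm.aniso _ h)
  by_cases h2 : (2 : F) = 0
  · -- characteristic 2: every element is a square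
    have hch : ringChar F = 2 := CharP.ringChar_of_prime_eq_zero Nat.prime_two h2
    obtain ⟨s, hs⟩ := FiniteField.isSquare_of_char_two hch (c / q y₀)
    refine ⟨s • y₀, ?_⟩
    rw [QuadraticMap.map_smul, ← hs, smul_eq_mul, div_mul_cancel₀ _ ha]
  · -- odd characteristic: diagonalise
    set P := QuadraticMap.polar ⇑q with hP
    set e₁ : Fin 2 → F := Pi.single (1 : Fin 2) (1 : F) with he₁
    set y₁ : Fin 2 → F := P y₀ e₁ • y₀ - P y₀ y₀ • e₁ with hy₁
    have hP00 : P y₀ y₀ = 2 * q y₀ := by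
      rw [hP, QuadraticMap.polar_self, nsmul_eq_mul]; norm_num
    have hy₁ne : y₁ ≠ 0 := by
      intro h0
      have := congrFun h0 1
      rw [hy₁, hy₀, he₁] at this
      simp only [Pi.sub_apply, Pi.smul_apply, Pi.zero_apply, smul_eq_mul] at this
      rw [Pi.single_eq_same, Pi.single_eq_of_ne (by decide), mul_zero, zero_sub, mul_one,
        neg_eq_zero] at this
      rw [hP00] at this
      exact (mul_ne_zero h2 ha) this
    have hb : q y₁ ≠ 0 := fun h => hy₁ne (bm.aniso _ h)
    have horth : P y₀ y₁ = 0 := by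
      rw [hy₁, hP, QuadraticMap.polar_sub_right, QuadraticMap.polar_smul_right,
        QuadraticMap.polar_smul_right, smul_eq_mul, smul_eq_mul]
      ring
    obtain ⟨s, r, hsr⟩ := UNIV.diag h2 ha hb c
    refine ⟨s • y₀ + r • y₁, ?_⟩
    rw [QuadraticMap.map_add ⇑q, QuadraticMap.map_smul, QuadraticMap.map_smul,
      QuadraticMap.polar_smul_left, QuadraticMap.polar_smul_right]
    have : QuadraticMap.polar ⇑q y₀ y₁ = 0 := horth
    rw [this, smul_zero, smul_zero, add_zero, smul_eq_mul, smul_eq_mul, ← hsr]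
    ring

end Cfsg.Agent.K2M
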