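import Cfsg.Agent.Helper21.S2293DEFS
import Cfsg.Agent.Helper21.S2286FIN
import Cfsg.Agent.Helper11.S2287BNABS
import Cfsg.Agent.Helper16.S2293TORUS4

/-! S2293 (driver helper21), piece ROOTS4 (helper19): the root elements `xs k a`, `xl k b` are additive in
the parameter, are permuted by `c` and scaled by the torus. -/

namespace Cfsg.Agent.Helper21.S2293

open Multiplicative Cfsg.Agent.Helper21.S2286

variable {F : Type*} [Field F] {P : Type*} [Group P] (D : C2Data F P)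

namespace ROOTS4

theorem conj_through {P : Type*} [Group P] (τ τ' g y y' : P) (h1 : τ * g = g * τ')
    (h2 : τ' * y * τ'⁻¹ = y') : τ * (g * y * g⁻¹) * τ⁻¹ = g * y' * g⁻¹ := by
  have h3 : g⁻¹ * τ⁻¹ = τ'⁻¹ * g⁻¹ := by
    rw [← mul_inv_rev, ← mul_inv_rev, h1]
  calc τ * (g * y * g⁻¹) * τ⁻¹ = (τ * g) * y * (g⁻¹ * τ⁻¹) := by group
    _ = g * (τ' * y * τ'⁻¹) * g⁻¹ := by rw [h1, h3]; group
    _ = g * y' * g⁻¹ := by rw [h2]

theorem conj_mul' {P : Type*} [Group P] (g x y : P) :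
    g * (x * y) * g⁻¹ = (g * x * g⁻¹) * (g * y * g⁻¹) := by group

theorem conj_inv' {P : Type*} [Group P] (g x : P) : g * x⁻¹ * g⁻¹ = (g * x * g⁻¹)⁻¹ := by group

theorem conj_one' {P : Type*} [Group P] (g : P) : g * 1 * g⁻¹ = 1 := by group

theorem tor_c (i j : ℤ) : D.tor i j * D.c = D.c * D.tor j (-i) := by
  have h := D.c_tor j (-i)
  rw [neg_neg] at h
  rw [← h]
  group

theorem tor_c0 (i j : ℤ) : D.tor i j * D.c ^ 0 = D.c ^ 0 * D.tor i j := by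
  rw [pow_zero, mul_one, one_mul]

theorem tor_c1 (i j : ℤ) : D.tor i j * D.c ^ 1 = D.c ^ 1 * D.tor j (-i) := by
  rw [pow_one, tor_c]

theorem tor_c2 (i j : ℤ) : D.tor i j * D.c ^ 2 = D.c ^ 2 * D.tor (-i) (-j) := by
  rw [pow_two, ← mul_assoc, tor_c, mul_assoc, tor_c, ← mul_assoc]

theorem tor_c3 (i j : ℤ) : D.tor i j * D.c ^ 3 = D.c ^ 3 * D.tor (-j) i := by
  rw [pow_succ, ← mul_assoc, tor_c2, mul_assoc, tor_c, ← mul_assoc, neg_neg]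

/-- conjugating `c ^ k * y * c ^ (-k)` by `c`, given that `c ^ 4` commutes with `y` -/
theorem c_conj_pow (k : Fin 4) (y : P) (hy : Commute (D.c ^ 4) y) :
    D.c * (D.c ^ (k : ℕ) * y * (D.c ^ (k : ℕ))⁻¹) * D.c⁻¹ =
      D.c ^ ((k + 1 : Fin 4) : ℕ) * y * (D.c ^ ((k + 1 : Fin 4) : ℕ))⁻¹ := by
  fin_cases k
  · show D.c * (D.c ^ 0 * y * (D.c ^ 0)⁻¹) * D.c⁻¹ = D.c ^ 1 * y * (D.c ^ 1)⁻¹
    group
  · show D.c * (D.c ^ 1 * y * (D.c ^ 1)⁻¹) * D.c⁻¹ = D.c ^ 2 * y * (D.c ^ 2)⁻¹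
    group
  · show D.c * (D.c ^ 2 * y * (D.c ^ 2)⁻¹) * D.c⁻¹ = D.c ^ 3 * y * (D.c ^ 3)⁻¹
    group
  · show D.c * (D.c ^ 3 * y * (D.c ^ 3)⁻¹) * D.c⁻¹ = D.c ^ 0 * y * (D.c ^ 0)⁻¹
    have e : D.c * (D.c ^ 3 * y * (D.c ^ 3)⁻¹) * D.c⁻¹ = D.c ^ 4 * y * (D.c ^ 4)⁻¹ := by group
    rw [e, hy.eq, mul_assoc, mul_inv_cancel, mul_one, pow_zero, one_mul, inv_one, mul_one]

end ROOTS4

namespace C2Data

open ROOTS4

theorem xs_zero (k : Fin 4) : D.xs k 0 = 1 := by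
  unfold xs
  rw [ofAdd_zero, map_one, conj_one']

theorem xs_add (k : Fin 4) (a b : F) : D.xs k (a + b) = D.xs k a * D.xs k b := by
  unfold xs
  rw [ofAdd_add, map_mul, conj_mul']

theorem xs_neg (k : Fin 4) (a : F) : D.xs k (-a) = (D.xs k a)⁻¹ := by
  unfold xs
  rw [ofAdd_neg, map_inv, conj_inv']

theorem xl_zero (k : Fin 4) : D.xl k 0 = 1 := by
  unfold xl
  rw [ofAdd_zero, map_one, conj_one']

theorem xl_add (k : Fin 4) (a b : F) : D.xl k (a + b) = D.xl k a * D.xl k b := by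
  unfold xl
  rw [ofAdd_add, map_mul, conj_mul']

theorem xl_neg (k : Fin 4) (a : F) : D.xl k (-a) = (D.xl k a)⁻¹ := by
  unfold xl
  rw [ofAdd_neg, map_inv, conj_inv']

theorem c_xs (k : Fin 4) (a : F) : D.c * D.xs k a * D.c⁻¹ = D.xs (k + 1) a := by
  unfold xs
  exact c_conj_pow D k _ (D.c4_comm_phia a)

theorem c_xl (k : Fin 4) (b : F) : D.c * D.xl k b * D.c⁻¹ = D.xl (k + 1) b := by
  unfold xl
  exact c_conj_pow D k _ (D.c4_comm_phib b)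

theorem tor_xs (i j : ℤ) (k : Fin 4) (a : F) :
    D.tor i j * D.xs k a * (D.tor i j)⁻¹ = D.xs k ((D.ω : F) ^ (es i j k) * a) := by
  unfold xs
  fin_cases k
  · show D.tor i j * (D.c ^ 0 * D.φa (ofAdd a) * (D.c ^ 0)⁻¹) * (D.tor i j)⁻¹ =
      D.c ^ 0 * D.φa (ofAdd ((D.ω : F) ^ (es i j 0) * a)) * (D.c ^ 0)⁻¹
    rw [conj_through _ _ _ _ _ (tor_c0 D i j) (D.tor_phia i j a)]
    rfl
  · show D.tor i j * (D.c ^ 1 * D.φa (ofAdd a) * (D.c ^ 1)⁻¹) * (D.tor i j)⁻¹ =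
      D.c ^ 1 * D.φa (ofAdd ((D.ω : F) ^ (es i j 1) * a)) * (D.c ^ 1)⁻¹
    rw [conj_through _ _ _ _ _ (tor_c1 D i j) (D.tor_phia j (-i) a)]
    have e : es i j 1 = j - -i := by
      show i + j = j - -i
      ring
    rw [e]
  · show D.tor i j * (D.c ^ 2 * D.φa (ofAdd a) * (D.c ^ 2)⁻¹) * (D.tor i j)⁻¹ =
      D.c ^ 2 * D.φa (ofAdd ((D.ω : F) ^ (es i j 2) * a)) * (D.c ^ 2)⁻¹
    rw [conj_through _ _ _ _ _ (tor_c2 D i j) (D.tor_phia (-i) (-j) a)]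
    have e : es i j 2 = -i - -j := by
      show j - i = -i - -j
      ring
    rw [e]
  · show D.tor i j * (D.c ^ 3 * D.φa (ofAdd a) * (D.c ^ 3)⁻¹) * (D.tor i j)⁻¹ =
      D.c ^ 3 * D.φa (ofAdd ((D.ω : F) ^ (es i j 3) * a)) * (D.c ^ 3)⁻¹
    rw [conj_through _ _ _ _ _ (tor_c3 D i j) (D.tor_phia (-j) i a)]
    have e : es i j 3 = -j - i := by
      show -i - j = -j - i
      ring
    rw [e]

theorem tor_xl (i j : ℤ) (k : Fin 4) (b : F) :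
    D.tor i j * D.xl k b * (D.tor i j)⁻¹ = D.xl k ((D.ω : F) ^ (el i j k) * b) := by
  unfold xl
  fin_cases k
  · show D.tor i j * (D.c ^ 0 * D.φb (ofAdd b) * (D.c ^ 0)⁻¹) * (D.tor i j)⁻¹ =
      D.c ^ 0 * D.φb (ofAdd ((D.ω : F) ^ (el i j 0) * b)) * (D.c ^ 0)⁻¹
    rw [conj_through _ _ _ _ _ (tor_c0 D i j) (D.tor_phib i j b)]
    rfl
  · show D.tor i j * (D.c ^ 1 * D.φb (ofAdd b) * (D.c ^ 1)⁻¹) * (D.tor i j)⁻¹ =
      D.c ^ 1 * D.φb (ofAdd ((D.ω : F) ^ (el i j 1) * b)) * (D.c ^ 1)⁻¹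
    rw [conj_through _ _ _ _ _ (tor_c1 D i j) (D.tor_phib j (-i) b)]
    have e : el i j 1 = 2 * -i := by
      show -(2 * i) = 2 * -i
      ring
    rw [e]
  · show D.tor i j * (D.c ^ 2 * D.φb (ofAdd b) * (D.c ^ 2)⁻¹) * (D.tor i j)⁻¹ =
      D.c ^ 2 * D.φb (ofAdd ((D.ω : F) ^ (el i j 2) * b)) * (D.c ^ 2)⁻¹
    rw [conj_through _ _ _ _ _ (tor_c2 D i j) (D.tor_phib (-i) (-j) b)]
    have e : el i j 2 = 2 * -j := by
      show -(2 * j) = 2 * -j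
      ring
    rw [e]
  · show D.tor i j * (D.c ^ 3 * D.φb (ofAdd b) * (D.c ^ 3)⁻¹) * (D.tor i j)⁻¹ =
      D.c ^ 3 * D.φb (ofAdd ((D.ω : F) ^ (el i j 3) * b)) * (D.c ^ 3)⁻¹
    rw [conj_through _ _ _ _ _ (tor_c3 D i j) (D.tor_phib (-j) i b)]
    rfl

end C2Data

end Cfsg.Agent.Helper21.S2293
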