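import Cfsg.Agent.Helper21.S2293DEFS
import Cfsg.Agent.Helper21.S2286FIN
import Cfsg.Agent.Helper11.S2287BNABS
import Cfsg.Agent.Helper16.S2293TORUS4
import Cfsg.Agent.Helper16.S2293WEYL4
import Cfsg.Agent.Helper19.S2293ROOTS4

/-! S2293 (driver helper21), piece NACT4 (helper19): the Weyl elements `na`, `nb` (and their inverses) permute
the root groups `xs k`, `xl k`. -/

namespace Cfsg.Agent.Helper21.S2293

open Multiplicative Cfsg.Agent.Helper21.S2286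

variable {F : Type*} [Field F] {P : Type*} [Group P] (D : C2Data F P)

namespace NACT4

/-- `c⁻¹` moves `xs m` to `xs (m - 1)` -/
theorem cinv_xs (m : Fin 4) (a : F) : D.c⁻¹ * D.xs m a * D.c = D.xs (m - 1) a := by
  have h := D.c_xs (m - 1) a
  rw [sub_add_cancel] at h
  rw [← h]
  group

theorem cinv_xl (m : Fin 4) (b : F) : D.c⁻¹ * D.xl m b * D.c = D.xl (m - 1) b := by
  have h := D.c_xl (m - 1) b
  rw [sub_add_cancel] at h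
  rw [← h]
  group

theorem step_s (i j : ℤ) (m : Fin 4) (a : F) :
    ∃ a' : F, (D.tor i j * D.c⁻¹) * D.xs m a * (D.tor i j * D.c⁻¹)⁻¹ = D.xs (m - 1) a' := by
  refine ⟨(D.ω : F) ^ (C2Data.es i j (m - 1)) * a, ?_⟩
  rw [← D.tor_xs i j (m - 1) a, ← cinv_xs]
  group

theorem step_l (i j : ℤ) (m : Fin 4) (b : F) :
    ∃ b' : F, (D.tor i j * D.c⁻¹) * D.xl m b * (D.tor i j * D.c⁻¹)⁻¹ = D.xl (m - 1) b' := by
  refine ⟨(D.ω : F) ^ (C2Data.el i j (m - 1)) * b, ?_⟩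
  rw [← D.tor_xl i j (m - 1) b, ← cinv_xl]
  group

theorem na_sq : D.na * D.na = D.tor (-D.M) D.M := D.weyl_a.2

theorem nb_sq : D.nb * D.nb = D.tor 0 (-D.M) := D.weyl_b.2

theorem na_c' : D.na * D.c * D.na⁻¹ = D.tor (-D.M) 0 * D.c⁻¹ := by
  have h : D.na * D.c * D.na⁻¹ = (D.na * D.na) * (D.nb * D.nb) * D.c⁻¹ := by
    unfold C2Data.c
    group
  rw [h, na_sq, nb_sq, D.tor_mul, add_zero, add_neg_cancel]

theorem na_conj_c (x : P) : D.na * (D.c * x * D.c⁻¹) * D.na⁻¹ =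
    (D.tor (-D.M) 0 * D.c⁻¹) * (D.na * x * D.na⁻¹) * (D.tor (-D.M) 0 * D.c⁻¹)⁻¹ := by
  rw [← na_c']
  group

theorem na_xs_succ (k m : Fin 4)
    (h : ∀ a : F, ∃ a' : F, D.na * D.xs k a * D.na⁻¹ = D.xs m a') :
    ∀ a : F, ∃ a' : F, D.na * D.xs (k + 1) a * D.na⁻¹ = D.xs (m - 1) a' := by
  intro a
  rw [← D.c_xs, na_conj_c]
  obtain ⟨a', ha'⟩ := h a
  rw [ha']
  exact step_s D _ _ m a'

theorem na_xl_succ (k m : Fin 4)
    (h : ∀ b : F, ∃ b' : F, D.na * D.xl k b * D.na⁻¹ = D.xl m b') :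
    ∀ b : F, ∃ b' : F, D.na * D.xl (k + 1) b * D.na⁻¹ = D.xl (m - 1) b' := by
  intro b
  rw [← D.c_xl, na_conj_c]
  obtain ⟨b', hb'⟩ := h b
  rw [hb']
  exact step_l D _ _ m b'

/-- `na⁻¹ = tor M (-M) * na` -/
theorem na_inv_eq : D.na⁻¹ = D.tor D.M (-D.M) * D.na := by
  have h : D.na⁻¹ = (D.na * D.na)⁻¹ * D.na := by group
  rw [h, na_sq, D.tor_inv, neg_neg]

/-- `nb⁻¹ = tor 0 M * nb` -/
theorem nb_inv_eq : D.nb⁻¹ = D.tor 0 D.M * D.nb := by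
  have h : D.nb⁻¹ = (D.nb * D.nb)⁻¹ * D.nb := by group
  rw [h, nb_sq, D.tor_inv, neg_neg, neg_zero]

theorem na_inv_conj (x : P) : D.na⁻¹ * x * D.na =
    D.tor D.M (-D.M) * (D.na * x * D.na⁻¹) * (D.tor D.M (-D.M))⁻¹ := by
  have hτ : D.tor D.M (-D.M) = (D.na * D.na)⁻¹ := by rw [na_sq, D.tor_inv, neg_neg]
  rw [hτ]
  group

theorem nb_inv_conj (x : P) : D.nb⁻¹ * x * D.nb =
    D.tor 0 D.M * (D.nb * x * D.nb⁻¹) * (D.tor 0 D.M)⁻¹ := by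
  have hτ : D.tor 0 D.M = (D.nb * D.nb)⁻¹ := by rw [nb_sq, D.tor_inv, neg_neg, neg_zero]
  rw [hτ]
  group

/-- `nb = na⁻¹ c` -/
theorem nb_conj (x : P) : D.nb * x * D.nb⁻¹ = D.na⁻¹ * (D.c * x * D.c⁻¹) * D.na := by
  unfold C2Data.c
  group

end NACT4

namespace C2Data

open NACT4

/-- `na c na⁻¹ c = na² nb² = tor (-M) 0`. -/
theorem na_c : D.na * D.c * D.na⁻¹ = D.tor (-D.M) 0 * D.c⁻¹ := na_c' D

theorem na_xs (k : Fin 4) (a : F) : ∃ a' : F, D.na * D.xs k a * D.na⁻¹ = D.xs (2 - k) a' := by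
  have h0 : ∀ a : F, ∃ a' : F, D.na * D.xs 0 a * D.na⁻¹ = D.xs 2 a' := fun a => ⟨a, by
    have e0 : D.xs 0 a = D.φa (ofAdd a) := by
      show D.c ^ 0 * D.φa (ofAdd a) * (D.c ^ 0)⁻¹ = _
      rw [pow_zero, one_mul, inv_one, mul_one]
    rw [e0]
    exact D.ra a⟩
  have h1 := na_xs_succ D 0 2 h0
  have h2 := na_xs_succ D (0 + 1) (2 - 1) h1
  have h3 := na_xs_succ D (0 + 1 + 1) (2 - 1 - 1) h2
  fin_cases k
  · exact h0 a
  · exact h1 a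
  · exact h2 a
  · exact h3 a

theorem na_xl (k : Fin 4) (b : F) : ∃ b' : F, D.na * D.xl k b * D.na⁻¹ = D.xl (3 - k) b' := by
  have h0 : ∀ b : F, ∃ b' : F, D.na * D.xl 0 b * D.na⁻¹ = D.xl 3 b' := fun b => ⟨b, by
    have e0 : D.xl 0 b = D.φb (ofAdd b) := by
      show D.c ^ 0 * D.φb (ofAdd b) * (D.c ^ 0)⁻¹ = _
      rw [pow_zero, one_mul, inv_one, mul_one]
    rw [e0]
    exact D.rc b⟩
  have h1 := na_xl_succ D 0 3 h0
  have h2 := na_xl_succ D (0 + 1) (3 - 1) h1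
  have h3 := na_xl_succ D (0 + 1 + 1) (3 - 1 - 1) h2
  fin_cases k
  · exact h0 b
  · exact h1 b
  · exact h2 b
  · exact h3 b

theorem na_inv_xs (k : Fin 4) (a : F) : ∃ a' : F, D.na⁻¹ * D.xs k a * D.na = D.xs (2 - k) a' := by
  obtain ⟨a', ha'⟩ := D.na_xs k a
  rw [na_inv_conj, ha', D.tor_xs]
  exact ⟨_, rfl⟩

theorem na_inv_xl (k : Fin 4) (b : F) : ∃ b' : F, D.na⁻¹ * D.xl k b * D.na = D.xl (3 - k) b' := by
  obtain ⟨b', hb'⟩ := D.na_xl k b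
  rw [na_inv_conj, hb', D.tor_xl]
  exact ⟨_, rfl⟩

theorem nb_xs (k : Fin 4) (a : F) : ∃ a' : F, D.nb * D.xs k a * D.nb⁻¹ = D.xs (1 - k) a' := by
  rw [nb_conj, D.c_xs]
  obtain ⟨a', ha'⟩ := D.na_inv_xs (k + 1) a
  have e : ∀ k : Fin 4, 2 - (k + 1) = 1 - k := by decide
  rw [e k] at ha'
  exact ⟨a', ha'⟩

theorem nb_xl (k : Fin 4) (b : F) : ∃ b' : F, D.nb * D.xl k b * D.nb⁻¹ = D.xl (2 - k) b' := by
  rw [nb_conj, D.c_xl]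
  obtain ⟨b', hb'⟩ := D.na_inv_xl (k + 1) b
  have e : ∀ k : Fin 4, 3 - (k + 1) = 2 - k := by decide
  rw [e k] at hb'
  exact ⟨b', hb'⟩

theorem nb_inv_xs (k : Fin 4) (a : F) : ∃ a' : F, D.nb⁻¹ * D.xs k a * D.nb = D.xs (1 - k) a' := by
  obtain ⟨a', ha'⟩ := D.nb_xs k a
  rw [nb_inv_conj, ha', D.tor_xs]
  exact ⟨_, rfl⟩

theorem nb_inv_xl (k : Fin 4) (b : F) : ∃ b' : F, D.nb⁻¹ * D.xl k b * D.nb = D.xl (2 - k) b' := by
  obtain ⟨b', hb'⟩ := D.nb_xl k b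
  rw [nb_inv_conj, hb', D.tor_xl]
  exact ⟨_, rfl⟩

end C2Data

end Cfsg.Agent.Helper21.S2293
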