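import Mathlib
import Cfsg.Agent.Helper5.S2536DefsA
import Cfsg.Agent.Helper5.S2536ORB
import Cfsg.Agent.Helper5.S2536ARCOMB
import Cfsg.Agent.Helper3.HallUnivA

/-! S2536 stage 2, piece ATMOSTONE (helper19): `D_π` when at most one prime of `π` divides `|G|`,
resp. when all primes dividing `|G|` lie in `π`.  (Self-contained: the needed instance of RELPI is
reproved in the sub-namespace `ATMOSTONE`.) -/

set_option autoImplicit false

namespace Cfsg.Agent.S2536P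

open Equiv Nat

universe u v

namespace ATMOSTONE

variable {G : Type u} [Group G] [Finite G]

theorem isPiSubgroup_eq {π π' : Set ℕ}
    (h : ∀ p : ℕ, p.Prime → p ∣ Nat.card G → (p ∈ π ↔ p ∈ π')) :
    (Cfsg.IsPiSubgroup π : Subgroup G → Prop) = Cfsg.IsPiSubgroup π' := by
  funext K
  apply propext
  constructor
  · intro hK p hp hpK
    exact (h p hp (hpK.trans (Subgroup.card_subgroup_dvd_card K))).mp (hK p hp hpK)
  · intro hK p hp hpK
    exact (h p hp (hpK.trans (Subgroup.card_subgroup_dvd_card K))).mpr (hK p hp hpK)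

theorem isDPiGroup_congr_aux {π π' : Set ℕ}
    (h : ∀ p : ℕ, p.Prime → p ∣ Nat.card G → (p ∈ π ↔ p ∈ π')) :
    Cfsg.IsDPiGroup π G ↔ Cfsg.IsDPiGroup π' G := by
  unfold Cfsg.IsDPiGroup
  rw [isPiSubgroup_eq h]

end ATMOSTONE

section General

variable {G : Type u} [Group G] [Finite G]

/-- ATMOSTONE1 (dep RELPI; `Cfsg.Agent.Helper3.HallUniv.isDPiGroup_of_atMostOne`) -/
theorem isDPiGroup_of_atMostOne' {π : Set ℕ}
    (h : ∀ r s : ℕ, r.Prime → s.Prime → r ∈ π → s ∈ π → r ∣ Nat.card G → s ∣ Nat.card G → r = s) :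
    Cfsg.IsDPiGroup π G := by
  have hc : ∀ p : ℕ, p.Prime → p ∣ Nat.card G →
      (p ∈ π ↔ p ∈ π ∩ {p | p ∣ Nat.card G}) := by
    intro p _ hpG
    exact ⟨fun hp => ⟨hp, hpG⟩, fun hp => hp.1⟩
  rw [ATMOSTONE.isDPiGroup_congr_aux hc]
  apply Cfsg.Agent.Helper3.HallUniv.isDPiGroup_of_atMostOne
  intro p q hp hq hpπ hqπ
  exact h p q hp hq hpπ.1 hqπ.1 hpπ.2 hqπ.2

/-- ATMOSTONE2 (dep RELPI; `Cfsg.Agent.Helper3.HallUniv.isDPiGroup_of_all`) -/
theorem isDPiGroup_of_all' {π : Set ℕ} (h : ∀ r : ℕ, r.Prime → r ∣ Nat.card G → r ∈ π) :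
    Cfsg.IsDPiGroup π G := by
  have hc : ∀ p : ℕ, p.Prime → p ∣ Nat.card G →
      (p ∈ π ↔ p ∈ π ∪ {p | ¬ p ∣ Nat.card G}) := by
    intro p _ hpG
    exact ⟨fun hp => Or.inl hp, fun hp => hp.elim id (fun hn => absurd hpG hn)⟩
  rw [ATMOSTONE.isDPiGroup_congr_aux hc]
  apply Cfsg.Agent.Helper3.HallUniv.isDPiGroup_of_all
  intro p hp
  by_cases hpG : p ∣ Nat.card G
  · exact Or.inl (h p hp hpG)
  · exact Or.inr hpG

end General

end Cfsg.Agent.S2536P
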