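import Mathlib
import Cfsg.Agent.Helper5.S2536DefsA
import Cfsg.Agent.Helper5.S2536ORB
import Cfsg.Agent.Helper5.S2536ARCOMB
import Cfsg.Agent.Helper5.S2536GTW
import Cfsg.Agent.Helper5.S2536TRANS
import Cfsg.Agent.Helper20.S2536PRIM
import Cfsg.Agent.Helper21.S2536ARW
import Cfsg.Agent.Helper22.S2536BISTABCARD
import Cfsg.Agent.Helper22.S2536E23

/-! S2536 stage 2, piece STRUCT3 (helper19): a transitive Hall `{2,3}`-subgroup of `S_8` is the
stabilizer of a bisection into two `4`-sets. -/

set_option autoImplicit false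

namespace Cfsg.Agent.S2536P

open Equiv Nat

universe u v

namespace STRUCT3

variable {α : Type u} [Finite α]

theorem card_compl (p : α → Prop) :
    Nat.card α = Nat.card {x // p x} + Nat.card {x // ¬ p x} := by
  classical
  rw [← Nat.card_sum]
  exact (Nat.card_congr (Equiv.sumCompl p)).symm

/-- a permutation mapping the `p`-set into its complement, the two having the same size,
maps the complement onto the `p`-set -/
theorem flip_iff (p : α → Prop) (h : Nat.card {x // p x} = Nat.card {x // ¬ p x}) (g : Perm α)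
    (hg : ∀ x, p (g x) → ¬ p x) : ∀ x, p (g x) ↔ ¬ p x := by
  classical
  haveI := Fintype.ofFinite α
  intro x
  refine ⟨hg x, ?_⟩
  -- the injection `{x // p (g x)} → {x // ¬ p x}` is a bijection
  have hinj : Function.Injective
      (fun y : {x // p (g x)} => (⟨y.1, hg y.1 y.2⟩ : {x // ¬ p x})) := by
    intro y y' hyy
    have h1 : (⟨y.1, hg y.1 y.2⟩ : {x // ¬ p x}) = ⟨y'.1, hg y'.1 y'.2⟩ := hyy
    exact Subtype.ext (congrArg (fun z : {x // ¬ p x} => z.1) h1)
  have hcard : Nat.card {x // p (g x)} = Nat.card {x // ¬ p x} := by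
    rw [← h]
    exact Nat.card_congr
      { toFun := fun y => ⟨g y.1, y.2⟩
        invFun := fun z => ⟨g⁻¹ z.1, by simpa using z.2⟩
        left_inv := fun y => Subtype.ext (by simp)
        right_inv := fun z => Subtype.ext (by simp) }
  have hbij : Function.Bijective
      (fun y : {x // p (g x)} => (⟨y.1, hg y.1 y.2⟩ : {x // ¬ p x})) := by
    rw [Fintype.bijective_iff_injective_and_card]
    refine ⟨hinj, ?_⟩
    rw [← Nat.card_eq_fintype_card, ← Nat.card_eq_fintype_card, hcard]
  intro hx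
  obtain ⟨y, hy⟩ := hbij.2 ⟨x, hx⟩
  have hyx : y.1 = x := congrArg Subtype.val hy
  rw [← hyx]
  exact y.2

end STRUCT3

section Sym

variable {α : Type u} [Finite α]

/-- STRUCT3 (dep: Stage 1 `prim_ptype`, `gtw`, `arw`, `card_biStab`) -/
theorem eq_biStab_of_trans {π : Set ℕ} {H : Subgroup (Perm α)} (hH : Cfsg.IsPiHall π H)
    (h8 : Nat.card α = 8) (hπ : Is23 π 8) (htr : MulAction.IsPretransitive H α) :
    ∃ p : α → Prop, Nat.card {x // p x} = 4 ∧ H = biStab p := by
  have h2π : (2 : ℕ) ∈ π := (hπ 2 Nat.prime_two (by norm_num)).mpr (Or.inl rfl)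
  have h3π : (3 : ℕ) ∈ π := (hπ 3 Nat.prime_three (by norm_num)).mpr (Or.inr rfl)
  have h5 : Nat.Prime 5 := by norm_num
  have h5π : (5 : ℕ) ∉ π := by
    intro h
    rcases (hπ 5 h5 (by norm_num)).mp h with h' | h' <;> omega
  -- `H` is not primitive
  have hnp : ¬ MulAction.IsPreprimitive H α := by
    intro hprim
    have hP := prim_ptype hH hprim
    rw [h8] at hP
    rcases hP with h | ⟨h, -, -⟩ | h
    · omega
    · exact absurd h (by norm_num)
    · exact h5π (h 5 h5 (by norm_num))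
  obtain ⟨p, β, hβ, K₁, K₂, ha, hb, hab, hK₁, hK₁tr, hK₂, hK₂pr, ⟨W, hW, hWπ⟩, hflip⟩ :=
    gtw hH htr hnp
  have hTa := trans_ttype hK₁ hK₁tr
  have hPb := prim_ptype hK₂ hK₂pr
  rw [hab] at hW
  have h8' : Nat.card {x // p x} * Nat.card β = 8 := by rw [← hab, h8]
  have hTwo : Two π (Nat.card {x // p x} * Nat.card β) := by
    rw [h8']
    exact ⟨2, 3, Nat.prime_two, Nat.prime_three, by norm_num, h2π, h3π, by norm_num, by norm_num⟩
  have hNot : NotAll π (Nat.card {x // p x} * Nat.card β) := by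
    rw [h8']
    exact ⟨5, h5, by norm_num, h5π⟩
  obtain ⟨ha4, -, -⟩ := arw ha hb hTa hPb hW hWπ hTwo hNot
  have hc4 : Nat.card {x // ¬ p x} = 4 := by
    have := STRUCT3.card_compl p
    omega
  refine ⟨p, ha4, ?_⟩
  have hle : H ≤ biStab p := by
    intro g hg
    rcases hflip g hg with h | h
    · exact Or.inl h
    · exact Or.inr (STRUCT3.flip_iff p (by rw [ha4, hc4]) g h)
  have hcH : Nat.card H = 2 ^ 7 * 3 ^ 2 := by
    have hG : Nat.card (Perm α) = 2 ^ 7 * 3 ^ 2 * 35 := by
      rw [card_perm_nat, h8]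
      decide
    exact card_eq_of_isPiHall hH hG (E23.piNum_23 (by norm_num) hπ)
      (E23.piPrime_35 (by norm_num) hπ)
  have hcB : Nat.card (biStab p) = 2 ^ 7 * 3 ^ 2 := by
    rw [card_biStab p (by rw [ha4, hc4]) (by rw [ha4]; norm_num), ha4, hc4]
    decide
  exact Subgroup.eq_of_le_of_card_ge hle (by rw [hcH, hcB])

end Sym

end Cfsg.Agent.S2536P
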