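import Cfsg.Agent.Helper7.S2806Defs
import Cfsg.Agent.S0542

/-! Board `s2806pieces`, piece SYLSUB: a Sylow `p`-subgroup meets a subnormal subgroup `E` in a Sylow
`p`-subgroup of `E` (relative form of S0542). -/

set_option autoImplicit false
set_option linter.unusedSectionVars false
set_option linter.unusedVariables false

namespace Cfsg.Agent.S2806P

open Cfsg Cfsg.Agent.Helper14

variable {G : Type*} [Group G]

variable [Finite G] {p : ℕ} [Fact p.Prime]

/-- SYLSUB (S): from `Cfsg.Agent.S0542.result` (+ `isSylowIn_of_sylow`, `map_subtype_subgroupOf`). -/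
theorem isSylowIn_inf_of_isSubnormal (T : Sylow p G) {E : Subgroup G} (hE : E.IsSubnormal) :
    IsSylowIn p ((T : Subgroup G) ⊓ E) E := by
  obtain ⟨Q, hQ⟩ := Cfsg.Agent.S0542.result p E hE T
  have h := isSylowIn_of_sylow Q
  rw [hQ, Subgroup.subgroupOf_map_subtype] at h
  exact h

end Cfsg.Agent.S2806P
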