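import Mathlib
import Cfsg.Prelude.Def_Solvable
import Cfsg.Prelude.Def_Transfer
import Cfsg.Agent.Helper11.S4409Defs
import Cfsg.Agent.Helper4.S4409AB8

/-! s4409pieces ABLACK: an abelian `2`-group without `HasA` is cyclic or `V4`. -/

set_option autoImplicit false
set_option linter.unusedVariables false

namespace Cfsg.Agent.S4409P

open Subgroup
open scoped commutatorElement

variable {S : Type*} [Group S] [Finite S]

/-- ABLACK : an abelian `2`-group without `HasA` is cyclic or `V4`. -/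
theorem cyclic_or_v4_of_abelian (B : Subgroup S) (hB : IsPGroup 2 ↥B) (hc : IsAb B)
    (hA : ¬ HasA B) : IsCyclic ↥B ∨ IsV4 B := by
  by_cases hcyc : IsCyclic ↥B
  · exact Or.inl hcyc
  right
  have h8 : ¬ 8 ≤ Nat.card ↥B := fun h => hA (hasA_of_abelian B hB hc hcyc h)
  obtain ⟨k, hk⟩ := hB.exists_card_eq
  have hk2 : k ≤ 2 := by
    by_contra h
    have h := Nat.lt_of_not_le h
    apply h8
    rw [hk]
    calc 8 = 2 ^ 3 := by norm_num
      _ ≤ 2 ^ k := Nat.pow_le_pow_right (by norm_num) h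
  interval_cases k
  · exfalso
    apply hcyc
    have h1 : Nat.card ↥B = 1 := by simpa using hk
    have : Subsingleton ↥B := (Nat.card_eq_one_iff_unique.mp h1).1
    infer_instance
  · exfalso
    apply hcyc
    have : Fact (Nat.Prime 2) := ⟨Nat.prime_two⟩
    have h2 : Nat.card ↥B = 2 := by simpa using hk
    exact isCyclic_of_prime_card (p := 2) h2
  · have h4 : Nat.card ↥B = 4 := by simpa using hk
    refine ⟨h4, ?_⟩
    intro x hx
    have hd : orderOf (⟨x, hx⟩ : ↥B) ∣ 2 ^ 2 := by
      have := orderOf_dvd_natCard (⟨x, hx⟩ : ↥B)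
      rw [h4] at this
      simpa using this
    obtain ⟨m, hm, hmo⟩ := (Nat.dvd_prime_pow Nat.prime_two).mp hd
    have hm1 : m ≤ 1 := by
      by_contra h
      have h := Nat.lt_of_not_le h
      have hm2 : m = 2 := by omega
      apply hcyc
      apply isCyclic_of_orderOf_eq_card (⟨x, hx⟩ : ↥B)
      rw [hmo, hm2, h4]
      norm_num
    have hd2 : orderOf (⟨x, hx⟩ : ↥B) ∣ 2 := by
      rw [hmo]
      calc 2 ^ m ∣ 2 ^ 1 := Nat.pow_dvd_pow 2 hm1
        _ = 2 := by norm_num
    have hp : (⟨x, hx⟩ : ↥B) ^ 2 = 1 := orderOf_dvd_iff_pow_eq_one.mp hd2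
    have := congrArg Subtype.val hp
    simpa [pow_two] using this

end Cfsg.Agent.S4409P
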