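import Mathlib
import Cfsg.Prelude.Def_Solvable
import Cfsg.Prelude.Def_Transfer
import Cfsg.Agent.Helper11.S4409Defs
import Cfsg.Agent.Helper11.S4409Q0
import Cfsg.Agent.Helper14.S4409CYCAUT
import Cfsg.Agent.Lead.ThompsonPQ

/-! s4409pieces Q3 (`q8_cen`): a `2`-element normalising `L = Q8` and centralising a group `K` of odd order acting
nontrivially on `L` centralises `L`.  Proof: Thompson `P × Q` (`Lead.thompson_PQ`) with `P = ⟨c⟩`, `Q = K`, `U = L`: otherwise
`C_L(c)` is a proper subgroup of `Q8`, hence cyclic, hence centralised by `K` (CYCAUT), so `K` centralises `L`. -/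

set_option autoImplicit false
set_option linter.unusedVariables false

namespace Cfsg.Agent.S4409P

open Subgroup
open scoped commutatorElement

variable {S : Type*} [Group S] [Finite S]

omit [Finite S] in
theorem Q3_aux_mem_centralizer_zpowers {c x : S} :
    x ∈ centralizer ((zpowers c : Subgroup S) : Set S) ↔ c * x = x * c := by
  rw [mem_centralizer_iff]
  constructor
  · intro h
    exact h c (mem_zpowers c)
  · intro h z hz
    obtain ⟨i, rfl⟩ := mem_zpowers_iff.mp hz
    exact (Commute.zpow_left (show Commute c x from h) i).eq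

/-- a proper subgroup of `Q8` is cyclic -/
theorem Q3_aux_cyclic_of_lt {L D : Subgroup S} (hL : IsQ8 L) (hDL : D ≤ L) (hne : D ≠ L) : IsCyclic ↥D := by
  obtain ⟨h8, ζ, hζL, hζ1, hζ2, hsq⟩ := hL
  have hdvd : Nat.card ↥D ∣ 2 ^ 3 := by
    have := Subgroup.card_dvd_of_le hDL
    rw [h8] at this
    simpa using this
  obtain ⟨m, hm, hmc⟩ := (Nat.dvd_prime_pow Nat.prime_two).mp hdvd
  have hm2 : m ≤ 2 := by
    by_contra h
    have h := Nat.lt_of_not_le h
    have hm3 : m = 3 := by omega
    apply hne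
    apply Subgroup.eq_of_le_of_card_ge hDL
    rw [h8, hmc, hm3]
    norm_num
  interval_cases m
  · have h1 : Nat.card ↥D = 1 := by simpa using hmc
    have : Subsingleton ↥D := (Nat.card_eq_one_iff_unique.mp h1).1
    infer_instance
  · have : Fact (Nat.Prime 2) := ⟨Nat.prime_two⟩
    have h2 : Nat.card ↥D = 2 := by simpa using hmc
    exact isCyclic_of_prime_card (p := 2) h2
  · have h4 : Nat.card ↥D = 4 := by simpa using hmc
    -- an element of `D` other than `1, ζ`
    have hex : ∃ x ∈ D, x ≠ 1 ∧ x ≠ ζ := by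
      by_contra hno
      have hsub : (D : Set S) ⊆ {1, ζ} := by
        intro x hx
        by_contra hx2
        apply hno
        refine ⟨x, hx, ?_, ?_⟩
        · intro h; apply hx2; rw [h]; simp
        · intro h; apply hx2; rw [h]; simp
      have h1 : (D : Set S).ncard ≤ ({1, ζ} : Set S).ncard := Set.ncard_le_ncard hsub (Set.toFinite _)
      have h2 : ({1, ζ} : Set S).ncard ≤ 2 := by
        calc ({1, ζ} : Set S).ncard ≤ ({ζ} : Set S).ncard + 1 := Set.ncard_insert_le _ _
          _ = 2 := by rw [Set.ncard_singleton]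
      have h3 : Nat.card ↥D = (D : Set S).ncard := Nat.card_coe_set_eq (D : Set S)
      omega
    obtain ⟨x, hxD, hx1, hxζ⟩ := hex
    have hxx : x * x = ζ := by
      rcases hsq x (hDL hxD) with h | h | h
      · exact absurd h hx1
      · exact absurd h hxζ
      · exact h
    apply isCyclic_of_orderOf_eq_card (⟨x, hxD⟩ : ↥D)
    rw [h4]
    have hx4 : (⟨x, hxD⟩ : ↥D) ^ 4 = 1 := by
      apply Subtype.ext
      simp only [Subgroup.coe_pow, Subgroup.coe_one]
      calc x ^ 4 = (x * x) * (x * x) := by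
            rw [← pow_two, ← pow_two, ← pow_mul]
        _ = 1 := by rw [hxx, hζ2]
    have hx2 : (⟨x, hxD⟩ : ↥D) ^ 2 ≠ 1 := by
      intro h
      have := congrArg Subtype.val h
      simp only [Subgroup.coe_pow, Subgroup.coe_one] at this
      apply hζ1
      rw [← hxx, ← pow_two]
      exact this
    have hd : orderOf (⟨x, hxD⟩ : ↥D) ∣ 2 ^ 2 := by
      have := orderOf_dvd_of_pow_eq_one hx4
      simpa using this
    obtain ⟨j, hj, hjo⟩ := (Nat.dvd_prime_pow Nat.prime_two).mp hd
    have hj2 : j = 2 := by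
      by_contra h
      have hj1 : j ≤ 1 := by omega
      apply hx2
      apply orderOf_dvd_iff_pow_eq_one.mp
      rw [hjo]
      calc 2 ^ j ∣ 2 ^ 1 := Nat.pow_dvd_pow 2 hj1
        _ = 2 := by norm_num
    rw [hjo, hj2]
    norm_num

/-- Q3 -/
theorem q8_cen (L K : Subgroup S) (hL : IsQ8 L) (hK : Odd (Nat.card ↥K)) (hKL : K ≤ normalizer (L : Set S))
    (hne : ⁅L, K⁆ ≠ ⊥) (c : S) (hcL : c ∈ normalizer (L : Set S)) (hcK : c ∈ centralizer (K : Set S))
    (hc2 : ∃ n : ℕ, c ^ (2 ^ n) = 1) : c ∈ centralizer (L : Set S) := by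
  by_contra hcn
  apply hne
  have : Fact (Nat.Prime 2) := ⟨Nat.prime_two⟩
  obtain ⟨n, hn⟩ := hc2
  have hP : IsPGroup 2 ↥(zpowers c) := by
    rintro ⟨z, hz⟩
    obtain ⟨i, rfl⟩ := mem_zpowers_iff.mp hz
    refine ⟨n, ?_⟩
    apply Subtype.ext
    simp only [Subgroup.coe_pow, Subgroup.coe_one]
    rw [← zpow_natCast, ← zpow_mul, mul_comm, zpow_mul, zpow_natCast, hn, one_zpow]
  have hQ : (Nat.card ↥K).Coprime 2 := hK.coprime_two_right
  have hPQ : zpowers c ≤ centralizer (K : Set S) := zpowers_le.mpr hcK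
  have hPU : zpowers c ≤ normalizer (L : Set S) := zpowers_le.mpr hcL
  -- `D = C_L(c)` is a proper `K`-invariant subgroup of `L`
  have hDL : L ⊓ centralizer ((zpowers c : Subgroup S) : Set S) ≤ L := inf_le_left
  have hDne : L ⊓ centralizer ((zpowers c : Subgroup S) : Set S) ≠ L := by
    intro h
    apply hcn
    rw [mem_centralizer_iff]
    intro y hy
    have hy' : y ∈ L ⊓ centralizer ((zpowers c : Subgroup S) : Set S) := by rw [h]; exact hy
    have := Q3_aux_mem_centralizer_zpowers.mp hy'.2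
    exact this.symm
  have hcyc := Q3_aux_cyclic_of_lt hL hDL hDne
  have hKD : K ≤ normalizer ((L ⊓ centralizer ((zpowers c : Subgroup S) : Set S) : Subgroup S) : Set S) := by
    intro k hk
    have hkc : k * c = c * k := by
      have := (mem_centralizer_iff.mp hcK) k hk
      exact this
    have hkL := hKL hk
    rw [mem_normalizer_iff] at hkL ⊢
    intro x
    rw [mem_inf, mem_inf, Q3_aux_mem_centralizer_zpowers, Q3_aux_mem_centralizer_zpowers, ← hkL x]
    have hck : Commute c k := hkc.symm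
    constructor
    · rintro ⟨h1, h2⟩
      exact ⟨h1, ((hck.mul_right (show Commute c x from h2)).mul_right hck.inv_right).eq⟩
    · rintro ⟨h1, h2⟩
      refine ⟨h1, ?_⟩
      have h3 : Commute c (k⁻¹ * (k * x * k⁻¹) * k) :=
        (hck.inv_right.mul_right (show Commute c (k * x * k⁻¹) from h2)).mul_right hck
      have h4 : k⁻¹ * (k * x * k⁻¹) * k = x := by group
      rw [h4] at h3
      exact h3.eq
  have hD2 : IsPGroup 2 ↥(L ⊓ centralizer ((zpowers c : Subgroup S) : Set S)) := hL.isPGroup.to_le hDL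
  have hbot := comm_eq_bot_of_cyclic _ K hD2 hcyc hK hKD
  have hC : L ⊓ centralizer ((zpowers c : Subgroup S) : Set S) ≤ centralizer (K : Set S) :=
    Subgroup.commutator_eq_bot_iff_le_centralizer.mp hbot
  have hKc : K ≤ centralizer (L : Set S) :=
    Cfsg.Agent.Lead.thompson_PQ 2 (zpowers c) K L hP hQ hL.isPGroup hPQ hPU hKL hC
  rw [Subgroup.commutator_eq_bot_iff_le_centralizer]
  exact Subgroup.le_centralizer_iff.mp hKc

end Cfsg.Agent.S4409P
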