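import Mathlib
import Cfsg.Agent.Helper3.S5655EVDefs
import Cfsg.Agent.Helper28.HermCount

set_option autoImplicit false
set_option linter.unusedSectionVars false
set_option linter.unusedVariables false

/-! # S5655 k = 1, chapter "q EVEN": piece MUCARD (helper19)

The norm-one group `{l | l σ(l) = 1}` of `K`, `|K| = q²`, has `q + 1` elements
(`Cfsg.Agent.Helper28.HermCount.card_norm_fiber` with `c = -1`). -/

namespace Cfsg.Agent.S5655K1.EV

open Matrix
open Cfsg.Agent.S2644 Cfsg.Agent.Helper2.SUGen Cfsg.Agent.Helper28.SimMax Cfsg.Agent.S5658P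

variable {K : Type*} [Field K] {q n : ℕ}

local notation "h" => Cfsg.hermForm n K q
local notation "T" => Cfsg.unitaryTransvection n q

open Classical in
theorem MUCARD.card [Fintype K] (D : Frob K q) (hK : Fintype.card K = q ^ 2) :
    (Finset.univ.filter (fun l : K => l * D.σ l = 1)).card = q + 1 := by
  have hc : (-1 : K) ^ q = -1 := by
    rw [← D.pow, map_neg, map_one]
  have h1 := Cfsg.Agent.Helper28.HermCount.card_norm_fiber hK (-1 : K) hc
  rw [if_neg (neg_ne_zero.mpr one_ne_zero)] at h1
  rw [← h1]
  congr 1
  ext x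
  simp only [Finset.mem_filter, Finset.mem_univ, true_and]
  rw [D.pow, pow_succ']
  constructor
  · intro hx
    rw [hx]; ring
  · intro hx
    linear_combination hx

end Cfsg.Agent.S5655K1.EV
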