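import Mathlib
import Cfsg.Agent.Helper3.S5655EVDefs
import Cfsg.Agent.Helper14.S5655EVQ2FIELD
import Cfsg.Agent.Helper11.S5655EVQ2WT

set_option autoImplicit false
set_option linter.unusedSectionVars false
set_option linter.unusedVariables false

/-! # S5655 k = 1, chapter "q EVEN": piece Q2FOUR (helper19)

`q = 2`: if all transvections with isotropic centre of weight 6 lie in `M`, so do those of weight 4.
For `z` of weight 4 with support `{a, d} ∪ S'` (`|S'| = 2`) and three more points `R`: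
`u = z_a e_a + ω z|S' + 1_R`, `u' = z_d e_d + (ω + 1) z|S' + 1_R` have weight 6, `u + u' = z`,
`h u' u = 2 ω + 3 = 1`, so `T u 1 u' = z` and `T z 1 = (T u 1) (T u' 1) (T u 1)⁻¹ ∈ M`. -/

namespace Cfsg.Agent.S5655K1.EV

open Matrix
open Cfsg.Agent.S2644 Cfsg.Agent.Helper2.SUGen Cfsg.Agent.Helper28.SimMax Cfsg.Agent.S5658P

variable {K : Type*} [Field K] {q n : ℕ}

local notation "h" => Cfsg.hermForm n K q
local notation "T" => Cfsg.unitaryTransvection n q

namespace Q2FOUR

/-- weight from an explicit support -/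
theorem wt_eq_card {v : Fin n → K} {S : Finset (Fin n)} (hS : ∀ i, v i ≠ 0 ↔ i ∈ S) :
    wt v = S.card := by
  unfold wt
  congr 1
  ext i
  rw [mem_supp, hS]

/-- the decomposition of a weight-4 vector -/
theorem exists_points (hn : 7 ≤ n) {z : Fin n → K} (hwt : wt z = 4) :
    ∃ (a d : Fin n) (S' R : Finset (Fin n)), a ≠ d ∧ a ∉ S' ∧ d ∉ S' ∧ a ∉ R ∧ d ∉ R ∧
      Disjoint S' R ∧ S'.card = 2 ∧ R.card = 3 ∧ z a ≠ 0 ∧ z d ≠ 0 ∧ (∀ i ∈ S', z i ≠ 0) ∧
      (∀ i ∈ R, z i = 0) ∧ (∀ i, i ≠ a → i ≠ d → i ∉ S' → z i = 0) := by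
  classical
  have hS : (supp z).card = 4 := hwt
  obtain ⟨a, ha⟩ : (supp z).Nonempty := by
    rw [← Finset.card_pos, hS]; norm_num
  have h1 : ((supp z).erase a).card = 3 := by
    rw [Finset.card_erase_of_mem ha, hS]
  obtain ⟨d, hd⟩ : ((supp z).erase a).Nonempty := by
    rw [← Finset.card_pos, h1]; norm_num
  have h2 : (((supp z).erase a).erase d).card = 2 := by
    rw [Finset.card_erase_of_mem hd, h1]
  have hc : 3 ≤ ((supp z)ᶜ).card := by
    rw [Finset.card_compl, hS, Fintype.card_fin]; omega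
  obtain ⟨R, hR, hRc⟩ := Finset.exists_subset_card_eq hc
  have hda : d ≠ a := Finset.ne_of_mem_erase hd
  have hdS : d ∈ supp z := Finset.mem_of_mem_erase hd
  refine ⟨a, d, ((supp z).erase a).erase d, R, hda.symm, ?_, ?_, ?_, ?_, ?_, h2, hRc,
    mem_supp.1 ha, mem_supp.1 hdS, ?_, ?_, ?_⟩
  · simp
  · simp
  · intro haR
    have := hR haR
    rw [Finset.mem_compl] at this
    exact this ha
  · intro hdR
    have := hR hdR
    rw [Finset.mem_compl] at this
    exact this hdS
  · rw [Finset.disjoint_left]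
    intro i hi hiR
    have := hR hiR
    rw [Finset.mem_compl] at this
    exact this (Finset.mem_of_mem_erase (Finset.mem_of_mem_erase hi))
  · intro i hi
    exact mem_supp.1 (Finset.mem_of_mem_erase (Finset.mem_of_mem_erase hi))
  · intro i hi
    have := hR hi
    rw [Finset.mem_compl, mem_supp, not_not] at this
    exact this
  · intro i hia hid hiS
    by_contra hzi
    apply hiS
    rw [Finset.mem_erase, Finset.mem_erase]
    exact ⟨hid, hia, mem_supp.2 hzi⟩

end Q2FOUR

theorem Q2FOUR.main [Fintype K] (D : Frob K 2) (hK : Fintype.card K = 2 ^ 2) (hn : 7 ≤ n)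
    {M : Subgroup (Matrix.GeneralLinearGroup (Fin n) K)} (hM : Over 2 M) (h6 : Good 2 M 6) :
    Good 2 M 4 := by
  classical
  intro z hzz hwt
  obtain ⟨ω, hω2, hσω, hω0, hω1, -⟩ := Q2FIELD.exists_omega D hK
  have h2 : (2 : K) = 0 := Q2FIELD.two_eq_zero hK
  have hnorm : ∀ x : K, x ≠ 0 → x * x ^ 2 = 1 := by
    intro x hx
    have := Q2FIELD.norm_one D hK hx
    rwa [D.pow] at this
  obtain ⟨a, d, S', R, had, haS, hdS, haR, hdR, hSR, hS2, hR3, hza, hzd, hzS, hzR, hz0⟩ :=
    Q2FOUR.exists_points hn hwt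
  -- the two centres of weight 6
  set u : Fin n → K := fun i =>
    if i = a then z a else if i ∈ S' then ω * z i else if i ∈ R then 1 else 0 with hu
  set u' : Fin n → K := fun i =>
    if i = d then z d else if i ∈ S' then (ω + 1) * z i else if i ∈ R then 1 else 0 with hu'
  have hsum : u' + u = z := by
    funext i
    simp only [Pi.add_apply, hu, hu']
    by_cases hia : i = a
    · subst hia
      simp [had, haS, haR]
    by_cases hid : i = d
    · subst hid
      simp [hia, hdS, hdR]
    by_cases hiS : i ∈ S'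
    · simp only [hia, hid, hiS, if_false, if_true]
      linear_combination (ω * z i) * h2
    have hzi := hz0 i hia hid hiS
    by_cases hiR : i ∈ R
    · simp only [hia, hid, hiS, hiR, if_false, if_true, hzi]
      linear_combination h2
    · simp [hia, hid, hiS, hiR, hzi]
  have hsu : ∀ i, u i ≠ 0 ↔ i ∈ insert a (S' ∪ R) := by
    intro i
    simp only [hu, Finset.mem_insert, Finset.mem_union]
    by_cases hia : i = a
    · subst hia; simp [hza]
    by_cases hiS : i ∈ S'
    · simp [hia, hiS, hω0, hzS i hiS]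
    by_cases hiR : i ∈ R
    · simp [hia, hiS, hiR]
    · simp [hia, hiS, hiR]
  have hsu' : ∀ i, u' i ≠ 0 ↔ i ∈ insert d (S' ∪ R) := by
    intro i
    simp only [hu', Finset.mem_insert, Finset.mem_union]
    by_cases hid : i = d
    · subst hid; simp [hzd]
    by_cases hiS : i ∈ S'
    · simp [hid, hiS, hω1, hzS i hiS]
    by_cases hiR : i ∈ R
    · simp [hid, hiS, hiR]
    · simp [hid, hiS, hiR]
  have hcard : ∀ b : Fin n, b ∉ S' → b ∉ R → (insert b (S' ∪ R)).card = 6 := by
    intro b hbS hbR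
    rw [Finset.card_insert_of_notMem (by simp [hbS, hbR]), Finset.card_union_of_disjoint hSR, hS2, hR3]
  have hwu : wt u = 6 := by rw [Q2FOUR.wt_eq_card hsu, hcard a haS haR]
  have hwu' : wt u' = 6 := by rw [Q2FOUR.wt_eq_card hsu', hcard d hdS hdR]
  have huu : Cfsg.hermForm n K 2 u u = 0 := by
    rw [Q2WT.iso_iff_even D hK, hwu]; decide
  have hu'u' : Cfsg.hermForm n K 2 u' u' = 0 := by
    rw [Q2WT.iso_iff_even D hK, hwu']; decide
  have hTu : Cfsg.unitaryTransvection n 2 u (1 : K) ∈ MS M := h6 u huu hwu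
  have hTu' : Cfsg.unitaryTransvection n 2 u' (1 : K) ∈ MS M := h6 u' hu'u' hwu'
  -- `h u' u = 1`
  have hpt : ∀ i, u' i * (u i) ^ 2 = (if i ∈ S' then ω else 0) + (if i ∈ R then 1 else 0) := by
    intro i
    simp only [hu, hu']
    by_cases hia : i = a
    · subst hia; simp [had, haS, haR]
    by_cases hid : i = d
    · subst hid; simp [hia, hdS, hdR]
    by_cases hiS : i ∈ S'
    · have hiR : i ∉ R := Finset.disjoint_left.1 hSR hiS
      simp only [hia, hid, hiS, hiR, if_false, if_true, add_zero]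
      have h3 := hnorm (z i) (hzS i hiS)
      linear_combination (ω + 1) * ω ^ 2 * h3 + (ω + 2) * hω2 + (ω + 1) * h2
    by_cases hiR : i ∈ R
    · simp [hia, hid, hiS, hiR]
    · simp [hia, hid, hiS, hiR]
  have hh : Cfsg.hermForm n K 2 u' u = 1 := by
    unfold Cfsg.hermForm
    rw [Finset.sum_congr rfl (fun i _ => hpt i), Finset.sum_add_distrib,
      Finset.sum_ite_mem, Finset.sum_ite_mem, Finset.univ_inter, Finset.univ_inter,
      Finset.sum_const, Finset.sum_const, hS2, hR3]
    simp only [nsmul_eq_mul, Nat.cast_ofNat, mul_one]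
    linear_combination (ω + 1) * h2
  have hmv : Cfsg.unitaryTransvection n 2 u (1 : K) *ᵥ u' = z := by
    rw [T_mulVec, hh, mul_one, one_smul, hsum]
  have := MS_conj_T D hM.le hTu hTu'
  rwa [hmv] at this

end Cfsg.Agent.S5655K1.EV
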