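import Mathlib
import Cfsg.Prelude.Def_BaumannBlocks

/-! Board `blkpieces`, piece IRRSL: `F²` has no proper nonzero additive subgroup invariant under the
derived group of `SL₂(F)`. -/

set_option autoImplicit false

namespace Cfsg.Agent.BLK

open Cfsg Matrix
open scoped commutatorElement

/-- an element of `SL₂(F)` with prescribed nonzero first column -/
theorem IRRSL_aux_col (F : Type) [Field F] (u : Fin 2 → F) (hu : u ≠ 0) :
    ∃ g : Matrix.SpecialLinearGroup (Fin 2) F,
      (g : Matrix (Fin 2) (Fin 2) F).mulVec ![1, 0] = u := by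
  by_cases ha : u 0 = 0
  · have hb : u 1 ≠ 0 := by
      intro hb
      apply hu
      ext i
      fin_cases i
      · exact ha
      · exact hb
    refine ⟨⟨!![0, -(u 1)⁻¹; u 1, 0], ?_⟩, ?_⟩
    · rw [Matrix.det_fin_two_of]
      field_simp
      ring
    · ext i
      fin_cases i
      · simp [Matrix.mulVec, dotProduct, Fin.sum_univ_two, ha]
      · simp [Matrix.mulVec, dotProduct, Fin.sum_univ_two]
  · refine ⟨⟨!![u 0, 0; u 1, (u 0)⁻¹], ?_⟩, ?_⟩
    · rw [Matrix.det_fin_two_of]
      field_simp
      ring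
    · ext i
      fin_cases i
      · simp [Matrix.mulVec, dotProduct, Fin.sum_univ_two]
      · simp [Matrix.mulVec, dotProduct, Fin.sum_univ_two]

/-- the commutator `c = ⁅!![1,1;0,1], !![1,0;1,1]⁆ = !![3,-1;1,0]` -/
theorem IRRSL_aux_c (F : Type) [Field F] :
    ∃ g ∈ commutator (Matrix.SpecialLinearGroup (Fin 2) F),
      ((g : Matrix.SpecialLinearGroup (Fin 2) F) : Matrix (Fin 2) (Fin 2) F) = !![3, -1; 1, 0] := by
  let A : Matrix.SpecialLinearGroup (Fin 2) F := ⟨!![1, 1; 0, 1], by simp [Matrix.det_fin_two_of]⟩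
  let B : Matrix.SpecialLinearGroup (Fin 2) F := ⟨!![1, 0; 1, 1], by simp [Matrix.det_fin_two_of]⟩
  refine ⟨⁅A, B⁆, ?_, ?_⟩
  · rw [commutator_def]
    exact Subgroup.commutator_mem_commutator (Subgroup.mem_top A) (Subgroup.mem_top B)
  · rw [commutatorElement_def]
    simp only [Matrix.SpecialLinearGroup.coe_mul, Matrix.SpecialLinearGroup.coe_inv]
    show (!![1, 1; 0, 1] : Matrix (Fin 2) (Fin 2) F) * !![1, 0; 1, 1]
        * (!![1, 1; 0, 1] : Matrix (Fin 2) (Fin 2) F).adjugate
        * (!![1, 0; 1, 1] : Matrix (Fin 2) (Fin 2) F).adjugate = !![3, -1; 1, 0]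
    rw [Matrix.adjugate_fin_two_of, Matrix.adjugate_fin_two_of]
    ext i j
    fin_cases i <;> fin_cases j <;> (simp [Matrix.mul_apply, Fin.sum_univ_two]; try ring)

/-- IRRSL -/
theorem IRRSL (F : Type) [Field F] [Fintype F] (N : AddSubgroup (Fin 2 → F))
    (hN : ∀ g ∈ commutator (Matrix.SpecialLinearGroup (Fin 2) F), ∀ v ∈ N,
      ((g : Matrix.SpecialLinearGroup (Fin 2) F) : Matrix (Fin 2) (Fin 2) F).mulVec v ∈ N) :
    N = ⊥ ∨ N = ⊤ := by
  classical
  by_cases hbot : N = ⊥
  · exact Or.inl hbot
  right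
  obtain ⟨v, hvN, hv0⟩ : ∃ v ∈ N, v ≠ 0 := by
    by_contra hcon
    apply hbot
    rw [AddSubgroup.eq_bot_iff_forall]
    intro x hx
    by_contra hx0
    exact hcon ⟨x, hx, hx0⟩
  rw [AddSubgroup.eq_top_iff']
  by_cases hbig : ∃ a : F, a ≠ 0 ∧ a ^ 2 ≠ 1
  · -- the derived group is everything and is transitive on nonzero vectors
    obtain ⟨a, ha, hasq⟩ := hbig
    have htop : commutator (Matrix.SpecialLinearGroup (Fin 2) F) = ⊤ :=
      Matrix.SL2.commutator_eq_top ha hasq
    have hN' : ∀ g : Matrix.SpecialLinearGroup (Fin 2) F, ∀ v ∈ N,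
        (g : Matrix (Fin 2) (Fin 2) F).mulVec v ∈ N := by
      intro g v hv
      exact hN g (by rw [htop]; exact Subgroup.mem_top g) v hv
    obtain ⟨gv, hgv⟩ := IRRSL_aux_col F v hv0
    have he1 : (![1, 0] : Fin 2 → F) ∈ N := by
      have h1 := hN' gv⁻¹ v hvN
      rw [← hgv, Matrix.mulVec_mulVec, ← Matrix.SpecialLinearGroup.coe_mul, inv_mul_cancel,
        Matrix.SpecialLinearGroup.coe_one, Matrix.one_mulVec] at h1
      exact h1
    intro w
    by_cases hw : w = 0
    · rw [hw]; exact N.zero_mem
    · obtain ⟨gw, hgw⟩ := IRRSL_aux_col F w hw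
      rw [← hgw]
      exact hN' gw _ he1
  · -- every element of `F` is `0`, `1` or `-1`
    have hsmall : ∀ x : F, x = 0 ∨ x = 1 ∨ x = -1 := by
      intro x
      by_cases hx : x = 0
      · exact Or.inl hx
      · right
        by_contra hcon
        apply hbig
        refine ⟨x, hx, ?_⟩
        intro hsq
        have hxx : x * x = 1 := by rw [← pow_two]; exact hsq
        exact hcon (mul_self_eq_one_iff.1 hxx)
    have hsm : ∀ x : F, ∀ u ∈ N, x • u ∈ N := by
      intro x u hu
      rcases hsmall x with h | h | h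
      · rw [h, zero_smul]; exact N.zero_mem
      · rw [h, one_smul]; exact hu
      · rw [h, neg_smul, one_smul]; exact N.neg_mem hu
    have h5 : (5 : F) ≠ 0 := by
      intro h
      rcases hsmall (2 : F) with h2 | h2 | h2
      · apply one_ne_zero (α := F)
        linear_combination h - 2 * h2
      · apply one_ne_zero (α := F)
        linear_combination h2
      · apply one_ne_zero (α := F)
        linear_combination (-1 : F) * h + 2 * h2
    obtain ⟨c, hc, hcm⟩ := IRRSL_aux_c F
    have hcv : (c : Matrix (Fin 2) (Fin 2) F).mulVec v = ![3 * v 0 - v 1, v 0] := by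
      rw [hcm]
      ext i
      fin_cases i
      · simp [Matrix.mulVec, dotProduct, Fin.sum_univ_two]
        ring
      · simp [Matrix.mulVec, dotProduct, Fin.sum_univ_two]
    have hcvN : (![3 * v 0 - v 1, v 0] : Fin 2 → F) ∈ N := by
      rw [← hcv]
      exact hN c hc v hvN
    have hD : (v 0) ^ 2 - 3 * v 0 * v 1 + (v 1) ^ 2 ≠ 0 := by
      intro h
      rcases hsmall (v 0) with ha | ha | ha <;> rcases hsmall (v 1) with hb | hb | hb <;>
        rw [ha, hb] at h
      · apply hv0
        ext i
        fin_cases i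
        · exact ha
        · exact hb
      · apply one_ne_zero (α := F)
        linear_combination h
      · apply one_ne_zero (α := F)
        linear_combination h
      · apply one_ne_zero (α := F)
        linear_combination h
      · apply one_ne_zero (α := F)
        linear_combination (-1 : F) * h
      · apply h5
        linear_combination h
      · apply one_ne_zero (α := F)
        linear_combination h
      · apply h5
        linear_combination h
      · apply one_ne_zero (α := F)
        linear_combination (-1 : F) * h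
    intro w
    set D := (v 0) ^ 2 - 3 * v 0 * v 1 + (v 1) ^ 2 with hDdef
    have hw : w = ((v 0 * w 0 - (3 * v 0 - v 1) * w 1) / D) • v
        + ((-(v 1) * w 0 + v 0 * w 1) / D) • (![3 * v 0 - v 1, v 0] : Fin 2 → F) := by
      ext i
      fin_cases i
      · simp only [Fin.zero_eta, Fin.isValue, Pi.add_apply, Pi.smul_apply, smul_eq_mul,
          Matrix.cons_val_zero]
        field_simp
        rw [hDdef]
        ring
      · simp only [Fin.mk_one, Fin.isValue, Pi.add_apply, Pi.smul_apply, smul_eq_mul,
          Matrix.cons_val_one, Matrix.cons_val_zero]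
        field_simp
        rw [hDdef]
        ring
    rw [hw]
    exact N.add_mem (hsm _ _ hvN) (hsm _ _ hcvN)

end Cfsg.Agent.BLK
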