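import Mathlib
import Cfsg.Prelude.Def_Characters
import Cfsg.Agent.Helper12.LOPDefs
import Cfsg.Agent.Helper12.LSLDefs

/-!
Piece PLANE of the S2345 project: every isometry of the hyperbolic form `Σ x_i y_i` (`m ≥ 3`) is
the product of an element of `Ω` and an isometry supported on the third coordinate hyperbolic
plane.
-/

set_option autoImplicit false

namespace Cfsg.Agent.Helper12.LOP

open Matrix Cfsg Cfsg.Agent.Helper28.Sg Cfsg.Agent.Helper28.Spin Cfsg.Agent.Helper12.LSL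

variable {F : Type*} [Field F] {n : ℕ}

namespace PLANE

/-- isometries fixing the orthogonal complement of the third coordinate hyperbolic plane -/
def K {m : ℕ} (hm : 3 ≤ m) : Subgroup (OO m F) where
  carrier := {h | ∀ x : VV m F, x (Sum.inl (Fin.castLE hm 2)) = 0 →
    x (Sum.inr (Fin.castLE hm 2)) = 0 → mt (QfPlus m F) h *ᵥ x = x}
  one_mem' := by
    intro x _ _
    rw [mt_one_mulVec]
  mul_mem' := by
    intro g h hg hh x h1 h2
    rw [mt_mul_mulVec, hh x h1 h2, hg x h1 h2]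
  inv_mem' := by
    intro g hg x h1 h2
    have := hg x h1 h2
    conv_lhs => rw [← this]
    rw [mt_inv_mulVec]

theorem mem_K {m : ℕ} (hm : 3 ≤ m) (h : OO m F) :
    h ∈ K hm ↔ ∀ x : VV m F, x (Sum.inl (Fin.castLE hm 2)) = 0 →
      x (Sum.inr (Fin.castLE hm 2)) = 0 → mt (QfPlus m F) h *ᵥ x = x := Iff.rfl

/-- the norm of `e_i + t f_i` -/
theorem Q_eb_add_smul_fb {m : ℕ} (i : Fin m) (t : F) :
    QfPlus m F (eb i + t • fb i : VV m F) = t := by
  rw [Q_add, Q_smul, Q_eb, Q_fb]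
  simp only [B, QuadraticMap.polar_smul_right, smul_eq_mul]
  have := B_eb_fb (F := F) i i
  simp only [B, if_true] at this
  rw [this]
  ring

theorem B_eb_add_smul_fb {m : ℕ} (i : Fin m) (t : F) (x : VV m F) :
    B (QfPlus m F) (eb i + t • fb i : VV m F) x = x (Sum.inr i) + t * x (Sum.inl i) := by
  have h1 := B_eb (F := F) i x
  have h2 := B_fb (F := F) i x
  simp only [B] at h1 h2 ⊢
  rw [QuadraticMap.polar_add_left, QuadraticMap.polar_smul_left, h1, h2, smul_eq_mul]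

theorem refl_mem_K {m : ℕ} (hm : 3 ≤ m) (t : F)
    (ht : QfPlus m F (eb (Fin.castLE hm 2) + t • fb (Fin.castLE hm 2) : VV m F) ≠ 0) :
    reflO (QfPlus m F) (eb (Fin.castLE hm 2) + t • fb (Fin.castLE hm 2) : VV m F) ht ∈ K hm := by
  intro x h1 h2
  show Cfsg.reflectionMatrix ⇑(QfPlus m F) _ *ᵥ x = x
  apply refl_fix
  have := B_eb_add_smul_fb (F := F) (Fin.castLE hm 2) t x
  simp only [B] at this
  rw [this, h1, h2, mul_zero, add_zero]

/-- reflections in proportional anisotropic vectors coincide -/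
theorem reflO_eq_of_not_indep {m : ℕ} (a c : VV m F) (ha : QfPlus m F a ≠ 0)
    (hc : QfPlus m F c ≠ 0) (h : ¬ Indep a c) :
    reflO (QfPlus m F) a ha = reflO (QfPlus m F) c hc := by
  unfold Indep at h
  push_neg at h
  obtain ⟨x, y, hxy, hne⟩ := h
  have ha0 : a ≠ 0 := by
    rintro rfl
    exact ha (map_zero _)
  have hc0 : c ≠ 0 := by
    rintro rfl
    exact hc (map_zero _)
  have hx : x ≠ 0 := by
    intro hx
    rw [hx, zero_smul, zero_add] at hxy
    have hy : y ≠ 0 := hne hx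
    exact hc0 ((smul_eq_zero.mp hxy).resolve_left hy)
  have hy : y ≠ 0 := by
    intro hy
    rw [hy, zero_smul, add_zero] at hxy
    exact ha0 ((smul_eq_zero.mp hxy).resolve_left hx)
  have hac : a = (-(x⁻¹ * y)) • c := by
    have h1 : x • a = -(y • c) := eq_neg_of_add_eq_zero_left hxy
    calc a = x⁻¹ • (x • a) := by rw [smul_smul, inv_mul_cancel₀ hx, one_smul]
      _ = (-(x⁻¹ * y)) • c := by rw [h1, smul_neg, smul_smul, neg_smul]
  apply Subtype.ext
  apply Units.ext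
  show Cfsg.reflectionMatrix ⇑(QfPlus m F) a = Cfsg.reflectionMatrix ⇑(QfPlus m F) c
  rw [hac]
  exact refl_smul _ c (neg_ne_zero.mpr (mul_ne_zero (inv_ne_zero hx) hy))

/-- the product of two reflections in vectors of the same norm lies in `Ω` -/
theorem refl_mul_refl_mem_Omega [Fintype F] {m : ℕ} (hm : 3 ≤ m) (a c : VV m F)
    (ha : QfPlus m F a ≠ 0) (hc : QfPlus m F c ≠ 0) (hac : QfPlus m F a = QfPlus m F c) :
    reflO (QfPlus m F) a ha * reflO (QfPlus m F) c hc ∈ Cfsg.Omega F ⇑(QfPlus m F) := by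
  by_cases hab : Indep a c
  · obtain ⟨e', f', he', hf', hef, hea, hec, hfa, hfc⟩ :=
      exists_hyp_orth (Q_nondeg m) (stdFrame3 hm) hab
    exact S_le_Omega (Q_nondeg m) (stdFrame3 hm)
      (refl_mul_mem_S ha hc hac he' hf' hef hea hec hfa hfc)
  · rw [reflO_eq_of_not_indep a c ha hc hab, reflO_mul_self]
    exact Subgroup.one_mem _

end PLANE

theorem exists_plane_correction [Fintype F] {m : ℕ} (hm : 3 ≤ m) (g : OO m F) :
    ∃ h : OO m F, (∀ x : VV m F, x (Sum.inl (Fin.castLE hm 2)) = 0 →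
      x (Sum.inr (Fin.castLE hm 2)) = 0 → mt (QfPlus m F) h *ᵥ x = x) ∧
      g * h ∈ Cfsg.Omega F ⇑(QfPlus m F) := by
  let π : OO m F →* OO m F ⧸ Cfsg.Omega F ⇑(QfPlus m F) :=
    QuotientGroup.mk' (Cfsg.Omega F ⇑(QfPlus m F))
  let H : Subgroup (OO m F) := ((PLANE.K (F := F) hm).map π).comap π
  have hH : ∀ g, g ∈ H := by
    apply hgen_plus hm H
    intro v hv
    have hQc : QfPlus m F (eb (Fin.castLE hm 2) + QfPlus m F v • fb (Fin.castLE hm 2) : VV m F)
        = QfPlus m F v := PLANE.Q_eb_add_smul_fb _ _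
    have hc : QfPlus m F (eb (Fin.castLE hm 2) + QfPlus m F v • fb (Fin.castLE hm 2) : VV m F)
        ≠ 0 := by rw [hQc]; exact hv
    refine ⟨reflO (QfPlus m F) _ hc, PLANE.refl_mem_K hm _ hc, ?_⟩
    symm
    show (QuotientGroup.mk (reflO (QfPlus m F) v hv) : OO m F ⧸ Cfsg.Omega F ⇑(QfPlus m F)) =
      QuotientGroup.mk (reflO (QfPlus m F) _ hc)
    rw [QuotientGroup.eq, reflO_inv]
    exact PLANE.refl_mul_refl_mem_Omega hm v _ hv hc hQc.symm
  obtain ⟨k, hk, hkg⟩ := hH g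
  refine ⟨k⁻¹, (PLANE.K hm).inv_mem hk, ?_⟩
  have h1 : (QuotientGroup.mk k : OO m F ⧸ Cfsg.Omega F ⇑(QfPlus m F)) = QuotientGroup.mk g := hkg
  rw [QuotientGroup.eq] at h1
  exact (inferInstance : (Cfsg.Omega F ⇑(QfPlus m F)).Normal).mem_comm h1

end Cfsg.Agent.Helper12.LOP
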