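import Mathlib
import Cfsg.Prelude.Def_Characters
import Cfsg.Agent.Helper12.LSLDefs
import Cfsg.Agent.Helper24.CharBasic
import Cfsg.Agent.Helper28.LSLGEN
import Cfsg.Agent.Helper28.LSLTVSET

set_option autoImplicit false

/-! S2332, piece KER: an irreducible representation of degree at least two of `SL_{m+1}(q)` is not
trivial on the row group. -/

namespace Cfsg.Agent.Helper12.LSL

open Matrix Cfsg

variable {F : Type*} [Field F] {m : ℕ}

theorem exists_uQ_ne [Fintype F] (hm : 2 ≤ m) (k : ℕ) (ρ : Representation ℂ (GG m F) (Fin k → ℂ))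
    (hρ : ρ.IsIrreducible) (hk : 2 ≤ k) : ∃ b : Fin m → F, ρ.character (uQ b) ≠ k := by
  classical
  by_contra hcon
  push Not at hcon
  have hid : ∀ b : Fin m → F, ρ (uQ b) = LinearMap.id := by
    intro b
    rw [← Cfsg.Agent.Helper24.char_eq_finrank_iff, Module.finrank_fin_fun]
    exact hcon b
  -- the kernel
  have hNn : (MonoidHom.ker ρ).Normal := MonoidHom.normal_ker ρ
  have hN : ∀ b : Fin m → F, uQ b ∈ MonoidHom.ker ρ := fun b => (MonoidHom.mem_ker).mpr (hid b)
  have htv : ∀ g ∈ tvSet (Unit ⊕ Fin m) F, g ∈ MonoidHom.ker ρ := by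
    intro g hg
    obtain ⟨b, -, hconj⟩ := exists_conj_of_mem_tvSet (by omega) g hg
    obtain ⟨c, hc⟩ := isConj_iff.mp hconj
    have e : g = c⁻¹ * uQ b * (c⁻¹)⁻¹ := by rw [← hc]; group
    rw [e]
    exact hNn.conj_mem _ (hN b) _
  have hNm : ∀ b : Fin m → F, uQm b ∈ MonoidHom.ker ρ := by
    intro b
    by_cases hb : b = 0
    · rw [hb, uQm_zero]
      exact one_mem _
    · exact htv _ (uQm_mem_tvSet b hb)
  have htop : MonoidHom.ker ρ = ⊤ := by
    rw [← top_le_iff, ← closure_uQ_uQm (F := F) (m := m) (by omega), Subgroup.closure_le]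
    rintro g (⟨b, rfl⟩ | ⟨b, rfl⟩)
    · exact hN b
    · exact hNm b
  have hall : ∀ g : GG m F, ρ g = 1 := by
    intro g
    have : g ∈ MonoidHom.ker ρ := by rw [htop]; exact Subgroup.mem_top g
    exact MonoidHom.mem_ker.mp this
  -- a line is a subrepresentation
  let e : Fin k → ℂ := Pi.single ⟨0, by omega⟩ 1
  have he : e ≠ 0 := by
    intro h
    have := congrFun h ⟨0, by omega⟩
    simp [e] at this
  let W : Subrepresentation ρ :=
    { toSubmodule := Submodule.span ℂ {e}
      apply_mem_toSubmodule := by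
        intro g v hv
        rw [hall g]
        exact hv }
  rcases hρ.eq_bot_or_eq_top W with h | h
  · have h1 : W.toSubmodule = ⊥ := by rw [h]; rfl
    have : e ∈ (⊥ : Submodule ℂ (Fin k → ℂ)) := by
      rw [← h1]
      exact Submodule.mem_span_singleton_self e
    exact he ((Submodule.mem_bot ℂ).mp this)
  · have h1 : W.toSubmodule = ⊤ := by rw [h]; rfl
    have h2 : Module.finrank ℂ (Submodule.span ℂ {e}) = 1 := finrank_span_singleton he
    have h3 : Module.finrank ℂ (Submodule.span ℂ {e}) = k := by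
      show Module.finrank ℂ W.toSubmodule = k
      rw [h1, finrank_top, Module.finrank_fin_fun]
    omega

end Cfsg.Agent.Helper12.LSL
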