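import Mathlib
import Cfsg.Prelude.Def_Characters
import Cfsg.Agent.Helper12.LSLDefs

set_option autoImplicit false

/-! S2332, piece SUMDOT: the sum of a nontrivial additive character over a nonzero linear form
vanishes. -/

namespace Cfsg.Agent.Helper12.LSL

open Matrix Cfsg

variable {F : Type*} [Field F] {m : ℕ}

theorem sum_addChar_dot [Fintype F] (ψ : AddChar F ℂ) (hψ : ψ 1 ≠ 1) (w : Fin m → F) (hw : w ≠ 0) :
    ∑ x : Fin m → F, ψ (x ⬝ᵥ w) = 0 := by
  classical
  let f : (Fin m → F) →+ F :=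
    { toFun := fun x => x ⬝ᵥ w
      map_zero' := zero_dotProduct w
      map_add' := fun x y => add_dotProduct x y w }
  let χ : AddChar (Fin m → F) ℂ := ψ.compAddMonoidHom f
  have hχ : χ ≠ 1 := by
    intro h
    obtain ⟨i, hi⟩ : ∃ i, w i ≠ 0 := by
      by_contra hcon
      exact hw (funext fun i => by_contra fun hi => hcon ⟨i, hi⟩)
    have h1 : χ (Pi.single i (w i)⁻¹) = 1 := by rw [h]; rfl
    have h2 : χ (Pi.single i (w i)⁻¹) = ψ 1 := by
      show ψ ((Pi.single i (w i)⁻¹ : Fin m → F) ⬝ᵥ w) = ψ 1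
      rw [single_dotProduct, inv_mul_cancel₀ hi]
    exact hψ (h2 ▸ h1)
  exact AddChar.sum_eq_zero_of_ne_one hχ

end Cfsg.Agent.Helper12.LSL
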