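import Mathlib
import Cfsg.Prelude.Def_Characters
import Cfsg.Agent.Helper12.LSLDefs

set_option autoImplicit false

/-! S2332, piece ARITHB: the divisibility contradictions. -/

namespace Cfsg.Agent.Helper12.LSL

open Matrix Cfsg

variable {F : Type*} [Field F] {m : ℕ}

theorem arithb_aux (q : ℤ) (n : ℕ) (hq : 2 ≤ q) (k T d : ℤ)
    (hd : d * (q - 1) = q ^ (n + 2) - q)
    (hk : k = q ^ (n + 2) - 1 + d)
    (hT : T * (q - 1) = (q ^ (n + 2 + 1) - 1) * (q ^ (n + 2) - 1)) :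
    ¬ (k ∣ T * (k - q ^ (n + 2))) := by
  set Q : ℤ := q ^ (n + 2) with hQ
  set S : ℤ := ∑ i ∈ Finset.range (n + 2), q ^ i with hS
  set S' : ℤ := ∑ i ∈ Finset.range (n + 1), q ^ i with hS'
  set S'' : ℤ := ∑ i ∈ Finset.range n, q ^ i with hS''
  have hq1 : q - 1 ≠ 0 := by omega
  have ha : (q - 1) * S = Q - 1 := mul_geom_sum q (n + 2)
  have hb : S = q * S' + 1 := geom_sum_succ
  have hb' : S' = q * S'' + 1 := geom_sum_succ
  have hS''0 : 0 ≤ S'' := Finset.sum_nonneg fun i _ => pow_nonneg (by omega) i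
  have hS'1 : 1 ≤ S' := by nlinarith
  have hS3 : 3 ≤ S := by nlinarith
  have hQq : Q = q * q ^ (n + 1) := by rw [hQ]; ring
  have hqn : 1 ≤ q ^ (n + 1) := one_le_pow₀ (by omega)
  -- `d = S - 1`
  have hd' : d = S - 1 := by
    apply mul_right_cancel₀ hq1
    rw [hd]
    linear_combination (-1 : ℤ) * ha
  have hk' : k = Q + S - 2 := by rw [hk, hd']; ring
  -- `T = (Q + S) (Q - 1)`
  have hT' : T = (Q + S) * (Q - 1) := by
    apply mul_right_cancel₀ hq1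
    rw [hT]
    have : q ^ (n + 2 + 1) = q * Q := by rw [hQ]; ring
    rw [this]
    linear_combination (-(Q - 1)) * ha
  intro hdvd
  -- `k ∣ 2 (Q - 1) Q`
  have h1 : k ∣ 2 * (Q - 1) * Q := by
    have e : 2 * (Q - 1) * Q = k * ((Q - 1) * (k - Q + 2)) - T * (k - Q) := by
      rw [hT', hk']
      ring
    rw [e]
    exact dvd_sub (dvd_mul_right _ _) hdvd
  -- `k` is prime to `q`
  have hcop : IsCoprime k q := by
    refine ⟨-1, q ^ (n + 1) + S', ?_⟩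
    rw [hk', hb, hQq]
    ring
  have hcopQ : IsCoprime k Q := by
    rw [hQ]
    exact hcop.pow_right
  have h2 : k ∣ 2 * (Q - 1) := hcopQ.dvd_of_dvd_mul_right h1
  obtain ⟨j, hj⟩ := h2
  have hQ1 : 2 ≤ Q := by rw [hQq]; nlinarith
  have hkpos : 0 < k := by rw [hk']; linarith
  have hSQ : S ≤ Q - 1 := by
    rw [← ha]
    nlinarith
  have hj0 : 0 < j := by
    by_contra hneg
    push Not at hneg
    have : k * j ≤ 0 := mul_nonpos_of_nonneg_of_nonpos hkpos.le hneg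
    linarith
  have hj2 : j < 2 := by
    by_contra hneg
    push Not at hneg
    have : k * 2 ≤ k * j := mul_le_mul_of_nonneg_left hneg hkpos.le
    rw [hk'] at this hj
    linarith
  have hj1 : j = 1 := by omega
  rw [hj1, mul_one, hk'] at hj
  linarith

theorem arith_div (q m : ℕ) (hq : 2 ≤ q) (hm : 2 ≤ m) (k T : ℕ)
    (hk : k = q ^ m - 1 + (q ^ m - q) / (q - 1))
    (hT : T * (q - 1) = (q ^ (m + 1) - 1) * (q ^ m - 1)) :
    ¬ ((k : ℤ) ∣ (T : ℤ) * ((k : ℤ) - (q : ℤ) ^ m)) := by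
  obtain ⟨n, rfl⟩ : ∃ n, m = n + 2 := ⟨m - 2, by omega⟩
  have hqm : q ≤ q ^ (n + 2) := by
    calc q = q ^ 1 := (pow_one q).symm
      _ ≤ q ^ (n + 2) := Nat.pow_le_pow_right (by omega) (by omega)
  have h1m : 1 ≤ q ^ (n + 2) := Nat.one_le_pow _ _ (by omega)
  have h1m' : 1 ≤ q ^ (n + 2 + 1) := Nat.one_le_pow _ _ (by omega)
  have hdvd : q - 1 ∣ q ^ (n + 2) - q := by
    have h := Nat.sub_dvd_pow_sub_pow q 1 (n + 1)
    rw [one_pow] at h
    have e : q ^ (n + 2) - q = q * (q ^ (n + 1) - 1) := by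
      rw [Nat.mul_sub, mul_one, ← pow_succ']
    rw [e]
    exact Dvd.dvd.mul_left h q
  have hd := Nat.div_mul_cancel hdvd
  apply arithb_aux (q : ℤ) n (by exact_mod_cast hq) (k : ℤ) (T : ℤ)
    (((q ^ (n + 2) - q) / (q - 1) : ℕ) : ℤ)
  · have := congrArg (Nat.cast : ℕ → ℤ) hd
    rw [Nat.cast_mul, Nat.cast_sub (by omega), Nat.cast_sub hqm, Nat.cast_pow, Nat.cast_one] at this
    exact this
  · rw [hk, Nat.cast_add, Nat.cast_sub h1m, Nat.cast_pow]
    norm_num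
  · have := congrArg (Nat.cast : ℕ → ℤ) hT
    rw [Nat.cast_mul, Nat.cast_mul, Nat.cast_sub (by omega), Nat.cast_sub h1m',
      Nat.cast_sub h1m, Nat.cast_pow, Nat.cast_pow, Nat.cast_one] at this
    exact this

theorem arith_three (q : ℕ) (hq : IsPrimePow q) (h2 : q ≠ 2) (h4 : q ≠ 4) (T : ℕ)
    (hT : T * (q - 1) = (q ^ 3 - 1) * (q ^ 2 - 1)) :
    ¬ (((q : ℤ) ^ 2 + q - 2) ∣ (T : ℤ) * ((q : ℤ) - 2)) := by
  have hq2 : 2 ≤ q := hq.two_le
  have h13 : 1 ≤ q ^ 3 := Nat.one_le_pow _ _ (by omega)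
  have h12 : 1 ≤ q ^ 2 := Nat.one_le_pow _ _ (by omega)
  have hT' : (T : ℤ) * ((q : ℤ) - 1) = ((q : ℤ) ^ 3 - 1) * ((q : ℤ) ^ 2 - 1) := by
    have := congrArg (Nat.cast : ℕ → ℤ) hT
    rw [Nat.cast_mul, Nat.cast_mul, Nat.cast_sub (by omega), Nat.cast_sub h13,
      Nat.cast_sub h12, Nat.cast_pow, Nat.cast_pow, Nat.cast_one] at this
    exact this
  have hq1 : (q : ℤ) - 1 ≠ 0 := by
    have : (2 : ℤ) ≤ q := by exact_mod_cast hq2
    omega
  have hTe : (T : ℤ) = ((q : ℤ) ^ 2 + q + 1) * ((q : ℤ) ^ 2 - 1) := by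
    apply mul_right_cancel₀ hq1
    rw [hT']
    ring
  intro hdvd
  -- cancel `q - 1`
  have h1 : ((q : ℤ) - 1) * ((q : ℤ) + 2) ∣
      ((q : ℤ) - 1) * (((q : ℤ) ^ 2 + q + 1) * ((q : ℤ) + 1) * ((q : ℤ) - 2)) := by
    have e1 : ((q : ℤ) - 1) * ((q : ℤ) + 2) = (q : ℤ) ^ 2 + q - 2 := by ring
    have e2 : ((q : ℤ) - 1) * (((q : ℤ) ^ 2 + q + 1) * ((q : ℤ) + 1) * ((q : ℤ) - 2)) =
        (T : ℤ) * ((q : ℤ) - 2) := by rw [hTe]; ring
    rw [e1, e2]
    exact hdvd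
  have h2' : ((q : ℤ) + 2) ∣ ((q : ℤ) ^ 2 + q + 1) * ((q : ℤ) + 1) * ((q : ℤ) - 2) :=
    (mul_dvd_mul_iff_left hq1).mp h1
  have h3 : ((q : ℤ) + 2) ∣ 12 := by
    have e : (12 : ℤ) = ((q : ℤ) ^ 2 + q + 1) * ((q : ℤ) + 1) * ((q : ℤ) - 2) -
        ((q : ℤ) + 2) * ((q : ℤ) ^ 3 - 2 * (q : ℤ) ^ 2 + 2 * q - 7) := by ring
    rw [e]
    exact dvd_sub h2' (dvd_mul_right _ _)
  have h4' : (q + 2 : ℕ) ∣ 12 := by exact_mod_cast h3
  have hle : q + 2 ≤ 12 := Nat.le_of_dvd (by norm_num) h4'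
  have hq10 : q ≤ 10 := by omega
  interval_cases q
  · exact h2 rfl
  · norm_num at h4'
  · exact h4 rfl
  · norm_num at h4'
  · norm_num at h4'
  · norm_num at h4'
  · norm_num at h4'
  · norm_num at h4'
  · have : ¬ IsPrimePow 10 := by
      rw [isPrimePow_nat_iff]
      rintro ⟨p, k, hp, hk, hpk⟩
      have hp2 : p ∣ 10 := by rw [← hpk]; exact dvd_pow_self p (by omega)
      have h25 : p = 2 ∨ p = 5 := by
        have : p ∣ 2 * 5 := by norm_num; exact hp2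
        rcases (Nat.Prime.dvd_mul hp).mp this with h | h
        · exact Or.inl ((Nat.prime_dvd_prime_iff_eq hp Nat.prime_two).mp h)
        · exact Or.inr ((Nat.prime_dvd_prime_iff_eq hp (by norm_num)).mp h)
      rcases h25 with rfl | rfl
      · have : (5 : ℕ) ∣ 2 ^ k := by rw [hpk]; norm_num
        have := (Nat.Prime.dvd_of_dvd_pow (by norm_num) this)
        norm_num at this
      · have : (2 : ℕ) ∣ 5 ^ k := by rw [hpk]; norm_num
        have := (Nat.Prime.dvd_of_dvd_pow (by norm_num) this)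
        norm_num at this
    exact this hq

end Cfsg.Agent.Helper12.LSL
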