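import Mathlib
import Cfsg.Agent.Helper12.LSUDefs
import Cfsg.Agent.Helper11.TwField

/-! S2335 piece FIX: the number of nonzero fixed points of the involutory field automorphism. -/

set_option autoImplicit false

namespace Cfsg.Agent.Helper12.LSU

open Matrix Cfsg Cfsg.Agent.Helper2.SUGen

variable {F : Type*} [Field F] {q : ℕ}

theorem card_fixUnits [Fintype F] [DecidableEq F] (D : Frob F q) (hF : Fintype.card F = q ^ 2) :
    (Finset.univ.filter (fun c : F => c ≠ 0 ∧ D.σ c = c)).card = q - 1 := by
  have hq : 1 < q := by
    have h1 : 1 < Fintype.card F := Fintype.one_lt_card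
    rw [hF] at h1
    by_contra h
    interval_cases q <;> simp at h1
  have hfix := Cfsg.Agent.Helper11.TwField.card_fixed_pow (K := F) hq (by norm_num : 0 < 2) hF
  have h2 : (Finset.univ.filter (fun c : F => c ^ q = c)).card = q := by
    have h := Fintype.card_subtype (fun c : F => c ^ q = c)
    rw [← h, ← Nat.card_eq_fintype_card]
    exact hfix
  have h3 : Finset.univ.filter (fun c : F => c ≠ 0 ∧ D.σ c = c) =
      (Finset.univ.filter (fun c : F => c ^ q = c)).erase 0 := by
    ext c
    simp only [Finset.mem_filter, Finset.mem_univ, true_and, Finset.mem_erase, D.pow]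
  have h0 : (0 : F) ∈ Finset.univ.filter (fun c : F => c ^ q = c) := by
    simp only [Finset.mem_filter, Finset.mem_univ, true_and]
    exact zero_pow (by omega)
  rw [h3, Finset.card_erase_of_mem h0, h2]

end Cfsg.Agent.Helper12.LSU
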