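import Mathlib
import Cfsg.Agent.Helper12.LSUDefs

/-! S2335 piece ARITH: the recursion for the bound `(q^(2m) - 1)/(q + 1)`. -/

set_option autoImplicit false

namespace Cfsg.Agent.Helper12.LSU

theorem NN_succ {q : ℕ} (hq : 2 ≤ q) (m : ℕ) : NN q (m + 1) = (q - 1) * q ^ (2 * m) + NN q m := by
  unfold NN
  obtain ⟨k, rfl⟩ : ∃ k, q = k + 1 := ⟨q - 1, by omega⟩
  have hP : 1 ≤ (k + 1) ^ (2 * m) := Nat.one_le_pow _ _ (by omega)
  have e : (k + 1) ^ (2 * (m + 1)) - 1 =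
      (k + 1 + 1) * ((k + 1 - 1) * (k + 1) ^ (2 * m)) + ((k + 1) ^ (2 * m) - 1) := by
    have : (k + 1) ^ (2 * (m + 1)) =
        (k + 1 + 1) * ((k + 1 - 1) * (k + 1) ^ (2 * m)) + (k + 1) ^ (2 * m) := by
      rw [Nat.add_sub_cancel]; ring
    rw [this, Nat.add_sub_assoc hP]
  rw [e, Nat.mul_add_div (by omega)]

end Cfsg.Agent.Helper12.LSU
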