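import Mathlib
import Cfsg.Agent.Helper12.LSUDefs

/-! S2335 piece NC: the action on Hermitian matrices is nontrivial. -/

set_option autoImplicit false

namespace Cfsg.Agent.Helper12.LSU

open Matrix

variable {F : Type*} [Field F]

theorem exists_hact_ne (σ : F →+* F) {m : ℕ} (hm : 2 ≤ m) :
    ∃ A E : Matrix (Fin m) (Fin m) F, A.det = 1 ∧ E ∈ Herm σ m ∧ hact σ A E ≠ E := by
  obtain ⟨k, rfl⟩ : ∃ k, m = k + 2 := ⟨m - 2, by omega⟩
  have h10 : (1 : Fin (k + 2)) ≠ 0 := by simp
  refine ⟨Matrix.transvection 1 0 1, Matrix.single 0 0 1,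
    Matrix.det_transvection_of_ne 1 0 h10 1, ?_, ?_⟩
  · rw [mem_Herm]
    ext i j
    rw [ct_apply, Matrix.single_apply, Matrix.single_apply]
    by_cases h : (0 : Fin (k + 2)) = j ∧ (0 : Fin (k + 2)) = i
    · rw [if_pos h, if_pos ⟨h.2, h.1⟩, map_one]
    · rw [if_neg h, if_neg (fun h' => h ⟨h'.2, h'.1⟩), map_zero]
  · intro h
    have e1 : (Matrix.single (0 : Fin (k + 2)) (0 : Fin (k + 2)) (1 : F)) 1 1 = 0 := by
      rw [Matrix.single_apply, if_neg (fun h' => h10 h'.1.symm)]
    have h11 : hact σ (Matrix.transvection (1 : Fin (k + 2)) 0 (1 : F)) (Matrix.single 0 0 1) 1 1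
        = 0 := by
      rw [h]; exact e1
    have e2 : hact σ (Matrix.transvection (1 : Fin (k + 2)) 0 (1 : F)) (Matrix.single 0 0 1) 1 1
        = 1 := by
      unfold hact
      rw [Matrix.mul_apply, Finset.sum_eq_single (0 : Fin (k + 2))]
      · rw [ct_apply, Matrix.mul_apply, Finset.sum_eq_single (0 : Fin (k + 2))]
        · simp [Matrix.transvection, h10]
        · intro b _ hb
          rw [Matrix.single_apply, if_neg (fun h' => hb h'.1.symm), mul_zero]
        · intro h'; exact absurd (Finset.mem_univ _) h'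
      · intro b _ hb
        have : ((Matrix.transvection (1 : Fin (k + 2)) 0 (1 : F) *
            Matrix.single (0 : Fin (k + 2)) (0 : Fin (k + 2)) (1 : F) :
              Matrix (Fin (k + 2)) (Fin (k + 2)) F)) 1 b = 0 := by
          rw [Matrix.mul_apply]
          apply Finset.sum_eq_zero
          intro c _
          rw [Matrix.single_apply, if_neg (fun h' => hb h'.2.symm), mul_zero]
        rw [this, zero_mul]
      · intro h'; exact absurd (Finset.mem_univ _) h'
    rw [e2] at h11
    exact one_ne_zero h11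

end Cfsg.Agent.Helper12.LSU
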