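import Mathlib
import Cfsg.Prelude.Def_PLocal
import Cfsg.Agent.Helper28.S2768Defs
import Cfsg.Agent.Helper23.S2768E0A

/-! # S2768 board, piece E0C (blueprint 1.6 and 1.8) -/

set_option autoImplicit false

namespace Cfsg.Agent.S2768P

open Subgroup

variable {G : Type*} [Group G] [Finite G] {p : ℕ} [Fact p.Prime]

omit [Finite G] [Fact p.Prime] in
theorem E0C_aux_pCore_normal : (Cfsg.pCore p G).Normal :=
  Subgroup.sSup_normal _ (fun _ h => h.1)

/-- 1.6, first half: `S ≠ O_p(G)`. -/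
theorem E0C_aux_ne (S : Sylow p G) (M K : Subgroup G) [K.Normal] (h : Hyp p S M K) :
    (S : Subgroup G) ≠ Cfsg.pCore p G := by
  intro heq
  have hSn : (S : Subgroup G).Normal := by
    rw [heq]; exact E0C_aux_pCore_normal
  have hmapn : ((S : Subgroup G).map (QuotientGroup.mk' K)).Normal :=
    hSn.map _ (QuotientGroup.mk'_surjective K)
  have htop := h.rank.gen (S.mapSurjective (QuotientGroup.mk'_surjective K)) _ hmapn
    (by rw [Sylow.coe_mapSurjective])
  apply h.rank.ne_top (S.mapSurjective (QuotientGroup.mk'_surjective K))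
  rw [Sylow.coe_mapSurjective]
  exact htop

/-- 1.6, second half: commutators of elements of `S` lie in `O_p(G)`. -/
theorem E0C_aux_comm (S : Sylow p G) (M K : Subgroup G) [K.Normal] (h : Hyp p S M K)
    (a : G) (ha : a ∈ (S : Subgroup G)) (b : G) (hb : b ∈ (S : Subgroup G)) :
    a * b * a⁻¹ * b⁻¹ ∈ Cfsg.pCore p G := by
  have hE := E0A S M K h
  apply hE.2.2.2.2
  have hS1 : a * b * a⁻¹ * b⁻¹ ∈ (S : Subgroup G) :=
    (S : Subgroup G).mul_mem ((S : Subgroup G).mul_mem ((S : Subgroup G).mul_mem ha hb)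
      ((S : Subgroup G).inv_mem ha)) ((S : Subgroup G).inv_mem hb)
  refine Subgroup.mem_inf.2 ⟨hS1, ?_⟩
  have hU := h.rank.comm (S.mapSurjective (QuotientGroup.mk'_surjective K))
    (QuotientGroup.mk' K a) (by rw [Sylow.coe_mapSurjective]; exact ⟨a, ha, rfl⟩)
    (QuotientGroup.mk' K b) (by rw [Sylow.coe_mapSurjective]; exact ⟨b, hb, rfl⟩)
  have h1 : QuotientGroup.mk' K (a * b * a⁻¹ * b⁻¹) = 1 := by
    rw [map_mul, map_mul, map_mul, map_inv, map_inv, hU]
    group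
  have h2 : a * b * a⁻¹ * b⁻¹ ∈ (QuotientGroup.mk' K).ker := h1
  rwa [QuotientGroup.ker_mk'] at h2

omit [Finite G] [Fact p.Prime] in
theorem E0C_aux_cj_coatom {M : Subgroup G} (hM : IsCoatom M) (g : G) : IsCoatom (cj g M) := by
  have h1 := (OrderIso.isCoatom_iff (MulEquiv.mapSubgroup (MulAut.conj g)) M).2 hM
  exact h1

omit [Finite G] [Fact p.Prime] in
theorem E0C_aux_mem_cj {H : Subgroup G} {g x : G} : x ∈ cj g H ↔ g⁻¹ * x * g ∈ H := by
  constructor
  · rintro ⟨y, hy, rfl⟩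
    have : g⁻¹ * ((MulAut.conj g).toMonoidHom y) * g = y := by
      simp [MulAut.conj_apply, mul_assoc]
    rw [this]; exact hy
  · intro hx
    refine ⟨g⁻¹ * x * g, hx, ?_⟩
    simp [MulAut.conj_apply, mul_assoc]

/-- 1.8: for `g ∉ M`, `⟨S, S^g⟩ = G`. -/
theorem E0C_aux_gen (S : Sylow p G) (M K : Subgroup G) [K.Normal] (h : Hyp p S M K)
    (g : G) (hg : g ∉ M) : (S : Subgroup G) ⊔ cj g (S : Subgroup G) = ⊤ := by
  have hE := E0A S M K h
  by_contra hne
  have hle := hE.1 _ le_sup_left hne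
  have hcj : cj g (S : Subgroup G) ≤ M := le_sup_right.trans hle
  -- `S ≤ cj g⁻¹ M`
  have hS : (S : Subgroup G) ≤ cj g⁻¹ M := by
    intro s hs
    rw [E0C_aux_mem_cj, inv_inv]
    apply hcj
    rw [E0C_aux_mem_cj]
    have : g⁻¹ * (g * s * g⁻¹) * g = s := by group
    rw [this]; exact hs
  have heq := h.uniq _ (E0C_aux_cj_coatom h.coatom g⁻¹) hS
  -- `g⁻¹` normalises `M`
  have hnorm : g⁻¹ ∈ normalizer (M : Set G) := by
    rw [Subgroup.mem_normalizer_iff]
    intro x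
    constructor
    · intro hx
      have : g⁻¹ * x * g⁻¹⁻¹ ∈ cj g⁻¹ M := by
        rw [E0C_aux_mem_cj]
        have e : g⁻¹⁻¹ * (g⁻¹ * x * g⁻¹⁻¹) * g⁻¹ = x := by group
        rw [e]; exact hx
      rwa [heq] at this
    · intro hx
      rw [← heq, E0C_aux_mem_cj] at hx
      have e : g⁻¹⁻¹ * (g⁻¹ * x * g⁻¹⁻¹) * g⁻¹ = x := by group
      rwa [e] at hx
  have hNM : normalizer (M : Set G) = M := by
    by_contra hNe
    have hlt : M < normalizer (M : Set G) := lt_of_le_of_ne Subgroup.le_normalizer (Ne.symm hNe)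
    have htop := h.coatom.2 _ hlt
    exact hE.2.2.2.1 (Subgroup.normalizer_eq_top_iff.1 htop)
  rw [hNM] at hnorm
  exact hg (by simpa using M.inv_mem hnorm)

/-- E0C (M): 1.6 and 1.8. -/
theorem E0C (S : Sylow p G) (M K : Subgroup G) [K.Normal] (h : Hyp p S M K) :
    (S : Subgroup G) ≠ Cfsg.pCore p G ∧
    (∀ a ∈ (S : Subgroup G), ∀ b ∈ (S : Subgroup G), a * b * a⁻¹ * b⁻¹ ∈ Cfsg.pCore p G) ∧
    (∀ g : G, g ∉ M → (S : Subgroup G) ⊔ cj g (S : Subgroup G) = ⊤) :=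
  ⟨E0C_aux_ne S M K h, E0C_aux_comm S M K h, E0C_aux_gen S M K h⟩

end Cfsg.Agent.S2768P
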