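import Mathlib
import Cfsg.Agent.Helper28.S2768Defs
import Cfsg.Agent.Helper12.BorelUnip

set_option autoImplicit false

/-! # S2768 piece `PSLA`: Sylow `p`-subgroups of `PSL₂(F)`, `|F| = p^n`, are abelian, TI, proper. -/

namespace Cfsg.Agent.S2768P

open Cfsg.Agent.Helper12

section aux

variable {F : Type*} [Field F]

local notation "S2" => Matrix.SpecialLinearGroup (Fin 2) F
local notation "M2" => Matrix (Fin 2) (Fin 2) F

theorem PSLA_aux_charP [Fintype F] (p : ℕ) [hp : Fact p.Prime] (n : ℕ)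
    (hF : Fintype.card F = p ^ n) : CharP F p := by
  obtain ⟨p', hp'⟩ := CharP.exists F
  obtain ⟨m, hp'prime, hcard⟩ := FiniteField.card F p'
  have h1 : p' ∣ p ^ n := by
    rw [← hF, hcard]
    exact dvd_pow_self p' m.ne_zero
  have h2 : p' = p :=
    (Nat.prime_dvd_prime_iff_eq hp'prime hp.out).mp (hp'prime.dvd_of_dvd_pow h1)
  rw [← h2]
  exact hp'

/-- If a conjugate of a non-identity unitriangular matrix is unitriangular, the conjugating element is in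
the Borel subgroup. -/
theorem PSLA_aux_borel (g : S2) (r : F) (hr : r ≠ 0) (h : g * uMat r * g⁻¹ ∈ unipSL F) :
    g ∈ borelSL F := by
  rw [mem_unipSL_iff] at h
  have h10 := h.1
  rw [Matrix.SpecialLinearGroup.coe_mul, Matrix.SpecialLinearGroup.coe_mul,
    Matrix.SpecialLinearGroup.coe_inv, uMat_coe, Matrix.adjugate_fin_two] at h10
  simp only [Matrix.mul_apply, Fin.sum_univ_two, Matrix.of_apply,
    Matrix.cons_val', Matrix.cons_val_zero, Matrix.cons_val_one, Matrix.cons_val_fin_one] at h10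
  rw [mem_borelSL_iff]
  have h2 : r * ((g : M2) 1 0 * (g : M2) 1 0) = 0 := by
    linear_combination -h10
  rcases mul_eq_zero.1 h2 with h3 | h3
  · exact absurd h3 hr
  · exact mul_self_eq_zero.1 h3

theorem PSLA_aux_mem_iff {S : Subgroup S2} {g : S2}
    (hg : S.map (MulAut.conj g).toMonoidHom = unipSL F) (y : S2) :
    y ∈ S ↔ g * y * g⁻¹ ∈ unipSL F := by
  rw [← hg]
  constructor
  · intro hy
    exact ⟨y, hy, rfl⟩
  · rintro ⟨y', hy', h⟩
    have : y' = y := (MulAut.conj g).injective h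
    rw [← this]; exact hy'

/-- Two Sylow `p`-subgroups of `SL₂(F)` with a common non-identity element are equal. -/
theorem PSLA_aux_TI [Fintype F] (p : ℕ) [Fact p.Prime] [CharP F p] (S₁ S₂ : Sylow p S2)
    {x : S2} (hx1 : x ∈ (S₁ : Subgroup S2)) (hx2 : x ∈ (S₂ : Subgroup S2)) (hx : x ≠ 1) :
    (S₁ : Subgroup S2) = (S₂ : Subgroup S2) := by
  obtain ⟨g₁, hg₁⟩ := exists_conj_sylow_eq_unipSL p S₁
  obtain ⟨g₂, hg₂⟩ := exists_conj_sylow_eq_unipSL p S₂
  have h1 : g₁ * x * g₁⁻¹ ∈ unipSL F := (PSLA_aux_mem_iff hg₁ x).1 hx1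
  have h2 : g₂ * x * g₂⁻¹ ∈ unipSL F := (PSLA_aux_mem_iff hg₂ x).1 hx2
  have e1 := eq_uMat_of_mem h1
  set r := ((g₁ * x * g₁⁻¹ : S2) : M2) 0 1 with hr
  have hr0 : r ≠ 0 := by
    intro h0
    rw [h0] at e1
    have h3 : (uMat (0 : F) : S2) = 1 := by
      ext i j
      fin_cases i <;> fin_cases j <;> simp [uMat_coe]
    rw [h3] at e1
    apply hx
    have : x = g₁⁻¹ * (g₁ * x * g₁⁻¹) * g₁ := by group
    rw [this, e1]; group
  have h3 : (g₂ * g₁⁻¹) * uMat r * (g₂ * g₁⁻¹)⁻¹ ∈ unipSL F := by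
    rw [← e1]
    have : g₂ * g₁⁻¹ * (g₁ * x * g₁⁻¹) * (g₂ * g₁⁻¹)⁻¹ = g₂ * x * g₂⁻¹ := by group
    rw [this]; exact h2
  have hb : g₂ * g₁⁻¹ ∈ borelSL F := PSLA_aux_borel _ r hr0 h3
  have hn : g₂ * g₁⁻¹ ∈ Subgroup.normalizer ((unipSL F : Subgroup S2) : Set S2) := by
    rw [normalizer_unipSL]; exact hb
  ext y
  rw [PSLA_aux_mem_iff hg₁ y, PSLA_aux_mem_iff hg₂ y]
  have := Subgroup.mem_normalizer_iff.1 hn (g₁ * y * g₁⁻¹)
  rw [this]
  have e : g₂ * g₁⁻¹ * (g₁ * y * g₁⁻¹) * (g₂ * g₁⁻¹)⁻¹ = g₂ * y * g₂⁻¹ := by group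
  rw [e]

/-- A central `p`-element of `SL₂(F)` is trivial. -/
theorem PSLA_aux_central [Fintype F] (p : ℕ) [Fact p.Prime] [CharP F p] {z : S2}
    (hz : z ∈ Subgroup.center S2) (k : ℕ) (hk : z ^ (p ^ k) = 1) : z = 1 := by
  rw [Matrix.SpecialLinearGroup.mem_center_iff] at hz
  obtain ⟨c, -, hc⟩ := hz
  have hzb : z ∈ borelSL F := by
    rw [mem_borelSL_iff, ← hc]
    simp
  have hu := mem_unipSL_of_pow_eq_one p hzb k hk
  rw [mem_unipSL_iff, ← hc] at hu
  have hc1 : c = 1 := by simpa using hu.2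
  ext i j
  rw [← hc, hc1]
  simp

end aux

/-- PSLA (M): Sylow `p`-subgroups of `PSL₂(F)`, `|F| = p^n`, are abelian, TI, proper. -/
theorem PSLA (F : Type) [Field F] [Fintype F] (p : ℕ) [Fact p.Prime] (n : ℕ) (hn : 1 ≤ n)
    (hF : Fintype.card F = p ^ n) :
    (∀ P : Sylow p (Matrix.ProjectiveSpecialLinearGroup (Fin 2) F), ∀ a ∈ (P : Subgroup (Matrix.ProjectiveSpecialLinearGroup (Fin 2) F)),
      ∀ b ∈ (P : Subgroup (Matrix.ProjectiveSpecialLinearGroup (Fin 2) F)), a * b = b * a) ∧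
    (∀ P₁ P₂ : Sylow p (Matrix.ProjectiveSpecialLinearGroup (Fin 2) F), P₁ ≠ P₂ →
      (P₁ : Subgroup (Matrix.ProjectiveSpecialLinearGroup (Fin 2) F)) ⊓ (P₂ : Subgroup (Matrix.ProjectiveSpecialLinearGroup (Fin 2) F)) = ⊥) ∧
    (∀ P : Sylow p (Matrix.ProjectiveSpecialLinearGroup (Fin 2) F), (P : Subgroup (Matrix.ProjectiveSpecialLinearGroup (Fin 2) F)) ≠ ⊤) := by
  classical
  haveI : CharP F p := PSLA_aux_charP p n hF
  let π : Matrix.SpecialLinearGroup (Fin 2) F →* Matrix.ProjectiveSpecialLinearGroup (Fin 2) F :=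
    QuotientGroup.mk' (Subgroup.center (Matrix.SpecialLinearGroup (Fin 2) F))
  have hπ : Function.Surjective π := QuotientGroup.mk'_surjective _
  have hker : ∀ s t : Matrix.SpecialLinearGroup (Fin 2) F, π s = π t →
      s⁻¹ * t ∈ Subgroup.center (Matrix.SpecialLinearGroup (Fin 2) F) := by
    intro s t h
    exact QuotientGroup.eq.1 h
  have hlift : ∀ P : Sylow p (Matrix.ProjectiveSpecialLinearGroup (Fin 2) F),
      ∃ S : Sylow p (Matrix.SpecialLinearGroup (Fin 2) F),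
        (P : Subgroup (Matrix.ProjectiveSpecialLinearGroup (Fin 2) F)) =
          (S : Subgroup (Matrix.SpecialLinearGroup (Fin 2) F)).map π := by
    intro P
    obtain ⟨S, hS⟩ := Sylow.mapSurjective_surjective hπ p P
    refine ⟨S, ?_⟩
    rw [← hS]
    rfl
  have habel : ∀ P : Sylow p (Matrix.ProjectiveSpecialLinearGroup (Fin 2) F),
      ∀ a ∈ (P : Subgroup (Matrix.ProjectiveSpecialLinearGroup (Fin 2) F)),
      ∀ b ∈ (P : Subgroup (Matrix.ProjectiveSpecialLinearGroup (Fin 2) F)), a * b = b * a := by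
    intro P a ha b hb
    obtain ⟨S, hS⟩ := hlift P
    rw [hS] at ha hb
    obtain ⟨s, hs, rfl⟩ := ha
    obtain ⟨t, ht, rfl⟩ := hb
    obtain ⟨g, hg⟩ := exists_conj_sylow_eq_unipSL p S
    have h1 := (PSLA_aux_mem_iff hg s).1 hs
    have h2 := (PSLA_aux_mem_iff hg t).1 ht
    have h3 := unipSL_comm h1 h2
    have h4 : s * t = t * s := by
      have e1 : g * s * g⁻¹ * (g * t * g⁻¹) = g * (s * t) * g⁻¹ := by group
      have e2 : g * t * g⁻¹ * (g * s * g⁻¹) = g * (t * s) * g⁻¹ := by group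
      rw [e1, e2] at h3
      exact mul_left_cancel (mul_right_cancel h3)
    rw [← map_mul, ← map_mul, h4]
  refine ⟨habel, ?_, ?_⟩
  · intro P₁ P₂ hne
    rw [eq_bot_iff]
    intro x hx
    rw [Subgroup.mem_bot]
    by_contra hx1
    apply hne
    obtain ⟨S₁, hS₁⟩ := hlift P₁
    obtain ⟨S₂, hS₂⟩ := hlift P₂
    have hxa : x ∈ (P₁ : Subgroup (Matrix.ProjectiveSpecialLinearGroup (Fin 2) F)) := hx.1
    have hxb : x ∈ (P₂ : Subgroup (Matrix.ProjectiveSpecialLinearGroup (Fin 2) F)) := hx.2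
    rw [hS₁] at hxa
    rw [hS₂] at hxb
    obtain ⟨s₁, hs₁, e₁⟩ := hxa
    obtain ⟨s₂, hs₂, e₂⟩ := hxb
    have hz := hker s₁ s₂ (e₁.trans e₂.symm)
    obtain ⟨k₁, hk₁⟩ := S₁.isPGroup' ⟨s₁, hs₁⟩
    obtain ⟨k₂, hk₂⟩ := S₂.isPGroup' ⟨s₂, hs₂⟩
    have hk₁' : s₁ ^ (p ^ k₁) = 1 := by
      have := congrArg (fun y : (S₁ : Subgroup (Matrix.SpecialLinearGroup (Fin 2) F)) =>
        (y : Matrix.SpecialLinearGroup (Fin 2) F)) hk₁
      simpa using this
    have hk₂' : s₂ ^ (p ^ k₂) = 1 := by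
      have := congrArg (fun y : (S₂ : Subgroup (Matrix.SpecialLinearGroup (Fin 2) F)) =>
        (y : Matrix.SpecialLinearGroup (Fin 2) F)) hk₂
      simpa using this
    have hcomm : Commute s₁⁻¹ s₂ := by
      have h1 := (Subgroup.mem_center_iff.1 hz) s₁⁻¹
      -- s₁⁻¹ * (s₁⁻¹ * s₂) = (s₁⁻¹ * s₂) * s₁⁻¹
      have h2 : s₁⁻¹ * s₂ = s₂ * s₁⁻¹ := by
        have := congrArg (fun y => s₁ * y) h1
        simpa [mul_assoc] using this
      exact h2
    have hzpow : (s₁⁻¹ * s₂) ^ (p ^ (k₁ + k₂)) = 1 := by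
      rw [hcomm.mul_pow, inv_pow, pow_add, pow_mul, hk₁', one_pow, inv_one, one_mul,
        mul_comm (p ^ k₁) (p ^ k₂), pow_mul, hk₂', one_pow]
    have hz1 := PSLA_aux_central p hz _ hzpow
    have hs12 : s₁ = s₂ := by
      have := congrArg (fun y => s₁ * y) hz1
      simpa using this.symm
    have hs1ne : s₁ ≠ 1 := by
      intro h1
      apply hx1
      rw [← e₁, h1, map_one]
    have hTI := PSLA_aux_TI p S₁ S₂ hs₁ (hs12 ▸ hs₂) hs1ne
    apply Sylow.ext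
    rw [hS₁, hS₂, hTI]
  · intro P htop
    have hab : ∀ a b : Matrix.ProjectiveSpecialLinearGroup (Fin 2) F, a * b = b * a := by
      intro a b
      exact habel P a (by rw [htop]; exact Subgroup.mem_top a) b (by rw [htop]; exact Subgroup.mem_top b)
    obtain ⟨l, hl⟩ : ∃ l : Matrix.SpecialLinearGroup (Fin 2) F,
        (l : Matrix (Fin 2) (Fin 2) F) = !![1, 0; 1, 1] :=
      ⟨⟨!![1, 0; 1, 1], by simp [Matrix.det_fin_two_of]⟩, rfl⟩
    have h1 := hab (π (uMat 1)) (π l)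
    rw [← map_mul, ← map_mul] at h1
    have h2 := hker _ _ h1
    rw [Matrix.SpecialLinearGroup.mem_center_iff] at h2
    obtain ⟨c, -, hc⟩ := h2
    have h3 := congrArg (fun A : Matrix (Fin 2) (Fin 2) F => A 1 0) hc
    simp only [Matrix.SpecialLinearGroup.coe_mul, Matrix.SpecialLinearGroup.coe_inv, uMat_coe, hl,
      Matrix.adjugate_fin_two, Matrix.mul_apply, Fin.sum_univ_two] at h3
    simp at h3

end Cfsg.Agent.S2768P
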