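import Mathlib

/-! Board `qp74pieces`, piece NIL: pure ring lemmas. -/

set_option autoImplicit false
set_option linter.unusedVariables false

namespace Cfsg.Agent.QP74

/-- `(y x)^(n+1) = y (x y)^n x` -/
theorem NIL_aux_pow {R : Type*} [Ring R] (x y : R) (n : ℕ) :
    (y * x) ^ (n + 1) = y * (x * y) ^ n * x := by
  induction n with
  | zero => simp
  | succ n ih =>
    rw [pow_succ, ih, pow_succ]
    simp only [mul_assoc]

/-- `x y` nilpotent ⇒ `y x` nilpotent -/
theorem NIL_aux_comm {R : Type*} [Ring R] {x y : R} (h : IsNilpotent (x * y)) :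
    IsNilpotent (y * x) := by
  obtain ⟨n, hn⟩ := h
  exact ⟨n + 1, by rw [NIL_aux_pow, hn, mul_zero, zero_mul]⟩

/-- NIL (pure ring theory): `b · σbσ⁻¹` nilpotent ⇒ `a b` nilpotent. -/
theorem NIL {R : Type*} [Ring R] {a b : R} (ha : a * a = 0) (hb : b * b = 0)
    (h : IsNilpotent (b * ((1 + a) * b * (1 - a)))) : IsNilpotent (a * b) := by
  have e1 : b * ((1 + a) * b * (1 - a)) = (b * a) * (b * (1 - a)) := by
    have : b * ((1 + a) * b * (1 - a))
        = (b * b) * (1 - a) + (b * a) * (b * (1 - a)) := by noncomm_ring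
    rw [this, hb, zero_mul, zero_add]
  rw [e1] at h
  have h2 := NIL_aux_comm h
  have e2 : (b * (1 - a)) * (b * a) = -((b * a) ^ 2) := by
    have : (b * (1 - a)) * (b * a) = (b * b) * a - (b * a) ^ 2 := by noncomm_ring
    rw [this, hb, zero_mul, zero_sub]
  rw [e2] at h2
  have h3 : IsNilpotent ((b * a) ^ 2) := by
    have := h2.neg
    rwa [neg_neg] at this
  have h4 : IsNilpotent (b * a) := h3.of_pow
  exact NIL_aux_comm h4

/-- `(-a) · σbσ⁻¹ = -(a b)(1-a)`, and `(1-a)(a b) = a b`. -/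
theorem NIL' {R : Type*} [Ring R] {a b : R} (ha : a * a = 0)
    (h : IsNilpotent ((-a) * ((1 + a) * b * (1 - a)))) : IsNilpotent (a * b) := by
  have e1 : (-a) * ((1 + a) * b * (1 - a)) = (-(a * b)) * (1 - a) := by
    have : (-a) * ((1 + a) * b * (1 - a))
        = (-(a * b)) * (1 - a) - (a * a) * b * (1 - a) := by noncomm_ring
    rw [this, ha, zero_mul, zero_mul, sub_zero]
  rw [e1] at h
  have h2 := NIL_aux_comm h
  have e2 : (1 - a) * (-(a * b)) = -(a * b) := by
    have : (1 - a) * (-(a * b)) = -(a * b) + (a * a) * b := by noncomm_ring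
    rw [this, ha, zero_mul, add_zero]
  rw [e2] at h2
  have := h2.neg
  rwa [neg_neg] at this

end Cfsg.Agent.QP74
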