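import Mathlib
import Cfsg.Agent.Helper12.S1786Defs

/-! s1786pieces PHI: `P/V` is elementary abelian (`P = C_Q(V)`).  `Z₂` := preimage of `Z(P/V)`, `X := C_P(Z₂)`; `X ⊓ Z₂ = V` by `hmax`;
`X = V` by nilpotency of the `2`-group `P`; commutators and squares of `P` centralise `Z₂`. -/

set_option autoImplicit false
set_option linter.unusedVariables false
set_option linter.unusedSectionVars false

namespace Cfsg.Agent.S1786P

open scoped commutatorElement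

variable {G : Type*} [Group G] [Finite G] {V Q B C : Subgroup G}

omit [Finite G] in
/-- elements of `P` commute with elements of `V` -/
theorem PHI_aux_comm (h : ∀ x ∈ PP V Q, ∀ v ∈ V, x * v = v * x) {x v : G} (hx : x ∈ PP V Q) (hv : v ∈ V) :
    x * v * x⁻¹ = v := by
  rw [h x hx v hv]; group

/-- `Z₂`: the preimage in `P` of the centre of `P/V` -/
def PHI_aux_Z2 (S : Setup V Q) : Subgroup G where
  carrier := {z | z ∈ PP V Q ∧ ∀ x ∈ PP V Q, z * x * z⁻¹ * x⁻¹ ∈ V}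
  one_mem' := by
    refine ⟨one_mem _, fun x _ => ?_⟩
    have e : (1 : G) * x * 1⁻¹ * x⁻¹ = 1 := by group
    rw [e]; exact one_mem _
  mul_mem' := by
    rintro z w ⟨hz, hz'⟩ ⟨hw, hw'⟩
    refine ⟨mul_mem hz hw, fun x hx => ?_⟩
    have hcv : ∀ p ∈ PP V Q, ∀ v ∈ V, p * v = v * p := fun p hp v hv => (mem_PP.1 hp).2 v hv
    have h1 := hw' x hx
    have h2 := hz' x hx
    have e : z * w * x * (z * w)⁻¹ * x⁻¹ = (z * (w * x * w⁻¹ * x⁻¹) * z⁻¹) * (z * x * z⁻¹ * x⁻¹) := by group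
    rw [e, PHI_aux_comm hcv hz h1]
    exact mul_mem h1 h2
  inv_mem' := by
    rintro z ⟨hz, hz'⟩
    refine ⟨inv_mem hz, fun x hx => ?_⟩
    have hcv : ∀ p ∈ PP V Q, ∀ v ∈ V, p * v = v * p := fun p hp v hv => (mem_PP.1 hp).2 v hv
    have h2 := hz' x hx
    have e : z⁻¹ * x * z⁻¹⁻¹ * x⁻¹ = z⁻¹ * (z * x * z⁻¹ * x⁻¹)⁻¹ * z⁻¹⁻¹ := by group
    rw [e, PHI_aux_comm hcv (inv_mem hz) (inv_mem h2)]
    exact inv_mem h2

omit [Finite G] in
theorem PHI_aux_mem_Z2 (S : Setup V Q) {z : G} :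
    z ∈ PHI_aux_Z2 S ↔ z ∈ PP V Q ∧ ∀ x ∈ PP V Q, z * x * z⁻¹ * x⁻¹ ∈ V := Iff.rfl

/-- conjugation by `m ∈ M` preserves `P` -/
theorem PHI_aux_conj_PP (S : Setup V Q) {m : G} (hm : m ∈ Subgroup.normalizer (V : Set G)) {a : G} (ha : a ∈ PP V Q) :
    m * a * m⁻¹ ∈ PP V Q :=
  (Subgroup.mem_normalizer_iff.1 (S.M_le_normalizer_PP hm) a).1 ha

omit [Finite G] in
theorem PHI_aux_conj_V {m : G} (hm : m ∈ Subgroup.normalizer (V : Set G)) {a : G} (ha : a ∈ V) :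
    m * a * m⁻¹ ∈ V :=
  (Subgroup.mem_normalizer_iff.1 hm a).1 ha

/-- `Z₂` is `M`-invariant -/
theorem PHI_aux_conj_Z2 (S : Setup V Q) {m : G} (hm : m ∈ Subgroup.normalizer (V : Set G)) {z : G}
    (hz : z ∈ PHI_aux_Z2 S) : m * z * m⁻¹ ∈ PHI_aux_Z2 S := by
  obtain ⟨hzP, hz'⟩ := hz
  refine ⟨PHI_aux_conj_PP S hm hzP, fun x hx => ?_⟩
  have hm' : m⁻¹ ∈ Subgroup.normalizer (V : Set G) := inv_mem hm
  have hx' : m⁻¹ * x * m ∈ PP V Q := by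
    have := PHI_aux_conj_PP S hm' hx
    rwa [inv_inv] at this
  have h1 := hz' _ hx'
  have e : m * z * m⁻¹ * x * (m * z * m⁻¹)⁻¹ * x⁻¹ = m * (z * (m⁻¹ * x * m) * z⁻¹ * (m⁻¹ * x * m)⁻¹) * m⁻¹ := by group
  rw [e]
  exact PHI_aux_conj_V hm h1

/-- `X = C_P(Z₂)` -/
def PHI_aux_X (S : Setup V Q) : Subgroup G := PP V Q ⊓ Subgroup.centralizer ((PHI_aux_Z2 S : Subgroup G) : Set G)

omit [Finite G] in
theorem PHI_aux_mem_X (S : Setup V Q) {x : G} :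
    x ∈ PHI_aux_X S ↔ x ∈ PP V Q ∧ ∀ z ∈ PHI_aux_Z2 S, x * z = z * x := by
  unfold PHI_aux_X
  rw [Subgroup.mem_inf, Subgroup.mem_centralizer_iff]
  constructor
  · rintro ⟨h1, h2⟩; exact ⟨h1, fun z hz => (h2 z hz).symm⟩
  · rintro ⟨h1, h2⟩; exact ⟨h1, fun z hz => (h2 z hz).symm⟩

/-- `X` is `M`-invariant -/
theorem PHI_aux_conj_X (S : Setup V Q) {m : G} (hm : m ∈ Subgroup.normalizer (V : Set G)) {x : G}
    (hx : x ∈ PHI_aux_X S) : m * x * m⁻¹ ∈ PHI_aux_X S := by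
  rw [PHI_aux_mem_X] at hx ⊢
  refine ⟨PHI_aux_conj_PP S hm hx.1, fun z hz => ?_⟩
  have hm' : m⁻¹ ∈ Subgroup.normalizer (V : Set G) := inv_mem hm
  have hz' : m⁻¹ * z * m ∈ PHI_aux_Z2 S := by
    have := PHI_aux_conj_Z2 S hm' hz
    rwa [inv_inv] at this
  have h1 := hx.2 _ hz'
  calc m * x * m⁻¹ * z = m * (x * (m⁻¹ * z * m)) * m⁻¹ := by group
    _ = m * ((m⁻¹ * z * m) * x) * m⁻¹ := by rw [h1]
    _ = z * (m * x * m⁻¹) := by group

omit [Finite G] in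
theorem PHI_aux_V_le_Z2 (S : Setup V Q) : V ≤ PHI_aux_Z2 S := by
  intro v hv
  refine ⟨S.V_le_PP hv, fun x hx => ?_⟩
  have h1 := (mem_PP.1 hx).2 v hv
  have e : v * x * v⁻¹ * x⁻¹ = 1 := by
    rw [← h1]; group
  rw [e]; exact one_mem _

omit [Finite G] in
theorem PHI_aux_V_le_X (S : Setup V Q) : V ≤ PHI_aux_X S := by
  intro v hv
  rw [PHI_aux_mem_X]
  refine ⟨S.V_le_PP hv, fun z hz => ?_⟩
  exact ((mem_PP.1 hz.1).2 v hv).symm

/-- `X ⊓ Z₂ = V` (by `hmax`) -/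
theorem PHI_aux_inf (S : Setup V Q) : PHI_aux_X S ⊓ PHI_aux_Z2 S = V := by
  apply S.hmax
  · exact le_inf (PHI_aux_V_le_X S) (PHI_aux_V_le_Z2 S)
  · intro a ha
    exact S.PP_le_M ((PHI_aux_mem_X S).1 (Subgroup.mem_inf.1 ha).1).1
  · intro a ha b hb
    exact ((PHI_aux_mem_X S).1 (Subgroup.mem_inf.1 ha).1).2 b (Subgroup.mem_inf.1 hb).2
  · intro m hm a ha
    obtain ⟨h1, h2⟩ := Subgroup.mem_inf.1 ha
    exact Subgroup.mem_inf.2 ⟨PHI_aux_conj_X S hm h1, PHI_aux_conj_Z2 S hm h2⟩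

/-- `[X, P] ≤ X` -/
theorem PHI_aux_comm_X_le (S : Setup V Q) : ⁅PHI_aux_X S, PP V Q⁆ ≤ PHI_aux_X S := by
  rw [Subgroup.commutator_le]
  intro x hx g hg
  have h1 : g * x⁻¹ * g⁻¹ ∈ PHI_aux_X S := PHI_aux_conj_X S (S.PP_le_M hg) (inv_mem hx)
  have e : ⁅x, g⁆ = x * (g * x⁻¹ * g⁻¹) := by
    rw [commutatorElement_def]; group
  rw [e]
  exact mul_mem hx h1

/-- descending induction: a subgroup of `X` some iterated commutator of which with `P` lies in `V` lies in `V` -/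
theorem PHI_aux_descent (S : Setup V Q) (n : ℕ) : ∀ Y : Subgroup G, Y ≤ PHI_aux_X S →
    (fun Z : Subgroup G => ⁅Z, PP V Q⁆)^[n] Y ≤ V → Y ≤ V := by
  induction n with
  | zero => intro Y _ h; exact h
  | succ n ih =>
    intro Y hYX h
    rw [Function.iterate_succ_apply] at h
    have h1 : ⁅Y, PP V Q⁆ ≤ PHI_aux_X S :=
      (Subgroup.commutator_mono hYX le_rfl).trans (PHI_aux_comm_X_le S)
    have h2 : ⁅Y, PP V Q⁆ ≤ V := ih _ h1 h
    intro y hy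
    have hyX := hYX hy
    have hyZ : y ∈ PHI_aux_Z2 S := by
      refine ⟨((PHI_aux_mem_X S).1 hyX).1, fun g hg => ?_⟩
      have := h2 (Subgroup.commutator_mem_commutator hy hg)
      rwa [commutatorElement_def] at this
    have : y ∈ PHI_aux_X S ⊓ PHI_aux_Z2 S := Subgroup.mem_inf.2 ⟨hyX, hyZ⟩
    rwa [PHI_aux_inf S] at this

/-- the iterated commutators of `X` with `P` lie in the lower central series of `P` -/
theorem PHI_aux_lcs (S : Setup V Q) (n : ℕ) :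
    (fun Z : Subgroup G => ⁅Z, PP V Q⁆)^[n] (PHI_aux_X S) ≤ (PP V Q).lowerCentralSeries n := by
  induction n with
  | zero =>
    rw [Function.iterate_zero_apply, Subgroup.lowerCentralSeries_zero]
    exact inf_le_left
  | succ n ih =>
    rw [Function.iterate_succ_apply', Subgroup.lowerCentralSeries_succ]
    exact Subgroup.commutator_mono ih le_rfl

/-- `X = C_P(Z₂) ≤ V` -/
theorem PHI_aux_X_le (S : Setup V Q) : PHI_aux_X S ≤ V := by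
  have : Fact (Nat.Prime 2) := ⟨Nat.prime_two⟩
  have hnil : Group.IsNilpotent ↥(PP V Q) := S.PP_isPGroup.isNilpotent
  obtain ⟨n, hn⟩ := (Subgroup.isNilpotent_iff_lowerCentralSeries (PP V Q)).1 hnil
  apply PHI_aux_descent S n _ le_rfl
  refine (PHI_aux_lcs S n).trans ?_
  rw [hn]
  exact bot_le

/-- for `z ∈ Z₂` the map `x ↦ z x z⁻¹ x⁻¹` is a homomorphism on `P` (its values lie in `V ≤ Z(P)`) -/
def PHI_aux_kappa (S : Setup V Q) (z : G) (hz : z ∈ PHI_aux_Z2 S) : ↥(PP V Q) →* G :=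
  MonoidHom.mk' (fun x => z * (x : G) * z⁻¹ * (x : G)⁻¹) (by
    intro a b
    have hb : z * (b : G) * z⁻¹ * (b : G)⁻¹ ∈ V := hz.2 b b.2
    have hc : Commute (a : G) (z * (b : G) * z⁻¹ * (b : G)⁻¹) := (mem_PP.1 a.2).2 _ hb
    have hc' : (a : G)⁻¹ * (z * (b : G) * z⁻¹ * (b : G)⁻¹) = (z * (b : G) * z⁻¹ * (b : G)⁻¹) * (a : G)⁻¹ :=
      hc.inv_left.eq
    show z * ((a * b : ↥(PP V Q)) : G) * z⁻¹ * ((a * b : ↥(PP V Q)) : G)⁻¹
      = (z * (a : G) * z⁻¹ * (a : G)⁻¹) * (z * (b : G) * z⁻¹ * (b : G)⁻¹)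
    rw [Subgroup.coe_mul]
    calc z * ((a : G) * (b : G)) * z⁻¹ * ((a : G) * (b : G))⁻¹
        = (z * (a : G) * z⁻¹) * ((z * (b : G) * z⁻¹ * (b : G)⁻¹) * (a : G)⁻¹) := by group
      _ = (z * (a : G) * z⁻¹) * ((a : G)⁻¹ * (z * (b : G) * z⁻¹ * (b : G)⁻¹)) := by rw [hc']
      _ = (z * (a : G) * z⁻¹ * (a : G)⁻¹) * (z * (b : G) * z⁻¹ * (b : G)⁻¹) := by group)

omit [Finite G] in
theorem PHI_aux_kappa_apply (S : Setup V Q) (z : G) (hz : z ∈ PHI_aux_Z2 S) (x : ↥(PP V Q)) :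
    PHI_aux_kappa S z hz x = z * (x : G) * z⁻¹ * (x : G)⁻¹ := rfl

/-- PHI: `P/V` is elementary abelian. -/
theorem PHI (S : Setup V Q) : ∀ x ∈ PP V Q, ∀ y ∈ PP V Q, x * y * x⁻¹ * y⁻¹ ∈ V ∧ x * x ∈ V := by
  intro x hx y hy
  have key : ∀ c : ↥(PP V Q), (∀ z (hz : z ∈ PHI_aux_Z2 S), PHI_aux_kappa S z hz c = 1) → (c : G) ∈ V := by
    intro c hc
    apply PHI_aux_X_le S
    rw [PHI_aux_mem_X]
    refine ⟨c.2, fun z hz => ?_⟩
    have h1 : z * (c : G) * z⁻¹ * (c : G)⁻¹ = 1 := hc z hz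
    have e : z * (c : G) = (z * (c : G) * z⁻¹ * (c : G)⁻¹) * ((c : G) * z) := by group
    rw [e, h1, one_mul]
  constructor
  · have h1 := key ((⟨x, hx⟩ : ↥(PP V Q)) * ⟨y, hy⟩ * (⟨x, hx⟩ : ↥(PP V Q))⁻¹ * (⟨y, hy⟩ : ↥(PP V Q))⁻¹) (by
      intro z hz
      rw [map_mul, map_mul, map_mul, map_inv, map_inv]
      have hkx : PHI_aux_kappa S z hz ⟨x, hx⟩ ∈ V := hz.2 x hx
      have hky : PHI_aux_kappa S z hz ⟨y, hy⟩ ∈ V := hz.2 y hy
      have hcomm := S.comm _ hkx _ hky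
      rw [hcomm]
      group)
    simpa using h1
  · have h1 := key ((⟨x, hx⟩ : ↥(PP V Q)) * ⟨x, hx⟩) (by
      intro z hz
      rw [map_mul]
      exact S.sq _ (hz.2 x hx))
    simpa using h1

end Cfsg.Agent.S1786P
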