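import Mathlib
import Cfsg.Prelude.Def_Characters
import Cfsg.Agent.Helper12.LSpWDefs
import Cfsg.Agent.Helper12.LSpWPDefs
import Cfsg.Agent.Helper12.LSLDefs
import Cfsg.Agent.Helper12.RUSpB
import Cfsg.Agent.Helper20.PermCharI
import Cfsg.Agent.Helper25.SpUH
import Cfsg.Agent.Helper12.WGDefs
import Cfsg.Agent.Helper12.WGDefsC
import Cfsg.Agent.Helper12.WGDefsD
import Cfsg.Agent.Helper12.WGStruct
import Cfsg.Agent.Helper24.Rep
import Cfsg.Agent.Helper24.Span
import Cfsg.Agent.Helper24.RealChar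

set_option autoImplicit false

/-! # S2524 part B, piece TRACEPROD: the trace of (isotypic projection of `J`) ∘ (eigenprojection
of `A`). -/

namespace Cfsg.Agent.S2524P

open Matrix Cfsg Cfsg.Agent.S2333P Cfsg.Agent.Helper2.Sp Cfsg.Agent.Helper12.LSp Cfsg.Agent.Helper25
open Cfsg.Agent.Helper12.LSL Cfsg.Agent.Helper20.PermChar

/-- generalised orthogonality against the character of an arbitrary representation -/
theorem traceprod_key {J : Type*} [Group J] [Fintype J] {V : Type*} [AddCommGroup V]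
    [Module ℂ V] [FiniteDimensional ℂ V] (σ : Representation ℂ J V) (ζ : IrrCharacter J) (y : J) :
    ((ζ : J → ℂ) 1 / (Fintype.card J : ℂ)) *
      ∑ g : J, (ζ : J → ℂ) g⁻¹ * σ.character (g * y) =
      (ζ : J → ℂ) y * classInner σ.character (ζ : J → ℂ) := by
  classical
  have hcl : IsClassFunction J (fun k : J => σ.character k⁻¹) := by
    intro g h
    have := Cfsg.Agent.Helper24.IsCharacter.isClassFunction
      (Cfsg.Agent.Helper24.isCharacter_character σ) g⁻¹ h
    show σ.character (h * g * h⁻¹)⁻¹ = σ.character g⁻¹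
    have e : (h * g * h⁻¹)⁻¹ = h * g⁻¹ * h⁻¹ := by group
    rw [e]
    exact this
  have h2 := Cfsg.Agent.Helper24.irr_sum_mul_char_mul ζ (fun k : J => σ.character k⁻¹) hcl y
  have h3 : ∑ g : J, (ζ : J → ℂ) g⁻¹ * σ.character (g * y) =
      ∑ k : J, σ.character k⁻¹ * (ζ : J → ℂ) (k * y) := by
    refine Fintype.sum_equiv ((Equiv.mulRight y).trans (Equiv.inv J)) _ _ ?_
    intro g
    show (ζ : J → ℂ) g⁻¹ * σ.character (g * y) =
      σ.character ((g * y)⁻¹)⁻¹ * (ζ : J → ℂ) ((g * y)⁻¹ * y)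
    rw [inv_inv, mul_comm]
    congr 1
    have := Cfsg.Agent.Helper24.isClassFunction_irr ζ g⁻¹ y⁻¹
    rw [← this]
    congr 1
    group
  have h4 : ∑ k : J, σ.character k⁻¹ * (ζ : J → ℂ) k =
      (Fintype.card J : ℂ) * classInner σ.character (ζ : J → ℂ) := by
    unfold classInner
    rw [Nat.card_eq_fintype_card, ← mul_assoc, mul_inv_cancel₀, one_mul]
    · refine Fintype.sum_equiv (Equiv.inv J) _ _ ?_
      intro k
      show σ.character k⁻¹ * (ζ : J → ℂ) k =
        σ.character k⁻¹ * (starRingEnd ℂ) ((ζ : J → ℂ) k⁻¹)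
      rw [Cfsg.Agent.Helper24.irr_inv, Complex.conj_conj]
    · exact_mod_cast Fintype.card_ne_zero
  have hJ : (Fintype.card J : ℂ) ≠ 0 := by exact_mod_cast Fintype.card_ne_zero
  rw [h3, div_mul_eq_mul_div, h2, h4]
  field_simp

/-- **TRACEPROD**: the trace of (isotypic projection of `J`) ∘ (eigenprojection of `A`) -/
theorem trace_centIdem_projOp {J : Type*} [Group J] [Fintype J] {V : Type*} [AddCommGroup V]
    [Module ℂ V] [FiniteDimensional ℂ V] {A : Type*} [Group A] [Fintype A]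
    (σ : Representation ℂ J V) (U : A →* J) (l : A →* ℂ) (ζ : IrrCharacter J) :
    LinearMap.trace ℂ V (centIdem σ (ζ : J → ℂ) * projOp σ U l) =
      classInner σ.character (ζ : J → ℂ) *
        classInner (fun a => (ζ : J → ℂ) (U a)) (fun a => l a) := by
  classical
  have h1 : centIdem σ (ζ : J → ℂ) * projOp σ U l =
      ((ζ : J → ℂ) 1 / (Fintype.card J : ℂ)) • ((Fintype.card A : ℂ)⁻¹ •
        ∑ a : A, (starRingEnd ℂ (l a)) • ∑ g : J, (ζ : J → ℂ) g⁻¹ • σ (g * U a)) := by
    unfold centIdem projOp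
    rw [smul_mul_assoc, mul_smul_comm, Finset.mul_sum]
    congr 2
    refine Finset.sum_congr rfl fun a _ => ?_
    rw [mul_smul_comm, Finset.sum_mul]
    congr 1
    refine Finset.sum_congr rfl fun g _ => ?_
    rw [smul_mul_assoc, map_mul]
  have h2 : LinearMap.trace ℂ V (centIdem σ (ζ : J → ℂ) * projOp σ U l) =
      (Fintype.card A : ℂ)⁻¹ * ∑ a : A, (starRingEnd ℂ (l a)) *
        (((ζ : J → ℂ) 1 / (Fintype.card J : ℂ)) *
          ∑ g : J, (ζ : J → ℂ) g⁻¹ * σ.character (g * U a)) := by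
    rw [h1, map_smul, map_smul, map_sum, smul_eq_mul, smul_eq_mul, Finset.mul_sum, Finset.mul_sum,
      Finset.mul_sum]
    refine Finset.sum_congr rfl fun a _ => ?_
    rw [map_smul, map_sum, smul_eq_mul]
    have : ∑ g : J, (LinearMap.trace ℂ V) ((ζ : J → ℂ) g⁻¹ • σ (g * U a)) =
        ∑ g : J, (ζ : J → ℂ) g⁻¹ * σ.character (g * U a) := by
      refine Finset.sum_congr rfl fun g _ => ?_
      rw [map_smul, smul_eq_mul]
      rfl
    rw [this]
    ring
  rw [h2]
  simp_rw [traceprod_key σ ζ]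
  have h5 : classInner (fun a => (ζ : J → ℂ) (U a)) (fun a => l a) =
      (Fintype.card A : ℂ)⁻¹ * ∑ a : A, (ζ : J → ℂ) (U a) * (starRingEnd ℂ) (l a) := by
    unfold classInner
    rw [Nat.card_eq_fintype_card]
  have h6 : ∑ a : A, (starRingEnd ℂ) (l a) *
      ((ζ : J → ℂ) (U a) * classInner σ.character (ζ : J → ℂ)) =
      classInner σ.character (ζ : J → ℂ) *
        ∑ a : A, (ζ : J → ℂ) (U a) * (starRingEnd ℂ) (l a) := by
    rw [Finset.mul_sum]
    refine Finset.sum_congr rfl fun a _ => ?_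
    ring
  rw [h5, h6]
  ring

end Cfsg.Agent.S2524P
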