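import Mathlib
import Cfsg.Prelude.Def_Characters
import Cfsg.Agent.Helper12.WGDefs
import Cfsg.Agent.Helper12.WGDefsC
import Cfsg.Agent.Helper12.SL2TableOdd
import Cfsg.Agent.Helper12.SL2Half
import Cfsg.Agent.Helper12.SL2Inv
import Cfsg.Agent.Helper3.WGBaseDefs
import Cfsg.Agent.S0244

set_option autoImplicit false

/-! # S2524 chapter BASE, piece BASE-ISO: `Sp₂(F) ≅ SL₂(F)`. -/

namespace Cfsg.Agent.S2524P

open Matrix Cfsg Cfsg.Agent.S2333P Cfsg.Agent.Helper12

open scoped ComplexConjugate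

variable {F : Type*} [Field F] [Fintype F]

local notation "S2" => Matrix.SpecialLinearGroup (Fin 2) F

/-- the bijection `Fin 1 ⊕ Fin 1 ≃ Fin 2` -/
def base_iso_idx : Fin 1 ⊕ Fin 1 ≃ Fin 2 where
  toFun := Sum.elim (fun _ => 0) (fun _ => 1)
  invFun := ![Sum.inl 0, Sum.inr 0]
  left_inv := by
    intro x
    rcases x with x | x <;> fin_cases x <;> rfl
  right_inv := by
    intro x
    fin_cases x <;> rfl

/-- the isomorphism `Sp₂(F) ≅ SL₂(F)` -/
def base_iso_equiv (F : Type*) [Field F] :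
    ↥(symplecticGroup (Fin 1) F) ≃* Matrix.SpecialLinearGroup (Fin 2) F where
  toFun A := ⟨Matrix.reindex base_iso_idx base_iso_idx A.1, by
    rw [Matrix.det_reindex_self]
    exact (Cfsg.Agent.S0244.result A.1).1 A.2⟩
  invFun B := ⟨Matrix.reindex base_iso_idx.symm base_iso_idx.symm B.1, by
    rw [Cfsg.Agent.S0244.result, Matrix.det_reindex_self]
    exact B.2⟩
  left_inv A := by
    apply Subtype.ext
    simp
  right_inv B := by
    apply Subtype.ext
    simp
  map_mul' A B := by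
    apply Subtype.ext
    show Matrix.reindex base_iso_idx base_iso_idx (A.1 * B.1) =
      Matrix.reindex base_iso_idx base_iso_idx A.1 * Matrix.reindex base_iso_idx base_iso_idx B.1
    rw [Matrix.reindex_apply, Matrix.reindex_apply, Matrix.reindex_apply,
      Matrix.submatrix_mul_equiv]

/-- **BASE-ISO**: `Sp₂(F) ≅ SL₂(F)`, mapping the Siegel unipotent `US (b)` to `u_b` -/
theorem base_exists_iso :
    ∃ e : ↥(symplecticGroup (Fin 1) F) ≃* S2,
      ∀ b : F, e (US 1 F (Multiplicative.ofAdd (base_sym1 b))) = borelMkSL (1 : Fˣ) b := by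
  refine ⟨base_iso_equiv F, fun b => ?_⟩
  apply Subtype.ext
  show Matrix.reindex base_iso_idx base_iso_idx
    ((US 1 F (Multiplicative.ofAdd (base_sym1 b)) : symplecticGroup (Fin 1) F) :
      Matrix (Fin 1 ⊕ Fin 1) (Fin 1 ⊕ Fin 1) F) = !![((1 : Fˣ) : F), b; 0, (((1 : Fˣ)⁻¹ : Fˣ) : F)]
  rw [US_val, Cfsg.Agent.Helper25.SpU.uS]
  ext i j
  fin_cases i <;> fin_cases j <;>
    simp [base_iso_idx, Matrix.reindex_apply, base_sym1_apply]

end Cfsg.Agent.S2524P
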