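import Mathlib
import Cfsg.Prelude.Def_Characters
import Cfsg.Agent.Helper7.S2333Defs
import Cfsg.Agent.Helper7.S2333Basic
import Cfsg.Agent.Helper12.WGDefs
import Cfsg.Agent.Helper13.WGGapDefs

set_option autoImplicit false

/-! # S2524 chapter GAP, piece GAP-RANK: a symmetric matrix all of whose pairs of vectors have
discriminant zero is of the form `c x xᵀ` (odd characteristic). -/

namespace Cfsg.Agent.S2524P

open Matrix Cfsg Cfsg.Agent.S2333P

variable {F : Type*} [Field F] [Fintype F]

/-- the polar form of a symmetric matrix on the standard basis -/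
theorem gap_rank_polar_single {n : ℕ} (T : ↥(SymM n F)) (i j : Fin n) :
    polar (qf T.1) (Pi.single i 1) (Pi.single j 1) = 2 * T.1 i j := by
  have hT : T.1ᵀ = T.1 := T.2
  rw [polar_qf, hT, Matrix.mulVec_single_one, single_one_dotProduct]
  simp only [Matrix.col_apply, Matrix.add_apply]
  ring

/-- **GAP-RANK**: a symmetric matrix which is not of the form `c x xᵀ` has a pair of vectors with
nonzero discriminant -/
theorem gap_exists_pair_of_not_rk1 (h2 : (2 : F) ≠ 0) {n : ℕ} (T : ↥(SymM n F))
    (hT : ¬ ∃ (c : F) (x : Fin n → F), T = rk1 c x) :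
    ∃ u v : Fin n → F, 4 * qf T.1 u * qf T.1 v - (polar (qf T.1) u v) ^ 2 ≠ 0 := by
  by_contra hcon
  push Not at hcon
  apply hT
  have h4 : (4 : F) ≠ 0 := by
    have : (4 : F) = 2 * 2 := by norm_num
    rw [this]
    exact mul_ne_zero h2 h2
  by_cases h0 : ∀ u, qf T.1 u = 0
  · -- the form vanishes: `T = 0`
    refine ⟨0, 0, ?_⟩
    apply Subtype.ext
    ext i j
    rw [rk1_apply, zero_mul]
    have h1 := hcon (Pi.single i 1) (Pi.single j 1)
    rw [h0, mul_zero, zero_mul, zero_sub, neg_eq_zero, gap_rank_polar_single] at h1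
    have h3 : 2 * T.1 i j = 0 := by
      rcases pow_eq_zero_iff (two_ne_zero) |>.1 h1 with h
      exact h
    rcases mul_eq_zero.1 h3 with h | h
    · exact absurd h h2
    · exact h
  · push Not at h0
    obtain ⟨u, hu⟩ := h0
    -- polarisation
    have hpol : ∀ v w : Fin n → F, 2 * qf T.1 u * polar (qf T.1) v w =
        polar (qf T.1) u v * polar (qf T.1) u w := by
      intro v w
      have e1 := hcon u v
      have e2 := hcon u w
      have e3 := hcon u (v + w)
      rw [qf_add, polar_add_right] at e3
      have h5 : (2 : F) * (2 * qf T.1 u * polar (qf T.1) v w -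
          polar (qf T.1) u v * polar (qf T.1) u w) = 0 := by
        linear_combination e3 - e1 - e2
      rcases mul_eq_zero.1 h5 with h | h
      · exact absurd h h2
      · exact sub_eq_zero.1 h
    refine ⟨(4 * qf T.1 u)⁻¹, fun i => polar (qf T.1) u (Pi.single i 1), ?_⟩
    apply Subtype.ext
    ext i j
    rw [rk1_apply]
    have e := hpol (Pi.single i 1) (Pi.single j 1)
    rw [gap_rank_polar_single] at e
    have hne : 4 * qf T.1 u ≠ 0 := mul_ne_zero h4 hu
    rw [← e]
    field_simp
    ring

end Cfsg.Agent.S2524P
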