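import Mathlib
import Cfsg.Prelude.Def_GeometricClasses
import Cfsg.Prelude.Def_Classical
import Cfsg.Agent.Helper6.S5992Defs
import Cfsg.Agent.Helper27.Inv2Defs
import Cfsg.Agent.Helper28.Spin6
import Cfsg.Agent.Helper11.AltRank

/-! Inv2 board, piece A2RK: for an `a`-type involution (`Q ∘ (t - 1) = 0`) the rank of `t - 1` on
an invariant nondegenerate subspace is even. -/

set_option autoImplicit false

namespace Cfsg.Agent.Inv2P

open Cfsg.Agent.Helper2.SympInvol Cfsg.Agent.Helper2.SympUnits Cfsg.Agent.S5961P Cfsg.Agent.S5992P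
open Cfsg.Agent.Helper28.Spin

namespace A2RK

variable {F V : Type*} [Field F] [AddCommGroup V] [Module F V]

/-- rank–nullity for the restriction of an endomorphism to a subspace -/
theorem finrank_inf_ker_add [FiniteDimensional F V] (N : Module.End F V) (W : Submodule F V) :
    Module.finrank F ↥(W ⊓ LinearMap.ker N) + Module.finrank F (W.map N) =
      Module.finrank F W := by
  have h := LinearMap.finrank_range_add_finrank_ker (N.domRestrict W)
  rw [LinearMap.range_domRestrict, LinearMap.ker_domRestrict] at h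
  have h1 : (LinearMap.ker N).comap W.subtype = (W ⊓ LinearMap.ker N).comap W.subtype := by
    rw [Submodule.comap_inf, Submodule.comap_subtype_self, top_inf_eq]
  rw [h1, (Submodule.comapSubtypeEquivOfLe (inf_le_left : W ⊓ LinearMap.ker N ≤ W)).finrank_eq]
    at h
  omega

end A2RK

open A2RK in
/-- A2RK: for an `a`-type involution the rank on an invariant nondegenerate `W` is even, and `N W`
is a totally singular subspace of `W` -/
theorem a2_rank {F V : Type*} [Field F] [AddCommGroup V] [Module F V]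
    [FiniteDimensional F V] (h2 : (2 : F) = 0) (Q : QuadraticForm F V) (t : Module.End F V)
    (ht : IsInv2 Q t) (ha : ∀ v, Q ((t - 1) v) = 0) (W : Submodule F V) (hW : Nondeg (PB Q) W)
    (hWt : InvOn t W) :
    Even (rk t W) ∧ TS Q (W.map (t - 1)) ∧ 2 * rk t W ≤ Module.finrank F W ∧
    Module.finrank F ↥(W ⊓ LinearMap.ker (t - 1)) + rk t W = Module.finrank F W := by
  have hNW : ∀ v ∈ W, (t - 1) v ∈ W := (invOn_iff_N t W).mp hWt
  have hrn : Module.finrank F ↥(W ⊓ LinearMap.ker (t - 1)) + rk t W = Module.finrank F W :=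
    finrank_inf_ker_add (t - 1) W
  have hle : W.map (t - 1) ≤ W ⊓ LinearMap.ker (t - 1) := by
    rintro _ ⟨v, hv, rfl⟩
    exact ⟨hNW v hv, LinearMap.mem_ker.mpr (N_N_apply h2 ht v)⟩
  have hrkle : rk t W ≤ Module.finrank F ↥(W ⊓ LinearMap.ker (t - 1)) :=
    Submodule.finrank_mono hle
  refine ⟨?_, ?_, by omega, hrn⟩
  · -- the alternating form `φ (u, v) = B (u, N v)` on `W`
    obtain ⟨φ, hφ⟩ : ∃ φ : ↥W →ₗ[F] ↥W →ₗ[F] F,
        φ = (PB Q).compl₁₂ W.subtype ((t - 1) ∘ₗ W.subtype) := ⟨_, rfl⟩
    have hφap : ∀ u v : W, φ u v = PB Q (u : V) ((t - 1) (v : V)) := by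
      intro u v; rw [hφ]; rfl
    have halt : ∀ u : W, φ u u = 0 := by
      intro u
      rw [hφap, ← Q_N h2 ht, ha]
    have hker : LinearMap.ker φ = (W ⊓ LinearMap.ker (t - 1)).comap W.subtype := by
      ext u
      rw [LinearMap.mem_ker, Submodule.mem_comap, Submodule.mem_inf, LinearMap.mem_ker]
      constructor
      · intro hu
        refine ⟨u.2, ?_⟩
        by_contra hne
        obtain ⟨v, hv, hv0⟩ := hW _ (hNW u.1 u.2) hne
        apply hv0
        have := LinearMap.congr_fun hu ⟨v, hv⟩
        rw [hφap, LinearMap.zero_apply, ← PB_N_left ht] at this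
        exact this
      · rintro ⟨-, hu⟩
        apply LinearMap.ext
        intro v
        rw [hφap, LinearMap.zero_apply, ← PB_N_left ht]
        have : (t - 1) (u : V) = 0 := hu
        rw [this, map_zero, LinearMap.zero_apply]
    obtain ⟨k, hk⟩ := Cfsg.Agent.Helper11.AltRank.alt_finrank (Module.finrank F W) ↥W φ halt rfl
    rw [hker, (Submodule.comapSubtypeEquivOfLe
      (inf_le_left : W ⊓ LinearMap.ker (t - 1) ≤ W)).finrank_eq] at hk
    exact ⟨k, by omega⟩
  · rintro _ ⟨v, -, rfl⟩
    exact ha v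

end Cfsg.Agent.Inv2P
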