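import Mathlib
import Cfsg.Prelude.Def_GeometricClasses
import Cfsg.Prelude.Def_Classical
import Cfsg.Agent.Helper6.S5992Defs
import Cfsg.Agent.Helper27.Inv2Defs
import Cfsg.Agent.Helper28.Spin6
import Cfsg.Agent.Helper15.S5992SUPND
import Cfsg.Agent.Helper13.S5973HYPSUM

/-! TYPESUM in every characteristic: the Witt type is multiplicative on orthogonal sums of
nondegenerate even-dimensional subspaces (bridge from helper13's HYPSUM to helper6's `Plus`). -/

set_option autoImplicit false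

namespace Cfsg.Agent.Inv2P

open Cfsg.Agent.Helper2.SympInvol Cfsg.Agent.Helper2.SympUnits Cfsg.Agent.S5961P Cfsg.Agent.S5992P
open Cfsg.Agent.Helper28.Spin

namespace TYPESUM2

open Cfsg.Agent.S5973P Cfsg.Agent.S5973P.HYPSUM

variable {F V : Type*} [Field F] [AddCommGroup V] [Module F V]

theorem plus_iff_hypIn (Q : QuadraticForm F V) (U : Submodule F V) : Plus Q U ↔ HypIn Q U :=
  Iff.rfl

theorem plus_iff_isHyp_res (Q : QuadraticForm F V) (U : Submodule F V) :
    Plus Q U ↔ IsHyp (resQ Q U) :=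
  ⟨fun h => res_of_hypIn Q U h, fun h => hypIn_of_res Q U h⟩

/-- `Plus` for a subspace of a subspace -/
theorem plus_comap_iff [FiniteDimensional F V] (Q : QuadraticForm F V) (U W : Submodule F V)
    (hWU : W ≤ U) : Plus (resQ Q U) (W.comap U.subtype) ↔ Plus Q W := by
  have hmap : (W.comap U.subtype).map U.subtype = W := by
    rw [Submodule.map_comap_subtype, inf_eq_right.mpr hWU]
  constructor
  · intro h
    have := hypIn_map Q U (W.comap U.subtype) h
    rw [hmap] at this
    exact this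
  · rintro ⟨T, hTW, hT, hdim⟩
    refine ⟨T.comap U.subtype, Submodule.comap_mono hTW, ?_, ?_⟩
    · intro t ht
      rw [resQ_apply]
      exact hT _ ht
    · rw [(Submodule.comapSubtypeEquivOfLe (hTW.trans hWU)).finrank_eq,
        (Submodule.comapSubtypeEquivOfLe hWU).finrank_eq, hdim]

/-- TYPESUM in every characteristic -/
theorem plus_sup_iff_gen [Fintype F] [FiniteDimensional F V] (Q : QuadraticForm F V)
    (W₁ W₂ : Submodule F V) (h₁ : Nondeg (PB Q) W₁) (h₂ : Nondeg (PB Q) W₂)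
    (ho : Orth (PB Q) W₁ W₂) (he₁ : Even (Module.finrank F W₁))
    (he₂ : Even (Module.finrank F W₂)) :
    Plus Q (W₁ ⊔ W₂) ↔ (Plus Q W₁ ↔ Plus Q W₂) := by
  obtain ⟨hUnd, hdisj, -⟩ := nondeg_sup_orth Q W₁ W₂ h₁ h₂ ho
  obtain ⟨U, hU⟩ : ∃ U : Submodule F V, U = W₁ ⊔ W₂ := ⟨_, rfl⟩
  rw [← hU] at hUnd ⊢
  have hW₁U : W₁ ≤ U := by rw [hU]; exact le_sup_left
  have hW₂U : W₂ ≤ U := by rw [hU]; exact le_sup_right
  have hpolar : ∀ a b : U, QuadraticMap.polar (resQ Q U) a b = QuadraticMap.polar Q a.1 b.1 := by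
    intro a b
    simp only [QuadraticMap.polar, resQ_apply, Submodule.coe_add]
  have hND : ND (resQ Q U) := by
    constructor
    · intro x hx
      by_contra hx0
      obtain ⟨v, hv, hne⟩ := hUnd x.1 x.2 (fun h => hx0 (Subtype.ext h))
      apply hne
      have := hx ⟨v, hv⟩
      rw [QuadraticMap.polarBilin_apply_apply, hpolar] at this
      exact this
    · intro y hy
      by_contra hy0
      obtain ⟨v, hv, hne⟩ := hUnd y.1 y.2 (fun h => hy0 (Subtype.ext h))
      apply hne
      have := hy ⟨v, hv⟩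
      rw [QuadraticMap.polarBilin_apply_apply, hpolar, QuadraticMap.polar_comm] at this
      exact this
  have hcompl : IsCompl (W₁.comap U.subtype) (W₂.comap U.subtype) := by
    constructor
    · rw [Submodule.disjoint_def]
      intro x hx1 hx2
      have : (x : V) ∈ W₁ ⊓ W₂ := ⟨hx1, hx2⟩
      rw [hdisj.eq_bot] at this
      exact Subtype.ext ((Submodule.mem_bot F).mp this)
    · rw [codisjoint_iff, eq_top_iff]
      intro x _
      have hx : (x : V) ∈ W₁ ⊔ W₂ := by rw [← hU]; exact x.2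
      obtain ⟨a, ha, b, hb, hab⟩ := Submodule.mem_sup.mp hx
      have : x = ⟨a, hW₁U ha⟩ + ⟨b, hW₂U hb⟩ := Subtype.ext hab.symm
      rw [this]
      exact Submodule.add_mem _ (Submodule.mem_sup_left ha) (Submodule.mem_sup_right hb)
  have horth : POrth (resQ Q U) (W₁.comap U.subtype) (W₂.comap U.subtype) := by
    intro a ha b hb
    rw [hpolar]
    exact ho a.1 ha b.1 hb
  have hC : Even (Module.finrank F (W₁.comap U.subtype)) := by
    rw [(Submodule.comapSubtypeEquivOfLe hW₁U).finrank_eq]; exact he₁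
  have hN : Even (Module.finrank F (W₂.comap U.subtype)) := by
    rw [(Submodule.comapSubtypeEquivOfLe hW₂U).finrank_eq]; exact he₂
  have key := isHyp_iff_of_orth (resQ Q U) hND _ _ hcompl horth hC hN
  rw [plus_iff_isHyp_res Q U, key, ← plus_iff_isHyp_res, ← plus_iff_isHyp_res,
    plus_comap_iff Q U W₁ hW₁U, plus_comap_iff Q U W₂ hW₂U]

end TYPESUM2

/-- TYPESUM2: helper6's TYPESUM without `(2 : F) ≠ 0` (from helper13's HYPSUM `isHyp_iff_of_orth`) -/
theorem plus_sup_iff2 {F V : Type*} [Field F] [Fintype F] [AddCommGroup V] [Module F V]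
    [FiniteDimensional F V] (Q : QuadraticForm F V) (W₁ W₂ : Submodule F V)
    (h₁ : Nondeg (PB Q) W₁) (h₂ : Nondeg (PB Q) W₂) (ho : Orth (PB Q) W₁ W₂)
    (he₁ : Even (Module.finrank F W₁)) (he₂ : Even (Module.finrank F W₂)) :
    Plus Q (W₁ ⊔ W₂) ↔ (Plus Q W₁ ↔ Plus Q W₂) :=
  TYPESUM2.plus_sup_iff_gen Q W₁ W₂ h₁ h₂ ho he₁ he₂

end Cfsg.Agent.Inv2P
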