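import Mathlib
import Cfsg.Agent.Helper29.S2264Defs
import Cfsg.Agent.Helper19.S2264RECIP1
import Cfsg.Agent.Helper26.S2264RECIP2
import Cfsg.Agent.Helper7.S2264FACS

/-! S2264 / S2265, piece REVFAC: the factors of a self-reciprocal polynomial are permuted by
`recip`, with equal multiplicities. -/

set_option autoImplicit false

namespace Cfsg.Agent.S2264P

open Polynomial
open scoped Classical

noncomputable section

variable {F : Type*} [Field F]

namespace REVFAC

theorem recip_dvd {μ f : F[X]} (hμ : Good μ) (h : f ∣ μ) : recip f ∣ μ := by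
  obtain ⟨g, hg⟩ := h
  have h1 : recip μ = recip f * recip g := by rw [hg, recip_mul]
  rw [hμ.selfrec] at h1
  exact ⟨recip g, h1⟩

theorem mult_le_mult_recip {μ f : F[X]} (hμ : Good μ) (hf : f ∈ facs μ) (hf' : recip f ∈ facs μ) :
    mult μ f ≤ mult μ (recip f) := by
  have hμ0 : μ ≠ 0 := hμ.monic.ne_zero
  obtain ⟨hirr, hmon, -⟩ := (mem_facs hμ0).mp hf
  obtain ⟨hirr', hmon', -⟩ := (mem_facs hμ0).mp hf'
  have h1 : f ^ mult μ f ∣ μ := (pow_dvd_iff_le_mult hμ0 hirr hmon _).mpr le_rfl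
  have h2 := recip_dvd hμ h1
  rw [recip_pow] at h2
  exact (pow_dvd_iff_le_mult hμ0 hirr' hmon' _).mp h2

end REVFAC

open REVFAC

theorem recip_mem_facs {μ f : F[X]} (hμ : Good μ) (hf : f ∈ facs μ) : recip f ∈ facs μ := by
  have hμ0 : μ ≠ 0 := hμ.monic.ne_zero
  obtain ⟨hirr, hmon, hdvd⟩ := (mem_facs hμ0).mp hf
  have h0 := coeff_zero_ne_zero_of_mem_facs hμ.coeff0 hf
  exact (mem_facs hμ0).mpr ⟨recip_irreducible hirr h0, recip_monic h0, recip_dvd hμ hdvd⟩

theorem mult_recip {μ f : F[X]} (hμ : Good μ) (hf : f ∈ facs μ) :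
    mult μ (recip f) = mult μ f := by
  have hμ0 : μ ≠ 0 := hμ.monic.ne_zero
  obtain ⟨hirr, hmon, hdvd⟩ := (mem_facs hμ0).mp hf
  have h0 := coeff_zero_ne_zero_of_mem_facs hμ.coeff0 hf
  have hf' := recip_mem_facs hμ hf
  apply le_antisymm
  · have h := mult_le_mult_recip hμ hf' (by rw [recip_recip hmon h0]; exact hf)
    rw [recip_recip hmon h0] at h
    exact h
  · exact mult_le_mult_recip hμ hf hf'

end

end Cfsg.Agent.S2264P
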