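import Mathlib
import Cfsg.Prelude.Def_Classical
import Cfsg.Agent.Helper13.S2511Defs
import Cfsg.Agent.S2495
import Cfsg.Agent.Helper14.S2496CENTER

/-! S2511 piece MKPOWU (helper19): `(π A)^j = 1` in `PSU_n(q)` iff the minimal polynomial of the
matrix of `A` divides some `X^j - c`, `c ≠ 0`.  Port of `Helper19/S2510MKPOW`. -/

set_option autoImplicit false

namespace Cfsg.Agent.S2511P

open Polynomial Matrix
open Cfsg.Agent.S2263P Cfsg.Agent.S2264P Cfsg.Agent.S2496P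

section layer0

variable {F : Type*} [Field F] [Fintype F] {n q : ℕ}

namespace MKPOWU

theorem aeval_X_pow_sub_C (A : Matrix (Fin n) (Fin n) F) (j : ℕ) (c : F) :
    aeval A (X ^ j - C c : F[X]) = A ^ j - c • (1 : Matrix (Fin n) (Fin n) F) := by
  rw [map_sub, map_pow, aeval_X, aeval_C, Algebra.algebraMap_eq_smul_one]

/-- `(π A)^j = 1` iff `(mat A)^j` is a scalar matrix. -/
theorem mk_pow_eq_one_iff (hF : Fintype.card F = q ^ 2) (hn : 2 ≤ n) (A : ↥(Cfsg.SU n F q))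
    (j : ℕ) :
    (QuotientGroup.mk A : Cfsg.PSU n F q) ^ j = 1 ↔
      ∃ c : F, mat A ^ j = c • (1 : Matrix (Fin n) (Fin n) F) := by
  rw [← QuotientGroup.mk_pow, QuotientGroup.eq_one_iff,
    Cfsg.Agent.S2496P.mem_center_SU_iff hF hn (A ^ j)]
  have h : (((A ^ j : ↥(Cfsg.SU n F q)) : Matrix.SpecialLinearGroup (Fin n) F) :
      Matrix (Fin n) (Fin n) F) = mat A ^ j := mat_pow A j
  rw [h]

end MKPOWU

/-- MKPOWU (S-M): port of `Cfsg/Agent/Helper19/S2510MKPOW.lean`; centre of `SU_n` = scalars: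
`Cfsg.Agent.S2496P.mem_center_SU_iff` (`Cfsg.Agent.Helper14.S2496CENTER`). -/
theorem mk_pow_eq_one_iff_dvd (hF : Fintype.card F = q ^ 2) (hn : 2 ≤ n) (A : ↥(Cfsg.SU n F q))
    (j : ℕ) :
    (QuotientGroup.mk A : Cfsg.PSU n F q) ^ j = 1 ↔
      ∃ c : F, c ≠ 0 ∧ minpoly F (mat A) ∣ X ^ j - C c := by
  rw [MKPOWU.mk_pow_eq_one_iff hF hn A j]
  constructor
  · rintro ⟨c, hc⟩
    refine ⟨c, ?_, ?_⟩
    · rintro rfl
      have h1 : (mat (A ^ j)).det = 1 := mat_det (A ^ j)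
      haveI : Nonempty (Fin n) := ⟨⟨0, by omega⟩⟩
      rw [mat_pow, hc, zero_smul, Matrix.det_zero] at h1
      exact zero_ne_one h1
    · apply minpoly.dvd
      rw [MKPOWU.aeval_X_pow_sub_C, hc, sub_self]
  · rintro ⟨c, -, hdvd⟩
    refine ⟨c, ?_⟩
    obtain ⟨g, hg⟩ := hdvd
    have h1 : aeval (mat A) (X ^ j - C c : F[X]) = 0 := by
      rw [hg, map_mul, minpoly.aeval, zero_mul]
    rw [MKPOWU.aeval_X_pow_sub_C, sub_eq_zero] at h1
    exact h1

end layer0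

end Cfsg.Agent.S2511P
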