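import Mathlib
import Cfsg.Prelude.Def_Classical
import Cfsg.Agent.Helper13.S2511Defs
import Cfsg.Agent.S2495
import Cfsg.Agent.Helper6.S2263MULTSYM
import Cfsg.Agent.Helper7.S2264FACS

/-! S2511 piece SPLITU (helper19): a `dag`-self-dual polynomial with more than one `dag`-orbit of
irreducible factors splits as a product of two coprime non-units, both `dag`-stable. -/

set_option autoImplicit false

namespace Cfsg.Agent.S2511P

open Polynomial Matrix
open Cfsg.Agent.S2263P Cfsg.Agent.S2264P Cfsg.Agent.S2496P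

section layerG

namespace SPLITU

variable {F : Type*} [Field F]

theorem dag_one (σ : F ≃+* F) : dag σ (1 : F[X]) = 1 := by
  unfold dag recip
  have h : (1 : F[X]).reverse = 1 := by
    have := Polynomial.reverse_C (1 : F)
    rwa [Polynomial.C_1] at this
  rw [Polynomial.map_one, h]
  simp

/-- `dag σ` as a monoid homomorphism -/
noncomputable def dagHom (σ : F ≃+* F) : F[X] →* F[X] where
  toFun := dag σ
  map_one' := dag_one σ
  map_mul' := MULTSYM.dag_mul σ

theorem dag_prod (σ : F ≃+* F) {ι : Type*} (S : Finset ι) (f : ι → F[X]) :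
    dag σ (∏ i ∈ S, f i) = ∏ i ∈ S, dag σ (f i) :=
  map_prod (dagHom σ) f S

/-- the product of the primary parts over a `dag`-stable set of factors is `dag`-stable -/
theorem dag_prod_stable (σ : F ≃+* F) (hσ2 : ∀ x, σ (σ x) = x) {μ : F[X]} (hμ : UGood σ μ)
    (S : Finset F[X]) (hS : S ⊆ facs μ) (hst : ∀ φ ∈ S, dag σ φ ∈ S) :
    dag σ (∏ φ ∈ S, φ ^ mult μ φ) = ∏ φ ∈ S, φ ^ mult μ φ := by
  rw [dag_prod]
  refine Finset.prod_bij' (fun φ _ => dag σ φ) (fun φ _ => dag σ φ) hst hst ?_ ?_ ?_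
  · intro a ha
    exact (mult_dag σ hσ2 hμ (hS ha)).2.2.1
  · intro a ha
    exact (mult_dag σ hσ2 hμ (hS ha)).2.2.1
  · intro a ha
    rw [MULTSYM.dag_pow, (mult_dag σ hσ2 hμ (hS ha)).2.1]

end SPLITU

/-- SPLITU (M): `¬ Single`: pick `f g' ∈ facs μ` with `g' ≠ f`, `g' ≠ dag σ f`; `g := f ^ mult μ f` (times
`(dag σ f) ^ mult μ (dag σ f)` if `dag σ f ≠ f`), `h := μ / g` (product of the other `φ ^ mult μ φ`,
`Cfsg.Agent.S2264P.prod_facs`).  `dag σ g = g` by `MULTSYM.dag_mul/dag_pow/mult_dag`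
(`Cfsg.Agent.Helper6.S2263MULTSYM`); `dag σ h = h` by cancelling `g` in `dag σ μ = μ`. -/
theorem exists_split {F : Type*} [Field F] (σ : F ≃+* F) (hσ2 : ∀ x, σ (σ x) = x) {μ : F[X]}
    (hμ : UGood σ μ) (hns : ¬ Single σ μ) :
    ∃ g h : F[X], ¬ IsUnit g ∧ ¬ IsUnit h ∧ IsCoprime g h ∧ μ = g * h ∧ dag σ g = g ∧
      dag σ h = h := by
  classical
  have hμ0 : μ ≠ 0 := hμ.monic.ne_zero
  unfold Single at hns
  push Not at hns
  obtain ⟨f, hf, g', hg', hne1, hne2⟩ := hns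
  have hdf := mult_dag σ hσ2 hμ hf
  set S : Finset F[X] := {f, dag σ f} with hSdef
  have hS : S ⊆ facs μ := by
    intro φ hφ
    rw [hSdef, Finset.mem_insert, Finset.mem_singleton] at hφ
    rcases hφ with rfl | rfl
    · exact hf
    · exact hdf.1
  have hSst : ∀ φ ∈ S, dag σ φ ∈ S := by
    intro φ hφ
    rw [hSdef, Finset.mem_insert, Finset.mem_singleton] at hφ ⊢
    rcases hφ with rfl | rfl
    · right; rfl
    · left; exact hdf.2.2.1
  set T : Finset F[X] := facs μ \ S with hTdef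
  have hT : T ⊆ facs μ := Finset.sdiff_subset
  have hTst : ∀ φ ∈ T, dag σ φ ∈ T := by
    intro φ hφ
    rw [hTdef, Finset.mem_sdiff] at hφ ⊢
    have hd := mult_dag σ hσ2 hμ hφ.1
    refine ⟨hd.1, fun hin => hφ.2 ?_⟩
    have := hSst _ hin
    rwa [hd.2.2.1] at this
  have hfS : f ∈ S := by
    rw [hSdef]; exact Finset.mem_insert_self _ _
  have hgT : g' ∈ T := by
    rw [hTdef, Finset.mem_sdiff]
    refine ⟨hg', fun hin => ?_⟩
    rw [hSdef, Finset.mem_insert, Finset.mem_singleton] at hin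
    rcases hin with h | h
    · exact hne1 h
    · exact hne2 h
  refine ⟨∏ φ ∈ S, φ ^ mult μ φ, ∏ φ ∈ T, φ ^ mult μ φ, ?_, ?_, ?_, ?_,
    SPLITU.dag_prod_stable σ hσ2 hμ S hS hSst, SPLITU.dag_prod_stable σ hσ2 hμ T hT hTst⟩
  · intro hu
    have h1 : f ∣ ∏ φ ∈ S, φ ^ mult μ φ :=
      (dvd_pow_self f (by have := mult_pos hf; omega)).trans (Finset.dvd_prod_of_mem _ hfS)
    exact ((mem_facs hμ0).1 hf).1.not_isUnit (isUnit_of_dvd_unit h1 hu)
  · intro hu
    have h1 : g' ∣ ∏ φ ∈ T, φ ^ mult μ φ :=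
      (dvd_pow_self g' (by have := mult_pos hg'; omega)).trans (Finset.dvd_prod_of_mem _ hgT)
    exact ((mem_facs hμ0).1 hg').1.not_isUnit (isUnit_of_dvd_unit h1 hu)
  · apply IsCoprime.prod_left
    intro φ hφ
    apply IsCoprime.prod_right
    intro ψ hψ
    apply IsCoprime.pow
    apply facs_coprime (hS hφ) (hT hψ)
    rintro rfl
    rw [hTdef, Finset.mem_sdiff] at hψ
    exact hψ.2 hφ
  · rw [mul_comm, hTdef, Finset.prod_sdiff hS, prod_facs hμ.monic]

end layerG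

end Cfsg.Agent.S2511P
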