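import Cfsg.Agent.Helper3.S4411Defs
import Cfsg.Agent.Helper26.Thompson

set_option autoImplicit false

/-! # S4411 board, piece CHARB: `Ω₁Z(R)` and `J(R)` are characteristic in `R` and non-trivial. -/

namespace Cfsg.Agent.S4411P

open Cfsg

universe u

/-- `Ω₁(Z(R))`, as a subgroup of `↥R`, is the closure of the central elements of `↥R` with `x ^ p = 1`. -/
theorem CHARB_aux_omega_eq {Y : Type*} [Group Y] (p : ℕ) (R : Subgroup Y) :
    (Cfsg.omegaOne p (R ⊓ Subgroup.centralizer (R : Set Y))).subgroupOf R =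
      Subgroup.closure {x : ↥R | x ∈ Subgroup.center ↥R ∧ x ^ p = 1} := by
  have hS : {x : Y | x ∈ R ⊓ Subgroup.centralizer (R : Set Y) ∧ x ^ p = 1} =
      R.subtype '' {x : ↥R | x ∈ Subgroup.center ↥R ∧ x ^ p = 1} := by
    ext x
    constructor
    · rintro ⟨⟨hxR, hxC⟩, hxp⟩
      refine ⟨⟨x, hxR⟩, ⟨?_, ?_⟩, rfl⟩
      · rw [Subgroup.mem_center_iff]
        intro r
        apply Subtype.ext
        exact Subgroup.mem_centralizer_iff.1 hxC r r.2
      · apply Subtype.ext
        simpa using hxp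
    · rintro ⟨y, ⟨hyZ, hyp⟩, rfl⟩
      refine ⟨Subgroup.mem_inf.2 ⟨y.2, ?_⟩, ?_⟩
      · refine Subgroup.mem_centralizer_iff.2 ?_
        intro r hr
        have := Subgroup.mem_center_iff.1 hyZ ⟨r, hr⟩
        exact congrArg Subtype.val this
      · have := congrArg Subtype.val hyp
        simpa using this
  unfold Cfsg.omegaOne
  rw [hS, ← MonoidHom.map_closure, Subgroup.subgroupOf,
    Subgroup.comap_map_eq_self_of_injective (Subgroup.subtype_injective R)]

theorem CHAR_omega {Y : Type*} [Group Y] (p : ℕ) (R : Subgroup Y) :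
    ((Cfsg.omegaOne p (R ⊓ Subgroup.centralizer (R : Set Y))).subgroupOf R).Characteristic := by
  rw [CHARB_aux_omega_eq, Subgroup.characteristic_iff_map_le]
  intro φ
  rw [MonoidHom.map_closure]
  apply Subgroup.closure_mono
  rintro _ ⟨x, ⟨hxZ, hxp⟩, rfl⟩
  refine ⟨?_, ?_⟩
  · rw [Subgroup.mem_center_iff] at hxZ ⊢
    intro r
    have h1 := hxZ (φ.symm r)
    have h2 := congrArg φ h1
    rw [map_mul, map_mul, MulEquiv.apply_symm_apply] at h2
    exact h2
  · show φ x ^ p = 1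
    rw [← map_pow, hxp, map_one]

theorem CHAR_J {Y : Type u} [Group Y] (p : ℕ) (R : Subgroup Y) :
    ((Cfsg.thompsonSubgroupOf p R).subgroupOf R).Characteristic := by
  have h1 : (Cfsg.thompsonSubgroupOf p R).subgroupOf R = Cfsg.thompsonSubgroup p ↥R := by
    unfold Cfsg.thompsonSubgroupOf
    rw [Subgroup.subgroupOf, Subgroup.comap_map_eq_self_of_injective (Subgroup.subtype_injective R)]
  rw [h1]
  exact Cfsg.Agent.Helper26.thompsonSubgroup_characteristic p

theorem CHAR_omega_le {Y : Type*} [Group Y] (p : ℕ) (R : Subgroup Y) :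
    Cfsg.omegaOne p (R ⊓ Subgroup.centralizer (R : Set Y)) ≤ R ⊓ Subgroup.centralizer (R : Set Y) := by
  unfold Cfsg.omegaOne
  rw [Subgroup.closure_le]
  intro x hx
  exact hx.1

/-- a non-trivial finite `p`-subgroup has order divisible by `p` -/
theorem CHARB_aux_dvd_card {Y : Type*} [Group Y] [Finite Y] (p : ℕ) [Fact p.Prime] (R : Subgroup Y)
    (hR : IsPGroup p R) (hR1 : R ≠ ⊥) : p ∣ Nat.card ↥R := by
  obtain ⟨k, hk⟩ := hR.exists_card_eq
  have hk0 : k ≠ 0 := by
    intro h0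
    rw [h0, pow_zero] at hk
    exact hR1 (Subgroup.eq_bot_of_card_eq R hk)
  rw [hk]
  exact dvd_pow_self p hk0

theorem CHAR_omega_ne_bot {Y : Type*} [Group Y] [Finite Y] (p : ℕ) [Fact p.Prime] (R : Subgroup Y)
    (hR : IsPGroup p R) (hR1 : R ≠ ⊥) :
    Cfsg.omegaOne p (R ⊓ Subgroup.centralizer (R : Set Y)) ≠ ⊥ := by
  -- the centre of `R` is non-trivial
  have hnt : Nontrivial ↥R := by
    rw [Subgroup.nontrivial_iff_ne_bot]
    exact hR1
  have hZnt : Nontrivial (Subgroup.center ↥R) := hR.center_nontrivial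
  obtain ⟨z, hz1⟩ := exists_ne (1 : Subgroup.center ↥R)
  have hZne : R ⊓ Subgroup.centralizer (R : Set Y) ≠ ⊥ := by
    intro h0
    apply hz1
    have hmem : ((z : ↥R) : Y) ∈ R ⊓ Subgroup.centralizer (R : Set Y) := by
      refine Subgroup.mem_inf.2 ⟨(z : ↥R).2, ?_⟩
      refine Subgroup.mem_centralizer_iff.2 ?_
      intro r hr
      have := Subgroup.mem_center_iff.1 z.2 ⟨r, hr⟩
      exact congrArg Subtype.val this
    rw [h0, Subgroup.mem_bot] at hmem
    apply Subtype.ext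
    apply Subtype.ext
    exact hmem
  have hZp : IsPGroup p ↥(R ⊓ Subgroup.centralizer (R : Set Y)) := hR.to_le inf_le_left
  obtain ⟨x, hx⟩ := exists_prime_orderOf_dvd_card' p (CHARB_aux_dvd_card p _ hZp hZne)
  intro h0
  have hxmem : (x : Y) ∈ Cfsg.omegaOne p (R ⊓ Subgroup.centralizer (R : Set Y)) := by
    unfold Cfsg.omegaOne
    apply Subgroup.subset_closure
    refine ⟨x.2, ?_⟩
    have h1 : x ^ p = 1 := by rw [← hx]; exact pow_orderOf_eq_one x
    have := congrArg Subtype.val h1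
    simpa using this
  rw [h0, Subgroup.mem_bot] at hxmem
  have hx1 : x = 1 := Subtype.ext hxmem
  rw [hx1, orderOf_one] at hx
  exact (Fact.out : p.Prime).one_lt.ne hx

theorem CHAR_J_le {Y : Type u} [Group Y] (p : ℕ) (R : Subgroup Y) : Cfsg.thompsonSubgroupOf p R ≤ R := by
  unfold Cfsg.thompsonSubgroupOf
  exact Subgroup.map_subtype_le _

theorem CHAR_J_ne_bot {Y : Type u} [Group Y] [Finite Y] (p : ℕ) [Fact p.Prime] (R : Subgroup Y)
    (hR : IsPGroup p R) (hR1 : R ≠ ⊥) : Cfsg.thompsonSubgroupOf p R ≠ ⊥ := by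
  have h1 : Cfsg.thompsonSubgroup p ↥R ≠ ⊥ :=
    Cfsg.Agent.Helper26.thompsonSubgroup_ne_bot (CHARB_aux_dvd_card p R hR hR1)
  unfold Cfsg.thompsonSubgroupOf
  intro h0
  apply h1
  exact (Subgroup.map_eq_bot_iff_of_injective _ (Subgroup.subtype_injective R)).1 h0

end Cfsg.Agent.S4411P
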