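import Cfsg.Agent.Helper3.S4411Defs

set_option autoImplicit false

/-! # S4411 board, piece TQQNT: `TNT` passes to the quotient by a normal `p'`-subgroup. -/

namespace Cfsg.Agent.S4411P

open Cfsg

universe u

/-- a `p`-subgroup meets a subgroup of order prime to `p` trivially -/
theorem TQQNT_aux_inf {Y : Type*} [Group Y] [Finite Y] (p : ℕ) [Fact p.Prime] (M H : Subgroup Y)
    (hM : (Nat.card M).Coprime p) (hH : IsPGroup p H) {g : Y} (hgH : g ∈ H) (hgM : g ∈ M) : g = 1 := by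
  obtain ⟨k, hk⟩ := hH ⟨g, hgH⟩
  have hk' : g ^ p ^ k = 1 := by
    have := congrArg Subtype.val hk
    simpa using this
  have h1 : orderOf g ∣ p ^ k := orderOf_dvd_of_pow_eq_one hk'
  have h2 : orderOf g ∣ Nat.card M := Subgroup.orderOf_dvd_natCard M hgM
  have h3 : (Nat.card M).Coprime (p ^ k) := Nat.Coprime.pow_right k hM
  have h4 : orderOf g = 1 := Nat.eq_one_of_dvd_coprimes h3 h2 h1
  exact orderOf_eq_one_iff.1 h4

theorem TQQ_nt {Y : Type*} [Group Y] [Finite Y] (p q : ℕ) [Fact p.Prime] (M : Subgroup Y) [M.Normal]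
    (hM : (Nat.card M).Coprime p) (h : TNT p q Y) : TNT p q (Y ⧸ M) := by
  obtain ⟨H₀, hH₀, x, hxN, hxC, k, hxk⟩ := h
  refine ⟨H₀.map (QuotientGroup.mk' M), hH₀.map _, QuotientGroup.mk' M x, ?_, ?_, k, ?_⟩
  · exact Subgroup.le_normalizer_map _ ⟨x, hxN, rfl⟩
  · intro hc
    apply hxC
    rw [Subgroup.mem_centralizer_iff] at hc ⊢
    intro g hg
    have h1 := hc (QuotientGroup.mk' M g) ⟨g, hg, rfl⟩
    -- `g * x * g⁻¹ * x⁻¹ ∈ M`
    have h2 : (QuotientGroup.mk' M) (g * x * g⁻¹ * x⁻¹) = 1 := by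
      rw [map_mul, map_mul, map_mul, h1, map_inv, map_inv]
      group
    have h3 : g * x * g⁻¹ * x⁻¹ ∈ M := by
      have := (QuotientGroup.eq_one_iff (N := M) (g * x * g⁻¹ * x⁻¹)).1 h2
      exact this
    have h4 : g * x * g⁻¹ * x⁻¹ ∈ H₀ := by
      have h5 : x * g⁻¹ * x⁻¹ ∈ H₀ := (Subgroup.mem_normalizer_iff.1 hxN g⁻¹).1 (H₀.inv_mem hg)
      have h6 : g * x * g⁻¹ * x⁻¹ = g * (x * g⁻¹ * x⁻¹) := by group
      rw [h6]
      exact H₀.mul_mem hg h5
    have h7 := TQQNT_aux_inf p M H₀ hM hH₀ h4 h3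
    have h8 : g * x = (g * x * g⁻¹ * x⁻¹) * (x * g) := by group
    rw [h8, h7, one_mul]
  · show (QuotientGroup.mk' M x) ^ q ^ k = 1
    rw [← map_pow, hxk, map_one]

end Cfsg.Agent.S4411P
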