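import Mathlib
import Cfsg.Agent.Helper4.S5033Defs
import Cfsg.Agent.Helper25.RootBasic

set_option autoImplicit false

/-! # S5033 pieces `NC`: non-identity elements of a rank one pair of `S` never commute. -/

namespace Cfsg.Agent.S5033P

open Cfsg

variable {G : Type*} [Group G] {S : Set (Subgroup G)}

theorem NC.not_commute (hS : IsRootSubgroupSet S) {A B : Subgroup G} (hA : A ∈ S) (hB : B ∈ S)
    (h : IsRankOnePair A B) {a b : G} (ha : a ∈ A) (ha1 : a ≠ 1) (hb : b ∈ B) (hb1 : b ≠ 1) :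
    a * b ≠ b * a := by
  intro hab
  have hbc : b ∈ conjBy B a := by
    rw [Cfsg.Agent.Helper25.mem_conjBy_iff]
    have : a⁻¹ * b * a = b := by
      rw [mul_assoc, ← hab, ← mul_assoc, inv_mul_cancel, one_mul]
    rw [this]; exact hb
  rcases Cfsg.Agent.Helper25.root_inf_eq_bot_or_eq hS hA (RankOnePair_symm h)
      (hS.conj_mem B hB a) with h1 | h1
  · have hb' : b ∈ B ⊓ conjBy B a := ⟨hb, hbc⟩
    rw [h1, Subgroup.mem_bot] at hb'
    exact hb1 hb'
  · have hn : a ∈ Subgroup.normalizer (B : Set G) :=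
      Cfsg.Agent.Helper25.conjBy_eq_self_iff.mp h1.symm
    exact ha1 (Cfsg.Agent.Helper25.rankOne_eq_one_of_normalizes h ha hn)

/-- NC1. -/
theorem NC.inf_centralizer (hS : IsRootSubgroupSet S) {A B : Subgroup G} (hA : A ∈ S) (hB : B ∈ S)
    (h : IsRankOnePair A B) :
    A ⊓ Subgroup.centralizer ((A ⊔ B : Subgroup G) : Set G) = ⊥ := by
  rw [eq_bot_iff]
  intro a ha
  rw [Subgroup.mem_bot]
  by_contra ha1
  obtain ⟨b, hb, hb1⟩ := Cfsg.Agent.Helper25.rankOne_exists_ne_one (RankOnePair_symm h)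
  have hc : a ∈ Subgroup.centralizer ((A ⊔ B : Subgroup G) : Set G) := ha.2
  have hbm : b ∈ ((A ⊔ B : Subgroup G) : Set G) := (le_sup_right : B ≤ A ⊔ B) hb
  have := (Subgroup.mem_centralizer_iff.mp hc) b hbm
  exact NC.not_commute hS hA hB h ha.1 ha1 hb hb1 this.symm

end Cfsg.Agent.S5033P
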