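import Mathlib
import Cfsg.Prelude.Def_GeometricClasses
import Cfsg.Agent.Helper19.Mono.Defs

/-! S5634 monomial half, piece MONOGRP: the monomial matrices form a subgroup of `GL`; an elementary transvection is not
monomial. -/

set_option autoImplicit false

namespace Cfsg.Agent.MonoP

open Matrix

variable {ι : Type} [Fintype ι] [DecidableEq ι] {K : Type*} [Field K] [Fintype K]

namespace MONOGRP

theorem isMono_one : IsMono (1 : Matrix ι ι K) :=
  ⟨1, fun i j h => Matrix.one_apply_ne (by simpa using h)⟩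

theorem isMono_mul {g h : Matrix ι ι K} (hg : IsMono g) (hh : IsMono h) : IsMono (g * h) := by
  obtain ⟨σ, hσ⟩ := hg
  obtain ⟨τ, hτ⟩ := hh
  refine ⟨τ.trans σ, fun i j hij => ?_⟩
  rw [Matrix.mul_apply]
  apply Finset.sum_eq_zero
  intro r _
  by_cases hr : r = τ j
  · subst hr
    rw [hσ i (τ j) (by simpa using hij), zero_mul]
  · rw [hτ r j hr, mul_zero]

theorem isMono_inv (g : GL ι K) (hg : IsMono (g : Matrix ι ι K)) :
    IsMono ((g⁻¹ : GL ι K) : Matrix ι ι K) := by
  obtain ⟨σ, hσ⟩ := hg
  refine ⟨σ⁻¹, fun i r hir => ?_⟩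
  -- `(g⁻¹ g) i j = g⁻¹ i (σ j) * g (σ j) j`
  set j := σ⁻¹ r with hj
  have hr : r = σ j := by simp [hj]
  have hprod : ∀ i' j' : ι, ((g⁻¹ : GL ι K) : Matrix ι ι K) i' (σ j') * (g : Matrix ι ι K) (σ j') j'
      = (1 : Matrix ι ι K) i' j' := by
    intro i' j'
    have h1 : ((g⁻¹ : GL ι K) : Matrix ι ι K) * (g : Matrix ι ι K) = 1 := by
      rw [← Units.val_mul, inv_mul_cancel, Units.val_one]
    have h2 := congrFun (congrFun h1 i') j'
    rw [Matrix.mul_apply] at h2
    rw [← h2]
    symm
    apply Finset.sum_eq_single (σ j')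
    · intro b _ hb
      rw [hσ b j' hb, mul_zero]
    · intro h; exact absurd (Finset.mem_univ _) h
  have hne : (g : Matrix ι ι K) (σ j) j ≠ 0 := by
    intro h0
    have := hprod j j
    rw [h0, mul_zero, Matrix.one_apply_eq] at this
    exact zero_ne_one this
  have := hprod i j
  rw [Matrix.one_apply_ne hir] at this
  rw [hr]
  exact (mul_eq_zero.mp this).resolve_right hne

end MONOGRP

/-- MONOGRP (S-M): the monomial matrices form a subgroup of `GL`. -/
theorem MONOGRP.exists_subgroup :
    ∃ N : Subgroup (GL ι K), ∀ g : GL ι K, g ∈ N ↔ IsMono (g : Matrix ι ι K) := by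
  refine ⟨{ carrier := {g | IsMono (g : Matrix ι ι K)}
            mul_mem' := ?_
            one_mem' := ?_
            inv_mem' := ?_ }, fun g => Iff.rfl⟩
  · intro a b ha hb
    show IsMono ((a * b : GL ι K) : Matrix ι ι K)
    rw [Units.val_mul]
    exact MONOGRP.isMono_mul ha hb
  · show IsMono ((1 : GL ι K) : Matrix ι ι K)
    rw [Units.val_one]
    exact MONOGRP.isMono_one
  · intro a ha
    exact MONOGRP.isMono_inv a ha

/-- an elementary transvection is not monomial -/
theorem MONOGRP.not_isMono_transvection (a b : ι) (hab : a ≠ b) (ξ : K) (hξ : ξ ≠ 0) :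
    ¬ IsMono (Matrix.transvection a b ξ : Matrix ι ι K) := by
  rintro ⟨σ, hσ⟩
  have h1 : a = σ b := by
    by_contra h
    have := hσ a b h
    simp [Matrix.transvection, Matrix.one_apply_ne hab, hξ] at this
  have h2 : b = σ b := by
    by_contra h
    have := hσ b b h
    simp [Matrix.transvection, Matrix.single, hab] at this
  exact hab (h1.trans h2.symm)

end Cfsg.Agent.MonoP
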