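import Cfsg.Agent.Helper29.OC2K.Main
import Cfsg.Agent.Helper17.OC2KC2Defs
import Cfsg.Agent.Helper17.OC2KC2PM
import Cfsg.Agent.Helper20.OC2KC2GEOPAIR5

set_option autoImplicit false
set_option linter.unusedSectionVars false
set_option linter.unusedVariables false

/-! # OC2K chapter CHAR2, Part B (driver helper17), piece LOCB2K5 (helper19). -/

namespace Cfsg.Agent.OC2K

open Matrix Cfsg.Agent.Helper28.Sg Cfsg.Agent.Helper28.Spin Cfsg.Agent.Helper12.OrthGen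
  Cfsg.Agent.S2614 Cfsg.Agent.S5683P Cfsg.Agent.Helper28.NDM

variable {F : Type*} [Field F] [Fintype F] {t k : ℕ} {ι : Type} [Fintype ι] [DecidableEq ι] {Q : QuadraticForm F (ι → F)} [QHyp Q] {D : Fin t → Submodule F (ι → F)}
  {M : Subgroup (OGq Q)}

/-- LOCB2K5 (S-M): GEOPAIR5 with `a = cmp D c v` and `x`; `C2.PM.polar` (u = x). -/
theorem C2.LOCB2K5.main (hD : HD Q k D) (hk : 5 ≤ k) (hHM : HS D ≤ M)
    (hG1 : ¬ G1 M D) {v : ι → F} (hv : NPV M D v) {c : Fin t} {y : ι → F}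
    (hy : y ∈ Rad M v hv.Qv) {x : ι → F} (hx : x ∈ D c) (hx0 : x ≠ 0) (hQx : Q x = 0)
    (hxa : B (Q) x (cmp D c v) = 0) : B (Q) x y = 0 := by
  obtain ⟨w, hw, w', hw', haw, hxw, haw', hxw', hww'⟩ :=
    C2.GEOPAIR5.main hD hk (CMP1.mem hD c v) hx
  have hxv : B (Q) x v = 0 := by rw [← CMP2.B_left hD hx v]; exact hxa
  have hwv : B (Q) w v = 0 := by rw [← CMP2.B_left hD hw v, B_comm]; exact haw
  have hw'v : B (Q) w' v = 0 := by rw [← CMP2.B_left hD hw' v, B_comm]; exact haw'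
  have h := C2.PM.polar hD hHM hG1 hv hx hw hw' hx0 hQx hxw hxw' hxv hwv hw'v hy
  exact (mul_eq_zero.mp h).resolve_left hww'

end Cfsg.Agent.OC2K
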