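import Mathlib
import Cfsg.Agent.Helper7.K2M.Defs2
import Cfsg.Agent.Helper4.K2MQB
import Cfsg.Agent.Helper3.K2MRACT
import Cfsg.Agent.Helper19.K2MUNIV
import Cfsg.Agent.Helper19.K2MOMEGA
import Cfsg.Agent.Helper27.K2MSTAB
import Cfsg.Agent.Helper27.K2MINVBase
import Cfsg.Agent.Helper4.K2MEXROT
import Cfsg.Agent.Helper27.K2MIND2
import Cfsg.Agent.Helper27.K2MROT2
import Cfsg.Agent.Helper27.K2MROTFIX

set_option autoImplicit false
set_option linter.unusedSectionVars false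
set_option linter.unusedVariables false

/-! # S5694, `k = 2` minus blocks (designer helper7), chapter INV (driver helper27), piece INV-FULLP (helper19). -/

namespace Cfsg.Agent.K2M

open Matrix Cfsg.Agent.OC2P Cfsg.Agent.Helper28.Sg Cfsg.Agent.Helper28.Spin
  Cfsg.Agent.Helper12.OrthGen

variable {F : Type*} [Field F] [Fintype F] {t : ℕ} {Q : QuadraticForm F (Fin t × Fin 2 → F)}
  {q : QuadraticForm F (Fin 2 → F)}

/-- a block reflection acts on its block through `r2` -/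
theorem FULLP.aux_refl_binj (bm : BM Q q) (i : Fin t) (y z : Fin 2 → F) (hv : Q (binj i y) ≠ 0) :
    mt Q (reflO Q (binj i y) hv) *ᵥ binj i z = binj i (r2 q y z) := by
  apply QB.ext
  intro i'
  by_cases h : i' = i
  · subst h
    rw [RACT.bproj_same bm, bproj_binj, bproj_binj]
  · rw [RACT.bproj_ne bm h, bproj_binj_ne h, bproj_binj_ne h]

/-- the block rotation acts on its block through `r2 ∘ r2` -/
theorem FULLP.aux_rot_binj (bm : BM Q q) (i : Fin t) (y y' z : Fin 2 → F) (hv : Q (binj i y) ≠ 0)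
    (hv' : Q (binj i y') ≠ 0) :
    mt Q (reflO Q (binj i y) hv * reflO Q (binj i y') hv') *ᵥ binj i z =
      binj i (r2 q y (r2 q y' z)) := by
  rw [mt_mul_mulVec, FULLP.aux_refl_binj bm, FULLP.aux_refl_binj bm]

theorem FULLP.main (bm : BM Q q) (ht : 3 ≤ t) (hF : Fintype.card F ≠ 3) {H : Subgroup (OG Q)}
    (hH : HasMO H) (hP : PropP H) {x : OG Q} (hx : x ∈ H) {v : Fin t × Fin 2 → F} (hv : IsBlk v)
    (hv0 : v ≠ 0) {i : Fin t} (hi : bproj i (mt Q x *ᵥ v) = 0) :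
    ∃ l : Fin t, ∀ y : Fin 2 → F, mt Q x⁻¹ *ᵥ binj i y ∈ Dblk F t 2 l := by
  -- the rotation of block `i`
  set y₀ : Fin 2 → F := fun _ => 1 with hy₀
  have hy₀0 : y₀ ≠ 0 := by
    intro h
    have := congrFun h 0
    simp [hy₀] at this
  obtain ⟨y', hqy', hpol, hind⟩ := EXROT.main bm hF hy₀0
  have hqy₀ : q y₀ ≠ 0 := fun h => hy₀0 (bm.aniso _ h)
  have hb : Q (binj i y₀) ≠ 0 := by rw [QB.Q_binj bm]; exact hqy₀
  have hb' : Q (binj i y') ≠ 0 := by rw [QB.Q_binj bm, hqy']; exact hqy₀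
  set ρ : OG Q := reflO Q (binj i y₀) hb * reflO Q (binj i y') hb' with hρ
  have hρH : ρ ∈ H := OMEGA.rot_mem bm ht hH i y₀ y' hb hb' ⟨q y₀, by rw [hqy']⟩
  have hfix : mt Q ρ *ᵥ (mt Q x *ᵥ v) = mt Q x *ᵥ v := by
    apply RR.fix
    · rw [QB.B_binj_left bm, hi, QuadraticMap.polar_zero_right]
    · rw [QB.B_binj_left bm, hi, QuadraticMap.polar_zero_right]
  have hS := STAR.main hP hx hρH hv (STAR.Q_ne bm hv hv0) hfix
  -- `e = x⁻¹ b`, `e' = x⁻¹ b'`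
  have hlin : ∀ a b : F, a • (mt Q x⁻¹ *ᵥ binj i y₀) + b • (mt Q x⁻¹ *ᵥ binj i y') =
      mt Q x⁻¹ *ᵥ binj i (a • y₀ + b • y') := by
    intro a b
    rw [QB.binj_add, QB.binj_smul, QB.binj_smul, Matrix.mulVec_add, Matrix.mulVec_smul,
      Matrix.mulVec_smul]
  have he : Q (mt Q x⁻¹ *ᵥ binj i y₀) ≠ 0 := by rw [Q_isom]; exact hb
  have he' : Q (mt Q x⁻¹ *ᵥ binj i y') ≠ 0 := by rw [Q_isom]; exact hb'
  have hconj := RR.conj x (binj i y₀) (binj i y') hb hb' he he'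
  rw [← hρ] at hconj
  rw [← hconj] at hS
  have han : ∀ a b : F, Q (a • (mt Q x⁻¹ *ᵥ binj i y₀) + b • (mt Q x⁻¹ *ᵥ binj i y')) = 0 →
      a = 0 ∧ b = 0 := by
    intro a b h
    rw [hlin, Q_isom, QB.Q_binj bm] at h
    exact hind a b (bm.aniso _ h)
  have hsq : ∀ a b : F, a • (mt Q x⁻¹ *ᵥ binj i y₀) + b • (mt Q x⁻¹ *ᵥ binj i y') ≠ 0 →
      mt Q (reflO Q (mt Q x⁻¹ *ᵥ binj i y₀) he * reflO Q (mt Q x⁻¹ *ᵥ binj i y') he') *ᵥ
        (mt Q (reflO Q (mt Q x⁻¹ *ᵥ binj i y₀) he * reflO Q (mt Q x⁻¹ *ᵥ binj i y') he') *ᵥ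
          (a • (mt Q x⁻¹ *ᵥ binj i y₀) + b • (mt Q x⁻¹ *ᵥ binj i y')))
        ≠ a • (mt Q x⁻¹ *ᵥ binj i y₀) + b • (mt Q x⁻¹ *ᵥ binj i y') := by
    intro a b hne heq
    rw [hconj, hlin] at heq
    rw [hlin] at hne
    -- `g w = x⁻¹ (ρ (x w))`
    have hg : ∀ w, mt Q (x⁻¹ * ρ * x) *ᵥ w = mt Q x⁻¹ *ᵥ (mt Q ρ *ᵥ (mt Q x *ᵥ w)) := by
      intro w
      rw [mt_mul_mulVec, mt_mul_mulVec]
    rw [hg, hg, mt_mulVec_inv, mt_mulVec_inv, hρ, FULLP.aux_rot_binj bm, FULLP.aux_rot_binj bm] at heq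
    -- cancel `x⁻¹` and `binj i`
    have h1 := congrArg (fun w => mt Q x *ᵥ w) heq
    simp only [mt_mulVec_inv] at h1
    have h2 := congrArg (bproj i) h1
    rw [bproj_binj, bproj_binj] at h2
    have hz := ROT2.main bm hpol hind h2
    apply hne
    rw [hz, QB.binj_zero, Matrix.mulVec_zero]
  obtain ⟨l, hel, hel'⟩ := ROTFIX.main bm he he' hS han hsq
  refine ⟨l, fun y => ?_⟩
  obtain ⟨α, β, hy⟩ := IND2.span hind y
  rw [hy, ← hlin]
  exact Submodule.add_mem _ (Submodule.smul_mem _ _ hel) (Submodule.smul_mem _ _ hel')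

end Cfsg.Agent.K2M
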