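import Mathlib
import Cfsg.Prelude.Def_Classical
import Cfsg.Agent.Helper17.S2558GDefs
import Cfsg.Agent.Helper19.S2558OUNITG

/-! S2558 chapter (G), piece OXSTARX (helper19; orthogonal twin of `Helper19.S2482XSTARX`): the symmetric element
`s = x^* x` of a linear equivariant isomorphism `x` between two symmetric spaces with isometries. -/

set_option autoImplicit false

namespace Cfsg.Agent.S2558P

open Polynomial Cfsg.Agent.Helper2.SympInvol Cfsg.Agent.S2676P Cfsg.Agent.S2478P Cfsg.Agent.S2481P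
  Cfsg.Agent.S2482P

universe u

variable {F : Type u} [Field F]

namespace OXSTARX

/-- the form as a linear equivalence with the dual space -/
theorem exists_toDual (S : SpSpace F) (hS : S.IsOrth) :
    ∃ E : S.V ≃ₗ[F] Module.Dual F S.V, ∀ u v, E u v = S.B u v := by
  have hBinj : Function.Injective (S.B : S.V →ₗ[F] Module.Dual F S.V) := by
    rw [← LinearMap.ker_eq_bot, LinearMap.ker_eq_bot']
    intro u hu
    apply OUNITG.eq_zero_of_forall S hS u
    intro v
    rw [hu]
    rfl
  refine ⟨LinearMap.linearEquivOfInjective (S.B : S.V →ₗ[F] Module.Dual F S.V) hBinj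
    (Subspace.dual_finrank_eq).symm, fun u v => ?_⟩
  rw [LinearMap.linearEquivOfInjective_apply]

/-- every bilinear form is `B (s ·) ·` for a unique endomorphism `s` -/
theorem exists_repr (S : SpSpace F) (hS : S.IsOrth) (B'' : LinearMap.BilinForm F S.V) :
    ∃ s : Module.End F S.V, ∀ u v, S.B (s u) v = B'' u v := by
  obtain ⟨E, hE⟩ := exists_toDual S hS
  refine ⟨(E.symm : Module.Dual F S.V →ₗ[F] S.V) ∘ₗ (B'' : S.V →ₗ[F] Module.Dual F S.V), ?_⟩
  intro u v
  rw [← hE]
  simp only [LinearMap.coe_comp, LinearEquiv.coe_coe, Function.comp_apply,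
    LinearEquiv.apply_symm_apply]

theorem exists_sym (S S' : SpSpace F) (hS : S.IsOrth) (hS' : S'.IsOrth) (x : S.V ≃ₗ[F] S'.V)
    (hx : ∀ v, x (S.g v) = S'.g (x v)) :
    ∃ s : Module.End F S.V, IsUnit s ∧ (∀ u v, S'.B (x u) (x v) = S.B (s u) v) ∧
      (∀ u v, S.B (s u) v = S.B u (s v)) ∧ s * S.g = S.g * s := by
  obtain ⟨s, hs0⟩ := exists_repr S hS
    (S'.B.compl₁₂ (x : S.V →ₗ[F] S'.V) (x : S.V →ₗ[F] S'.V))
  have hs : ∀ u v, S.B (s u) v = S'.B (x u) (x v) := by
    intro u v
    rw [hs0, LinearMap.compl₁₂_apply]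
    rfl
  obtain ⟨gi, hg1, hg2, -, hadj⟩ := OUNITG.isUnit_g S hS
  obtain ⟨gi', hg1', hg2', -, hadj'⟩ := OUNITG.isUnit_g S' hS'
  have hgi : ∀ v, S.g (gi v) = v := fun v => by
    have := LinearMap.congr_fun hg1 v
    simpa using this
  have hgi' : ∀ v, gi' (S'.g v) = v := fun v => by
    have := LinearMap.congr_fun hg2' v
    simpa using this
  have hxgi : ∀ v, gi' (x v) = x (gi v) := by
    intro v
    have h1 : x v = S'.g (x (gi v)) := by rw [← hx, hgi]
    rw [h1, hgi']
  refine ⟨s, ?_, fun u v => (hs u v).symm, ?_, ?_⟩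
  · rw [LinearMap.isUnit_iff_ker_eq_bot, LinearMap.ker_eq_bot']
    intro u hu
    have h1 : x u = 0 := by
      apply OUNITG.eq_zero_of_forall S' hS' (x u)
      intro w
      obtain ⟨v, rfl⟩ := x.surjective w
      rw [← hs, hu, map_zero, LinearMap.zero_apply]
    exact x.map_eq_zero_iff.mp h1
  · intro u v
    rw [hs, hS'.symm, ← hs, hS.symm]
  · apply LinearMap.ext
    intro u
    rw [Module.End.mul_apply, Module.End.mul_apply]
    rw [← sub_eq_zero]
    apply OUNITG.eq_zero_of_forall S hS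
    intro v
    rw [map_sub, LinearMap.sub_apply, sub_eq_zero, hs, hx, hadj', hxgi, ← hs, hadj]

end OXSTARX

end Cfsg.Agent.S2558P
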