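import Mathlib

/-!
# S3805, piece SYL2: a Klein four complement of `T` in `N_G(T)`.
-/

set_option autoImplicit false

namespace Cfsg.Agent.S3805P

namespace SYL2

/-- in a group of exponent dividing two, any two elements commute -/
theorem comm_of_sq_eq_one {H : Type*} [Group H] (h : ∀ g : H, g ^ 2 = 1) (a b : H) :
    a * b = b * a := by
  have ha : a⁻¹ = a := by
    rw [inv_eq_iff_mul_eq_one, ← sq]; exact h a
  have hb : b⁻¹ = b := by
    rw [inv_eq_iff_mul_eq_one, ← sq]; exact h b
  have hab : (a * b)⁻¹ = a * b := by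
    rw [inv_eq_iff_mul_eq_one, ← sq]; exact h (a * b)
  rw [mul_inv_rev, ha, hb] at hab
  exact hab.symm

end SYL2

/-- **SYL2.** A complement `{1, x, y, xy}` (Klein four) of `T` in `N = N_G(T)`. -/
theorem exists_klein_complement {G : Type*} [Group G] [Finite G]
    (T : Sylow 3 G) (hcard : Nat.card T = 9)
    [hn : ((T : Subgroup G).subgroupOf (Subgroup.normalizer ((T : Subgroup G) : Set G))).Normal]
    (hK : IsKleinFour (↥(Subgroup.normalizer ((T : Subgroup G) : Set G)) ⧸
      (T : Subgroup G).subgroupOf (Subgroup.normalizer ((T : Subgroup G) : Set G)))) :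
    Nat.card (Subgroup.normalizer ((T : Subgroup G) : Set G)) = 36 ∧
    ∃ x y : G, x ∈ Subgroup.normalizer ((T : Subgroup G) : Set G) ∧
      y ∈ Subgroup.normalizer ((T : Subgroup G) : Set G) ∧
      orderOf x = 2 ∧ orderOf y = 2 ∧ x ≠ y ∧ x * y = y * x := by
  have hTN : (T : Subgroup G) ≤ Subgroup.normalizer ((T : Subgroup G) : Set G) :=
    Subgroup.le_normalizer
  have hcT' : Nat.card ((T : Subgroup G).subgroupOf
      (Subgroup.normalizer ((T : Subgroup G) : Set G))) = 9 := by
    rw [← hcard]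
    exact Nat.card_congr (Subgroup.subgroupOfEquivOfLe hTN).toEquiv
  have hcN : Nat.card (Subgroup.normalizer ((T : Subgroup G) : Set G)) = 36 := by
    rw [Subgroup.card_eq_card_quotient_mul_card_subgroup ((T : Subgroup G).subgroupOf
      (Subgroup.normalizer ((T : Subgroup G) : Set G))), hcT', hK.card_four]
  refine ⟨hcN, ?_⟩
  haveI : Fact (Nat.Prime 2) := ⟨Nat.prime_two⟩
  obtain ⟨P, hcP⟩ := Sylow.exists_subgroup_card_pow_prime
    (G := ↥(Subgroup.normalizer ((T : Subgroup G) : Set G))) 2 (n := 2)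
    (by rw [hcN]; norm_num)
  have hcP4 : Nat.card P = 4 := by rw [hcP]; norm_num
  have hbot : P ⊓ (T : Subgroup G).subgroupOf
      (Subgroup.normalizer ((T : Subgroup G) : Set G)) = ⊥ := by
    apply (Subgroup.disjoint_of_coprime_natCard ?_).eq_bot
    rw [hcP4, hcT']
    norm_num
  -- every element of `P` squares to one
  have hsq : ∀ g : ↥(Subgroup.normalizer ((T : Subgroup G) : Set G)), g ∈ P → g ^ 2 = 1 := by
    intro g hg
    have h1 : (QuotientGroup.mk' ((T : Subgroup G).subgroupOf
        (Subgroup.normalizer ((T : Subgroup G) : Set G))) g) ^ 2 = 1 := by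
      have := Monoid.pow_exponent_eq_one (QuotientGroup.mk' ((T : Subgroup G).subgroupOf
        (Subgroup.normalizer ((T : Subgroup G) : Set G))) g)
      rwa [hK.exponent_two] at this
    rw [← map_pow, QuotientGroup.mk'_apply, QuotientGroup.eq_one_iff] at h1
    have h2 : g ^ 2 ∈ P ⊓ (T : Subgroup G).subgroupOf
        (Subgroup.normalizer ((T : Subgroup G) : Set G)) :=
      ⟨Subgroup.pow_mem _ hg 2, h1⟩
    rw [hbot, Subgroup.mem_bot] at h2
    exact h2
  have hsqP : ∀ g : P, g ^ 2 = 1 := by
    intro g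
    apply Subtype.ext
    rw [Subgroup.coe_pow, Subgroup.coe_one]
    exact hsq g g.2
  haveI : Finite P := inferInstance
  -- a nonidentity element
  have hnt : Nontrivial P := by
    rw [← Finite.one_lt_card_iff_nontrivial, hcP4]
    norm_num
  obtain ⟨x, hx1⟩ := exists_ne (1 : P)
  have hox : orderOf x = 2 := orderOf_eq_prime (hsqP x) hx1
  -- an element outside `⟨x⟩`
  have hzx : Subgroup.zpowers x ≠ ⊤ := by
    intro e
    have h1 : Nat.card (Subgroup.zpowers x) = 2 := by rw [Nat.card_zpowers, hox]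
    rw [e, Subgroup.card_top, hcP4] at h1
    norm_num at h1
  obtain ⟨y, hy⟩ : ∃ y : P, y ∉ Subgroup.zpowers x := by
    by_contra hcon
    push Not at hcon
    exact hzx (eq_top_iff.2 fun y _ => hcon y)
  have hy1 : y ≠ 1 := by
    intro e
    apply hy
    rw [e]
    exact Subgroup.one_mem _
  have hyx : x ≠ y := by
    intro e
    apply hy
    rw [← e]
    exact Subgroup.mem_zpowers x
  have hoy : orderOf y = 2 := orderOf_eq_prime (hsqP y) hy1
  have hcomm : x * y = y * x := SYL2.comm_of_sq_eq_one hsqP x y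
  refine ⟨((x : ↥(Subgroup.normalizer ((T : Subgroup G) : Set G))) : G),
    ((y : ↥(Subgroup.normalizer ((T : Subgroup G) : Set G))) : G), x.1.2, y.1.2, ?_, ?_,
    ?_, ?_⟩
  · rw [Subgroup.orderOf_coe, Subgroup.orderOf_coe]
    exact hox
  · rw [Subgroup.orderOf_coe, Subgroup.orderOf_coe]
    exact hoy
  · intro e
    exact hyx (Subtype.ext (Subtype.ext e))
  · have := congrArg (fun z : P => ((z : ↥(Subgroup.normalizer ((T : Subgroup G) : Set G))) : G))
      hcomm
    simpa using this

end Cfsg.Agent.S3805P
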