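import Mathlib
import Cfsg.Agent.Helper5.S4330Defs
import Cfsg.Prelude.Def_Solvable

/-! Board `s4330pieces`, piece MAXFIX: API of `MaxFix`. -/

set_option autoImplicit false
open Pointwise
open scoped commutatorElement

namespace Cfsg.Agent.Helper5.S4330

universe u

section module
variable {V : Type*} [CommGroup V] [Finite V]

theorem exists_mem_MaxFix {E K₀ : Subgroup (MulAut V)} (hK₀ : K₀ ≤ E)
    (hfix : Fix (K₀ : Set (MulAut V)) ≠ ⊥) : ∃ K ∈ MaxFix E, K₀ ≤ K := by
  classical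
  have hfin : Finite (Subgroup (MulAut V)) := inferInstance
  let s : Set (Subgroup (MulAut V)) := {K | K₀ ≤ K ∧ K ≤ E ∧ Fix (K : Set (MulAut V)) ≠ ⊥}
  have hs : s.Nonempty := ⟨K₀, le_refl _, hK₀, hfix⟩
  obtain ⟨m, hm⟩ := Set.Finite.exists_maximal (Set.toFinite s) hs
  refine ⟨m, ⟨hm.1.2.1, hm.1.2.2, ?_⟩, hm.1.1⟩
  intro K' hK'E hlt
  by_contra hne
  have hK's : K' ∈ s := ⟨le_trans hm.1.1 hlt.le, hK'E, hne⟩
  exact (not_le_of_gt hlt) (hm.2 hK's hlt.le)

theorem cj_mem_MaxFix {𝓛 E : Subgroup (MulAut V)} (hN : NormBy 𝓛 E) {l : MulAut V} (hl : l ∈ 𝓛)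
    {K : Subgroup (MulAut V)} (hK : K ∈ MaxFix E) : cj l K ∈ MaxFix E := by
  refine ⟨hN.cj_le hl hK.1, ?_, ?_⟩
  · intro hbot
    apply hK.2.1
    rw [Subgroup.eq_bot_iff_forall]
    intro v hv
    have h1 : l v ∈ Fix (cj l K : Set (MulAut V)) := apply_mem_Fix_cj hv
    rw [hbot, Subgroup.mem_bot] at h1
    have h2 : l v = l 1 := by rw [h1, map_one]
    exact l.injective h2
  · intro K' hK'E hlt
    have h1 : K < cj l⁻¹ K' := by
      have := cj_lt_cj (a := l⁻¹) hlt
      rwa [cj_inv_cj] at this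
    have h2 : cj l⁻¹ K' ≤ E := hN.cj_le (𝓛.inv_mem hl) hK'E
    have h3 := hK.2.2 _ h2 h1
    rw [Subgroup.eq_bot_iff_forall]
    intro v hv
    have h4 : l⁻¹ v ∈ Fix (cj l⁻¹ K' : Set (MulAut V)) := apply_mem_Fix_cj hv
    rw [h3, Subgroup.mem_bot] at h4
    have h5 : l⁻¹ v = l⁻¹ 1 := by rw [h4, map_one]
    exact (l⁻¹).injective h5

/-- if `E` is not semiregular then no member of `MaxFix E` fixes all of `V` -/
theorem Fix_ne_top_of_mem_MaxFix {E : Subgroup (MulAut V)} (hnsr : ¬ SemiReg E)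
    {K : Subgroup (MulAut V)} (hK : K ∈ MaxFix E) : Fix (K : Set (MulAut V)) ≠ ⊤ := by
  intro htop
  -- `K` acts trivially, hence `K = ⊥`
  have hKbot : K = ⊥ := by
    rw [Subgroup.eq_bot_iff_forall]
    intro k hk
    ext v
    have hv : v ∈ Fix (K : Set (MulAut V)) := by rw [htop]; exact Subgroup.mem_top v
    rw [MulAut.one_apply]
    exact hv k hk
  -- a non-identity element of `E` with a nontrivial fixed point
  unfold SemiReg at hnsr
  push Not at hnsr
  obtain ⟨e, heE, he1, v, hev, hv1⟩ := hnsr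
  have hle : Subgroup.zpowers e ≤ E := by
    rw [Subgroup.zpowers_le]; exact heE
  have hlt : K < Subgroup.zpowers e := by
    rw [hKbot, bot_lt_iff_ne_bot]
    intro hb
    apply he1
    have : e ∈ (⊥ : Subgroup (MulAut V)) := by rw [← hb]; exact Subgroup.mem_zpowers e
    exact Subgroup.mem_bot.1 this
  have h3 := hK.2.2 _ hle hlt
  have hvF : v ∈ Fix ((Subgroup.zpowers e : Subgroup (MulAut V)) : Set (MulAut V)) := by
    intro s hs
    obtain ⟨n, rfl⟩ := Subgroup.mem_zpowers_iff.1 hs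
    -- `e ^ n` fixes `v`
    have hfixsub : e ∈ MulAction.stabilizer (MulAut V) v := by
      rw [MulAction.mem_stabilizer_iff]
      exact hev
    have := Subgroup.zpow_mem _ hfixsub n
    rw [MulAction.mem_stabilizer_iff] at this
    exact this
  rw [h3, Subgroup.mem_bot] at hvF
  exact hv1 hvF

end module

end Cfsg.Agent.Helper5.S4330
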