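import Mathlib

set_option autoImplicit false
set_option linter.unusedVariables false

/-! # S5559 piece GEN -/

namespace Cfsg.Agent.S5559P

/-- GEN: an abelian group without 3-torsion on which `3 × 3` acts is generated by the fixed
points of the four cyclic subgroups. -/
theorem GEN {W : Type*} [CommGroup W] [Finite W]
    (hcube : ∀ w : W, w ^ 3 = 1 → w = 1) (S T : Subgroup W) (α β : MulAut W)
    (hαS : ∀ w ∈ S, α w ∈ S) (hβS : ∀ w ∈ S, β w ∈ S)
    (hcomm : ∀ w ∈ S, α (β w) = β (α w))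
    (hα : ∀ w ∈ S, α (α (α w)) = w) (hβ : ∀ w ∈ S, β (β (β w)) = w)
    (h10 : ∀ w ∈ S, α w = w → w ∈ T) (h01 : ∀ w ∈ S, β w = w → w ∈ T)
    (h11 : ∀ w ∈ S, α (β w) = w → w ∈ T) (h12 : ∀ w ∈ S, α (β (β w)) = w → w ∈ T) : S ≤ T := by
  intro w hw
  -- the nine translates
  set x10 := α w with e10
  set x20 := α (α w) with e20
  set x01 := β w with e01
  set x02 := β (β w) with e02
  set x11 := α (β w) with e11
  set x12 := α (β (β w)) with e12
  set x21 := α (α (β w)) with e21
  set x22 := α (α (β (β w))) with e22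
  have hw : w ∈ S := hw
  have m10 : x10 ∈ S := hαS _ hw
  have m20 : x20 ∈ S := hαS _ m10
  have m01 : x01 ∈ S := hβS _ hw
  have m02 : x02 ∈ S := hβS _ m01
  have m11 : x11 ∈ S := hαS _ m01
  have m12 : x12 ∈ S := hαS _ m02
  have m21 : x21 ∈ S := hαS _ m11
  have m22 : x22 ∈ S := hαS _ m12
  -- action of α
  have a00 : α w = x10 := rfl
  have a10 : α x10 = x20 := rfl
  have a20 : α x20 = w := hα w hw
  have a01 : α x01 = x11 := rfl
  have a11 : α x11 = x21 := rfl
  have a21 : α x21 = x01 := hα _ m01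
  have a02 : α x02 = x12 := rfl
  have a12 : α x12 = x22 := rfl
  have a22 : α x22 = x02 := hα _ m02
  -- action of β
  have b00 : β w = x01 := rfl
  have b01 : β x01 = x02 := rfl
  have b02 : β x02 = w := hβ w hw
  have b10 : β x10 = x11 := (hcomm w hw).symm
  have b11 : β x11 = x12 := (hcomm _ m01).symm
  have b12 : β x12 = x10 := by
    rw [e12, ← hcomm _ m02]
    show α (β (β (β w))) = α w
    rw [hβ w hw]
  have b20 : β x20 = x21 := by
    rw [e20, ← hcomm _ m10]
    show α (β (α w)) = α (α (β w))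
    rw [← hcomm w hw]
  have b21 : β x21 = x22 := by
    rw [e21, ← hcomm _ m11]
    show α (β (α (β w))) = α (α (β (β w)))
    rw [← hcomm _ m01]
  have b22 : β x22 = x20 := by
    rw [e22, ← hcomm _ m12]
    show α (β (α (β (β w)))) = α (α w)
    rw [← hcomm _ m02]
    show α (α (β (β (β w)))) = α (α w)
    rw [hβ w hw]
  -- the norms
  have hN1 : w * x10 * x20 ∈ T := by
    apply h10 _ (S.mul_mem (S.mul_mem hw m10) m20)
    simp only [map_mul, a00, a10, a20]
    ac_rfl
  have hN2 : w * x01 * x02 ∈ T := by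
    apply h01 _ (S.mul_mem (S.mul_mem hw m01) m02)
    simp only [map_mul, b00, b01, b02]
    ac_rfl
  have hN3 : w * x11 * x22 ∈ T := by
    apply h11 _ (S.mul_mem (S.mul_mem hw m11) m22)
    simp only [map_mul, b00, b11, b22, a01, a12, a20]
    ac_rfl
  have hN4 : w * x12 * x21 ∈ T := by
    apply h12 _ (S.mul_mem (S.mul_mem hw m12) m21)
    simp only [map_mul, b00, b12, b21, b01, b10, b22, a02, a11, a20]
    ac_rfl
  have hNt : w * x10 * x20 * x01 * x11 * x21 * x02 * x12 * x22 ∈ T := by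
    apply h10 _ (S.mul_mem (S.mul_mem (S.mul_mem (S.mul_mem (S.mul_mem (S.mul_mem (S.mul_mem
      (S.mul_mem hw m10) m20) m01) m11) m21) m02) m12) m22)
    simp only [map_mul, a00, a10, a20, a01, a11, a21, a02, a12, a22]
    ac_rfl
  have hw3 : w ^ 3 ∈ T := by
    have hid : w ^ 3 = (w * x10 * x20) * (w * x01 * x02) * (w * x11 * x22) * (w * x12 * x21) *
        (w * x10 * x20 * x01 * x11 * x21 * x02 * x12 * x22)⁻¹ := by
      rw [eq_mul_inv_iff_mul_eq, pow_succ, pow_succ, pow_one]
      ac_rfl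
    rw [hid]
    exact T.mul_mem (T.mul_mem (T.mul_mem (T.mul_mem hN1 hN2) hN3) hN4) (T.inv_mem hNt)
  -- 3 is prime to the order of w
  have hcop : Nat.Coprime 3 (orderOf w) := by
    rw [Nat.Prime.coprime_iff_not_dvd Nat.prime_three]
    rintro ⟨k, hk⟩
    have h1 : (w ^ k) ^ 3 = 1 := by
      rw [← pow_mul, mul_comm, ← hk]
      exact pow_orderOf_eq_one w
    have h2 := hcube _ h1
    have h3 : orderOf w ∣ k := orderOf_dvd_of_pow_eq_one h2
    have hpos : 0 < orderOf w := orderOf_pos w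
    have hkpos : 0 < k := by
      rcases Nat.eq_zero_or_pos k with h | h
      · rw [h, mul_zero] at hk; omega
      · exact h
    have := Nat.le_of_dvd hkpos h3
    omega
  obtain ⟨m, hm⟩ := exists_pow_eq_self_of_coprime hcop
  rw [← hm]
  exact T.pow_mem hw3 m

end Cfsg.Agent.S5559P
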