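import Mathlib
import Cfsg.Agent.Helper14.S5559Defs

set_option autoImplicit false
set_option linter.unusedVariables false

/-! # S5559 piece C54B -/

namespace Cfsg.Agent.S5559P

/-- `y' * y ^ a = z ^ a * y ^ a * y'` when `z = [y', y]` commutes with `y`. -/
theorem C54B.aux_comm1 {G : Type*} [Group G] (y y' : G)
    (hzy : (y' * y * y'⁻¹ * y⁻¹) * y = y * (y' * y * y'⁻¹ * y⁻¹)) (a : ℕ) :
    y' * y ^ a = (y' * y * y'⁻¹ * y⁻¹) ^ a * y ^ a * y' := by
  set z := y' * y * y'⁻¹ * y⁻¹ with hz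
  have h1 : y' * y = z * y * y' := by rw [hz]; group
  have hc : Commute z y := hzy
  induction a with
  | zero => simp
  | succ a ih =>
    rw [pow_succ, ← mul_assoc, ih, mul_assoc, h1, pow_succ]
    have hc' : Commute (y ^ a) z := (hc.pow_right a).symm
    calc z ^ a * y ^ a * (z * y * y') = z ^ a * (y ^ a * z) * y * y' := by group
      _ = z ^ a * (z * y ^ a) * y * y' := by rw [hc'.eq]
      _ = z ^ a * z * (y ^ a * y) * y' := by group

/-- `y' ^ j * y ^ a = z ^ (j * a) * y ^ a * y' ^ j`. -/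
theorem C54B.aux_comm2 {G : Type*} [Group G] (y y' : G)
    (hzy : (y' * y * y'⁻¹ * y⁻¹) * y = y * (y' * y * y'⁻¹ * y⁻¹))
    (hzy' : (y' * y * y'⁻¹ * y⁻¹) * y' = y' * (y' * y * y'⁻¹ * y⁻¹)) (j a : ℕ) :
    y' ^ j * y ^ a = (y' * y * y'⁻¹ * y⁻¹) ^ (j * a) * y ^ a * y' ^ j := by
  set z := y' * y * y'⁻¹ * y⁻¹ with hz
  have hc' : Commute z y' := hzy'
  induction j with
  | zero => simp
  | succ j ih =>
    have h1 := C54B.aux_comm1 y y' hzy a
    rw [← hz] at h1
    have hcp : Commute (y' ^ j) (z ^ a) := ((hc'.pow_right j).pow_left a).symm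
    calc y' ^ (j + 1) * y ^ a = y' ^ j * (y' * y ^ a) := by rw [pow_succ]; group
      _ = y' ^ j * (z ^ a * y ^ a * y') := by rw [h1]
      _ = (y' ^ j * z ^ a) * y ^ a * y' := by group
      _ = (z ^ a * y' ^ j) * y ^ a * y' := by rw [hcp.eq]
      _ = z ^ a * (y' ^ j * y ^ a) * y' := by group
      _ = z ^ a * (z ^ (j * a) * y ^ a * y' ^ j) * y' := by rw [ih]
      _ = z ^ ((j + 1) * a) * y ^ a * y' ^ (j + 1) := by
        rw [add_mul, one_mul, pow_add, pow_succ]
        have : Commute (z ^ a) (z ^ (j * a)) := (Commute.refl z).pow_pow _ _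
        calc z ^ a * (z ^ (j * a) * y ^ a * y' ^ j) * y'
            = (z ^ a * z ^ (j * a)) * y ^ a * y' ^ j * y' := by group
          _ = (z ^ (j * a) * z ^ a) * y ^ a * y' ^ j * y' := by rw [this.eq]
          _ = z ^ (j * a) * z ^ a * y ^ a * (y' ^ j * y') := by group


/-- the set of normal forms `y ^ i * y' ^ j * z ^ k` is closed under multiplication -/
theorem C54B.aux_mul {G : Type*} [Group G] (y y' : G)
    (hzy : (y' * y * y'⁻¹ * y⁻¹) * y = y * (y' * y * y'⁻¹ * y⁻¹))
    (hzy' : (y' * y * y'⁻¹ * y⁻¹) * y' = y' * (y' * y * y'⁻¹ * y⁻¹)) (i j k a b c : ℕ) :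
    (y ^ i * y' ^ j * (y' * y * y'⁻¹ * y⁻¹) ^ k) * (y ^ a * y' ^ b * (y' * y * y'⁻¹ * y⁻¹) ^ c) =
      y ^ (i + a) * y' ^ (j + b) * (y' * y * y'⁻¹ * y⁻¹) ^ (j * a + (k + c)) := by
  have h2 := C54B.aux_comm2 y y' hzy hzy' j a
  set z := y' * y * y'⁻¹ * y⁻¹ with hz
  have hcy : Commute z y := hzy
  have hcy' : Commute z y' := hzy'
  have c1 : Commute (z ^ k) (y ^ a * y' ^ b) :=
    ((hcy.pow_right a).mul_right (hcy'.pow_right b)).pow_left k
  have c2 : Commute (y ^ i) (z ^ (j * a)) := ((hcy.pow_right i).pow_left (j * a)).symm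
  have c3 : Commute (z ^ (j * a)) ((y ^ i * y ^ a) * (y' ^ j * y' ^ b)) :=
    ((((hcy.pow_right i).mul_right (hcy.pow_right a))).mul_right
      ((hcy'.pow_right j).mul_right (hcy'.pow_right b))).pow_left (j * a)
  calc y ^ i * y' ^ j * z ^ k * (y ^ a * y' ^ b * z ^ c)
      = y ^ i * y' ^ j * (z ^ k * (y ^ a * y' ^ b)) * z ^ c := by group
    _ = y ^ i * y' ^ j * ((y ^ a * y' ^ b) * z ^ k) * z ^ c := by rw [c1.eq]
    _ = y ^ i * (y' ^ j * y ^ a) * y' ^ b * (z ^ k * z ^ c) := by group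
    _ = y ^ i * (z ^ (j * a) * y ^ a * y' ^ j) * y' ^ b * (z ^ k * z ^ c) := by rw [h2]
    _ = (y ^ i * z ^ (j * a)) * y ^ a * y' ^ j * y' ^ b * (z ^ k * z ^ c) := by group
    _ = (z ^ (j * a) * y ^ i) * y ^ a * y' ^ j * y' ^ b * (z ^ k * z ^ c) := by rw [c2.eq]
    _ = (z ^ (j * a) * ((y ^ i * y ^ a) * (y' ^ j * y' ^ b))) * (z ^ k * z ^ c) := by group
    _ = (((y ^ i * y ^ a) * (y' ^ j * y' ^ b)) * z ^ (j * a)) * (z ^ k * z ^ c) := by rw [c3.eq]
    _ = y ^ (i + a) * y' ^ (j + b) * z ^ (j * a + (k + c)) := by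
      rw [pow_add, pow_add, pow_add z, pow_add z]; group


/-- C54B: the order is 54 -/
theorem C54B {G : Type*} [Group G] [Finite G] {W : Type*} [CommGroup W]
    (C : Ctx G W) (y y' : G) (hy : y ∈ C.Q) (hy' : y' ∈ C.Q) (h3 : y ^ 3 = 1) (h3' : y' ^ 3 = 1)
    (hyt : C.t * y * C.t = y⁻¹) (hyt' : C.t * y' * C.t = y'⁻¹)
    (hz : y' * y * y'⁻¹ * y⁻¹ ≠ 1)
    (hzy : (y' * y * y'⁻¹ * y⁻¹) * y = y * (y' * y * y'⁻¹ * y⁻¹))
    (hzy' : (y' * y * y'⁻¹ * y⁻¹) * y' = y' * (y' * y * y'⁻¹ * y⁻¹))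
    (hgen : Subgroup.closure ({y, y', C.t} : Set G) = ⊤) : Nat.card G = 54 := by
  classical
  have ht2 : C.t * C.t = 1 := C.ht2
  have hmul := C54B.aux_mul y y' hzy hzy'
  set z := y' * y * y'⁻¹ * y⁻¹ with hzdef
  -- z ^ 3 = 1
  have hz3 : z ^ 3 = 1 := by
    have h1 : y' * y * y'⁻¹ = z * y := by rw [hzdef]; group
    have h2 : (z * y) ^ 3 = 1 := by
      rw [← h1, conj_pow, h3]; group
    have hc : Commute z y := hzy
    rw [hc.mul_pow, h3, mul_one] at h2
    exact h2
  -- the submonoid of normal forms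
  let X0 : Submonoid G :=
    { carrier := {g | ∃ i j k : ℕ, g = y ^ i * y' ^ j * z ^ k}
      one_mem' := ⟨0, 0, 0, by simp⟩
      mul_mem' := by
        rintro _ _ ⟨i, j, k, rfl⟩ ⟨a, b, c, rfl⟩
        exact ⟨i + a, j + b, j * a + (k + c), hmul i j k a b c⟩ }
  let X : Subgroup G :=
    { X0 with
      inv_mem' := by
        intro g hg
        have h1 : g * g ^ (orderOf g - 1) = 1 := by
          rw [← pow_succ', Nat.sub_add_cancel (orderOf_pos g)]
          exact pow_orderOf_eq_one g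
        rw [inv_eq_of_mul_eq_one_right h1]
        exact X0.pow_mem hg _ }
  have hXmem : ∀ g : G, g ∈ X ↔ ∃ i j k : ℕ, g = y ^ i * y' ^ j * z ^ k := fun g => Iff.rfl
  -- card X ≤ 27
  have hXcard : Nat.card X ≤ 27 := by
    let f : Fin 3 × Fin 3 × Fin 3 → X := fun p =>
      ⟨y ^ (p.1 : ℕ) * y' ^ (p.2.1 : ℕ) * z ^ (p.2.2 : ℕ), (hXmem _).2 ⟨_, _, _, rfl⟩⟩
    have hf : Function.Surjective f := by
      rintro ⟨g, hg⟩
      obtain ⟨i, j, k, rfl⟩ := (hXmem g).1 hg
      refine ⟨(⟨i % 3, Nat.mod_lt _ (by norm_num)⟩, ⟨j % 3, Nat.mod_lt _ (by norm_num)⟩,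
        ⟨k % 3, Nat.mod_lt _ (by norm_num)⟩), ?_⟩
      apply Subtype.ext
      show y ^ (i % 3) * y' ^ (j % 3) * z ^ (k % 3) = y ^ i * y' ^ j * z ^ k
      rw [← pow_eq_pow_mod i h3, ← pow_eq_pow_mod j h3', ← pow_eq_pow_mod k hz3]
    have := Nat.card_le_card_of_surjective f hf
    simpa using this
  -- R = closure {y, y'}
  set R : Subgroup G := Subgroup.closure ({y, y'} : Set G) with hR
  have hyR : y ∈ R := Subgroup.subset_closure (by simp)
  have hy'R : y' ∈ R := Subgroup.subset_closure (by simp)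
  have hRX : R ≤ X := by
    rw [hR, Subgroup.closure_le]
    rintro g hg
    rcases hg with rfl | rfl
    · exact (hXmem _).2 ⟨1, 0, 0, by simp⟩
    · exact (hXmem _).2 ⟨0, 1, 0, by simp⟩
  have hRQ : R ≤ C.Q := by
    rw [hR, Subgroup.closure_le]
    rintro g hg
    rcases hg with rfl | rfl
    · exact hy
    · exact hy'
  have hRcard27 : Nat.card R ≤ 27 := le_trans (Subgroup.card_le_of_le hRX) hXcard
  -- R is a non-abelian 3-group
  have hR3 : IsPGroup 3 R := C.hQ3.to_le hRQ
  have hRnc : ¬ ∀ a b : R, a * b = b * a := by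
    intro h
    apply hz
    have := congrArg Subtype.val (h ⟨y', hy'R⟩ ⟨y, hyR⟩)
    simp only [Subgroup.coe_mul] at this
    rw [hzdef, this]; group
  haveI : Fact (Nat.Prime 3) := ⟨Nat.prime_three⟩
  obtain ⟨n, hn⟩ := (IsPGroup.iff_card.1 hR3)
  have hRcard : Nat.card R = 27 := by
    have hn3 : n ≤ 3 := by
      by_contra hcon
      push Not at hcon
      have : 3 ^ 4 ≤ 3 ^ n := Nat.pow_le_pow_right (by norm_num) hcon
      rw [← hn] at this
      omega
    interval_cases n
    · exfalso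
      apply hRnc
      haveI : Subsingleton R := (Nat.card_eq_one_iff_unique.1 (by rw [hn]; rfl)).1
      intro a b
      exact Subsingleton.elim _ _
    · exfalso
      apply hRnc
      haveI : IsCyclic R := isCyclic_of_prime_card (p := 3) (by rw [hn]; rfl)
      intro a b
      exact (IsCyclic.commutative (α := R)).is_comm.comm a b
    · exfalso
      apply hRnc
      exact IsPGroup.commutative_of_card_eq_prime_sq (p := 3) (by rw [hn])
    · rw [hn]; rfl
  -- t normalises R
  have htR : ∀ r ∈ R, C.t * r * C.t ∈ R := by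
    intro r hr
    rw [hR] at hr
    induction hr using Subgroup.closure_induction with
    | mem x hx =>
      rcases hx with rfl | rfl
      · rw [hyt]; exact R.inv_mem hyR
      · rw [hyt']; exact R.inv_mem hy'R
    | one => simp [ht2]
    | mul a b _ _ iha ihb =>
      have : C.t * (a * b) * C.t = (C.t * a * C.t) * (C.t * b * C.t) := by
        calc C.t * (a * b) * C.t = C.t * a * 1 * b * C.t := by group
          _ = C.t * a * (C.t * C.t) * b * C.t := by rw [ht2]
          _ = (C.t * a * C.t) * (C.t * b * C.t) := by group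
      rw [this]
      exact R.mul_mem iha ihb
    | inv a _ iha =>
      have htinv : C.t⁻¹ = C.t := inv_eq_of_mul_eq_one_right ht2
      have : C.t * a⁻¹ * C.t = (C.t * a * C.t)⁻¹ := by
        rw [mul_inv_rev, mul_inv_rev, htinv]; group
      rw [this]
      exact R.inv_mem iha
  have htnR : C.t ∉ R := fun h => C.htQ (hRQ h)
  -- every element is in R or in R t
  have hall : ∀ g : G, g ∈ R ∨ g * C.t ∈ R := by
    intro g
    have hg : g ∈ Subgroup.closure ({y, y', C.t} : Set G) := by rw [hgen]; trivial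
    induction hg using Subgroup.closure_induction with
    | mem x hx =>
      rcases hx with rfl | rfl | rfl
      · exact Or.inl hyR
      · exact Or.inl hy'R
      · right; rw [ht2]; exact R.one_mem
    | one => exact Or.inl R.one_mem
    | mul a b _ _ iha ihb =>
      rcases iha with ha | ha <;> rcases ihb with hb | hb
      · exact Or.inl (R.mul_mem ha hb)
      · right
        rw [mul_assoc]
        exact R.mul_mem ha hb
      · right
        have : a * b * C.t = (a * C.t) * (C.t * b * C.t) := by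
          calc a * b * C.t = a * 1 * b * C.t := by group
            _ = a * (C.t * C.t) * b * C.t := by rw [ht2]
            _ = (a * C.t) * (C.t * b * C.t) := by group
        rw [this]
        exact R.mul_mem ha (htR b hb)
      · left
        have h1 := htR _ hb
        have : a * b = (a * C.t) * (C.t * (b * C.t) * C.t) := by
          calc a * b = a * 1 * b * 1 := by group
            _ = a * (C.t * C.t) * b * (C.t * C.t) := by rw [ht2]
            _ = (a * C.t) * (C.t * (b * C.t) * C.t) := by group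
        rw [this]
        exact R.mul_mem ha h1
    | inv a _ iha =>
      have htinv : C.t⁻¹ = C.t := inv_eq_of_mul_eq_one_right ht2
      rcases iha with ha | ha
      · exact Or.inl (R.inv_mem ha)
      · right
        have h1 := htR _ (R.inv_mem ha)
        have : a⁻¹ * C.t = C.t * (a * C.t)⁻¹ * C.t := by
          rw [mul_inv_rev, htinv]
          calc a⁻¹ * C.t = 1 * a⁻¹ * C.t := by group
            _ = (C.t * C.t) * a⁻¹ * C.t := by rw [ht2]
            _ = C.t * (C.t * a⁻¹) * C.t := by group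
        rw [this]
        exact h1
  -- index 2
  have hidx : R.index = 2 := by
    rw [Subgroup.index_eq_two_iff]
    refine ⟨C.t, fun b => ?_⟩
    rcases hall b with hb | hb
    · right
      refine ⟨hb, fun hbt => ?_⟩
      apply htnR
      have : C.t = b⁻¹ * (b * C.t) := by group
      rw [this]
      exact R.mul_mem (R.inv_mem hb) hbt
    · left
      refine ⟨hb, fun hb' => ?_⟩
      apply htnR
      have : C.t = b⁻¹ * (b * C.t) := by group
      rw [this]
      exact R.mul_mem (R.inv_mem hb') hb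
  have := R.card_mul_index
  rw [hRcard, hidx] at this
  omega

end Cfsg.Agent.S5559P
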