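import Mathlib
import Cfsg.Agent.Helper28.S5704SDefs
import Cfsg.Agent.Helper9.S5704SSYMPBASIS

/-! # S5704, chapter TVO, piece TVOR (helper19): `1 ⊗ t_z(c)` is a product of Siegel transformations. -/

set_option autoImplicit false
set_option linter.unusedSectionVars false
set_option linter.unusedVariables false

namespace Cfsg.Agent.S5704S

open Matrix Cfsg.Agent.Helper28.Sg

variable {F : Type*} [Field F] {n a b m : ℕ}

section tvo

variable {Q : QuadraticForm F (Fin n → F)}
  {e : Fin n ≃ Fin a × Fin b} {P : Matrix (Fin n) (Fin n) F}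
  {GU : Matrix (Fin a) (Fin a) F} {GW : Matrix (Fin b) (Fin b) F}

/-- the single Siegel transformation `ρ(x ⊗ z, c • y ⊗ z)` on pure tensors -/
theorem TVOR.step (hT : TData Q e P GU GW) (z : Fin b → F) (c : F) (x y : Fin a → F) :
    ∃ g ∈ S Q, ∀ u w, mt Q g *ᵥ pt e P u w
      = pt e P u w + (c * bf GW z w) • pt e P (bf GU x u • y - bf GU y u • x) z := by
  have hx : Q (pt e P x z) = 0 := hT.sing x z
  have hxv : B Q (pt e P x z) (c • pt e P y z) = 0 := by
    show QuadraticMap.polar ⇑Q (pt e P x z) (c • pt e P y z) = 0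
    rw [QuadraticMap.polar_smul_right, hT.pol, hT.sympW.alt z, mul_zero, smul_zero]
  refine ⟨siegO Q (pt e P x z) (c • pt e P y z) hx hxv, siegO_mem_S Q _ _ hx hxv, ?_⟩
  intro u w
  rw [siegO_mulVec]
  have h1 : B Q (pt e P x z) (pt e P u w) = bf GU x u * bf GW z w := hT.pol x z u w
  have h2 : B Q (c • pt e P y z) (pt e P u w) = c * (bf GU y u * bf GW z w) := by
    show QuadraticMap.polar ⇑Q (c • pt e P y z) (pt e P u w) = _
    rw [QuadraticMap.polar_smul_left, hT.pol, smul_eq_mul]
  have h3 : Q (c • pt e P y z) = 0 := by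
    rw [Q_smul, hT.sing, mul_zero]
  rw [h1, h2, h3, zero_mul, zero_smul, sub_zero, pt_sub_left, pt_smul_left, pt_smul_left]
  module

/-- TVOR (M-L): `1 ⊗ t_z(c)` is in `S Q`: the mirror image of TVOL (symplectic basis of `U`, `ρ_i = siegO Q (pt (e' i) z) (c • pt (f' i) z)`). -/
theorem TVOR.exists (hT : TData Q e P GU GW) (z : Fin b → F) (c : F) :
    ∃ g ∈ S Q, ∀ u w, mt Q g *ᵥ pt e P u w = pt e P u (w + (c * bf GW z w) • z) := by
  classical
  obtain ⟨k, e', f', -, -, -, -, hexp⟩ := SYMPBASIS.exists hT.sympU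
  -- partial products
  have key : ∀ s : Finset (Fin k), ∃ g ∈ S Q, ∀ u w, mt Q g *ᵥ pt e P u w
      = pt e P u w + (c * bf GW z w) •
          pt e P (∑ i ∈ s, (bf GU (e' i) u • f' i - bf GU (f' i) u • e' i)) z := by
    intro s
    induction s using Finset.induction_on with
    | empty =>
      refine ⟨1, (S Q).one_mem, fun u w => ?_⟩
      rw [mt_one_mulVec, Finset.sum_empty, pt_zero_left, smul_zero, add_zero]
    | insert i s hi ih =>
      obtain ⟨g, hg, hgf⟩ := ih
      obtain ⟨r, hr, hrf⟩ := TVOR.step hT z c (e' i) (f' i)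
      refine ⟨r * g, (S Q).mul_mem hr hg, fun u w => ?_⟩
      rw [mt_mul_mulVec, hgf, Matrix.mulVec_add, Matrix.mulVec_smul, hrf, hrf, hT.sympW.alt z,
        mul_zero, zero_smul, add_zero, Finset.sum_insert hi, pt_add_left]
      module
  obtain ⟨g, hg, hgf⟩ := key Finset.univ
  refine ⟨g, hg, fun u w => ?_⟩
  rw [hgf, ← hexp u, pt_add_right, pt_smul_right]

end tvo

end Cfsg.Agent.S5704S
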