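import Mathlib
import Cfsg.Prelude.Def_ClassicalGeometry
import Cfsg.Prelude.Def_GeometricClasses
import Cfsg.Agent.Helper16.S5972Defs
import Cfsg.Agent.Helper16.S5972R2EIG
import Cfsg.Agent.Helper12.InvClassA

set_option autoImplicit false
open scoped MatrixGroups

/-! S5972, piece R2FRAME: an involution of the isometry group of a nondegenerate quadratic form
(odd characteristic) is the product of the reflections in part of an orthogonal frame. -/

universe u

namespace Cfsg.Agent.S5972P

open Polynomial Cfsg.Agent.Helper2.SympInvol Cfsg.Agent.Helper2.SympUnits Cfsg.Agent.S5961P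
  Cfsg.Agent.S5955P

namespace R2FRAME

/-- an orthogonal basis (with nonzero norms) of a nondegenerate subspace -/
theorem exists_orth_basis {F V : Type*} [Field F] [AddCommGroup V] [Module F V]
    [FiniteDimensional F V] (h2 : (2 : F) ≠ 0) (B : LinearMap.BilinForm F V)
    (hsymm : ∀ u v, B u v = B v u) (M : Submodule F V) (hM : Nondeg B M) :
    ∃ (n : ℕ) (b : Fin n → V), LinearIndependent F b ∧
      Submodule.span F (Set.range b) = M ∧
      (∀ i j, i ≠ j → B (b i) (b j) = 0) ∧ ∀ i, B (b i) (b i) ≠ 0 := by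
  haveI : Invertible (2 : F) := invertibleOfNonzero h2
  have hs : (B.restrict M).IsSymm := ⟨fun x y => hsymm x y⟩
  obtain ⟨v, hv⟩ := LinearMap.BilinForm.exists_orthogonal_basis (B := B.restrict M)
    (LinearMap.BilinForm.isSymm_iff.mp hs)
  have hsep : (B.restrict M).SeparatingLeft := by
    intro x hx
    by_contra hx0
    obtain ⟨w, hw, hBw⟩ := hM x.1 x.2 (fun h => hx0 (Subtype.ext h))
    exact hBw (hx ⟨w, hw⟩)
  refine ⟨_, fun i => (v i : V), ?_, ?_, ?_, ?_⟩
  · exact v.linearIndependent.map' M.subtype (Submodule.ker_subtype M)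
  · have h1 : Set.range (fun i => (v i : V)) = M.subtype '' Set.range v := by
      rw [← Set.range_comp]
      rfl
    rw [h1, ← Submodule.map_span, v.span_eq, Submodule.map_subtype_top]
  · intro i j hij
    exact hv hij
  · intro i
    exact hv.not_isOrtho_basis_self_of_separatingLeft hsep i

end R2FRAME

open R2FRAME Cfsg.Agent.Helper12.InvClass in
/-- R2FRAME: an involution of the isometry group is the product of the reflections in part of an
orthogonal frame -/
theorem exists_frame_of_invol {F : Type*} [Field F] [Fintype F] {ι : Type} [Fintype ι]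
    [DecidableEq ι] (h2 : (2 : F) ≠ 0) (Q : QuadraticForm F (ι → F))
    (hQ : (QuadraticMap.polarBilin Q).Nondegenerate)
    (g : ↥(Cfsg.isometryGroup F ⇑Q)) (hg : g * g = 1) :
    ∃ (w : ι → ι → F) (hw : ∀ i, Q (w i) ≠ 0) (S : Finset ι),
      (∀ i j, i ≠ j → QuadraticMap.polar ⇑Q (w i) (w j) = 0) ∧
      g = Cfsg.Agent.Helper12.InvClass.gS Q w hw S ∧
      LinearMap.ker (Matrix.toLin' ((g : GL ι F) : Matrix ι ι F) + 1) =
        Submodule.span F (w '' (S : Set ι)) := by
  classical
  obtain ⟨B, hB⟩ : ∃ B : LinearMap.BilinForm F (ι → F), B = QuadraticMap.polarBilin Q :=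
    ⟨_, rfl⟩
  have hBap : ∀ u v, B u v = QuadraticMap.polar ⇑Q u v := by
    intro u v; rw [hB]; rfl
  obtain ⟨y, hy⟩ : ∃ y : Module.End F (ι → F),
      y = Matrix.toLin' ((g : GL ι F) : Matrix ι ι F) := ⟨_, rfl⟩
  have hyap : ∀ v, y v = ((g : GL ι F) : Matrix ι ι F).mulVec v := by
    intro v; rw [hy, Matrix.toLin'_apply]
  have hQy : ∀ v, Q (y v) = Q v := by
    intro v
    rw [hyap]
    exact g.2 v v
  have hsymm : ∀ u v, B u v = B v u := by
    intro u v
    rw [hBap, hBap, QuadraticMap.polar_comm]
  have hyB : ∀ u v, B (y u) (y v) = B u v := by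
    intro u v
    rw [hBap, hBap, QuadraticMap.polar, QuadraticMap.polar, ← map_add, hQy, hQy, hQy]
  have hy2 : y * y = 1 := by
    rw [hy, Module.End.mul_eq_comp, ← Matrix.toLin'_mul, ← Units.val_mul, ← Subgroup.coe_mul, hg]
    simp only [OneMemClass.coe_one, Units.val_one, Matrix.toLin'_one]
    rfl
  have hnd : Nondeg B ⊤ := by
    intro m _ hm
    by_contra hcon
    push Not at hcon
    apply hm
    apply hQ.1 m
    intro v
    have := hcon v Submodule.mem_top
    rw [hB] at this
    exact this
  obtain ⟨hcompl, horth, hndp, hndm⟩ := invol_split h2 B hsymm hnd y hyB hy2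
  obtain ⟨np, bp, hlip, hspp, hop, hnp⟩ := exists_orth_basis h2 B hsymm _ hndp
  obtain ⟨nm, bm, hlim, hspm, hom, hnm⟩ := exists_orth_basis h2 B hsymm _ hndm
  -- the combined family
  have hbp : ∀ i, bp i ∈ LinearMap.ker (y - 1) := fun i => by
    rw [← hspp]; exact Submodule.subset_span ⟨i, rfl⟩
  have hbm : ∀ i, bm i ∈ LinearMap.ker (y + 1) := fun i => by
    rw [← hspm]; exact Submodule.subset_span ⟨i, rfl⟩
  have hli : LinearIndependent F (Sum.elim bp bm) := by
    apply LinearIndependent.sum_type hlip hlim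
    rw [hspp, hspm]
    exact hcompl.disjoint
  have hspan : Submodule.span F (Set.range (Sum.elim bp bm)) = ⊤ := by
    rw [Set.Sum.elim_range, Submodule.span_union, hspp, hspm]
    exact hcompl.sup_eq_top
  have hcard : Fintype.card ι = Fintype.card (Fin np ⊕ Fin nm) := by
    have h1 := finrank_span_eq_card hli
    rw [hspan, finrank_top, Module.finrank_fintype_fun_eq_card] at h1
    exact h1
  obtain ⟨e⟩ : Nonempty (ι ≃ Fin np ⊕ Fin nm) := Fintype.card_eq.mp hcard
  obtain ⟨w, hwdef⟩ : ∃ w : ι → ι → F, w = fun i => Sum.elim bp bm (e i) := ⟨_, rfl⟩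
  have hwB : ∀ i j, i ≠ j → B (w i) (w j) = 0 := by
    intro i j hij
    have heij : e i ≠ e j := fun h => hij (e.injective h)
    rw [hwdef]
    show B (Sum.elim bp bm (e i)) (Sum.elim bp bm (e j)) = 0
    rcases hi : e i with a | a <;> rcases hj : e j with b | b
    · simp only [Sum.elim_inl]
      exact hop a b (fun h => heij (by rw [hi, hj, h]))
    · simp only [Sum.elim_inl, Sum.elim_inr]
      exact horth _ (hbp a) _ (hbm b)
    · simp only [Sum.elim_inl, Sum.elim_inr]
      rw [hsymm]
      exact horth _ (hbp b) _ (hbm a)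
    · simp only [Sum.elim_inr]
      exact hom a b (fun h => heij (by rw [hi, hj, h]))
  have hwn : ∀ i, B (w i) (w i) ≠ 0 := by
    intro i
    rw [hwdef]
    show B (Sum.elim bp bm (e i)) (Sum.elim bp bm (e i)) ≠ 0
    rcases e i with a | a
    · exact hnp a
    · exact hnm a
  have hw : ∀ i, Q (w i) ≠ 0 := by
    intro i h0
    apply hwn i
    rw [hBap, QuadraticMap.polar_self, h0]
    simp
  have hworth : ∀ i j, i ≠ j → QuadraticMap.polar ⇑Q (w i) (w j) = 0 := by
    intro i j hij
    rw [← hBap]
    exact hwB i j hij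
  obtain ⟨S, hS⟩ : ∃ S : Finset ι, S = Finset.univ.filter (fun i => (e i).isRight = true) :=
    ⟨_, rfl⟩
  have hyw : ∀ j, y (w j) = sgnVec (F := F) S j • w j := by
    intro j
    unfold sgnVec
    rw [hS, hwdef]
    simp only [Finset.mem_filter, Finset.mem_univ, true_and]
    rcases hj : e j with a | a
    · simp only [Sum.isRight_inl, Bool.false_eq_true, if_false, one_smul, Sum.elim_inl]
      have := LinearMap.mem_ker.mp (hbp a)
      rw [LinearMap.sub_apply, Module.End.one_apply, sub_eq_zero] at this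
      exact this
    · simp only [Sum.isRight_inr, if_true, neg_smul, one_smul, Sum.elim_inr]
      have := LinearMap.mem_ker.mp (hbm a)
      rw [LinearMap.add_apply, Module.End.one_apply] at this
      exact eq_neg_of_add_eq_zero_left this
  have hsgn : ∀ j, sgnVec (F := F) S j * sgnVec S j = 1 := by
    intro j
    unfold sgnVec
    split_ifs <;> simp
  have hgS2 := gS_mul_self Q w hw h2 hworth S
  have hprod : g * gS Q w hw S = 1 := by
    apply Subtype.ext
    apply Units.ext
    rw [Subgroup.coe_mul, Units.val_mul]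
    apply eq_one_of_fix _ w (isUnit_colMat Q h2 w hw hworth)
    intro j
    rw [← Matrix.mulVec_mulVec, gS_mulVec Q w hw hworth, Matrix.mulVec_smul, ← hyap, hyw,
      smul_smul, hsgn, one_smul]
  have hgeq : g = gS Q w hw S := by
    calc g = g * (gS Q w hw S * gS Q w hw S) := by rw [hgS2, mul_one]
      _ = (g * gS Q w hw S) * gS Q w hw S := by rw [mul_assoc]
      _ = gS Q w hw S := by rw [hprod, one_mul]
  refine ⟨w, hw, S, hworth, hgeq, ?_⟩
  rw [← hy, ← hspm]
  congr 1
  ext v
  constructor
  · rintro ⟨a, rfl⟩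
    refine ⟨e.symm (Sum.inr a), ?_, ?_⟩
    · rw [hS]
      simp
    · rw [hwdef]
      simp
  · rintro ⟨i, hi, rfl⟩
    rw [hS] at hi
    simp only [Finset.coe_filter, Finset.mem_univ, true_and, Set.mem_ofPred_eq] at hi
    rw [hwdef]
    rcases hei : e i with a | a
    · rw [hei] at hi
      simp at hi
    · refine ⟨a, ?_⟩
      show bm a = Sum.elim bp bm (e i)
      rw [hei]
      rfl

end Cfsg.Agent.S5972P
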