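import Mathlib

set_option autoImplicit false
set_option linter.unusedVariables false

/-! # S1983 piece NORMCOND -/

namespace Cfsg.Agent.S1983P

/-- NORMCOND: normalizer condition above a normal subgroup with `p`-power quotient. -/
theorem NORMCOND.main {Γ : Type*} [Group Γ] [Finite Γ] (p : ℕ) [Fact p.Prime]
    (M L K : Subgroup Γ) (hML : M ≤ Subgroup.normalizer (L : Set Γ)) (hLK : L ≤ K) (hKM : K ≤ M)
    (hne : K ≠ M) (hpow : ∀ m ∈ M, ∃ k : ℕ, m ^ (p ^ k) ∈ L) :
    ∃ K' : Subgroup Γ, K < K' ∧ K' ≤ M ∧ K' ≤ Subgroup.normalizer (K : Set Γ) := by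
  classical
  have hLM : L ≤ M := le_trans hLK hKM
  set K1 : Subgroup ↥M := K.subgroupOf M with hK1
  set L1 : Subgroup ↥M := L.subgroupOf M with hL1
  haveI hL1n : L1.Normal := (Subgroup.normal_subgroupOf_iff_le_normalizer hLM).2 hML
  let π : ↥M →* ↥M ⧸ L1 := QuotientGroup.mk' L1
  have hπ : Function.Surjective π := QuotientGroup.mk'_surjective L1
  -- the quotient is a p-group
  have hQ : IsPGroup p (↥M ⧸ L1) := by
    intro q
    obtain ⟨m, rfl⟩ := hπ q
    obtain ⟨k, hk⟩ := hpow m m.2
    refine ⟨k, ?_⟩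
    rw [← map_pow]
    show π (m ^ p ^ k) = 1
    rw [QuotientGroup.mk'_apply, QuotientGroup.eq_one_iff, hL1, Subgroup.mem_subgroupOf]
    simpa using hk
  haveI : Group.IsNilpotent (↥M ⧸ L1) := hQ.isNilpotent
  have hNC := Group.normalizerCondition_of_isNilpotent (G := ↥M ⧸ L1)
  have hL1K1 : L1 ≤ K1 := Subgroup.subgroupOf_mono M hLK
  have hker : π.ker ≤ K1 := by rw [QuotientGroup.ker_mk']; exact hL1K1
  have hcm : (K1.map π).comap π = K1 := Subgroup.comap_map_eq_self hker
  -- the image of K is proper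
  have hK1top : K1 ≠ ⊤ := by
    intro h
    apply hne
    apply le_antisymm hKM
    intro m hm
    have : (⟨m, hm⟩ : ↥M) ∈ K1 := by rw [h]; trivial
    rw [hK1, Subgroup.mem_subgroupOf] at this
    exact this
  have hlt : K1.map π < ⊤ := by
    rw [lt_top_iff_ne_top]
    intro h
    apply hK1top
    rw [← hcm, h, Subgroup.comap_top]
  have h1 := hNC _ hlt
  have h2 : K1 < Subgroup.normalizer (K1 : Set ↥M) := by
    have := (Subgroup.comap_lt_comap_of_surjective hπ).2 h1
    rwa [Subgroup.comap_normalizer_eq_of_surjective _ hπ, hcm] at this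
  refine ⟨(Subgroup.normalizer (K1 : Set ↥M)).map M.subtype, ?_, ?_, ?_⟩
  · have := (Subgroup.map_lt_map_iff_of_injective (f := M.subtype) M.subtype_injective).2 h2
    rwa [hK1, Subgroup.map_subgroupOf_eq_of_le hKM] at this
  · exact Subgroup.map_subtype_le _
  · rintro _ ⟨y, hy, rfl⟩
    rw [Subgroup.mem_normalizer_iff]
    intro k
    have hy' := Subgroup.mem_normalizer_iff.1 hy
    constructor
    · intro hk
      have := (hy' ⟨k, hKM hk⟩).1 (by rw [hK1, Subgroup.mem_subgroupOf]; exact hk)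
      rw [hK1, Subgroup.mem_subgroupOf] at this
      simpa using this
    · intro hk
      have hkM : k ∈ M := by
        have h3 : (M.subtype y)⁻¹ * (M.subtype y * k * (M.subtype y)⁻¹) * M.subtype y ∈ M :=
          M.mul_mem (M.mul_mem (M.inv_mem y.2) (hKM hk)) y.2
        have h4 : (M.subtype y)⁻¹ * (M.subtype y * k * (M.subtype y)⁻¹) * M.subtype y = k := by group
        rwa [h4] at h3
      have := (hy' ⟨k, hkM⟩).2 (by
        rw [hK1, Subgroup.mem_subgroupOf]
        simpa using hk)
      rw [hK1, Subgroup.mem_subgroupOf] at this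
      exact this

end Cfsg.Agent.S1983P
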