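import Mathlib
import Cfsg.Agent.Helper2.S2099.DefsR
import Cfsg.Agent.Helper2.S2099.DefsN
import Cfsg.Agent.Helper16.S2099CONJSLQ
import Cfsg.Agent.Helper16.S2099CONJSS1Q
import Cfsg.Agent.Helper23.S2099CONJSS2Q
import Cfsg.Agent.Helper23.S2099WYINVQ

set_option autoImplicit false
set_option linter.unusedSectionVars false
set_option linter.unusedVariables false

/-! S2099 chapter N, piece TORUSQ (helper19; driver helper2): the action of the short torus elements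
`tY a w = wY a w * (wY a e₁)⁻¹ = wY a w * wY a (-e₁)` on the root elements: CONJSLQ / CONJSS1Q / CONJSS2Q twice. -/

namespace Cfsg.Agent.S2099P

open Matrix Cfsg.Agent.S3352P Cfsg.Agent.S3351P Cfsg.Agent.S2096P Cfsg.Agent.S2086P Cfsg.Agent.RGD
open Cfsg.Agent.S2094P (RB RootB sc NgEquivariant mapB reflB MD XD XD_coe isRoot_ng_right'
  isRoot_ng_left' sw_ngEquivariant sc_ngEquivariant)

section formal

variable {n : ℕ} {F : Type*} [Field F] {P : Type*} [AddCommGroup P] [Module F P]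
  {M : Type*} [Group M] {Q0 : QuadraticForm F P} {X : J n → J n → F → M} {Ys : J n → P → M}

namespace TORUSQ

theorem conj_two {G : Type*} [Group G] (g h x : G) :
    (g * h) * x * (g * h)⁻¹ = g * (h * x * h⁻¹) * g⁻¹ := by
  group

theorem tY_eq (hB : QRel Q0 X Ys) (e₁ : P) (a : J n) (w : P) :
    tY Q0 Ys e₁ a w = wY Q0 Ys a w * wY Q0 Ys a (-e₁) := by
  unfold tY
  rw [wY_inv' hB]

theorem Q0_neg_e (e₁ : P) (he₁ : Q0 e₁ = 1) : Q0 (-e₁) = 1 := by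
  rw [QuadraticMap.map_neg, he₁]

theorem rfl0_neg_left (w u : P) : rfl0 Q0 (-w) u = rfl0 Q0 w u := by
  unfold rfl0
  rw [QuadraticMap.polar_neg_right, QuadraticMap.map_neg, smul_neg, neg_mul, neg_smul, neg_neg]

theorem rfl0_neg_right (w u : P) : rfl0 Q0 w (-u) = -(rfl0 Q0 w u) := by
  unfold rfl0
  rw [QuadraticMap.polar_neg_left, neg_mul, neg_smul]
  abel

end TORUSQ

open TORUSQ

theorem tY_conj_X_fst (hB : QRel Q0 X Ys) {e₁ : P} (he₁ : Q0 e₁ = 1) {a d : J n}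
    (had : IsRoot a d) {w : P} (hw : Q0 w ≠ 0) (u : F) :
    tY Q0 Ys e₁ a w * X a d u * (tY Q0 Ys e₁ a w)⁻¹ = X a d (Q0 w * u) := by
  have h1 : Q0 (-e₁) ≠ 0 := by rw [Q0_neg_e e₁ he₁]; exact one_ne_zero
  rw [tY_eq hB, conj_two, wY_conj_X_fst hB had h1, wY_conj_X_ng_fst hB had hw, Q0_neg_e e₁ he₁,
    inv_one, one_mul, mul_neg, neg_neg]

theorem tY_conj_X_snd (hB : QRel Q0 X Ys) {e₁ : P} (he₁ : Q0 e₁ = 1) {c a : J n}
    (hca : IsRoot c a) {w : P} (hw : Q0 w ≠ 0) (u : F) :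
    tY Q0 Ys e₁ a w * X c a u * (tY Q0 Ys e₁ a w)⁻¹ = X c a ((Q0 w)⁻¹ * u) := by
  have h1 : Q0 (-e₁) ≠ 0 := by rw [Q0_neg_e e₁ he₁]; exact one_ne_zero
  rw [tY_eq hB, conj_two, wY_conj_X_snd hB hca h1, wY_conj_X_ng_snd hB hca hw, Q0_neg_e e₁ he₁,
    one_mul, mul_neg, neg_neg]

theorem tY_conj_X_of_ne (hB : QRel Q0 X Ys) (e₁ : P) (a : J n) (w : P) {c d : J n}
    (hcd : IsRoot c d) (h1 : c ≠ a) (h2 : c ≠ ng a) (h3 : d ≠ a) (h4 : d ≠ ng a) (u : F) :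
    tY Q0 Ys e₁ a w * X c d u * (tY Q0 Ys e₁ a w)⁻¹ = X c d u := by
  rw [tY_eq hB, conj_two, wY_conj_X_of_ne hB a (-e₁) hcd h1 h2 h3 h4,
    wY_conj_X_of_ne hB a w hcd h1 h2 h3 h4]

theorem tY_conj_Ys_of_ne (hB : QRel Q0 X Ys) {e₁ : P} (he₁ : Q0 e₁ = 1) {a c : J n}
    (hac : IsRoot a c) {w : P} (hw : Q0 w ≠ 0) (u : P) :
    tY Q0 Ys e₁ a w * Ys c u * (tY Q0 Ys e₁ a w)⁻¹ = Ys c (rfl0 Q0 w (rfl0 Q0 e₁ u)) := by
  have h1 : Q0 (-e₁) ≠ 0 := by rw [Q0_neg_e e₁ he₁]; exact one_ne_zero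
  rw [tY_eq hB, conj_two, wY_conj_Ys_of_ne hB hac h1, wY_conj_Ys_of_ne hB hac hw, rfl0_neg_left]

theorem tY_conj_Ys_self (hn : 3 ≤ n) (hB : QRel Q0 X Ys) {e₁ : P} (he₁ : Q0 e₁ = 1) (a : J n)
    {w : P} (hw : Q0 w ≠ 0) (u : P) :
    tY Q0 Ys e₁ a w * Ys a u * (tY Q0 Ys e₁ a w)⁻¹ =
      Ys a (Q0 w • rfl0 Q0 w (rfl0 Q0 e₁ u)) := by
  have h1 : Q0 (-e₁) ≠ 0 := by rw [Q0_neg_e e₁ he₁]; exact one_ne_zero
  rw [tY_eq hB, conj_two, wY_conj_Ys_self hn hB a h1, wY_conj_Ys_ng hn hB a hw, Q0_neg_e e₁ he₁,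
    inv_one, one_smul, rfl0_neg_left, rfl0_neg_right, smul_neg, neg_neg]

theorem tY_conj_Ys_ng (hn : 3 ≤ n) (hB : QRel Q0 X Ys) {e₁ : P} (he₁ : Q0 e₁ = 1) (a : J n)
    {w : P} (hw : Q0 w ≠ 0) (u : P) :
    tY Q0 Ys e₁ a w * Ys (ng a) u * (tY Q0 Ys e₁ a w)⁻¹ =
      Ys (ng a) ((Q0 w)⁻¹ • rfl0 Q0 w (rfl0 Q0 e₁ u)) := by
  have h1 : Q0 (-e₁) ≠ 0 := by rw [Q0_neg_e e₁ he₁]; exact one_ne_zero
  rw [tY_eq hB, conj_two, wY_conj_Ys_ng hn hB a h1, wY_conj_Ys_self hn hB a hw, Q0_neg_e e₁ he₁,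
    one_smul, rfl0_neg_left, rfl0_neg_right, smul_neg, neg_neg]

end formal

end Cfsg.Agent.S2099P
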