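import Mathlib
import Cfsg.Agent.Helper15.S2933Defs

set_option autoImplicit false

/-! # S2933 board, piece QUOT (blueprint L1) -/

namespace Cfsg.Agent.S2933P

/-- An involutory automorphism of a finite group stabilising a non-trivial `2`-subgroup `Z` has a non-trivial
fixed point in `Z`. -/
theorem QUOT_aux_fix {X : Type*} [Group X] [Finite X] (Z : Subgroup X) (hZ : IsPGroup 2 Z)
    (hZne : Z ≠ ⊥) (σ : MulAut X) (hσ : ∀ x, σ (σ x) = x) (hσZ : ∀ z ∈ Z, σ z ∈ Z) :
    ∃ z ∈ Z, z ≠ 1 ∧ σ z = z := by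
  classical
  have : Fintype Z := Fintype.ofFinite Z
  have : Fact (Nat.Prime 2) := ⟨Nat.prime_two⟩
  let f : Function.End Z := fun z => ⟨σ z, hσZ z z.2⟩
  have hf : f ^ 2 ^ 1 = 1 := by
    funext z
    apply Subtype.ext
    show σ (σ z) = z
    exact hσ z
  have h1 := Equiv.Perm.card_fixedPoints_modEq (p := 2) (n := 1) hf
  -- `card Z` is even
  obtain ⟨k, hk⟩ := hZ.exists_card_eq
  have hk0 : k ≠ 0 := by
    intro h0
    rw [h0, pow_zero] at hk
    apply hZne
    exact Subgroup.eq_bot_of_card_eq Z hk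
  have heven : Fintype.card Z % 2 = 0 := by
    rw [← Nat.card_eq_fintype_card, hk]
    obtain ⟨j, rfl⟩ := Nat.exists_eq_succ_of_ne_zero hk0
    rw [pow_succ]; simp
  by_contra hcon
  push Not at hcon
  -- then the only fixed point is `1`
  have hfix : Function.fixedPoints f = {1} := by
    ext z
    simp only [Set.mem_singleton_iff]
    constructor
    · intro hz
      by_contra hz1
      have h2 : σ (z : X) = z := congrArg Subtype.val hz
      exact hcon z z.2 (fun h => hz1 (Subtype.ext h)) h2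
    · rintro rfl
      apply Subtype.ext
      show σ 1 = 1
      exact map_one σ
  have hcard : Fintype.card (Function.fixedPoints f) = 1 := by
    rw [Fintype.card_eq_one_iff]
    refine ⟨⟨1, by rw [hfix]; rfl⟩, ?_⟩
    rintro ⟨y, hy⟩
    apply Subtype.ext
    rw [hfix] at hy
    exact hy
  rw [hcard] at h1
  have := h1
  unfold Nat.ModEq at this
  omega

/-- A subgroup stable under an automorphism `r` without non-trivial fixed point on it does not have order `2`. -/
theorem QUOT_aux_ne_two {X : Type*} [Group X] (W : Subgroup X) (r : MulAut X)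
    (hfpf : ∀ w ∈ W, r w = w → w = 1) (hrW : ∀ w ∈ W, r w ∈ W) : Nat.card W ≠ 2 := by
  intro h
  obtain ⟨y, hy1, hy⟩ := (Nat.card_eq_two_iff' (1 : W)).1 h
  have hw1 : (y : X) ≠ 1 := fun h => hy1 (Subtype.ext h)
  have hrw1 : r (y : X) ≠ 1 := by
    intro h
    apply hw1
    have : r (y : X) = r 1 := by rw [h, map_one]
    exact r.injective this
  have e2 : (⟨r (y : X), hrW y y.2⟩ : W) = y := hy _ (fun h => hrw1 (congrArg Subtype.val h))
  have : r (y : X) = y := congrArg Subtype.val e2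
  exact hw1 (hfpf y y.2 this)

/-- A non-trivial `r`-invariant subgroup `W` of a group `V'` of order `4` on which `r` has no non-trivial fixed
point is all of `V'`. -/
theorem QUOT_aux_irr {X : Type*} [Group X] [Finite X] (V' W : Subgroup X) (hV' : Nat.card V' = 4)
    (r : MulAut X) (hfpf : ∀ v ∈ V', r v = v → v = 1) (hWV : W ≤ V') (hW : W ≠ ⊥)
    (hrW : ∀ w ∈ W, r w ∈ W) : W = V' := by
  have hdvd : Nat.card W ∣ 4 := by
    rw [← hV']
    exact Subgroup.card_dvd_of_le hWV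
  have hle : Nat.card W ≤ 4 := Nat.le_of_dvd (by norm_num) hdvd
  have hpos : 0 < Nat.card W := Nat.card_pos
  have h1 : Nat.card W ≠ 1 := fun h => hW (Subgroup.eq_bot_of_card_eq W h)
  have h3 : Nat.card W ≠ 3 := by
    intro h; rw [h] at hdvd; omega
  have h2 : Nat.card W ≠ 2 := QUOT_aux_ne_two W r (fun w hw => hfpf w (hWV hw)) hrW
  have h4 : Nat.card W = 4 := by omega
  exact Subgroup.eq_of_le_of_card_ge hWV (by rw [h4, hV'])

theorem QUOT_aux_center {X : Type*} [Group X] (σ : MulAut X) {z : X} (hz : z ∈ Subgroup.center X) :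
    σ z ∈ Subgroup.center X := by
  rw [Subgroup.mem_center_iff] at hz ⊢
  intro g
  have h1 := hz (σ.symm g)
  have h2 := congrArg σ h1
  rw [map_mul, map_mul, MulEquiv.apply_symm_apply] at h2
  exact h2


universe u

/-- QUOT (blueprint L1): the quotient `T ⧸ V` with the induced automorphisms and
`V' = {xV : x⁻¹ τ(x) ∈ V}` satisfies (P) again. -/
theorem QUOT {T : Type u} [Group T] [Finite T] (hT : IsPGroup 2 T) {τ ρ : MulAut T} {V : Subgroup T}
    (h : PData τ ρ V) [V.Normal] (hne : V ≠ ⊤) :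
    ∃ (τ' ρ' : MulAut (T ⧸ V)) (V' : Subgroup (T ⧸ V)), PData τ' ρ' V' ∧
      (∀ x : T, τ' (QuotientGroup.mk x) = QuotientGroup.mk (τ x)) ∧
      (∀ x : T, ρ' (QuotientGroup.mk x) = QuotientGroup.mk (ρ x)) ∧
      (∀ x : T, (QuotientGroup.mk x : T ⧸ V) ∈ V' ↔ x⁻¹ * τ x ∈ V) := by
  classical
  have hτV : V.map (τ : T →* T) = V := by
    ext x
    constructor
    · rintro ⟨v, hv, rfl⟩
      show τ v ∈ V
      rw [(h.tau_fix v).2 hv]; exact hv
    · intro hx
      exact ⟨x, hx, (h.tau_fix x).2 hx⟩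
  have hρV : V.map (ρ : T →* T) = V := by
    ext x
    constructor
    · rintro ⟨v, hv, rfl⟩
      exact h.rho_mem v hv
    · intro hx
      exact ⟨ρ (ρ x), h.rho_mem _ (h.rho_mem _ hx), h.rho_cube x⟩
  -- centrality of `V` in usable form
  have hcen : ∀ v ∈ V, ∀ g : T, g * v = v * g := fun v hv g =>
    Subgroup.mem_center_iff.1 (h.central hv) g
  obtain ⟨τ', hτ'⟩ : ∃ τ' : MulAut (T ⧸ V), ∀ x : T, τ' (QuotientGroup.mk x) = QuotientGroup.mk (τ x) :=
    ⟨QuotientGroup.congr V V τ hτV, fun x => QuotientGroup.congr_mk V V τ hτV x⟩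
  obtain ⟨ρ', hρ'⟩ : ∃ ρ' : MulAut (T ⧸ V), ∀ x : T, ρ' (QuotientGroup.mk x) = QuotientGroup.mk (ρ x) :=
    ⟨QuotientGroup.congr V V ρ hρV, fun x => QuotientGroup.congr_mk V V ρ hρV x⟩
  have tau_sq' : ∀ q, τ' (τ' q) = q := by
    intro q
    induction q using QuotientGroup.induction_on with
    | H x => rw [hτ', hτ', h.tau_sq]
  have rho_cube' : ∀ q, ρ' (ρ' (ρ' q)) = q := by
    intro q
    induction q using QuotientGroup.induction_on with
    | H x => rw [hρ', hρ', hρ', h.rho_cube]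
  have comm' : ∀ q, τ' (ρ' q) = ρ' (τ' q) := by
    intro q
    induction q using QuotientGroup.induction_on with
    | H x => rw [hρ', hτ', hτ', hρ', h.comm]
  let V' : Subgroup (T ⧸ V) :=
    { carrier := {q | τ' q = q}
      mul_mem' := by
        intro a b ha hb
        show τ' (a * b) = a * b
        rw [map_mul, ha, hb]
      one_mem' := map_one τ'
      inv_mem' := by
        intro a ha
        show τ' a⁻¹ = a⁻¹
        rw [map_inv, ha] }
  have hV'mem : ∀ q, q ∈ V' ↔ τ' q = q := fun q => Iff.rfl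
  have hV'mk : ∀ x : T, (QuotientGroup.mk x : T ⧸ V) ∈ V' ↔ x⁻¹ * τ x ∈ V := by
    intro x
    rw [hV'mem, hτ', eq_comm, QuotientGroup.eq]
  -- exponent
  have exp' : ∀ q ∈ V', q * q = 1 := by
    intro q
    induction q using QuotientGroup.induction_on with
    | H x =>
      intro hq
      have hv := (hV'mk x).1 hq
      have hτx : τ x = x * (x⁻¹ * τ x) := by group
      have h1 : τ (x * x) = x * x := by
        rw [map_mul, hτx]
        have hc := hcen _ hv x
        have he := h.exp _ hv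
        calc x * (x⁻¹ * τ x) * (x * (x⁻¹ * τ x))
            = x * ((x⁻¹ * τ x) * x) * (x⁻¹ * τ x) := by group
          _ = x * (x * (x⁻¹ * τ x)) * (x⁻¹ * τ x) := by rw [← hc]
          _ = x * x * ((x⁻¹ * τ x) * (x⁻¹ * τ x)) := by group
          _ = x * x := by rw [he, mul_one]
      have h2 : x * x ∈ V := (h.tau_fix _).1 h1
      show (QuotientGroup.mk (x * x) : T ⧸ V) = 1
      exact (QuotientGroup.eq_one_iff _).2 h2
  -- `ρ'` fixed-point-free on `V'`
  have rho_fpf' : ∀ q ∈ V', ρ' q = q → q = 1 := by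
    intro q
    induction q using QuotientGroup.induction_on with
    | H x =>
      intro hq hρq
      have hv := (hV'mk x).1 hq
      have hu : x⁻¹ * ρ x ∈ V := by
        rw [hρ', eq_comm, QuotientGroup.eq] at hρq
        exact hρq
      have hρx : ρ x = x * (x⁻¹ * ρ x) := by group
      have hτu : τ (x⁻¹ * ρ x) = x⁻¹ * ρ x := (h.tau_fix _).2 hu
      have h1 : ρ (x⁻¹ * τ x) = x⁻¹ * τ x := by
        rw [map_mul, map_inv, ← h.comm]
        have hc := hcen _ hu (x⁻¹ * τ x)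
        calc (ρ x)⁻¹ * τ (ρ x) = (x * (x⁻¹ * ρ x))⁻¹ * τ (x * (x⁻¹ * ρ x)) := by rw [← hρx]
          _ = (x⁻¹ * ρ x)⁻¹ * x⁻¹ * (τ x * τ (x⁻¹ * ρ x)) := by rw [map_mul, mul_inv_rev]
          _ = (x⁻¹ * ρ x)⁻¹ * ((x⁻¹ * τ x) * (x⁻¹ * ρ x)) := by rw [hτu]; group
          _ = (x⁻¹ * ρ x)⁻¹ * ((x⁻¹ * ρ x) * (x⁻¹ * τ x)) := by rw [hc]
          _ = x⁻¹ * τ x := by group
      have h2 := h.rho_fpf _ hv h1
      have h3 : τ x = x := by
        have := congrArg (fun y => x * y) h2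
        simpa using this
      have h4 : x ∈ V := (h.tau_fix x).1 h3
      exact (QuotientGroup.eq_one_iff _).2 h4
  have rho_mem' : ∀ q ∈ V', ρ' q ∈ V' := by
    intro q hq
    rw [hV'mem] at hq ⊢
    rw [comm', hq]
  -- the quotient is a non-trivial `2`-group
  have hQ : IsPGroup 2 (T ⧸ V) := hT.to_quotient V
  have : Nontrivial (T ⧸ V) := by
    by_contra hcon
    rw [not_nontrivial_iff_subsingleton] at hcon
    apply hne
    rw [eq_top_iff]
    intro x _
    have : (QuotientGroup.mk x : T ⧸ V) = 1 := Subsingleton.elim _ _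
    exact (QuotientGroup.eq_one_iff _).1 this
  -- `V' ≠ ⊥`
  have hV'ne : V' ≠ ⊥ := by
    obtain ⟨z, -, hz1, hz⟩ := QUOT_aux_fix (⊤ : Subgroup (T ⧸ V)) (hQ.to_subgroup _)
      (by
        intro h0
        obtain ⟨a, b, hab⟩ := exists_pair_ne (T ⧸ V)
        have ha : a ∈ (⊥ : Subgroup (T ⧸ V)) := by rw [← h0]; exact Subgroup.mem_top a
        have hb : b ∈ (⊥ : Subgroup (T ⧸ V)) := by rw [← h0]; exact Subgroup.mem_top b
        rw [Subgroup.mem_bot] at ha hb
        exact hab (ha.trans hb.symm))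
      τ' tau_sq' (fun z _ => Subgroup.mem_top _)
    intro h0
    have : z ∈ V' := (hV'mem z).2 hz
    rw [h0, Subgroup.mem_bot] at this
    exact hz1 this
  -- `|V'| ≤ 4`
  have hle4 : Nat.card V' ≤ 4 := by
    have hmem : ∀ q : V', (Quotient.out (q : T ⧸ V) : T)⁻¹ * τ (Quotient.out (q : T ⧸ V)) ∈ V := by
      intro q
      apply (hV'mk _).1
      rw [QuotientGroup.out_eq']
      exact q.2
    let f : V' → V := fun q => ⟨_, hmem q⟩
    have hf : Function.Injective f := by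
      intro q₁ q₂ h12
      have h12' : (Quotient.out (q₁ : T ⧸ V) : T)⁻¹ * τ (Quotient.out (q₁ : T ⧸ V)) =
          (Quotient.out (q₂ : T ⧸ V) : T)⁻¹ * τ (Quotient.out (q₂ : T ⧸ V)) :=
        congrArg Subtype.val h12
      set x₁ := (Quotient.out (q₁ : T ⧸ V) : T) with hx₁
      set x₂ := (Quotient.out (q₂ : T ⧸ V) : T) with hx₂
      have hv := hmem q₂
      rw [← hx₂] at hv
      have hc := hcen _ hv (x₁⁻¹ * x₂)
      have h1 : τ (x₁⁻¹ * x₂) = x₁⁻¹ * x₂ := by
        have e1 : τ x₁ = x₁ * (x₂⁻¹ * τ x₂) := by rw [← h12']; group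
        have e2 : τ x₂ = x₂ * (x₂⁻¹ * τ x₂) := by group
        rw [map_mul, map_inv, e1]
        calc (x₁ * (x₂⁻¹ * τ x₂))⁻¹ * τ x₂
            = (x₂⁻¹ * τ x₂)⁻¹ * (x₁⁻¹ * x₂ * (x₂⁻¹ * τ x₂)) := by group
          _ = (x₂⁻¹ * τ x₂)⁻¹ * ((x₂⁻¹ * τ x₂) * (x₁⁻¹ * x₂)) := by rw [hc]
          _ = x₁⁻¹ * x₂ := by group
      have h2 : x₁⁻¹ * x₂ ∈ V := (h.tau_fix _).1 h1
      have h3 : (QuotientGroup.mk x₁ : T ⧸ V) = QuotientGroup.mk x₂ := QuotientGroup.eq.2 h2
      rw [hx₁, hx₂, QuotientGroup.out_eq', QuotientGroup.out_eq'] at h3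
      exact Subtype.ext h3
    have := Nat.card_le_card_of_injective f hf
    rwa [h.card] at this
  -- `|V'| = 4`
  have card' : Nat.card V' = 4 := by
    obtain ⟨k, hk⟩ := (hQ.to_subgroup V').exists_card_eq
    have h1 : Nat.card V' ≠ 1 := fun h => hV'ne (Subgroup.eq_bot_of_card_eq V' h)
    have h2 : Nat.card V' ≠ 2 := QUOT_aux_ne_two V' ρ' rho_fpf' rho_mem'
    rw [hk] at h1 h2 hle4 ⊢
    have hk2 : k ≤ 2 := by
      by_contra hcon
      push Not at hcon
      have : 2 ^ 3 ≤ 2 ^ k := Nat.pow_le_pow_right (by norm_num) hcon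
      omega
    interval_cases k
    · exact absurd rfl h1
    · exact absurd rfl h2
    · rfl
  -- centrality
  have central' : V' ≤ Subgroup.center (T ⧸ V) := by
    have hZnt : Nontrivial (Subgroup.center (T ⧸ V)) := hQ.center_nontrivial
    have hZne : Subgroup.center (T ⧸ V) ≠ ⊥ := by
      intro h0
      obtain ⟨a, b, hab⟩ := exists_pair_ne (Subgroup.center (T ⧸ V))
      have ha : (a : T ⧸ V) ∈ (⊥ : Subgroup (T ⧸ V)) := by rw [← h0]; exact a.2
      have hb : (b : T ⧸ V) ∈ (⊥ : Subgroup (T ⧸ V)) := by rw [← h0]; exact b.2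
      rw [Subgroup.mem_bot] at ha hb
      exact hab (Subtype.ext (ha.trans hb.symm))
    obtain ⟨z, hzZ, hz1, hz⟩ := QUOT_aux_fix (Subgroup.center (T ⧸ V)) (hQ.to_subgroup _) hZne
      τ' tau_sq' (fun z hz => QUOT_aux_center τ' hz)
    have hW : Subgroup.center (T ⧸ V) ⊓ V' ≠ ⊥ := by
      intro h0
      have : z ∈ Subgroup.center (T ⧸ V) ⊓ V' := ⟨hzZ, (hV'mem z).2 hz⟩
      rw [h0, Subgroup.mem_bot] at this
      exact hz1 this
    have hirr := QUOT_aux_irr V' (Subgroup.center (T ⧸ V) ⊓ V') card' ρ' rho_fpf' inf_le_right hW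
      (fun w hw => ⟨QUOT_aux_center ρ' hw.1, rho_mem' w hw.2⟩)
    rw [← hirr]
    exact inf_le_left
  exact ⟨τ', ρ', V', ⟨tau_sq', rho_cube', comm', central', card', exp', fun q => (hV'mem q).symm,
    rho_mem', rho_fpf'⟩, hτ', hρ', hV'mk⟩

end Cfsg.Agent.S2933P
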