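import Mathlib
import Cfsg.Prelude.Def_JComponents
import Cfsg.Prelude.Def_Involutions
import Cfsg.Agent.Helper5.S2951Defs

set_option autoImplicit false

/-! # S2951 board, piece P1: a maximal 2-local subgroup is self-normalizing. -/

universe u

namespace Cfsg.Agent.S2951P

open Cfsg Subgroup Cfsg.Agent.Helper15.JComp Cfsg.Agent.S2951P

variable {G : Type u} [Group G] [Finite G] {M T K K' L L' : Subgroup G}

/-- P1 (S): a maximal 2-local is self-normalizing. -/
theorem P1 {L : Subgroup G} (h : IsMaximalTwoLocal L) : normalizer (L : Set G) = L := by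
  obtain ⟨⟨T, hT, hT1, hLT⟩, hmax⟩ := h
  apply le_antisymm _ le_normalizer
  have hTL : T ≤ L := by rw [hLT]; exact le_normalizer
  have hTR : T ≤ pCoreOf 2 L :=
    Cfsg.Agent.Helper14.le_pCoreOf 2 hTL (by rw [hLT]) hT
  have hR1 : pCoreOf 2 L ≠ ⊥ := by
    intro h0
    apply hT1
    rw [eq_bot_iff, ← h0]
    exact hTR
  have hloc : IsTwoLocal (normalizer ((pCoreOf 2 L : Subgroup G) : Set G)) :=
    ⟨pCoreOf 2 L, Cfsg.Agent.Helper14.pCoreOf_isPGroup 2 L, hR1, rfl⟩
  have hle : L ≤ normalizer ((pCoreOf 2 L : Subgroup G) : Set G) :=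
    Cfsg.Agent.Helper14.le_normalizer_pCoreOf 2 L
  have heq := hmax _ hloc hle
  calc normalizer (L : Set G) ≤ normalizer ((pCoreOf 2 L : Subgroup G) : Set G) :=
        normalizer_le_normalizer_pCoreOf 2 L
    _ = L := heq

end Cfsg.Agent.S2951P
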