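import Mathlib
import Cfsg.Agent.Helper25.S2981BDefs
import Cfsg.Agent.Helper28.S3000Defs
import Cfsg.Agent.Helper28.S3000TOOL
import Cfsg.Agent.Helper12.S3000LC
import Cfsg.Agent.Helper2.S3000Z1
import Cfsg.Agent.Helper28.S2981PKGT
import Cfsg.Agent.Helper28.S2981GENN

/-! S2981, piece ONEORB of the board `s2981pieces`: the members of `𝒜_q` inside `T` are the `T`-conjugates of `A`
(LC + Z1 for every conjugate package + CTN). -/

set_option autoImplicit false

namespace Cfsg.Agent.S2981P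

open Cfsg.Agent.S2789P Cfsg.Agent.S2999P Cfsg.Agent.S3000P
open scoped commutatorElement

variable {G : Type*} [Group G] [Finite G] {p : ℕ} [Fact p.Prime] {V P : Subgroup G} {T : Sylow p ↥P} {M : Subgroup ↥P} {q : ℕ}

variable {A E : Subgroup G}

/-- ONEORB (M): the members of `𝒜_q` inside `T` are the `T`-conjugates of `A` (LC + Z1 + CTN). -/
theorem ONEORB (Hy : Hyp p V P T M) (hq : MinQ p V P q) (hq2 : 2 < q) (X : PkgT p V P T M q A E)
    {D : Subgroup G} (hD : InA p V P q D) (hDT : D ≤ TT T) : ∃ t ∈ TT T, D = cjs t A := by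
  by_contra hno
  have hno' : ∀ t ∈ TT T, D ≠ cjs t A := fun t ht h => hno ⟨t, ht, h⟩
  have hTp : IsPGroup p ↥(TT T) := T.isPGroup'.map P.subtype
  -- `D` centralises every `cjs t E`
  have hcent : ∀ t ∈ TT T, ∀ d ∈ D, ∀ e ∈ cjs t E, d * e = e * d := by
    intro t ht
    have Xt := PkgT.conj Hy X ht
    obtain ⟨H', w', K'⟩ := TOOL Hy hq2 Xt.hK
    have hA' : InA p V P q (cjs t A) := Xt.hK.hA
    have hQ : IsPGroup p ↥(cjs t A ⊔ D) := hTp.to_le (sup_le Xt.hAT hDT)
    have hc : ∀ a ∈ cjs t A, ∀ d ∈ D, a * d = d * a :=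
      LC Hy hA'.le hA'.so hD.le hD.so (hA'.card.trans hD.card.symm) hQ
    exact Z1 Hy hq K' hD (hno' t ht) hc
  -- so `D = 1` by CTN
  have hD1 : ∀ d ∈ D, d = 1 := by
    intro d hd
    apply CTN Hy X (hDT hd)
    intro n hn
    have hle : Ncomp (TT T) E ≤ Subgroup.centralizer ({d} : Set G) := by
      refine Ncomp_le (fun t ht e he => ?_)
      rw [Subgroup.mem_centralizer_iff]
      intro y hy
      rw [Set.mem_singleton_iff] at hy
      subst hy
      exact hcent t ht y hd e he
    have h2 := hle hn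
    rw [Subgroup.mem_centralizer_iff] at h2
    exact h2 d rfl
  have hbot : D = ⊥ := (Subgroup.eq_bot_iff_forall D).2 hD1
  have hc1 : Nat.card ↥D = 1 := by rw [hbot]; exact Subgroup.card_bot
  have := hD.card
  omega

end Cfsg.Agent.S2981P
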