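import Mathlib
import Cfsg.Agent.Helper26.S3050Defs

set_option autoImplicit false

/-! # S3050 board, piece A12 (blueprint A1 + A2): the `S₃`-relation `u + w + ℓ = 0` and the decomposition
`M = W ⊕ wW`, `W = C_M(u)`. -/

namespace Cfsg.Agent.S3050P

open Cfsg.Agent.Helper18.NatMod Cfsg.Agent.S3050P

variable {F : Type*} [Field F] [CharP F 2]
variable {M : Type*} [AddCommGroup M] [DistribMulAction (Matrix.SpecialLinearGroup (Fin 2) F) M]

local notation "SF" => Matrix.SpecialLinearGroup (Fin 2) F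

/-- `u w u w u = w` -/
theorem A12_aux_uwuwu : ((uu (1 : F) * ww) * ((uu 1 * ww) * uu 1) : SF) = ww := by
  have h1 : ((uu (1 : F) * ww) * uu 1 : SF) = ll 1 := uu_ww_uu
  rw [h1, ll_eq]
  calc (uu (1 : F) * ww * (ww * uu 1 * ww) : SF) = uu 1 * (ww * ww) * uu 1 * ww := by
        simp only [mul_assoc]
    _ = ww := by rw [ww_sq, mul_one, uu_sq, one_mul]

/-- `(u w)² = w u` -/
theorem A12_aux_uwuw : ((uu (1 : F) * ww) * (uu 1 * ww) : SF) = ww * uu 1 := by
  have h1 : ((uu (1 : F) * ww) * uu 1 : SF) = ll 1 := uu_ww_uu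
  calc ((uu (1 : F) * ww) * (uu 1 * ww) : SF) = ((uu 1 * ww) * uu 1) * ww := by
        simp only [mul_assoc]
    _ = ww * uu 1 := by
        rw [h1, ll_eq, mul_assoc, ww_sq, mul_one]

/-- A1 -/
theorem s3_rel (h3 : Fpf F M) (m : M) :
    (uu (1 : F) : SF) • m + (ww : SF) • m + (ll (1 : F) : SF) • m = 0 := by
  have h := h3 (uu 1 * ww) tr_uu_ww ((uu (1 : F) : SF) • m)
  simp only [smul_smul] at h
  rw [A12_aux_uwuwu, uu_ww_uu] at h
  rw [← h]
  abel

/-- `m + u w m + w u m = 0` -/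
theorem A12_aux_order3 (h3 : Fpf F M) (m : M) :
    m + (uu (1 : F) : SF) • (ww : SF) • m + (ww : SF) • (uu (1 : F) : SF) • m = 0 := by
  have h := h3 (uu 1 * ww) tr_uu_ww m
  rw [smul_smul, A12_aux_uwuw] at h
  rw [← h, mul_smul, mul_smul]

theorem A12_aux_uu_uu (m : M) : (uu (1 : F) : SF) • (uu (1 : F) : SF) • m = m := by
  rw [smul_smul, uu_sq, one_smul]

theorem A12_aux_ww_ww (m : M) : (ww : SF) • (ww : SF) • m = m := by
  rw [smul_smul, ww_sq, one_smul]

theorem A12_aux_pr1_mem (m : M) : pr1 F m ∈ fixu F M := by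
  rw [mem_fixu]
  unfold pr1
  rw [smul_add, A12_aux_uu_uu, add_comm]

theorem A12_aux_pr2_mem (m : M) : pr2 F m ∈ fixu F M := by
  rw [mem_fixu]
  unfold pr2
  rw [smul_add, A12_aux_uu_uu, add_comm]

/-- A2 (i) -/
theorem dec_of_fpf (h2 : Exp2 M) (h3 : Fpf F M) (m : M) :
    pr1 F m ∈ fixu F M ∧ pr2 F m ∈ fixu F M ∧ m = pr1 F m + (ww : SF) • pr2 F m := by
  refine ⟨A12_aux_pr1_mem m, A12_aux_pr2_mem m, ?_⟩
  unfold pr1 pr2
  rw [smul_add]
  have h := A12_aux_order3 h3 m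
  have hw := h2 ((ww : SF) • m)
  have hm := h2 m
  -- `rhs = (w m + w m) + (u w m + w u m)`, and `m + (u w m + w u m) = 0`
  have e1 : (ww : SF) • m + (uu (1 : F) : SF) • (ww : SF) • m
      + ((ww : SF) • m + (ww : SF) • (uu (1 : F) : SF) • m)
      = ((ww : SF) • m + (ww : SF) • m)
        + (m + (uu (1 : F) : SF) • (ww : SF) • m + (ww : SF) • (uu (1 : F) : SF) • m) + m - (m + m) := by
    abel
  rw [e1, hw, h, hm]
  abel

/-- A2 (ii) -/
theorem uu_ww_fix (h2 : Exp2 M) (h3 : Fpf F M) {b : M} (hb : b ∈ fixu F M) :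
    (uu (1 : F) : SF) • (ww : SF) • b = b + (ww : SF) • b := by
  rw [mem_fixu] at hb
  have h := s3_rel h3 b
  rw [hb] at h
  -- `ℓ b = u w u b = u w b`
  have h1 : (ll (1 : F) : SF) • b = (uu (1 : F) : SF) • (ww : SF) • b := by
    rw [← uu_ww_uu, mul_smul, mul_smul, hb]
  rw [h1] at h
  have hx := h2 (b + (ww : SF) • b)
  have e1 : (uu (1 : F) : SF) • (ww : SF) • b
      = (b + (ww : SF) • b + (uu (1 : F) : SF) • (ww : SF) • b) + (b + (ww : SF) • b)
        - ((b + (ww : SF) • b) + (b + (ww : SF) • b)) := by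
    abel
  rw [e1, h, hx]
  abel

/-- A2 (iii) -/
theorem uniq_of_fpf (h2 : Exp2 M) (h3 : Fpf F M) {a b : M} (ha : a ∈ fixu F M) (hb : b ∈ fixu F M)
    (h : a + (ww : SF) • b = 0) : a = 0 ∧ b = 0 := by
  have hub := uu_ww_fix h2 h3 hb
  rw [mem_fixu] at ha
  have h1 : (uu (1 : F) : SF) • (a + (ww : SF) • b) = 0 := by rw [h, smul_zero]
  rw [smul_add, ha, hub] at h1
  -- `a + (b + w b) = 0` and `a + w b = 0`
  have hb0 : b = 0 := by
    have e1 : b = (a + (b + (ww : SF) • b)) - (a + (ww : SF) • b) := by abel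
    rw [e1, h1, h, sub_zero]
  refine ⟨?_, hb0⟩
  rw [hb0, smul_zero, add_zero] at h
  exact h

/-- A2 (iv): the components of `a + w b` -/
theorem pr_of_fix (h2 : Exp2 M) (h3 : Fpf F M) {a b : M} (ha : a ∈ fixu F M) (hb : b ∈ fixu F M) :
    pr1 F (a + (ww : SF) • b) = a ∧ pr2 F (a + (ww : SF) • b) = b := by
  have hua := uu_ww_fix h2 h3 ha
  have hub := uu_ww_fix h2 h3 hb
  have ha' := ha
  have hb' := hb
  rw [mem_fixu] at ha' hb'
  constructor
  · unfold pr1
    rw [smul_add, smul_add, A12_aux_ww_ww, hua, hb']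
    have e1 : (ww : SF) • a + b + (a + (ww : SF) • a + b)
        = a + ((ww : SF) • a + (ww : SF) • a) + (b + b) := by abel
    rw [e1, h2 ((ww : SF) • a), h2 b, add_zero, add_zero]
  · unfold pr2
    rw [smul_add, ha', hub]
    have e1 : a + (ww : SF) • b + (a + (b + (ww : SF) • b))
        = b + (a + a) + ((ww : SF) • b + (ww : SF) • b) := by abel
    rw [e1, h2 a, h2 ((ww : SF) • b), add_zero, add_zero]

end Cfsg.Agent.S3050P
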