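import Mathlib
import Cfsg.Agent.Helper15.S3412.Defs
import Cfsg.Agent.Helper26.S3412CONJISQ

/-! S3412 piece CONJQ (helper19): the conjugation action of `X` on `QV X`, as a homomorphism to the
permutation group, and its compatibility with `QAdj`. -/

set_option autoImplicit false

namespace Cfsg.Agent.S3412P

open Matrix

namespace CONJQ

theorem mem_map_conj {X : Type*} [Group X] (A : Subgroup X) (x a : X) :
    a ∈ A.map (MulAut.conj x).toMonoidHom ↔ x⁻¹ * a * x ∈ A := by
  rw [Subgroup.mem_map]
  constructor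
  · rintro ⟨b, hb, rfl⟩
    simp only [MulEquiv.coe_toMonoidHom, MulAut.conj_apply]
    have : x⁻¹ * (x * b * x⁻¹) * x = b := by group
    rw [this]
    exact hb
  · intro h
    refine ⟨x⁻¹ * a * x, h, ?_⟩
    simp only [MulEquiv.coe_toMonoidHom, MulAut.conj_apply]
    group

/-- the conjugation action on `QV X` -/
@[reducible] def conjQAction (X : Type*) [Group X] : MulAction X (QV X) where
  smul x A := ⟨A.1.map (MulAut.conj x).toMonoidHom, CONJISQ.isQ_map_conj A.1 A.2 x⟩
  one_smul A := by
    apply Subtype.ext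
    show A.1.map (MulAut.conj (1 : X)).toMonoidHom = A.1
    ext a
    rw [mem_map_conj]
    simp
  mul_smul x y A := by
    apply Subtype.ext
    show A.1.map (MulAut.conj (x * y)).toMonoidHom
      = (A.1.map (MulAut.conj y).toMonoidHom).map (MulAut.conj x).toMonoidHom
    ext a
    rw [mem_map_conj, mem_map_conj, mem_map_conj]
    have : (x * y)⁻¹ * a * (x * y) = y⁻¹ * (x⁻¹ * a * x) * y := by group
    rw [this]

theorem exists_conjQ (X : Type*) [Group X] :
    ∃ c : X →* Equiv.Perm (QV X),
      ∀ (x : X) (A : QV X) (a : X), a ∈ (c x A).1 ↔ x⁻¹ * a * x ∈ A.1 := by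
  let _inst := conjQAction X
  refine ⟨MulAction.toPermHom X (QV X), ?_⟩
  intro x A a
  show a ∈ A.1.map (MulAut.conj x).toMonoidHom ↔ _
  exact mem_map_conj A.1 x a

theorem qadj_conj {X : Type*} [Group X] (c : X →* Equiv.Perm (QV X))
    (hc : ∀ (x : X) (A : QV X) (a : X), a ∈ (c x A).1 ↔ x⁻¹ * a * x ∈ A.1)
    (x : X) (A B : QV X) : QAdj (c x A) (c x B) ↔ QAdj A B := by
  unfold QAdj
  constructor
  · rintro ⟨hne, a, ha1, haA, haB⟩
    refine ⟨fun h => hne (by rw [h]), x⁻¹ * a * x, ?_, (hc x A a).mp haA, (hc x B a).mp haB⟩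
    intro h
    apply ha1
    have : a = x * (x⁻¹ * a * x) * x⁻¹ := by group
    rw [this, h]
    group
  · rintro ⟨hne, a, ha1, haA, haB⟩
    refine ⟨fun h => hne ((c x).injective h), x * a * x⁻¹, ?_, ?_, ?_⟩
    · intro h
      apply ha1
      have : a = x⁻¹ * (x * a * x⁻¹) * x := by group
      rw [this, h]
      group
    · rw [hc]
      have : x⁻¹ * (x * a * x⁻¹) * x = a := by group
      rw [this]
      exact haA
    · rw [hc]
      have : x⁻¹ * (x * a * x⁻¹) * x = a := by group
      rw [this]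
      exact haB

end CONJQ

end Cfsg.Agent.S3412P
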