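import Mathlib
import Cfsg.Agent.Helper15.S3412.Defs

/-! S3412 piece KERNEL (helper19): under `KerHyp X` the conjugation action on `QV X` is faithful. -/

set_option autoImplicit false

namespace Cfsg.Agent.S3412P

open Matrix

namespace KERNEL

/-- conjugation action of a subgroup `Z` normalizing `B` on `B` -/
@[reducible] def conjAction {X : Type*} [Group X] (Z B : Subgroup X)
    (h : ∀ z ∈ Z, ∀ b ∈ B, z * b * z⁻¹ ∈ B) : MulAction Z B where
  smul z b := ⟨(z : X) * (b : X) * (z : X)⁻¹, h z z.2 b b.2⟩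
  one_smul b := by
    apply Subtype.ext
    show ((1 : Z) : X) * (b : X) * ((1 : Z) : X)⁻¹ = b
    simp
  mul_smul z w b := by
    apply Subtype.ext
    show ((z * w : Z) : X) * (b : X) * ((z * w : Z) : X)⁻¹
      = (z : X) * ((w : X) * (b : X) * (w : X)⁻¹) * (z : X)⁻¹
    simp [mul_assoc]

theorem injective_conjQ {X : Type*} [Group X] [Finite X] (hK : KerHyp X)
    (c : X →* Equiv.Perm (QV X))
    (hc : ∀ (x : X) (A : QV X) (a : X), a ∈ (c x A).1 ↔ x⁻¹ * a * x ∈ A.1) :
    Function.Injective c := by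
  rw [injective_iff_map_eq_one]
  -- elements of the kernel normalize every member
  have hnorm : ∀ k : X, c k = 1 → ∀ (A : QV X) (a : X), a ∈ A.1 → k * a * k⁻¹ ∈ A.1 := by
    intro k hk A a ha
    have h1 := hc k A (k * a * k⁻¹)
    rw [hk] at h1
    simp only [Equiv.Perm.coe_one, id_eq] at h1
    rw [h1]
    have : k⁻¹ * (k * a * k⁻¹) * k = a := by group
    rw [this]
    exact ha
  -- the kernel meets every member trivially
  have hmeet : ∀ k : X, c k = 1 → ∀ A : QV X, k ∈ A.1 → k = 1 := by
    intro a hak A haA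
    by_contra hne
    obtain ⟨B, hB⟩ := hK.2 A a haA hne
    have hZ : ∀ z ∈ Subgroup.zpowers a, ∀ b ∈ B.1, z * b * z⁻¹ ∈ B.1 := by
      intro z hz b hb
      have hcz : c z = 1 := by
        obtain ⟨n, rfl⟩ := Subgroup.mem_zpowers_iff.mp hz
        rw [map_zpow, hak, _root_.one_zpow]
      exact hnorm z hcz B b hb
    let _inst := conjAction (Subgroup.zpowers a) B.1 hZ
    have hp : IsPGroup 3 (Subgroup.zpowers a) := by
      have h9 : a ^ 9 = 1 := by
        have h := pow_card_eq_one' (G := A.1) (x := ⟨a, haA⟩)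
        rw [A.2.1] at h
        have := congrArg Subtype.val h
        simpa using this
      have hd : orderOf a ∣ 3 ^ 2 := orderOf_dvd_of_pow_eq_one h9
      obtain ⟨m, -, hm⟩ := (Nat.dvd_prime_pow Nat.prime_three).mp hd
      exact IsPGroup.of_card (n := m) (by rw [Nat.card_zpowers, hm])
    have h3 : 3 ∣ Nat.card B.1 := by rw [B.2.1]; norm_num
    have hfix : (1 : B.1) ∈ MulAction.fixedPoints (Subgroup.zpowers a) B.1 := by
      intro z
      apply Subtype.ext
      show (z : X) * ((1 : B.1) : X) * (z : X)⁻¹ = ((1 : B.1) : X)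
      simp
    have _hf : Fact (Nat.Prime 3) := ⟨Nat.prime_three⟩
    obtain ⟨b, hb, hb1⟩ := hp.exists_fixed_point_of_prime_dvd_card_of_fixed_point B.1 h3 hfix
    have hab : Commute a (b : X) := by
      have h2 := congrArg Subtype.val (hb ⟨a, Subgroup.mem_zpowers a⟩)
      have h3 : a * (b : X) * a⁻¹ = (b : X) := h2
      show a * (b : X) = (b : X) * a
      calc a * (b : X) = (a * (b : X) * a⁻¹) * a := by group
        _ = (b : X) * a := by rw [h3]
    refine hB b b.2 (fun h => hb1 ?_) hab
    apply Subtype.ext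
    exact h.symm
  intro k hk
  obtain ⟨A, -, -⟩ := hK.1
  have hkA : k ∈ A.1 := by
    rw [← A.2.2.1, Subgroup.mem_centralizer_iff]
    intro a ha
    have hcomm : k * a * k⁻¹ * a⁻¹ = 1 := by
      apply hmeet (k * a * k⁻¹ * a⁻¹) _ A _
      · simp [map_mul, map_inv, hk]
      · exact A.1.mul_mem (hnorm k hk A a ha) (A.1.inv_mem ha)
    have h1 : k * a = a * k := by
      calc k * a = (k * a * k⁻¹ * a⁻¹) * (a * k) := by group
        _ = a * k := by rw [hcomm, one_mul]
    exact h1.symm
  exact hmeet k hk A hkA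

end KERNEL

end Cfsg.Agent.S3412P
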