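import Mathlib
import Cfsg.Agent.Helper15.S5704SEEDDefs2
import Cfsg.Agent.Helper14.S5704FILL
import Cfsg.Agent.Helper11.S5704SEEDEIG

/-! # S5704, chapter SEED (driver helper15), piece PERPNS (helper19). -/

set_option autoImplicit false
set_option linter.unusedSectionVars false
set_option linter.unusedVariables false

namespace Cfsg.Agent.S5704P

open Matrix Cfsg.Agent.S5637P Cfsg.Agent.S5704S Cfsg.Agent.Helper28.Sg

variable {F : Type*} [Field F] {n a b : ℕ} (e : Fin n ≃ Fin a × Fin b)
variable {Q : QuadraticForm F (Fin n → F)} {GU : Matrix (Fin a) (Fin a) F}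
  {GW : Matrix (Fin b) (Fin b) F} {M : Subgroup (GL (Fin n) F)}

/-- PERPNS (M): `Θ` not scalar, `a ≥ 3` ⟹ some independent perpendicular pair has `(u, Θu') ≠ 0`. -/
theorem PERPNS.main (hU : IsSymp GU) (ha : 3 ≤ a) (Θ : Matrix (Fin a) (Fin a) F) (hns : ¬ IsScal Θ) :
    ∃ u u' : Fin a → F, u ≠ 0 ∧ bf GU u u' = 0 ∧ NotMul u u' ∧ bf GU u (Θ *ᵥ u') ≠ 0 := by
  by_contra hcon
  push Not at hcon
  apply hns
  apply EIG.main
  intro u'
  by_cases hu' : u' = 0
  · refine ⟨0, ?_⟩
    rw [hu', Matrix.mulVec_zero, smul_zero]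
  -- a partner `t` of `u'` and a vector `y ⊥ u', t`
  obtain ⟨t, ht⟩ := EX.one hU hu'
  obtain ⟨y, hy0, hyu, hyt⟩ := FILL.exists_perp2 GU ha u' t
  have htu : bf GU t u' = -1 := by rw [hU.skew, ht]
  have hty : ∀ d : F, bf GU t (y + d • u') = -d := by
    intro d
    rw [bf_add_right, bf_smul_right, hyt, htu]; ring
  -- `y + d • u'` is not proportional to `u'`
  have hne : ∀ d : F, y + d • u' ≠ 0 := by
    intro d h0
    have h1 := hty d
    rw [h0, bf_zero_right] at h1
    have hd : d = 0 := neg_eq_zero.mp h1.symm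
    rw [hd, zero_smul, add_zero] at h0
    exact hy0 h0
  have hind : ∀ d : F, NotMul (y + d • u') u' := by
    intro d c hc
    -- apply `bf GU t ·`: `-1 = c * (-d)`; apply `bf GU · y`... use `y`-component instead
    have h1 : bf GU t u' = c * bf GU t (y + d • u') := by
      conv_lhs => rw [hc]
      rw [bf_smul_right]
    rw [htu, hty] at h1
    have hc0 : c ≠ 0 := by
      intro h0; rw [h0, zero_mul] at h1; exact one_ne_zero (neg_eq_zero.mp h1)
    -- `c • y = (1 - c d) • u' = 0`
    have h2 : c • y = (1 - c * d) • u' := by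
      have : u' = c • y + (c * d) • u' := by
        conv_lhs => rw [hc]
        rw [smul_add, smul_smul]
      rw [sub_smul, one_smul]
      exact eq_sub_of_add_eq this.symm
    have hcd : 1 - c * d = 0 := by linear_combination -h1
    rw [hcd, zero_smul] at h2
    rcases smul_eq_zero.mp h2 with h | h
    · exact hc0 h
    · exact hy0 h
  have hperp : ∀ d : F, bf GU (y + d • u') u' = 0 := by
    intro d
    rw [bf_add_left, bf_smul_left, hU.alt, mul_zero, add_zero, hU.skew, hyu, neg_zero]
  have hH : ∀ d : F, bf GU (y + d • u') (Θ *ᵥ u') = 0 := fun d =>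
    hcon (y + d • u') u' (hne d) (hperp d) (hind d)
  have hself : bf GU u' (Θ *ᵥ u') = 0 := by
    have h1 := hH 1
    have h0 := hH 0
    rw [bf_add_left, bf_smul_left] at h1 h0
    linear_combination h1 - h0
  -- all `z ⊥ u'` are perpendicular to `Θ u'`
  have hall : ∀ z, bf GU u' z = 0 → bf GU z (Θ *ᵥ u') = 0 := by
    intro z hz
    by_cases hz0 : z = 0
    · rw [hz0, bf_zero_left]
    by_cases hm : NotMul z u'
    · exact hcon z u' hz0 (hU.eq_zero_symm hz) hm
    · unfold NotMul at hm
      push Not at hm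
      obtain ⟨c, hc⟩ := hm
      have hc0 : c ≠ 0 := by
        intro h0; rw [h0, zero_smul] at hc; exact hu' hc
      have hz' : z = c⁻¹ • u' := by
        rw [hc, smul_smul, inv_mul_cancel₀ hc0, one_smul]
      rw [hz', bf_smul_left, hself, mul_zero]
  obtain ⟨c, hc⟩ := FILL.prop_of_perp hU hu' hall
  exact ⟨c, hc⟩

end Cfsg.Agent.S5704P
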