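import Mathlib
import Cfsg.Prelude.Def_GeometricClasses
import Cfsg.Agent.Helper24.S5704.Defs
import Cfsg.Agent.Helper17.S5704.STDefs

set_option autoImplicit false
set_option linter.unusedSectionVars false
set_option linter.unusedVariables false

/-! # S5704, chapter STAR', piece STPOL (helper19): `B(x, u ⊗ z) = f_U(c_{ψ_z}(x), u)`. -/

namespace Cfsg.Agent.S5704P

open Matrix Cfsg.Agent.S5637P Cfsg.Agent.S5704S Cfsg.Agent.S5634P

variable {F : Type*} [Field F] {n a b : ℕ} (e : Fin n ≃ Fin a × Fin b)

/-- STPOL (S-M): `B(x, u ⊗ z) = f_U(c_{ψ_z}(x), u)`. -/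
theorem STPOL {Q : QuadraticForm F (Fin n → F)} {GU : Matrix (Fin a) (Fin a) F}
    {GW : Matrix (Fin b) (Fin b) F} (hT : TData Q e 1 GU GW) (x : Fin n → F) (u : Fin a → F)
    (z : Fin b → F) :
    QuadraticMap.polar ⇑Q x (tn e u z) = bf GU (cps e (psi GW z) x) u := by
  have key : ∀ (u' : Fin a → F) (w' : Fin b → F),
      QuadraticMap.polar ⇑Q (tn e u' w') (tn e u z) =
        bf GU (cps e (psi GW z) (tn e u' w')) u := by
    intro u' w'
    have h := hT.pol u' w' u z
    rw [pt_one, pt_one] at h
    rw [h, cps_tn, psi_dot, bf_smul_left]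
    ring
  let f : (Fin n → F) →ₗ[F] F := (QuadraticMap.polarBilin Q).flip (tn e u z)
  let g : (Fin n → F) →ₗ[F] F :=
    { toFun := fun x => bf GU (cps e (psi GW z) x) u
      map_add' := fun x x' => by
        show bf GU (cps e (psi GW z) (x + x')) u = _
        rw [map_add, bf_add_left]
      map_smul' := fun c x => by
        show bf GU (cps e (psi GW z) (c • x)) u = _
        rw [map_smul, bf_smul_left]
        rfl }
  have hfg : f = g := ext_tn e (fun u' w' => key u' w')
  exact LinearMap.congr_fun hfg x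

end Cfsg.Agent.S5704P
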