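import Mathlib
import Cfsg.Prelude.Def_ClassicalGeometry
import Cfsg.Agent.Helper16.S5955Defs
import Cfsg.Agent.Helper7.S5955AUG1
import Cfsg.Agent.Helper7.S5955AUGREC
import Cfsg.Agent.Helper7.S5955PRODB
import Cfsg.Agent.Helper25.S5955RESTRY
import Cfsg.Agent.Helper26.S5955IRRDIV
import Cfsg.Agent.Helper26.S5955UNIQ
import Cfsg.Agent.Helper23.S5961STRUCT
import Cfsg.Agent.Helper18.S5961ARITH

set_option autoImplicit false
open scoped MatrixGroups

/-! S5955, piece MODELSP: the abstract model space for the necessity direction (`i` even). -/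

universe u

namespace Cfsg.Agent.S5955P

open Polynomial Cfsg.Agent.Helper2.SympInvol Cfsg.Agent.Helper2.SympUnits Cfsg.Agent.S5961P

namespace MODELSP

/-- a model package: an `IsYSp` space with prescribed dimension, fixed space dimension and rank
function `g ↦ finrank (range (y - 1) ⊓ ker g(y))` -/
def HasModel (F : Type u) [Field F] (r n κ : ℕ) (ρ : F[X] → ℕ) : Prop :=
  ∃ (V : Type u) (_ : AddCommGroup V) (_ : Module F V) (_ : FiniteDimensional F V)
    (B : LinearMap.BilinForm F V) (y : Module.End F V),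
    IsYSp B y r ∧ Module.finrank F V = n ∧ Module.finrank F (LinearMap.ker (y - 1)) = κ ∧
    ∀ g : F[X], Module.finrank F ↥(LinearMap.range (y - 1) ⊓ LinearMap.ker (aeval y g)) = ρ g

theorem HasModel.prod {F : Type u} [Field F] {r n₁ κ₁ n₂ κ₂ : ℕ} {ρ₁ ρ₂ : F[X] → ℕ}
    (h₁ : HasModel F r n₁ κ₁ ρ₁) (h₂ : HasModel F r n₂ κ₂ ρ₂) :
    HasModel F r (n₁ + n₂) (κ₁ + κ₂) (fun g => ρ₁ g + ρ₂ g) := by
  obtain ⟨V₁, _, _, _, B₁, y₁, hY₁, hn₁, hκ₁, hρ₁⟩ := h₁
  obtain ⟨V₂, _, _, _, B₂, y₂, hY₂, hn₂, hκ₂, hρ₂⟩ := h₂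
  obtain ⟨hY, hk, hr⟩ := prod_isYSp B₁ B₂ y₁ y₂ r hY₁ hY₂
  refine ⟨V₁ × V₂, inferInstance, inferInstance, inferInstance, prodB B₁ B₂, y₁.prodMap y₂, hY,
    ?_, ?_, ?_⟩
  · rw [Module.finrank_prod, hn₁, hn₂]
  · rw [hk, hκ₁, hκ₂]
  · intro g
    rw [hr g, hρ₁ g, hρ₂ g]

theorem HasModel.pow {F : Type u} [Field F] {r n κ : ℕ} {ρ : F[X] → ℕ}
    (h : HasModel F r n κ ρ) (hz : HasModel F r 0 0 (fun _ => 0)) :
    ∀ k : ℕ, HasModel F r (k * n) (k * κ) (fun g => k * ρ g) := by
  intro k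
  induction k with
  | zero =>
    have e : (fun g : F[X] => 0 * ρ g) = (fun _ => 0) := by funext g; rw [zero_mul]
    rw [zero_mul, zero_mul, e]
    exact hz
  | succ k ih =>
    have := ih.prod h
    have e1 : (k + 1) * n = k * n + n := by ring
    have e2 : (k + 1) * κ = k * κ + κ := by ring
    have e3 : (fun g : F[X] => (k + 1) * ρ g) = (fun g => k * ρ g + ρ g) := by
      funext g; ring
    rw [e1, e2, e3]
    exact this

/-- the trivial model: `y = 1` on the standard symplectic space -/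
theorem hasModel_triv (F : Type u) [Field F] (r h : ℕ) :
    HasModel F r (2 * h) (2 * h) (fun _ => 0) := by
  have hfr : Module.finrank F (Fin h ⊕ Fin h → F) = 2 * h := by
    rw [Module.finrank_fintype_fun_eq_card, Fintype.card_sum, Fintype.card_fin]
    ring
  refine ⟨Fin h ⊕ Fin h → F, inferInstance, inferInstance, inferInstance, sB h F, 1,
    ⟨sB_alt h F, sB_nondeg h F, fun u v => rfl, one_pow r⟩, hfr, ?_, ?_⟩
  · rw [sub_self, LinearMap.ker_zero, finrank_top, hfr]
  · intro g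
    rw [sub_self, LinearMap.range_zero, bot_inf_eq, finrank_bot]

/-- the model on an invariant nondegenerate subspace of the augmentation space -/
theorem hasModel_sub {F : Type u} [Field F] {p : ℕ} [Fact p.Prime] [CharP F p] (r : ℕ)
    [Fact r.Prime] (hr2 : r ≠ 2) (hrp : r ≠ p) (M : Submodule F (Aug F r))
    (hM : ∀ v ∈ M, augS F r v ∈ M) (hMnd : Nondeg (augB F r) M) :
    HasModel F r (Module.finrank F M) 0
      (fun g => Module.finrank F ↥(M ⊓ LinearMap.ker (aeval (augS F r) g))) := by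
  obtain ⟨hY, hker, -⟩ := aug_isYSp (F := F) (p := p) r hr2 hrp
  obtain ⟨hYM, hkerM, hρ⟩ := restrict_isYSp (augB F r) (augS F r) r hY M hM hMnd
  have hk0 := hkerM hker
  refine ⟨↥M, inferInstance, inferInstance, inferInstance, (augB F r).restrict M,
    (augS F r).restrict hM, hYM, rfl, ?_, ?_⟩
  · rw [hk0, finrank_bot]
  · intro g
    rw [LinearMap.range_eq_top.mpr
      (LinearMap.injective_iff_surjective.mp (LinearMap.ker_eq_bot.mp hk0)), top_inf_eq, hρ g]

end MODELSP

open MODELSP in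
/-- MODELSP -/
theorem exists_model_space {F : Type u} [Field F] [Fintype F] {p : ℕ} [Fact p.Prime]
    [CharP F p] (r : ℕ) [Fact r.Prime] (hr2 : r ≠ 2) (hrp : r ≠ p)
    (hev : Even (orderOf ((Fintype.card F : ℕ) : ZMod r))) (b κ : ℕ) (hb1 : 1 ≤ b)
    (hκ : Even κ)
    (hb : b ≤ (r - 1) / orderOf ((Fintype.card F : ℕ) : ZMod r) ∨
      Even (b - (r - 1) / orderOf ((Fintype.card F : ℕ) : ZMod r))) :
    ∃ (V : Type u) (_ : AddCommGroup V) (_ : Module F V) (_ : FiniteDimensional F V)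
      (B : LinearMap.BilinForm F V) (y : Module.End F V),
      IsYSp B y r ∧
      Module.finrank F V = κ + orderOf ((Fintype.card F : ℕ) : ZMod r) * b ∧
      Module.finrank F (LinearMap.ker (y - 1)) = κ ∧
      ∃ g₀ : F[X], g₀.Monic ∧ g₀.natDegree = orderOf ((Fintype.card F : ℕ) : ZMod r) ∧
        (∀ g : F[X], g.Monic → g.natDegree = orderOf ((Fintype.card F : ℕ) : ZMod r) →
          g ≠ g₀ →
          Module.finrank F ↥(LinearMap.range (y - 1) ⊓ LinearMap.ker (aeval y g)) ≤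
            orderOf ((Fintype.card F : ℕ) : ZMod r)) ∧
        Module.finrank F ↥(LinearMap.range (y - 1) ⊓ LinearMap.ker (aeval y g₀)) ≤
          orderOf ((Fintype.card F : ℕ) : ZMod r) *
            (2 * ((b - (r - 1) / orderOf ((Fintype.card F : ℕ) : ZMod r)) / 2) + 1) := by
  classical
  have hr : r.Prime := Fact.out
  obtain ⟨hi0, -, -, -, hccr, -, -, -⟩ := cc_arith (F := F) (p := p) r hr2 hrp
  have hcc : cc F r = orderOf ((Fintype.card F : ℕ) : ZMod r) := by rw [cc_def, if_pos hev]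
  rw [hcc] at hccr
  obtain ⟨hY, hker, hfr⟩ := aug_isYSp (F := F) (p := p) r hr2 hrp
  obtain ⟨m, E, hEinv, hEnd, hEdim, hEorth, hEind, hEsup⟩ :=
    exists_blocks_sp (p := p) r hr2 hrp (augB F r) hY.alt hY.nondeg (augS F r) hY.isom hY.pow
  simp only [hcc] at hEdim
  obtain ⟨i, hi⟩ : ∃ i : ℕ, i = orderOf ((Fintype.card F : ℕ) : ZMod r) := ⟨_, rfl⟩
  rw [← hi] at hi0 hccr hb hEdim ⊢
  obtain ⟨t, ht⟩ := hccr
  have htdiv : (r - 1) / i = t := by rw [ht, Nat.mul_div_cancel_left _ hi0]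
  rw [htdiv] at hb ⊢
  -- the number of blocks is `t`
  have hrange : LinearMap.range (augS F r - 1) = ⊤ :=
    LinearMap.range_eq_top.mpr
      (LinearMap.injective_iff_surjective.mp (LinearMap.ker_eq_bot.mp hker))
  rw [hrange] at hEsup
  have hsum := finrank_biSup E hEind Finset.univ
  have hsup' : (⨆ j ∈ (Finset.univ : Finset (Fin m)), E j) = ⊤ := by simpa using hEsup
  rw [hsup', finrank_top, hfr, Finset.sum_congr rfl (fun j _ => hEdim j), Finset.sum_const,
    Finset.card_univ, Fintype.card_fin, smul_eq_mul, ht] at hsum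
  have hmt : t = m := by
    have h1 : i * t = i * m := by rw [hsum]; ring
    exact Nat.eq_of_mul_eq_mul_left hi0 h1
  subst hmt
  obtain ⟨h, rfl⟩ : ∃ h, κ = 2 * h := by
    obtain ⟨h, hh⟩ := hκ
    exact ⟨h, by omega⟩
  have hinvE : ∀ j, ∀ v ∈ E j, augS F r v ∈ E j := fun j v hv => hEinv j ⟨v, hv, rfl⟩
  have hrec : ∀ (M : Submodule F (Aug F r)) (g : F[X]), g.Monic → g.natDegree = i →
      Module.finrank F ↥(M ⊓ LinearMap.ker (aeval (augS F r) g)) ≤ i := by
    intro M g hg hgd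
    calc Module.finrank F ↥(M ⊓ LinearMap.ker (aeval (augS F r) g))
        ≤ Module.finrank F (LinearMap.ker (aeval (augS F r) g)) :=
          Submodule.finrank_mono inf_le_right
      _ ≤ g.natDegree := aug_rec r g hg
      _ = i := hgd
  by_cases hbt : b ≤ t
  · -- Model I
    set s : Finset (Fin t) := Finset.univ.filter (fun j => j.val < b) with hs
    have hscard : s.card = b := by
      rw [hs, Fin.card_filter_val_lt]
      exact min_eq_right hbt
    have hMnd : Nondeg (augB F r) (⨆ j ∈ s, E j) :=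
      nondeg_biSup E s (fun j _ => hEnd j) (fun j _ k _ hjk => hEorth j k hjk)
    have hMinv : ∀ v ∈ (⨆ j ∈ s, E j), augS F r v ∈ (⨆ j ∈ s, E j) := by
      intro v hv
      have hle : (⨆ j ∈ s, E j).map (augS F r) ≤ ⨆ j ∈ s, E j := by
        simp only [Submodule.map_iSup]
        exact iSup₂_mono (fun j _ => hEinv j)
      exact hle ⟨v, hv, rfl⟩
    have hMfr : Module.finrank F ↥(⨆ j ∈ s, E j) = b * i := by
      rw [finrank_biSup E hEind s, Finset.sum_congr rfl (fun j _ => hEdim j), Finset.sum_const,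
        hscard, smul_eq_mul]
    obtain ⟨V, i1, i2, i3, B, y, hYV, hn, hk, hρ⟩ :=
      (hasModel_sub (p := p) r hr2 hrp _ hMinv hMnd).prod (hasModel_triv F r h)
    refine ⟨V, i1, i2, i3, B, y, hYV, ?_, ?_, X ^ i, monic_X_pow i, natDegree_X_pow i, ?_, ?_⟩
    · rw [hn, hMfr]; ring
    · rw [hk]; ring
    · intro g hg hgd _
      rw [hρ g]
      beta_reduce
      rw [add_zero]
      exact hrec _ g hg hgd
    · rw [hρ]
      beta_reduce
      rw [add_zero]
      calc _ ≤ i := hrec _ _ (monic_X_pow i) (natDegree_X_pow i)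
        _ ≤ i * (2 * ((b - t) / 2) + 1) := Nat.le_mul_of_pos_right _ (by omega)
  · -- Model II
    have hbe : Even (b - t) := by
      rcases hb with hb | hb
      · exact absurd hb hbt
      · exact hb
    obtain ⟨w, hw⟩ := hbe
    have hbw : b = t + 2 * w := by omega
    have hw2 : (b - t) / 2 = w := by omega
    rw [hw2]
    have ht1 : 1 ≤ t := by
      rcases Nat.eq_zero_or_pos t with h0 | h0
      · rw [h0, mul_zero] at ht
        have := hr.two_le
        omega
      · exact h0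
    set j0 : Fin t := ⟨0, ht1⟩ with hj0
    have hE0fr : Module.finrank F ↥(E j0) = i := hEdim j0
    have hE0ne : E j0 ≠ ⊥ := by
      intro h0
      rw [h0, finrank_bot] at hE0fr
      omega
    have hfix0 : E j0 ⊓ LinearMap.ker (augS F r - 1) = ⊥ := by rw [hker, inf_bot_eq]
    have hirr := irr_of_finrank (p := p) r hrp (augS F r) hY.pow (E j0) (hEinv j0) hfix0
      (by rw [hE0fr, hi])
    obtain ⟨-, u2, u3, -⟩ := monic_unique_of_irr (augS F r) (E j0) (hEinv j0) hirr
    obtain ⟨g₀, hg₀m, hg₀d, hg₀k⟩ := u3 hE0ne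
    rw [hE0fr] at hg₀d
    obtain ⟨v0, hv0E, hv00⟩ := (Submodule.ne_bot_iff _).mp hE0ne
    have hρE : ∀ g : F[X], g.Monic → g.natDegree = i → g ≠ g₀ →
        Module.finrank F ↥(E j0 ⊓ LinearMap.ker (aeval (augS F r) g)) = 0 := by
      intro g hg hgd hne
      have hbot : E j0 ⊓ LinearMap.ker (aeval (augS F r) g) = ⊥ := by
        rw [Submodule.eq_bot_iff]
        rintro v ⟨hvE, hvk⟩
        by_contra hv0
        apply hne
        exact u2 g g₀ hg hg₀m (by rw [hgd, hE0fr]) (by rw [hg₀d, hE0fr])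
          ⟨v, hvE, hv0, LinearMap.mem_ker.mp hvk⟩ ⟨v0, hv0E, hv00, hg₀k v0 hv0E⟩
      rw [hbot, finrank_bot]
    have hAinv : ∀ v ∈ (⊤ : Submodule F (Aug F r)), augS F r v ∈ (⊤ : Submodule F (Aug F r)) :=
      fun _ _ => trivial
    have hmodA := hasModel_sub (p := p) r hr2 hrp ⊤ hAinv hY.nondeg
    have hmodE := (hasModel_sub (p := p) r hr2 hrp (E j0) (hinvE j0) (hEnd j0)).pow
      (by simpa using hasModel_triv F r 0) (2 * w)
    obtain ⟨V, i1, i2, i3, B, y, hYV, hn, hk, hρ⟩ := (hmodA.prod hmodE).prod (hasModel_triv F r h)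
    refine ⟨V, i1, i2, i3, B, y, hYV, ?_, ?_, g₀, hg₀m, hg₀d, ?_, ?_⟩
    · rw [hn, finrank_top, hfr, hE0fr, ht, hbw]; ring
    · rw [hk]; ring
    · intro g hg hgd hne
      rw [hρ g]
      beta_reduce
      rw [hρE g hg hgd hne, mul_zero, add_zero, add_zero]
      exact hrec _ g hg hgd
    · rw [hρ g₀]
      beta_reduce
      rw [add_zero]
      have h1 := hrec ⊤ g₀ hg₀m hg₀d
      have h2 : Module.finrank F ↥(E j0 ⊓ LinearMap.ker (aeval (augS F r) g₀)) ≤ i := by
        calc _ ≤ Module.finrank F ↥(E j0) := Submodule.finrank_mono inf_le_left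
          _ = i := hE0fr
      calc _ ≤ i + 2 * w * i := Nat.add_le_add h1 (Nat.mul_le_mul_left _ h2)
        _ = i * (2 * w + 1) := by ring

end Cfsg.Agent.S5955P
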