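import Mathlib
import Cfsg.Agent.Helper16.S3161Defs
import Cfsg.Agent.Helper19.S2933QUOT

set_option autoImplicit false

/-! # S3161 board, piece QUOT: the quotient by `C` with the induced automorphisms and `N / C`
is (P) again (general-`q` version of `Cfsg.Agent.Helper19.S2933QUOT`). -/

namespace Cfsg.Agent.S3161P

open Cfsg.Agent.S2933P (QUOT_aux_fix QUOT_aux_center)

universe u

section aux

variable {T : Type u} [Group T] {α ρ : MulAut T} {C : Subgroup T} {n : ℕ}

/-- `ee` is constant on cosets of `C` (for elements of `N`) -/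
theorem QUOT_aux_ee_mul_C (h : PData α ρ C n) {x : T} (hx : x ∈ h.N) {c : T} (hc : c ∈ C) :
    ee α (x * c) = ee α x := by
  rw [ee_mul_of_mem h hx, (ee_eq_one_iff h c).2 hc, mul_one]

/-- membership in `N / C` -/
theorem QUOT_aux_mem_map (h : PData α ρ C n) [C.Normal] (x : T) :
    (QuotientGroup.mk x : T ⧸ C) ∈ h.N.map (QuotientGroup.mk' C) ↔ x ∈ h.N := by
  constructor
  · rintro ⟨y, hy, hyx⟩
    have h1 : (QuotientGroup.mk y : T ⧸ C) = QuotientGroup.mk x := hyx
    have h2 : y⁻¹ * x ∈ C := QuotientGroup.eq.1 h1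
    have h3 : x = y * (y⁻¹ * x) := by group
    rw [h3]
    exact h.N.mul_mem hy (C_le_N h h2)
  · intro hx
    exact ⟨x, hx, rfl⟩

end aux

variable {T : Type u} [Group T] [Finite T] {α ρ : MulAut T} {C : Subgroup T} {n : ℕ}

/-- QUOT: the quotient by `C` with the induced automorphisms and `N / C` is (P) again. -/
theorem QUOT (hT : IsPGroup 2 T) (h : PData α ρ C n) [C.Normal] (hne : C ≠ ⊤) :
    ∃ (α' ρ' : MulAut (T ⧸ C)), PData α' ρ' (h.N.map (QuotientGroup.mk' C)) n ∧
      (∀ x : T, α' (QuotientGroup.mk x) = QuotientGroup.mk (α x)) ∧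
      (∀ x : T, ρ' (QuotientGroup.mk x) = QuotientGroup.mk (ρ x)) := by
  classical
  have hαC : C.map (α : T →* T) = C := by
    ext x
    constructor
    · rintro ⟨v, hv, rfl⟩
      show α v ∈ C
      rw [(h.fix v).2 hv]; exact hv
    · intro hx
      exact ⟨x, hx, (h.fix x).2 hx⟩
  have hρC : C.map (ρ : T →* T) = C := by
    ext x
    constructor
    · rintro ⟨v, hv, rfl⟩
      exact h.rho_mem hv
    · intro hx
      refine ⟨ρ.symm x, ?_, ρ.apply_symm_apply x⟩
      -- `ρ⁻¹ x = ρ^(2^n-2) x`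
      have h1 : (ρ ^ (2 ^ n - 1)) (ρ.symm x) = ρ.symm x := h.rho_pow _
      have hn : 2 ^ n - 1 = (2 ^ n - 2) + 1 := by
        have : 2 ^ 2 ≤ 2 ^ n := Nat.pow_le_pow_right (by norm_num) h.two_le
        omega
      rw [hn, pow_succ, MulAut.mul_apply, ρ.apply_symm_apply] at h1
      rw [← h1]
      exact h.rho_pow_mem hx _
  obtain ⟨α', hα'⟩ : ∃ α' : MulAut (T ⧸ C), ∀ x : T, α' (QuotientGroup.mk x) = QuotientGroup.mk (α x) :=
    ⟨QuotientGroup.congr C C α hαC, fun x => QuotientGroup.congr_mk C C α hαC x⟩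
  obtain ⟨ρ', hρ'⟩ : ∃ ρ' : MulAut (T ⧸ C), ∀ x : T, ρ' (QuotientGroup.mk x) = QuotientGroup.mk (ρ x) :=
    ⟨QuotientGroup.congr C C ρ hρC, fun x => QuotientGroup.congr_mk C C ρ hρC x⟩
  have hρ'pow : ∀ (k : ℕ) (x : T), (ρ' ^ k) (QuotientGroup.mk x) = QuotientGroup.mk ((ρ ^ k) x) := by
    intro k
    induction k with
    | zero => intro x; simp
    | succ k ih =>
      intro x
      rw [pow_succ', MulAut.mul_apply, ih, hρ', pow_succ', MulAut.mul_apply]
  have alpha_sq' : ∀ q, α' (α' q) = q := by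
    intro q
    induction q using QuotientGroup.induction_on with
    | H x => rw [hα', hα', h.alpha_sq]
  have rho_pow' : ∀ q, (ρ' ^ (2 ^ n - 1)) q = q := by
    intro q
    induction q using QuotientGroup.induction_on with
    | H x => rw [hρ'pow, h.rho_pow]
  have comm' : ∀ q, α' (ρ' q) = ρ' (α' q) := by
    intro q
    induction q using QuotientGroup.induction_on with
    | H x => rw [hρ', hα', hα', hρ', h.comm]
  have fix' : ∀ q, α' q = q ↔ q ∈ h.N.map (QuotientGroup.mk' C) := by
    intro q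
    induction q using QuotientGroup.induction_on with
    | H x =>
      rw [QUOT_aux_mem_map h x, hα', eq_comm, QuotientGroup.eq, mem_N]
      rfl
  -- exponent
  have exp' : ∀ q ∈ h.N.map (QuotientGroup.mk' C), q * q = 1 := by
    intro q
    induction q using QuotientGroup.induction_on with
    | H x =>
      intro hq
      have hxN := (QUOT_aux_mem_map h x).1 hq
      have hv : ee α x ∈ C := hxN
      have hαx : α x = x * ee α x := by simp [ee]
      have h1 : α (x * x) = x * x := by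
        rw [map_mul, hαx]
        have hc := h.comm_mul hv x
        have he := h.exp _ hv
        calc x * ee α x * (x * ee α x)
            = x * (ee α x * x) * ee α x := by group
          _ = x * (x * ee α x) * ee α x := by rw [hc]
          _ = x * x * (ee α x * ee α x) := by group
          _ = x * x := by rw [he, mul_one]
      have h2 : x * x ∈ C := (h.fix _).1 h1
      show (QuotientGroup.mk (x * x) : T ⧸ C) = 1
      exact (QuotientGroup.eq_one_iff _).2 h2
  -- transitivity
  have trans' : ∀ x ∈ h.N.map (QuotientGroup.mk' C), ∀ y ∈ h.N.map (QuotientGroup.mk' C),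
      x ≠ 1 → y ≠ 1 → ∃ k : ℕ, (ρ' ^ k) x = y := by
    intro x
    induction x using QuotientGroup.induction_on with
    | H a =>
      intro ha y
      induction y using QuotientGroup.induction_on with
      | H b =>
        intro hb ha1 hb1
        have haN := (QUOT_aux_mem_map h a).1 ha
        have hbN := (QUOT_aux_mem_map h b).1 hb
        have haC : a ∉ C := fun hc => ha1 ((QuotientGroup.eq_one_iff _).2 hc)
        have hbC : b ∉ C := fun hc => hb1 ((QuotientGroup.eq_one_iff _).2 hc)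
        obtain ⟨k, c, hc, hbk⟩ := N_trans h haN hbN haC hbC
        refine ⟨k, ?_⟩
        rw [hρ'pow, hbk]
        apply QuotientGroup.eq.2
        have : ((ρ ^ k) a)⁻¹ * ((ρ ^ k) a * c) = c := by group
        rw [this]
        exact hc
  -- the quotient is a non-trivial `2`-group
  have hQ : IsPGroup 2 (T ⧸ C) := hT.to_quotient C
  have : Nontrivial (T ⧸ C) := by
    by_contra hcon
    rw [not_nontrivial_iff_subsingleton] at hcon
    apply hne
    rw [eq_top_iff]
    intro x _
    have : (QuotientGroup.mk x : T ⧸ C) = 1 := Subsingleton.elim _ _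
    exact (QuotientGroup.eq_one_iff _).1 this
  -- `N ≠ C`: there is `x₀ ∈ N ∖ C`
  obtain ⟨x₀, hx₀N, hx₀C⟩ : ∃ x₀ : T, x₀ ∈ h.N ∧ x₀ ∉ C := by
    obtain ⟨z, -, hz1, hz⟩ := QUOT_aux_fix (⊤ : Subgroup (T ⧸ C)) (hQ.to_subgroup _)
      (by
        intro h0
        obtain ⟨a, b, hab⟩ := exists_pair_ne (T ⧸ C)
        have ha : a ∈ (⊥ : Subgroup (T ⧸ C)) := by rw [← h0]; exact Subgroup.mem_top a
        have hb : b ∈ (⊥ : Subgroup (T ⧸ C)) := by rw [← h0]; exact Subgroup.mem_top b
        rw [Subgroup.mem_bot] at ha hb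
        exact hab (ha.trans hb.symm))
      α' alpha_sq' (fun z _ => Subgroup.mem_top _)
    induction z using QuotientGroup.induction_on with
    | H x =>
      refine ⟨x, (QUOT_aux_mem_map h x).1 ((fix' _).1 hz), ?_⟩
      intro hxC
      exact hz1 ((QuotientGroup.eq_one_iff _).2 hxC)
  -- `ee` maps `N` onto `C`
  have ee_surj' : ∀ c ∈ C, ∃ y ∈ h.N, ee α y = c := by
    intro c hc
    by_cases hc1 : c = 1
    · exact ⟨1, h.N.one_mem, by rw [ee_one, hc1]⟩
    · have he1 : ee α x₀ ≠ 1 := fun h1 => hx₀C ((ee_eq_one_iff h x₀).1 h1)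
      obtain ⟨k, hk⟩ := h.trans _ hx₀N _ hc he1 hc1
      exact ⟨(ρ ^ k) x₀, rho_pow_mem_N h hx₀N k, by rw [ee_rho_pow h, hk]⟩
  -- `|N / C| = |C|`
  have card' : Nat.card ↥(h.N.map (QuotientGroup.mk' C)) = 2 ^ n := by
    have hmem : ∀ q : ↥(h.N.map (QuotientGroup.mk' C)),
        ee α (Quotient.out (q : T ⧸ C) : T) ∈ C := by
      intro q
      apply (QUOT_aux_mem_map h _).1
      rw [QuotientGroup.out_eq']
      exact q.2
    let f : ↥(h.N.map (QuotientGroup.mk' C)) → C := fun q => ⟨_, hmem q⟩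
    have hf : Function.Injective f := by
      intro q₁ q₂ h12
      have h12' : ee α (Quotient.out (q₁ : T ⧸ C) : T) = ee α (Quotient.out (q₂ : T ⧸ C) : T) :=
        congrArg Subtype.val h12
      set x₁ := (Quotient.out (q₁ : T ⧸ C) : T) with hx₁
      set x₂ := (Quotient.out (q₂ : T ⧸ C) : T) with hx₂
      have hx₁N : x₁ ∈ h.N := hmem q₁
      have hx₂N : x₂ ∈ h.N := hmem q₂
      have h1 : ee α (x₁⁻¹ * x₂) = 1 := by
        rw [ee_mul_of_mem h (h.N.inv_mem hx₁N), ee_inv_of_mem h hx₁N, h12', inv_mul_cancel]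
      have h2 : x₁⁻¹ * x₂ ∈ C := (ee_eq_one_iff h _).1 h1
      have h3 : (QuotientGroup.mk x₁ : T ⧸ C) = QuotientGroup.mk x₂ := QuotientGroup.eq.2 h2
      rw [hx₁, hx₂, QuotientGroup.out_eq', QuotientGroup.out_eq'] at h3
      exact Subtype.ext h3
    have hs : Function.Surjective f := by
      rintro ⟨c, hc⟩
      obtain ⟨y, hyN, hyc⟩ := ee_surj' c hc
      refine ⟨⟨QuotientGroup.mk y, (QUOT_aux_mem_map h y).2 hyN⟩, ?_⟩
      apply Subtype.ext
      show ee α (Quotient.out (QuotientGroup.mk y : T ⧸ C) : T) = c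
      have h1 : y⁻¹ * (Quotient.out (QuotientGroup.mk y : T ⧸ C) : T) ∈ C := by
        apply QuotientGroup.eq.1
        rw [QuotientGroup.out_eq']
      have h2 : (Quotient.out (QuotientGroup.mk y : T ⧸ C) : T) =
          y * (y⁻¹ * (Quotient.out (QuotientGroup.mk y : T ⧸ C) : T)) := by group
      rw [h2, QUOT_aux_ee_mul_C h hyN h1, hyc]
    rw [Nat.card_congr (Equiv.ofBijective f ⟨hf, hs⟩), h.card]
  have rho_mem' : ∀ q ∈ h.N.map (QuotientGroup.mk' C), ρ' q ∈ h.N.map (QuotientGroup.mk' C) := by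
    intro q hq
    rw [← fix'] at hq ⊢
    rw [comm', hq]
  -- centrality
  have central' : h.N.map (QuotientGroup.mk' C) ≤ Subgroup.center (T ⧸ C) := by
    have hZnt : Nontrivial (Subgroup.center (T ⧸ C)) := hQ.center_nontrivial
    have hZne : Subgroup.center (T ⧸ C) ≠ ⊥ := by
      intro h0
      obtain ⟨a, b, hab⟩ := exists_pair_ne (Subgroup.center (T ⧸ C))
      have ha : (a : T ⧸ C) ∈ (⊥ : Subgroup (T ⧸ C)) := by rw [← h0]; exact a.2
      have hb : (b : T ⧸ C) ∈ (⊥ : Subgroup (T ⧸ C)) := by rw [← h0]; exact b.2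
      rw [Subgroup.mem_bot] at ha hb
      exact hab (Subtype.ext (ha.trans hb.symm))
    obtain ⟨z, hzZ, hz1, hz⟩ := QUOT_aux_fix (Subgroup.center (T ⧸ C)) (hQ.to_subgroup _) hZne
      α' alpha_sq' (fun z hz => QUOT_aux_center α' hz)
    have hzC' : z ∈ h.N.map (QuotientGroup.mk' C) := (fix' z).1 hz
    have hpowZ : ∀ k : ℕ, (ρ' ^ k) z ∈ Subgroup.center (T ⧸ C) := by
      intro k
      induction k with
      | zero => simpa using hzZ
      | succ k ih =>
        rw [pow_succ', MulAut.mul_apply]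
        exact QUOT_aux_center ρ' ih
    intro y hy
    by_cases hy1 : y = 1
    · rw [hy1]; exact Subgroup.one_mem _
    · obtain ⟨k, hk⟩ := trans' z hzC' y hy hz1 hy1
      rw [← hk]
      exact hpowZ k
  exact ⟨α', ρ', ⟨h.two_le, alpha_sq', rho_pow', comm', central', card', exp', fix', trans'⟩,
    hα', hρ'⟩

end Cfsg.Agent.S3161P
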