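import Mathlib
import Cfsg.Prelude.Def_GeometricClasses
import Cfsg.Agent.Helper2.S5886.Defs
import Cfsg.Agent.Helper2.S5664.Defs
import Cfsg.Agent.Helper23.S5664KSPTV

/-! # S5664, piece SPTRANS (helper19): `Sp_K` is transitive on non-zero vectors. -/

set_option autoImplicit false

namespace Cfsg.Agent.S5664P

open Cfsg.Agent.S5886P

variable {F K V : Type*} [Field F] [Field K] [Algebra F K]
  [AddCommGroup V] [Module F V] [Module K V] [IsScalarTower F K V]

namespace SPTRANS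

theorem skew (B : V →ₗ[K] V →ₗ[K] K) (hB : IsAltND B) (x y : V) : B x y = - B y x := by
  have h := hB.alt (x + y)
  rw [map_add, map_add, LinearMap.add_apply, LinearMap.add_apply, hB.alt x, hB.alt y] at h
  linear_combination h

/-- one transvection moves `u` to `u'` when `B u u' ≠ 0` -/
theorem step (B : V →ₗ[K] V →ₗ[K] K) (hB : IsAltND B) (u u' : V) (h : B u u' ≠ 0) :
    ∃ s ∈ SpK F B, s u = u' := by
  obtain ⟨g, hg, hgx⟩ := KSPTV (F := F) B hB (u - u') (B u u')⁻¹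
  refine ⟨g, hg, ?_⟩
  rw [hgx, map_sub, hB.alt, zero_sub, mul_neg, inv_mul_cancel₀ h, neg_smul, one_smul]
  abel

end SPTRANS

/-- SPTRANS (M) -/
theorem SPTRANS (B : V →ₗ[K] V →ₗ[K] K) (hB : IsAltND B) (u u' : V) (hu : u ≠ 0) (hu' : u' ≠ 0) :
    ∃ s ∈ SpK F B, s u = u' := by
  by_cases h : B u u' = 0
  · -- find `z` with `B u z ≠ 0 ≠ B z u'`
    have hy : ∃ y, B u y ≠ 0 := by
      by_contra hcon
      push Not at hcon
      exact hu (hB.nd u hcon)
    have hy' : ∃ y', B u' y' ≠ 0 := by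
      by_contra hcon
      push Not at hcon
      exact hu' (hB.nd u' hcon)
    obtain ⟨y, hy⟩ := hy
    obtain ⟨y', hy'⟩ := hy'
    have hz : ∃ z, B u z ≠ 0 ∧ B z u' ≠ 0 := by
      by_cases h1 : B u' y = 0
      · by_cases h2 : B u y' = 0
        · refine ⟨y + y', ?_, ?_⟩
          · rw [map_add, h2, add_zero]; exact hy
          · rw [SPTRANS.skew B hB, map_add, h1, zero_add]; exact neg_ne_zero.mpr hy'
        · refine ⟨y', h2, ?_⟩
          rw [SPTRANS.skew B hB]; exact neg_ne_zero.mpr hy'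
      · refine ⟨y, hy, ?_⟩
        rw [SPTRANS.skew B hB]; exact neg_ne_zero.mpr h1
    obtain ⟨z, hz1, hz2⟩ := hz
    obtain ⟨s₁, hs₁, hs₁u⟩ := SPTRANS.step (F := F) B hB u z hz1
    obtain ⟨s₂, hs₂, hs₂z⟩ := SPTRANS.step (F := F) B hB z u' hz2
    refine ⟨s₂ * s₁, (SpK F B).mul_mem hs₂ hs₁, ?_⟩
    rw [LinearEquiv.mul_apply, hs₁u, hs₂z]
  · exact SPTRANS.step B hB u u' h

end Cfsg.Agent.S5664P
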