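import Mathlib
import Cfsg.Prelude.Def_GeometricClasses
import Cfsg.Prelude.Def_Classical
import Cfsg.Agent.Helper6.S5992Defs
import Cfsg.Agent.Helper27.Inv2Defs
import Cfsg.Agent.Helper28.Spin6
import Cfsg.Agent.Helper19.Inv2TYPESUM2
import Cfsg.Agent.Helper1.S5973STD
import Cfsg.Agent.Helper15.S5973PRODTYPE
import Cfsg.Agent.Helper15.S5973PRODQ
import Cfsg.Agent.Helper13.S5973CLASSIF
import Cfsg.Agent.Helper13.S5973HYPISO

/-! Inv2 board, piece EXC2: nondegenerate subspaces of prescribed even dimension and type inside a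
nondegenerate even-dimensional subspace, in every characteristic (via helper5's classification
of quadratic spaces over finite fields: EXISTSQ, PRODTYPE, CLASSIF, HYPISO). -/

set_option autoImplicit false

namespace Cfsg.Agent.Inv2P

open Cfsg.Agent.Helper2.SympInvol Cfsg.Agent.Helper2.SympUnits Cfsg.Agent.S5961P Cfsg.Agent.S5992P
open Cfsg.Agent.Helper28.Spin

namespace EXC2

open Cfsg.Agent.S5973P

variable {F V : Type*} [Field F] [AddCommGroup V] [Module F V]

/-- the restriction of `Q` to a nondegenerate subspace has nondegenerate polar form -/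
theorem nd_res_of_nondeg (Q : QuadraticForm F V) (U : Submodule F V) (hU : Nondeg (PB Q) U) :
    ND (resQ Q U) := by
  have hpolar : ∀ a b : U, QuadraticMap.polar (resQ Q U) a b = QuadraticMap.polar Q a.1 b.1 := by
    intro a b
    simp only [QuadraticMap.polar, resQ_apply, Submodule.coe_add]
  constructor
  · intro x hx
    by_contra hx0
    obtain ⟨v, hv, hne⟩ := hU x.1 x.2 (fun h => hx0 (Subtype.ext h))
    apply hne
    have := hx ⟨v, hv⟩
    rw [QuadraticMap.polarBilin_apply_apply, hpolar] at this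
    exact this
  · intro y hy
    by_contra hy0
    obtain ⟨v, hv, hne⟩ := hU y.1 y.2 (fun h => hy0 (Subtype.ext h))
    apply hne
    have := hy ⟨v, hv⟩
    rw [QuadraticMap.polarBilin_apply_apply, hpolar, QuadraticMap.polar_comm] at this
    exact this

/-- the image of an isometric embedding of a nondegenerate space -/
theorem range_props [Fintype F] [FiniteDimensional F V] {V₁ : Type*} [AddCommGroup V₁]
    [Module F V₁] [FiniteDimensional F V₁] (Q : QuadraticForm F V) (Q₁ : QuadraticForm F V₁)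
    (h₁ : ND Q₁) (φ : V₁ →ₗ[F] V) (hinj : Function.Injective φ) (hφ : ∀ u, Q (φ u) = Q₁ u) :
    Module.finrank F (LinearMap.range φ) = Module.finrank F V₁ ∧
    Nondeg (PB Q) (LinearMap.range φ) ∧ (Plus Q (LinearMap.range φ) ↔ IsHyp Q₁) := by
  have hpol : ∀ u u', QuadraticMap.polar Q (φ u) (φ u') = QuadraticMap.polar Q₁ u u' := by
    intro u u'
    simp only [QuadraticMap.polar, ← map_add, hφ]
  refine ⟨LinearMap.finrank_range_of_inj hinj, ?_, ?_⟩
  · rintro _ ⟨u, rfl⟩ hu0
    have hu : u ≠ 0 := fun h => hu0 (by rw [h, map_zero])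
    obtain ⟨u', hu'⟩ : ∃ u', QuadraticMap.polar Q₁ u u' ≠ 0 := by
      by_contra hcon
      push Not at hcon
      exact hu (h₁.1 u hcon)
    refine ⟨φ u', ⟨u', rfl⟩, ?_⟩
    rw [PB_apply, hpol]
    exact hu'
  · rw [TYPESUM2.plus_iff_isHyp_res]
    symm
    apply isHyp_of_isometry Q₁ (resQ Q (LinearMap.range φ)) (LinearEquiv.ofInjective φ hinj)
    intro u
    rw [resQ_apply]
    exact hφ u

end EXC2

open EXC2 Cfsg.Agent.S5973P in
/-- EXC2: helper6's EXC in every characteristic, for even-dimensional `M` -/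
theorem exists_sub_ty2 {F V : Type*} [Field F] [Fintype F] [AddCommGroup V] [Module F V]
    [FiniteDimensional F V] (Q : QuadraticForm F V) (M : Submodule F V)
    (hM : Nondeg (PB Q) M) (hMe : Even (Module.finrank F M)) (ε : Bool) (e : ℕ) (he : Even e)
    (hε : ε = false → 2 ≤ e) (hle : e + 2 ≤ Module.finrank F M) :
    ∃ W : Submodule F V, W ≤ M ∧ IsTy Q ε e W := by
  classical
  have hNDM : ND (resQ Q M) := nd_res_of_nondeg Q M hM
  obtain ⟨n, hn⟩ : ∃ n, n = Module.finrank F M := ⟨_, rfl⟩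
  -- the first factor
  obtain ⟨ι₁, i1, i2, Q₁, hQ₁, hc₁, hty₁⟩ := exists_space_of_type (F := F) e he ε (by
    intro h0
    cases ε with
    | true => rfl
    | false => have := hε rfl; omega)
  -- the second factor
  have hev₂ : Even (n - e) := by
    rw [hn]
    exact (Nat.even_sub (by omega)).mpr ⟨fun _ => he, fun _ => hMe⟩
  obtain ⟨ι₂, j1, j2, Q₂, hQ₂, hc₂, hty₂⟩ := exists_space_of_type (F := F) (n - e) hev₂
    (decide ((ε = true) ↔ IsHyp (resQ Q M))) (by intro h0; omega)
  have hf₁ : Module.finrank F (ι₁ → F) = e := by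
    rw [Module.finrank_fintype_fun_eq_card, hc₁]
  have hf₂ : Module.finrank F (ι₂ → F) = n - e := by
    rw [Module.finrank_fintype_fun_eq_card, hc₂]
  have hprodty : IsHyp (Q₁.prod Q₂) ↔ IsHyp (resQ Q M) := by
    rw [isHyp_prod_iff Q₁ Q₂ hQ₁ hQ₂ (by rw [hf₁]; exact he) (by rw [hf₂]; exact hev₂), hty₁, hty₂,
      decide_eq_true_iff]
    tauto
  have hdim : Module.finrank F ((ι₁ → F) × (ι₂ → F)) = Module.finrank F M := by
    rw [Module.finrank_prod, hf₁, hf₂, ← hn]
    omega
  obtain ⟨g, hg⟩ := exists_isometry_of_type (Q₁.prod Q₂) (resQ Q M) (PRODQ.nd_prod Q₁ Q₂ hQ₁ hQ₂)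
    hNDM hdim (by rw [hdim]; exact hMe) hprodty
  -- the embedding of the first factor
  obtain ⟨φ, hφdef⟩ : ∃ φ : (ι₁ → F) →ₗ[F] V,
      φ = M.subtype ∘ₗ g.toLinearMap ∘ₗ LinearMap.inl F (ι₁ → F) (ι₂ → F) := ⟨_, rfl⟩
  have hφap : ∀ u, φ u = ((g (u, 0) : M) : V) := by
    intro u; rw [hφdef]; rfl
  have hinj : Function.Injective φ := by
    rw [hφdef]
    exact (M.injective_subtype.comp g.injective).comp LinearMap.inl_injective
  have hφQ : ∀ u, Q (φ u) = Q₁ u := by
    intro u
    rw [hφap, ← resQ_apply, hg, QuadraticMap.prod_apply, map_zero, add_zero]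
  obtain ⟨r1, r2, r3⟩ := range_props Q Q₁ hQ₁ φ hinj hφQ
  refine ⟨LinearMap.range φ, ?_, ?_, r2, ?_⟩
  · rintro _ ⟨u, rfl⟩
    rw [hφap]
    exact (g (u, 0)).2
  · rw [r1, hf₁]
  · rw [r3, hty₁]

end Cfsg.Agent.Inv2P
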