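import Mathlib
import Cfsg.Agent.Helper14.J3OA

set_option autoImplicit false

namespace Cfsg.Agent.Helper17.Fi22Out

open Cfsg.Agent.Helper14.J3Out

namespace ABSB

/-- `zpowers (u * t)` centralizes every power of `u` when `t` commutes with `u`. -/
theorem zpowers_le_centralizer_pow {J : Type*} [Group J] (u t : J) (htu : t * u = u * t) (s : ℕ) :
    Subgroup.zpowers (u * t) ≤ Subgroup.centralizer ({u ^ s} : Set J) := by
  rw [Subgroup.zpowers_le]
  rw [Subgroup.mem_centralizer_singleton_iff]
  have h1 : Commute (u * t) u := (Commute.refl u).mul_left htu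
  exact (h1.pow_right s).eq

end ABSB

/-- ABSB: the bound, given the invariance of the class of `t`. -/
theorem card_mulAut_le_of_invariant {J : Type*} [Group J] [Finite J] (p m : ℕ) [hp : Fact p.Prime]
    (hp2 : p ≠ 2) (hcard : Nat.card J = p * m) (hpm : ¬ p ∣ m)
    (x u n t : J) (hgen : Subgroup.closure {x, u} = ⊤) (hu : orderOf u = p)
    (ht : orderOf t = 2) (htu : t * u = u * t)
    (r s : ℕ) (hn : n * u * n⁻¹ = u ^ r)
    (hr : ∀ k, 0 < k → k < p → ∃ j, k % p = r ^ j % p ∨ k % p = (s * r ^ j) % p)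
    (S : Finset J) (hS : S.card ≤ 2 * p)
    (hinv : ∀ (φ : MulAut J) (g : J), ∃ h : J, φ (g * t * g⁻¹) = h * t * h⁻¹)
    (hstab : ∀ φ : MulAut J, (∀ g : J, ∃ h : J, φ (g * t * g⁻¹) = h * t * h⁻¹) → φ u = u →
      φ x ∈ S) :
    Nat.card (MulAut J) ≤ 2 * Nat.card J := by
  classical
  have hpodd : Nat.Coprime p 2 := by
    rw [Nat.coprime_primes hp.out Nat.prime_two]
    exact hp2
  -- `2 ∣ m`
  have h2m : 2 ∣ m := by
    have h2J : 2 ∣ Nat.card J := by rw [← ht]; exact orderOf_dvd_natCard t
    rw [hcard] at h2J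
    exact (Nat.Coprime.dvd_mul_left hpodd.symm).mp h2J
  obtain ⟨mc, hmc⟩ := h2m
  have hcard' : Nat.card J = 2 * p * mc := by rw [hcard, hmc]; ring
  have hc : 0 < 2 * p := Nat.mul_pos (by norm_num) hp.out.pos
  -- the cyclic group of order `2p`
  have hcomm : Commute u t := htu.symm
  have hord : orderOf (u * t) = 2 * p := by
    rw [hcomm.orderOf_mul_eq_mul_orderOf_of_coprime (by rw [hu, ht]; exact hpodd), hu, ht,
      mul_comm]
  have hV : Nat.card (Subgroup.zpowers (u * t)) = 2 * p := by rw [Nat.card_zpowers, hord]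
  have hVu : Subgroup.zpowers (u * t) ≤ Subgroup.centralizer ({u} : Set J) := by
    have := ABSB.zpowers_le_centralizer_pow u t htu 1
    rwa [pow_one] at this
  have hVus : Subgroup.zpowers (u * t) ≤ Subgroup.centralizer ({u ^ s} : Set J) :=
    ABSB.zpowers_le_centralizer_pow u t htu s
  have hns : n * u ^ s * n⁻¹ = (u ^ s) ^ r := by
    rw [← conj_pow, hn, ← pow_mul, ← pow_mul, mul_comm]
  have hO : ∀ φ : MulAut J, φ u ∈ (Set.range fun g : J => g * u * g⁻¹) ∪
      (Set.range fun g : J => g * u ^ s * g⁻¹) := by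
    intro φ
    have hw : orderOf (φ u) = p := by rw [MulEquiv.orderOf_eq, hu]
    obtain ⟨g, k, hk0, hkp, hgk⟩ := exists_conj_pow p m hcard hpm u (φ u) hu hw
    obtain ⟨j, hj | hj⟩ := hr k hk0 hkp
    · left
      refine ⟨g * n ^ j, ?_⟩
      have e : u ^ k = u ^ (r ^ j) := by
        calc u ^ k = u ^ (k % orderOf u) := (pow_mod_orderOf u k).symm
          _ = u ^ (r ^ j % orderOf u) := by rw [hu, hj]
          _ = u ^ (r ^ j) := pow_mod_orderOf u _
      show g * n ^ j * u * (g * n ^ j)⁻¹ = φ u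
      rw [hgk, e, ← conj_pow_eq u hn j]
      group
    · right
      refine ⟨g * n ^ j, ?_⟩
      have e : u ^ k = (u ^ s) ^ (r ^ j) := by
        calc u ^ k = u ^ (k % orderOf u) := (pow_mod_orderOf u k).symm
          _ = u ^ (s * r ^ j % orderOf u) := by rw [hu, hj]
          _ = u ^ (s * r ^ j) := pow_mod_orderOf u _
          _ = (u ^ s) ^ (r ^ j) := pow_mul u s _
      show g * n ^ j * u ^ s * (g * n ^ j)⁻¹ = φ u
      rw [hgk, e, ← conj_pow_eq (u ^ s) hns j]
      group
  have hc1 : Nat.card (Set.range fun g : J => g * u * g⁻¹) ≤ mc :=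
    card_class_le (2 * p) mc hc hcard' u (Subgroup.zpowers (u * t)) hV hVu
  have hc2 : Nat.card (Set.range fun g : J => g * u ^ s * g⁻¹) ≤ mc :=
    card_class_le (2 * p) mc hc hcard' (u ^ s) (Subgroup.zpowers (u * t)) hV hVus
  have horb : Nat.card (MulAction.orbit (MulAut J) u) ≤ 2 * mc := by
    have hsub : MulAction.orbit (MulAut J) u ⊆ (Set.range fun g : J => g * u * g⁻¹) ∪
        (Set.range fun g : J => g * u ^ s * g⁻¹) := by
      rintro _ ⟨φ, rfl⟩
      exact hO φ
    have h1 := Nat.card_mono (Set.toFinite _) hsub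
    have h2 : Nat.card ↑((Set.range fun g : J => g * u * g⁻¹) ∪
        (Set.range fun g : J => g * u ^ s * g⁻¹)) ≤
        Nat.card (Set.range fun g : J => g * u * g⁻¹) +
          Nat.card (Set.range fun g : J => g * u ^ s * g⁻¹) := by
      rw [Nat.card_coe_set_eq, Nat.card_coe_set_eq, Nat.card_coe_set_eq]
      exact Set.ncard_union_le _ _
    omega
  have hst : Nat.card (MulAction.stabilizer (MulAut J) u) ≤ 2 * p := by
    let f : MulAction.stabilizer (MulAut J) u → S := fun φ =>
      ⟨φ.1 x, hstab φ.1 (hinv φ.1) (MulAction.mem_stabilizer_iff.1 φ.2)⟩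
    have hf : Function.Injective f := by
      intro φ ψ h
      have h1 : φ.1 x = ψ.1 x := congrArg Subtype.val h
      have h2 : φ.1 u = u := MulAction.mem_stabilizer_iff.1 φ.2
      have h3 : ψ.1 u = u := MulAction.mem_stabilizer_iff.1 ψ.2
      apply Subtype.ext
      apply MulEquiv.toMonoidHom_injective
      apply MonoidHom.eq_of_eqOn_dense hgen
      intro y hy
      rcases hy with rfl | hy
      · exact h1
      · rw [Set.mem_singleton_iff] at hy
        subst hy
        show φ.1 y = ψ.1 y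
        rw [h2, h3]
    calc Nat.card (MulAction.stabilizer (MulAut J) u) ≤ Nat.card S :=
          Nat.card_le_card_of_injective f hf
      _ = S.card := by rw [Nat.card_eq_fintype_card, Fintype.card_coe]
      _ ≤ 2 * p := hS
  have hprod : Nat.card (MulAut J) = Nat.card (MulAction.orbit (MulAut J) u) *
      Nat.card (MulAction.stabilizer (MulAut J) u) := by
    rw [← Nat.card_prod]
    exact (Nat.card_congr (MulAction.orbitProdStabilizerEquivGroup (MulAut J) u)).symm
  rw [hprod, hcard']
  calc Nat.card (MulAction.orbit (MulAut J) u) * Nat.card (MulAction.stabilizer (MulAut J) u)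
      ≤ (2 * mc) * (2 * p) := Nat.mul_le_mul horb hst
    _ = 2 * (2 * p * mc) := by ring

end Cfsg.Agent.Helper17.Fi22Out
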