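import Mathlib
import Cfsg.Prelude.Def_ClassicalGeometry
import Cfsg.Agent.Helper17.S2482GDefs

/-! S2482 chapter (G), piece UNITG (helper19): an isometry of a nondegenerate finite dimensional space is
invertible, its inverse is an isometry and its adjoint. -/

set_option autoImplicit false

namespace Cfsg.Agent.S2482P

open Polynomial Cfsg.Agent.Helper2.SympInvol Cfsg.Agent.S5955P Cfsg.Agent.S5961P Cfsg.Agent.S2676P
  Cfsg.Agent.S2478P Cfsg.Agent.S2481P

universe u

variable {F : Type u} [Field F]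

namespace UNITG

/-- nondegeneracy in the usual form -/
theorem eq_zero_of_forall (S : SpSpace F) (hS : S.IsSp) (u : S.V) (h : ∀ v, S.B u v = 0) : u = 0 := by
  by_contra hu
  obtain ⟨v, -, hv⟩ := hS.nondeg u Submodule.mem_top hu
  exact hv (h v)

/-- an alternating form is skew-symmetric -/
theorem skew (S : SpSpace F) (hS : S.IsSp) (a b : S.V) : S.B a b = - S.B b a := by
  have h := hS.alt (a + b)
  simp only [map_add, LinearMap.add_apply] at h
  rw [hS.alt a, hS.alt b, zero_add, add_zero] at h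
  rw [add_comm] at h
  exact eq_neg_of_add_eq_zero_left h

/-- nondegeneracy on the right -/
theorem eq_zero_of_forall_right (S : SpSpace F) (hS : S.IsSp) (u : S.V) (h : ∀ v, S.B v u = 0) :
    u = 0 := by
  apply eq_zero_of_forall S hS u
  intro v
  rw [skew S hS, h v, neg_zero]

theorem g_injective (S : SpSpace F) (hS : S.IsSp) : Function.Injective S.g := by
  rw [← LinearMap.ker_eq_bot, LinearMap.ker_eq_bot']
  intro u hu
  apply eq_zero_of_forall S hS u
  intro v
  rw [← hS.isom u v, hu, map_zero, LinearMap.zero_apply]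

theorem isUnit_g (S : SpSpace F) (hS : S.IsSp) :
    ∃ gi : Module.End F S.V, S.g * gi = 1 ∧ gi * S.g = 1 ∧ (∀ u v, S.B (gi u) (gi v) = S.B u v) ∧
      ∀ u v, S.B (S.g u) v = S.B u (gi v) := by
  have hinj := g_injective S hS
  set e := LinearEquiv.ofInjectiveEndo S.g hinj with he
  have h1 : S.g * (e.symm : S.V →ₗ[F] S.V) = 1 := LinearEquiv.ofInjectiveEndo_right_inv S.g hinj
  have h2 : (e.symm : S.V →ₗ[F] S.V) * S.g = 1 := LinearEquiv.ofInjectiveEndo_left_inv S.g hinj
  have h1' : ∀ v, S.g ((e.symm : S.V →ₗ[F] S.V) v) = v := fun v => by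
    have := LinearMap.congr_fun h1 v
    simpa using this
  refine ⟨(e.symm : S.V →ₗ[F] S.V), h1, h2, ?_, ?_⟩
  · intro u v
    rw [← hS.isom, h1', h1']
  · intro u v
    rw [← hS.isom u, h1']

theorem isSp_neg (S : SpSpace F) (hS : S.IsSp) : S.neg.IsSp := by
  have h : ∀ u v : S.V, S.B ((-S.g) u) ((-S.g) v) = S.B u v := by
    intro u v
    rw [LinearMap.neg_apply, LinearMap.neg_apply, map_neg, map_neg, LinearMap.neg_apply, neg_neg]
    exact hS.isom u v
  exact ⟨hS.alt, hS.nondeg, h, pow_zero _⟩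

end UNITG

end Cfsg.Agent.S2482P
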