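import Mathlib
import Cfsg.Prelude.Def_ClassicalGeometry
import Cfsg.Agent.Helper7.S2676Defs
import Cfsg.Agent.Helper7.S2676FRAMEND

/-! S2676, piece FRAMEKER: the kernels of the powers of `X` in terms of a frame. -/

set_option autoImplicit false

universe u

namespace Cfsg.Agent.S2676P

open Cfsg.Agent.Helper2.SympInvol Cfsg.Agent.Helper2.SympUnits Cfsg.Agent.S5961P Cfsg.Agent.S5956P

namespace FRAMEKER

variable {F V : Type*} [Field F] [AddCommGroup V] [Module F V] {ι : Type}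

theorem count_fin (n m : ℕ) :
    ∑ i : Fin m, (if m ≤ n + (i : ℕ) then 1 else 0) = min n m := by
  rw [Fin.sum_univ_eq_sum_range (fun i => if m ≤ n + i then 1 else 0) m, ← Finset.card_filter]
  have h : (Finset.range m).filter (fun i => m ≤ n + i) = Finset.Ico (m - n) m := by
    ext i
    simp only [Finset.mem_filter, Finset.mem_range, Finset.mem_Ico]
    omega
  rw [h, Nat.card_Ico]
  omega

theorem pow_zero_of_le (X : Module.End F V) (e : ℕ) (w : V) (hw : (X ^ e) w = 0) (k : ℕ)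
    (hk : e ≤ k) : (X ^ k) w = 0 := by
  obtain ⟨m, rfl⟩ := Nat.exists_eq_add_of_le hk
  rw [add_comm, pow_add, Module.End.mul_apply, hw, map_zero]

/-- `X^n` shifts the frame vectors -/
theorem pow_fvec (X : Module.End F V) (a : ι → ℕ) (g : ι → V)
    (hkill : ∀ j, (X ^ a j) (g j) = 0) (n : ℕ) (x : (j : ι) × Fin (a j)) :
    (X ^ n) (fvec X a g x) =
      if h : (x.2 : ℕ) + n < a x.1 then fvec X a g ⟨x.1, ⟨(x.2 : ℕ) + n, h⟩⟩ else 0 := by
  obtain ⟨j, i⟩ := x
  rw [fvec_mk, ← Module.End.mul_apply, ← pow_add]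
  split_ifs with h
  · rw [fvec_mk]
    show (X ^ (n + (i : ℕ))) (g j) = (X ^ ((i : ℕ) + n)) (g j)
    rw [add_comm]
  · exact pow_zero_of_le X (a j) (g j) (hkill j) _ (by
      have : ¬ ((i : ℕ) + n < a j) := h
      omega)

theorem mem_span_of_ker [Fintype ι] (X : Module.End F V) (a : ι → ℕ) (g : ι → V)
    (hli : LinearIndependent F (fvec X a g)) (hkill : ∀ j, (X ^ a j) (g j) = 0) (n : ℕ) {v : V}
    (hv : v ∈ Submodule.span F (Set.range (fvec X a g))) (hn : (X ^ n) v = 0) :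
    v ∈ Submodule.span F (Set.range
        fun x : {x : (j : ι) × Fin (a j) // a x.1 ≤ n + (x.2 : ℕ)} => fvec X a g x.1) := by
  classical
  obtain ⟨c, rfl⟩ := (Submodule.mem_span_range_iff_exists_fun F).mp hv
  rw [map_sum] at hn
  simp only [map_smul] at hn
  have hn' : ∑ x : {x : (j : ι) × Fin (a j) // (x.2 : ℕ) + n < a x.1},
      c x.1 • fvec X a g ⟨x.1.1, ⟨(x.1.2 : ℕ) + n, x.2⟩⟩ = 0 := by
    have h1 : ∀ x : {x : (j : ι) × Fin (a j) // (x.2 : ℕ) + n < a x.1},
        c x.1 • fvec X a g ⟨x.1.1, ⟨(x.1.2 : ℕ) + n, x.2⟩⟩ =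
          c x.1 • (X ^ n) (fvec X a g x.1) := by
      intro x
      rw [pow_fvec X a g hkill, dif_pos x.2]
    simp_rw [h1]
    rw [← hn, ← Finset.sum_subtype (Finset.univ.filter
      fun x : (j : ι) × Fin (a j) => (x.2 : ℕ) + n < a x.1) (by simp)
      (fun x => c x • (X ^ n) (fvec X a g x))]
    apply Finset.sum_filter_of_ne
    intro x _ hx
    by_contra hp
    apply hx
    rw [pow_fvec X a g hkill, dif_neg hp, smul_zero]
  have hinj : Function.Injective
      (fun x : {x : (j : ι) × Fin (a j) // (x.2 : ℕ) + n < a x.1} =>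
        (⟨x.1.1, ⟨(x.1.2 : ℕ) + n, x.2⟩⟩ : (j : ι) × Fin (a j))) := by
    rintro ⟨⟨j, i⟩, h⟩ ⟨⟨j', i'⟩, h'⟩ heq
    simp only [Sigma.mk.injEq] at heq
    obtain ⟨rfl, h2⟩ := heq
    rw [heq_iff_eq, Fin.mk.injEq] at h2
    have hii : i = i' := Fin.ext (by omega)
    subst hii
    rfl
  have hli' := hli.comp _ hinj
  have hc0 := Fintype.linearIndependent_iff.mp hli' (fun x => c x.1) hn'
  apply Submodule.sum_mem
  intro x _
  by_cases hx : a x.1 ≤ n + (x.2 : ℕ)
  · exact Submodule.smul_mem _ _ (Submodule.subset_span ⟨⟨x, hx⟩, rfl⟩)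
  · rw [hc0 ⟨x, by omega⟩, zero_smul]
    exact zero_mem _

end FRAMEKER

open FRAMEKER in
theorem frame_ker {F V : Type*} [Field F] [AddCommGroup V] [Module F V] {ι : Type}
    [Fintype ι] [DecidableEq ι] (B : LinearMap.BilinForm F V) (X : Module.End F V)
    (W : Submodule F V) (a : ι → ℕ) (K : Matrix ι ι F) (g : ι → V)
    (hf : IsFrame B X W a K g) (n : ℕ) :
    Module.finrank F ↥(W ⊓ LinearMap.ker (X ^ n)) = ∑ j, min n (a j) ∧
      W ⊓ LinearMap.ker (X ^ n) ≤ Submodule.span F (Set.range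
        fun x : {x : (j : ι) × Fin (a j) // a x.1 ≤ n + (x.2 : ℕ)} => fvec X a g x.1) := by
  classical
  obtain ⟨hli, -, -⟩ := frame_nondeg B X W a K g hf
  have heq : W ⊓ LinearMap.ker (X ^ n) = Submodule.span F (Set.range
        fun x : {x : (j : ι) × Fin (a j) // a x.1 ≤ n + (x.2 : ℕ)} => fvec X a g x.1) := by
    apply le_antisymm
    · rintro v ⟨hvW, hvk⟩
      have hvW' : v ∈ Submodule.span F (Set.range (fvec X a g)) := by
        rw [hf.span]
        exact hvW
      exact mem_span_of_ker X a g hli hf.kill n hvW' hvk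
    · rw [Submodule.span_le]
      rintro _ ⟨⟨x, hx⟩, rfl⟩
      refine ⟨?_, ?_⟩
      · show fvec X a g x ∈ W
        rw [← hf.span]
        exact Submodule.subset_span ⟨x, rfl⟩
      · show (X ^ n) (fvec X a g x) = 0
        rw [pow_fvec X a g hf.kill, dif_neg (by omega)]
  refine ⟨?_, heq.le⟩
  rw [heq]
  have hli' : LinearIndependent F
      (fun x : {x : (j : ι) × Fin (a j) // a x.1 ≤ n + (x.2 : ℕ)} => fvec X a g x.1) :=
    hli.comp Subtype.val Subtype.val_injective
  rw [finrank_span_eq_card hli', Fintype.card_subtype, Finset.card_filter, Fintype.sum_sigma]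
  apply Finset.sum_congr rfl
  intro j _
  exact count_fin n (a j)

end Cfsg.Agent.S2676P
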