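import Mathlib
import Cfsg.Prelude.Def_ClassicalGeometry
import Cfsg.Agent.Helper7.S2676Defs
import Cfsg.Agent.Helper7.S2676DISCWD
import Cfsg.Agent.Helper15.S5956UNIQ
import Cfsg.Agent.Helper19.S2676FRAMEKER

/-! S2676, piece TYPEUNIQ: the type of a frame (multiset of sizes, square classes of the block
determinants) is an invariant of `(B, X, W)`. -/

set_option autoImplicit false

universe u

namespace Cfsg.Agent.S2676P

open Cfsg.Agent.Helper2.SympInvol Cfsg.Agent.Helper2.SympUnits Cfsg.Agent.S5961P Cfsg.Agent.S5956P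

namespace TYPEUNIQ

variable {F V : Type*} [Field F] [AddCommGroup V] [Module F V]

theorem kdim_map {ι : Type} [Fintype ι] (a : ι → ℕ) (n : ℕ) :
    kdim (Multiset.map a Finset.univ.val) n = ∑ j, min n (a j) := by
  unfold kdim
  rw [Multiset.map_map]
  rfl

theorem map_eq {ι ι' : Type} [Fintype ι] [DecidableEq ι] [Fintype ι'] [DecidableEq ι']
    (B : LinearMap.BilinForm F V) (X : Module.End F V) (W : Submodule F V) (a : ι → ℕ)
    (K : Matrix ι ι F) (g : ι → V) (a' : ι' → ℕ) (K' : Matrix ι' ι' F) (g' : ι' → V)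
    (hf : IsFrame B X W a K g) (hf' : IsFrame B X W a' K' g') :
    Multiset.map a Finset.univ.val = Multiset.map a' Finset.univ.val := by
  apply multiset_eq_of_kdim
  · intro b hb
    obtain ⟨j, -, rfl⟩ := Multiset.mem_map.mp hb
    exact hf.pos j
  · intro b hb
    obtain ⟨j, -, rfl⟩ := Multiset.mem_map.mp hb
    exact hf'.pos j
  · intro n
    rw [kdim_map, kdim_map, ← (frame_ker B X W a K g hf n).1,
      ← (frame_ker B X W a' K' g' hf' n).1]

theorem card_fiber {κ : Type} [Fintype κ] (b : κ → ℕ) (s : ℕ) :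
    Fintype.card {j // b j = s} = Multiset.count s (Multiset.map b Finset.univ.val) := by
  classical
  rw [Multiset.count_map, Fintype.card_subtype, Finset.card_def, Finset.filter_val]
  congr 1
  apply Multiset.filter_congr
  intro x _
  exact eq_comm

theorem sq_imp {ι ι' : Type} [Fintype ι] [DecidableEq ι] [Fintype ι'] [DecidableEq ι']
    (B : LinearMap.BilinForm F V) (X : Module.End F V) (W : Submodule F V) (a : ι → ℕ)
    (K : Matrix ι ι F) (g : ι → V) (a' : ι' → ℕ) (K' : Matrix ι' ι' F) (g' : ι' → V)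
    (hf : IsFrame B X W a K g) (hf' : IsFrame B X W a' K' g') (s : ℕ)
    (hsq : IsSquare (K.toSquareBlock a s).det) : IsSquare (K'.toSquareBlock a' s).det := by
  classical
  have hmap := map_eq B X W a K g a' K' g' hf hf'
  have hcard : Fintype.card {j // a j = s} = Fintype.card {j' // a' j' = s} := by
    rw [card_fiber a s, card_fiber a' s, hmap]
  obtain ⟨e⟩ : Nonempty ({j // a j = s} ≃ {j' // a' j' = s}) := ⟨Fintype.equivOfCardEq hcard⟩
  have hinc : Function.Injective
      (fun j : {j // a j = s} =>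
        (⟨⟨j.1, ⟨0, hf.pos j.1⟩⟩, by show a j.1 ≤ s + 0; rw [j.2]; omega⟩ :
          {x : (j : ι) × Fin (a j) // a x.1 ≤ s + (x.2 : ℕ)})) := by
    intro j j' h
    have h1 := congrArg (fun x : {x : (j : ι) × Fin (a j) // a x.1 ≤ s + (x.2 : ℕ)} => x.1.1) h
    exact Subtype.ext h1
  have hzero : ∀ x y : {x : (j : ι) × Fin (a j) // a x.1 ≤ s + (x.2 : ℕ)},
      (x ∉ Set.range (fun j : {j // a j = s} =>
        (⟨⟨j.1, ⟨0, hf.pos j.1⟩⟩, by show a j.1 ≤ s + 0; rw [j.2]; omega⟩ :
          {x : (j : ι) × Fin (a j) // a x.1 ≤ s + (x.2 : ℕ)})) ∨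
       y ∉ Set.range (fun j : {j // a j = s} =>
        (⟨⟨j.1, ⟨0, hf.pos j.1⟩⟩, by show a j.1 ≤ s + 0; rw [j.2]; omega⟩ :
          {x : (j : ι) × Fin (a j) // a x.1 ≤ s + (x.2 : ℕ)}))) →
      (B.compRight (X ^ (s - 1))) (fvec X a g x.1) (fvec X a g y.1) = 0 := by
    rintro ⟨⟨j, i⟩, hx⟩ ⟨⟨j', l⟩, hy⟩ hxy
    rw [LinearMap.BilinForm.compRight_apply, fvec_mk, fvec_mk, ← Module.End.mul_apply, ← pow_add,
      hf.gram]
    split_ifs with h
    · by_cases haj : a j = a j'
      · exfalso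
        have hx' : a j ≤ s + (i : ℕ) := hx
        have hy' : a j' ≤ s + (l : ℕ) := hy
        have hi0 : (i : ℕ) = 0 := by omega
        have hl0 : (l : ℕ) = 0 := by omega
        have hjs : a j = s := by omega
        have hjs' : a j' = s := by omega
        have hi : i = ⟨0, hf.pos j⟩ := Fin.ext hi0
        have hl : l = ⟨0, hf.pos j'⟩ := Fin.ext hl0
        subst hi
        subst hl
        rcases hxy with h' | h'
        · exact h' ⟨⟨j, hjs⟩, rfl⟩
        · exact h' ⟨⟨j', hjs'⟩, rfl⟩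
      · rw [hf.offdiag j j' haj, mul_zero]
    · rfl
  have hd : ∀ t : {j // a j = s}, g' (e t).1 ∈ Submodule.span F (Set.range
      (fun x : {x : (j : ι) × Fin (a j) // a x.1 ≤ s + (x.2 : ℕ)} => fvec X a g x.1)) := by
    intro t
    apply (frame_ker B X W a K g hf s).2
    refine ⟨?_, ?_⟩
    · show g' (e t).1 ∈ W
      rw [← hf'.span]
      refine Submodule.subset_span ⟨⟨(e t).1, ⟨0, hf'.pos _⟩⟩, ?_⟩
      rw [fvec_mk]
      simp
    · show (X ^ s) (g' (e t).1) = 0
      have h1 := hf'.kill (e t).1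
      rwa [(e t).2] at h1
  obtain ⟨P, hP⟩ := disc_wd (B.compRight (X ^ (s - 1)))
    (fun x : {x : (j : ι) × Fin (a j) // a x.1 ≤ s + (x.2 : ℕ)} => fvec X a g x.1)
    (fun j : {j // a j = s} =>
        (⟨⟨j.1, ⟨0, hf.pos j.1⟩⟩, by show a j.1 ≤ s + 0; rw [j.2]; omega⟩ :
          {x : (j : ι) × Fin (a j) // a x.1 ≤ s + (x.2 : ℕ)})) hinc hzero
    (fun t => g' (e t).1) hd
  have hK : (Matrix.of fun x y : {j // a j = s} =>
      (B.compRight (X ^ (s - 1))) (fvec X a g ⟨x.1, ⟨0, hf.pos x.1⟩⟩)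
        (fvec X a g ⟨y.1, ⟨0, hf.pos y.1⟩⟩)) = K.toSquareBlock a s := by
    ext x y
    rw [Matrix.of_apply, Matrix.toSquareBlock_def, Matrix.of_apply,
      LinearMap.BilinForm.compRight_apply, fvec_mk, fvec_mk]
    have h1 := hf.gram x.1 y.1 0 (s - 1)
    rw [if_pos (by have := hf.pos x.1; have := x.2; omega)] at h1
    simp only [pow_zero, one_mul, Module.End.one_apply] at h1
    simpa using h1
  have hK' : (Matrix.of fun t t' : {j // a j = s} =>
      (B.compRight (X ^ (s - 1))) (g' (e t).1) (g' (e t').1)) =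
        (K'.toSquareBlock a' s).submatrix e e := by
    ext t t'
    rw [Matrix.of_apply, Matrix.submatrix_apply, Matrix.toSquareBlock_def, Matrix.of_apply,
      LinearMap.BilinForm.compRight_apply]
    have h1 := hf'.gram (e t).1 (e t').1 0 (s - 1)
    rw [if_pos (by have := hf'.pos (e t).1; have := (e t).2; omega)] at h1
    simp only [pow_zero, one_mul, Module.End.one_apply] at h1
    simpa using h1
  rw [hK'] at hP
  have hP' : (K'.toSquareBlock a' s).submatrix e e = P * K.toSquareBlock a s * P.transpose := by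
    rw [hP, ← hK]
  have hdet := congrArg Matrix.det hP'
  rw [Matrix.det_submatrix_equiv_self, Matrix.det_mul, Matrix.det_mul, Matrix.det_transpose]
    at hdet
  obtain ⟨r, hr⟩ := hsq
  exact ⟨P.det * r, by rw [hdet, hr]; ring⟩

end TYPEUNIQ

open TYPEUNIQ in
theorem type_unique {F V : Type*} [Field F] [AddCommGroup V] [Module F V] {ι ι' : Type}
    [Fintype ι] [DecidableEq ι] [Fintype ι'] [DecidableEq ι'] (B : LinearMap.BilinForm F V)
    (X : Module.End F V) (W : Submodule F V) (a : ι → ℕ) (K : Matrix ι ι F) (g : ι → V)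
    (a' : ι' → ℕ) (K' : Matrix ι' ι' F) (g' : ι' → V) (hf : IsFrame B X W a K g)
    (hf' : IsFrame B X W a' K' g') :
    Multiset.map a Finset.univ.val = Multiset.map a' Finset.univ.val ∧
      ∀ s : ℕ, (IsSquare (K.toSquareBlock a s).det ↔ IsSquare (K'.toSquareBlock a' s).det) :=
  ⟨map_eq B X W a K g a' K' g' hf hf', fun s =>
    ⟨sq_imp B X W a K g a' K' g' hf hf' s, sq_imp B X W a' K' g' a K g hf' hf s⟩⟩

end Cfsg.Agent.S2676P
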