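import Mathlib
import Cfsg.Prelude.Def_ClassicalGeometry
import Cfsg.Agent.Helper7.S2676Defs
import Cfsg.Agent.Helper7.S2676SKEW

/-! S2676, piece NFEVEN: normalising a cyclic generator `v` (with `B v (X^(e-1) v) ≠ 0`) to `w`
with `B w (X^k w) = 0` for all `k ≠ e - 1`. -/

set_option autoImplicit false

universe u

namespace Cfsg.Agent.S2676P

open Cfsg.Agent.Helper2.SympInvol Cfsg.Agent.Helper2.SympUnits Cfsg.Agent.S5961P Cfsg.Agent.S5956P

namespace NFEVEN

variable {F V : Type*} [Field F] [AddCommGroup V] [Module F V]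

/-- `B w (X^k w) = 0` for `k ≥ e` when `X^e w = 0` -/
theorem gamma_zero_of_le (B : LinearMap.BilinForm F V) (X : Module.End F V) (e : ℕ) (w : V)
    (hw : (X ^ e) w = 0) (k : ℕ) (hk : e ≤ k) : B w ((X ^ k) w) = 0 := by
  obtain ⟨m, rfl⟩ := Nat.exists_eq_add_of_le hk
  rw [add_comm, pow_add, Module.End.mul_apply, hw, map_zero, map_zero]

/-- the effect of `w ↦ w + t X^(2j) w` on the forms `B w (X^k w)` -/
theorem gamma_shift (B : LinearMap.BilinForm F V) (X : Module.End F V) (hX : Skew B X)
    (w : V) (t : F) (j k : ℕ) :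
    B (w + t • (X ^ (2 * j)) w) ((X ^ k) (w + t • (X ^ (2 * j)) w)) =
      B w ((X ^ k) w) + 2 * t * B w ((X ^ (k + 2 * j)) w) +
        t * t * B w ((X ^ (k + 4 * j)) w) := by
  have h1 : ∀ u : V, B ((X ^ (2 * j)) w) u = B w ((X ^ (2 * j)) u) := by
    intro u
    rw [skew_pow B X hX, (even_two_mul j).neg_one_pow, one_mul]
  have h2 : (X ^ k) ((X ^ (2 * j)) w) = (X ^ (k + 2 * j)) w := by
    rw [pow_add, Module.End.mul_apply]
  have h3 : (X ^ (2 * j)) ((X ^ k) w) = (X ^ (k + 2 * j)) w := by
    rw [add_comm, pow_add, Module.End.mul_apply]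
  have h4 : (X ^ (2 * j)) ((X ^ (k + 2 * j)) w) = (X ^ (k + 4 * j)) w := by
    rw [← Module.End.mul_apply, ← pow_add]
    congr 2
    ring
  simp only [map_add, map_smul, LinearMap.add_apply, LinearMap.smul_apply, smul_eq_mul, h1, h2,
    h3, h4]
  ring

/-- the span of the `X^i v` is `X`-invariant -/
theorem pow_mem_span (X : Module.End F V) (v : V) (n : ℕ) {u : V}
    (hu : u ∈ Submodule.span F (Set.range fun i : ℕ => (X ^ i) v)) :
    (X ^ n) u ∈ Submodule.span F (Set.range fun i : ℕ => (X ^ i) v) := by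
  have hle : Submodule.span F (Set.range fun i : ℕ => (X ^ i) v) ≤
      (Submodule.span F (Set.range fun i : ℕ => (X ^ i) v)).comap (X ^ n) := by
    rw [Submodule.span_le]
    rintro _ ⟨i, rfl⟩
    show (X ^ n) ((X ^ i) v) ∈ Submodule.span F (Set.range fun i : ℕ => (X ^ i) v)
    rw [← Module.End.mul_apply, ← pow_add]
    exact Submodule.subset_span ⟨n + i, rfl⟩
  exact hle hu

end NFEVEN

open NFEVEN in
theorem nf_even {F V : Type*} [Field F] [AddCommGroup V] [Module F V] (h2 : (2 : F) ≠ 0)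
    (B : LinearMap.BilinForm F V) (halt : ∀ v, B v v = 0) (X : Module.End F V) (hX : Skew B X)
    (e : ℕ) (v : V) (hv : (X ^ e) v = 0) (hc : B v ((X ^ (e - 1)) v) ≠ 0) :
    ∃ w : V, w ∈ Submodule.span F (Set.range fun i : ℕ => (X ^ i) v) ∧ (X ^ e) w = 0 ∧
      B w ((X ^ (e - 1)) w) = B v ((X ^ (e - 1)) v) ∧
      ∀ k : ℕ, k ≠ e - 1 → B w ((X ^ k) w) = 0 := by
  -- `e - 1` is odd
  have hodd : Odd (e - 1) := by
    rcases Nat.even_or_odd (e - 1) with h | h
    · exact absurd (pair_self_even h2 B halt X hX (e - 1) h v) hc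
    · exact h
  obtain ⟨m', hm'⟩ := hodd
  obtain ⟨c, hcdef⟩ : ∃ c : F, c = B v ((X ^ (e - 1)) v) := ⟨_, rfl⟩
  rw [← hcdef] at hc ⊢
  have key : ∀ n : ℕ, ∃ w : V, w ∈ Submodule.span F (Set.range fun i : ℕ => (X ^ i) v) ∧
      (X ^ e) w = 0 ∧ B w ((X ^ (e - 1)) w) = c ∧
      ∀ k : ℕ, k < e - 1 → e - 1 ≤ k + 2 * n → B w ((X ^ k) w) = 0 := by
    intro n
    induction n with
    | zero =>
      refine ⟨v, Submodule.subset_span ⟨0, by simp⟩, hv, hcdef.symm, ?_⟩
      intro k hk1 hk2
      omega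
    | succ n ih =>
      obtain ⟨w, hwS, hwe, hwc, hwk⟩ := ih
      by_cases hj : 2 * (n + 1) ≤ e - 1
      · -- modify `w`
        obtain ⟨k₀, hk₀⟩ : ∃ k₀, k₀ = e - 1 - 2 * (n + 1) := ⟨_, rfl⟩
        obtain ⟨t, ht⟩ : ∃ t : F, t = - B w ((X ^ k₀) w) / (2 * c) := ⟨_, rfl⟩
        have hge : ∀ k : ℕ, e ≤ k → B w ((X ^ k) w) = 0 := gamma_zero_of_le B X e w hwe
        refine ⟨w + t • (X ^ (2 * (n + 1))) w, ?_, ?_, ?_, ?_⟩
        · exact Submodule.add_mem _ hwS (Submodule.smul_mem _ _ (pow_mem_span X v _ hwS))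
        · rw [map_add, map_smul, ← Module.End.mul_apply, ← pow_add, add_comm e, pow_add,
            Module.End.mul_apply, hwe, map_zero, smul_zero, add_zero]
        · rw [gamma_shift B X hX, hwc, hge _ (by omega), hge _ (by omega)]
          ring
        · intro k hk1 hk2
          rw [gamma_shift B X hX]
          by_cases hold : e - 1 ≤ k + 2 * n
          · rw [hwk k hk1 hold, hge _ (by omega), hge _ (by omega)]
            ring
          · rcases Nat.even_or_odd k with hke | hko
            · -- even `k`: everything vanishes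
              have h0 := pair_self_even h2 B halt X hX k hke w
              have h1 := pair_self_even h2 B halt X hX (k + 2 * (n + 1))
                (hke.add (even_two_mul _)) w
              have h2' := pair_self_even h2 B halt X hX (k + 4 * (n + 1))
                (hke.add ⟨2 * (n + 1), by ring⟩) w
              rw [h0, h1, h2']
              ring
            · obtain ⟨mk, hmk⟩ := hko
              have hkk : k = k₀ := by omega
              have hk1' : k + 2 * (n + 1) = e - 1 := by omega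
              rw [hk1', hwc, hge (k + 4 * (n + 1)) (by omega), hkk, ht]
              field_simp
              ring
      · -- nothing to do
        refine ⟨w, hwS, hwe, hwc, ?_⟩
        intro k hk1 hk2
        by_cases hold : e - 1 ≤ k + 2 * n
        · exact hwk k hk1 hold
        · rcases Nat.even_or_odd k with hke | hko
          · exact pair_self_even h2 B halt X hX k hke w
          · obtain ⟨mk, hmk⟩ := hko
            omega
  obtain ⟨w, hwS, hwe, hwc, hwk⟩ := key e
  refine ⟨w, hwS, hwe, hwc, ?_⟩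
  intro k hk
  rcases Nat.lt_or_ge k (e - 1) with h | h
  · exact hwk k h (by omega)
  · exact gamma_zero_of_le B X e w hwe k (by omega)

end Cfsg.Agent.S2676P
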