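import Mathlib
import Cfsg.Prelude.Def_ClassicalGeometry
import Cfsg.Agent.Helper7.S2676Defs
import Cfsg.Agent.Helper7.S2676SKEW

/-! S2676, piece NFODDA: `e` odd, `a, b` with `B a (X^(e-1) b) ≠ 0`: modify `a` by an element of
`span {X^(i+1) b}` so that all the forms `B a (X^k a)` vanish. -/

set_option autoImplicit false

universe u

namespace Cfsg.Agent.S2676P

open Cfsg.Agent.Helper2.SympInvol Cfsg.Agent.Helper2.SympUnits Cfsg.Agent.S5961P Cfsg.Agent.S5956P

namespace NFODDA

variable {F V : Type*} [Field F] [AddCommGroup V] [Module F V]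

/-- `X^k w = 0` for `k ≥ e` when `X^e w = 0` -/
theorem pow_apply_zero_of_le (X : Module.End F V) (e : ℕ) (w : V) (hw : (X ^ e) w = 0) (k : ℕ)
    (hk : e ≤ k) : (X ^ k) w = 0 := by
  obtain ⟨m, rfl⟩ := Nat.exists_eq_add_of_le hk
  rw [add_comm, pow_add, Module.End.mul_apply, hw, map_zero]

/-- the effect of `A ↦ A + t u` on `B A (X^k A)`, `k` odd -/
theorem shift_odd (B : LinearMap.BilinForm F V) (halt : ∀ v, B v v = 0) (X : Module.End F V)
    (hX : Skew B X) (A u : V) (t : F) (k : ℕ) (hk : Odd k) :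
    B (A + t • u) ((X ^ k) (A + t • u)) =
      B A ((X ^ k) A) + 2 * t * B A ((X ^ k) u) + t * t * B u ((X ^ k) u) := by
  have h1 : B u ((X ^ k) A) = B A ((X ^ k) u) := by
    rw [pair_swap B halt X hX k A u, hk.add_one.neg_one_pow, one_mul]
  simp only [map_add, map_smul, LinearMap.add_apply, LinearMap.smul_apply, smul_eq_mul, h1]
  ring

/-- `X^e` kills `span {X^(i+1) b}` -/
theorem span_kill (X : Module.End F V) (e : ℕ) (b : V) (hb : (X ^ e) b = 0) {c : V}
    (hc : c ∈ Submodule.span F (Set.range fun i : ℕ => (X ^ (i + 1)) b)) : (X ^ e) c = 0 := by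
  have hle : Submodule.span F (Set.range fun i : ℕ => (X ^ (i + 1)) b) ≤
      LinearMap.ker (X ^ e) := by
    rw [Submodule.span_le]
    rintro _ ⟨i, rfl⟩
    show (X ^ e) ((X ^ (i + 1)) b) = 0
    rw [← Module.End.mul_apply, ← pow_add, pow_apply_zero_of_le X e b hb _ (by omega)]
  exact hle hc

/-- `span {X^(i+1) b}` is orthogonal to `X^(e-1) b` -/
theorem span_orth (B : LinearMap.BilinForm F V) (X : Module.End F V) (hX : Skew B X) (e : ℕ)
    (he : 0 < e) (b : V) (hb : (X ^ e) b = 0) {c : V}
    (hc : c ∈ Submodule.span F (Set.range fun i : ℕ => (X ^ (i + 1)) b)) :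
    B c ((X ^ (e - 1)) b) = 0 := by
  have hle : Submodule.span F (Set.range fun i : ℕ => (X ^ (i + 1)) b) ≤
      LinearMap.ker (LinearMap.flip B ((X ^ (e - 1)) b)) := by
    rw [Submodule.span_le]
    rintro _ ⟨i, rfl⟩
    show (LinearMap.flip B ((X ^ (e - 1)) b)) ((X ^ (i + 1)) b) = 0
    rw [LinearMap.flip_apply, skew_pow B X hX, ← Module.End.mul_apply, ← pow_add,
      pow_apply_zero_of_le X e b hb _ (by omega), map_zero, mul_zero]
  have := hle hc
  rwa [LinearMap.mem_ker, LinearMap.flip_apply] at this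

end NFODDA

open NFODDA in
theorem nf_isotropize {F V : Type*} [Field F] [AddCommGroup V] [Module F V] (h2 : (2 : F) ≠ 0)
    (B : LinearMap.BilinForm F V) (halt : ∀ v, B v v = 0) (X : Module.End F V) (hX : Skew B X)
    (e : ℕ) (he : Odd e) (a b : V) (ha : (X ^ e) a = 0) (hb : (X ^ e) b = 0)
    (hab : B a ((X ^ (e - 1)) b) ≠ 0) :
    ∃ c : V, c ∈ Submodule.span F (Set.range fun i : ℕ => (X ^ (i + 1)) b) ∧
      ∀ k : ℕ, B (a + c) ((X ^ k) (a + c)) = 0 := by
  obtain ⟨m', hm'⟩ := he
  obtain ⟨δ, hδ⟩ : ∃ δ : F, δ = B a ((X ^ (e - 1)) b) := ⟨_, rfl⟩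
  rw [← hδ] at hab
  have key : ∀ n : ℕ, ∃ c : V, c ∈ Submodule.span F (Set.range fun i : ℕ => (X ^ (i + 1)) b) ∧
      ∀ k : ℕ, e ≤ k + n → B (a + c) ((X ^ k) (a + c)) = 0 := by
    intro n
    induction n with
    | zero =>
      refine ⟨0, zero_mem _, ?_⟩
      intro k hk
      rw [add_zero, pow_apply_zero_of_le X e a ha k (by omega), map_zero]
    | succ n ih =>
      obtain ⟨c, hcS, hck⟩ := ih
      rcases Nat.even_or_odd (e - (n + 1)) with hev | hod
      · refine ⟨c, hcS, ?_⟩
        intro k hk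
        by_cases hold : e ≤ k + n
        · exact hck k hold
        · have hk0 : k = e - (n + 1) := by omega
          rw [hk0]
          exact pair_self_even h2 B halt X hX _ hev _
      · obtain ⟨mk, hmk⟩ := hod
        have hn1 : 1 ≤ n := by omega
        obtain ⟨A, hA⟩ : ∃ A : V, A = a + c := ⟨_, rfl⟩
        obtain ⟨t, ht⟩ : ∃ t : F, t = - B A ((X ^ (e - (n + 1))) A) / (2 * δ) := ⟨_, rfl⟩
        have hδ' : B A ((X ^ (e - 1)) b) = δ := by
          rw [hA, map_add, LinearMap.add_apply, span_orth B X hX e (by omega) b hb hcS, add_zero,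
            hδ]
        refine ⟨c + t • (X ^ n) b, ?_, ?_⟩
        · refine add_mem hcS (Submodule.smul_mem _ _ (Submodule.subset_span ⟨n - 1, ?_⟩))
          show (X ^ (n - 1 + 1)) b = (X ^ n) b
          rw [Nat.sub_add_cancel hn1]
        · intro k hk
          rw [← add_assoc, ← hA]
          rcases Nat.even_or_odd k with hke | hko
          · exact pair_self_even h2 B halt X hX k hke _
          · rw [shift_odd B halt X hX _ _ _ k hko]
            have hlin : B A ((X ^ k) ((X ^ n) b)) = B A ((X ^ (k + n)) b) := by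
              rw [← Module.End.mul_apply, ← pow_add]
            have hquad : B ((X ^ n) b) ((X ^ k) ((X ^ n) b)) = 0 := by
              have h3 : (X ^ n) ((X ^ k) ((X ^ n) b)) = (X ^ (n + k + n)) b := by
                rw [pow_add, pow_add, Module.End.mul_apply, Module.End.mul_apply]
              rw [skew_pow B X hX, h3, pow_apply_zero_of_le X e b hb _ (by omega), map_zero,
                mul_zero]
            rw [hlin, hquad]
            by_cases hold : e ≤ k + n
            · rw [hA, hck k hold, pow_apply_zero_of_le X e b hb _ hold, map_zero]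
              ring
            · have hk0 : k = e - (n + 1) := by omega
              have hkn : k + n = e - 1 := by omega
              rw [hkn, hδ', hk0, ht]
              field_simp
              ring
  obtain ⟨c, hcS, hck⟩ := key e
  exact ⟨c, hcS, fun k => hck k (by omega)⟩

end Cfsg.Agent.S2676P
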