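import Mathlib
import Cfsg.Prelude.Def_ClassicalGeometry
import Cfsg.Agent.Helper7.S2676Defs
import Cfsg.Agent.Helper7.S2676SKEW
import Cfsg.Agent.Helper19.S2676NFEVEN
import Cfsg.Agent.Helper19.S2676NFODDA

/-! S2676, piece NFODDB: `e` odd, `a, b` with `B a (X^(e-1) b) ≠ 0`: normalise the pair to
`B a' (X^k a') = 0 = B b' (X^k b')` and `B a' (X^k b') = [k + 1 = e]`. -/

set_option autoImplicit false

universe u

namespace Cfsg.Agent.S2676P

open Cfsg.Agent.Helper2.SympInvol Cfsg.Agent.Helper2.SympUnits Cfsg.Agent.S5961P Cfsg.Agent.S5956P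

namespace NFODDB

variable {F V : Type*} [Field F] [AddCommGroup V] [Module F V]

/-- `X^k` kills `span {X^i v}` for `k ≥ e` -/
theorem span_kill' (X : Module.End F V) (e : ℕ) (v : V) (hv : (X ^ e) v = 0) {w : V}
    (hw : w ∈ Submodule.span F (Set.range fun i : ℕ => (X ^ i) v)) (k : ℕ) (hk : e ≤ k) :
    (X ^ k) w = 0 := by
  have hle : Submodule.span F (Set.range fun i : ℕ => (X ^ i) v) ≤ LinearMap.ker (X ^ k) := by
    rw [Submodule.span_le]
    rintro _ ⟨i, rfl⟩
    show (X ^ k) ((X ^ i) v) = 0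
    rw [← Module.End.mul_apply, ← pow_add, NFODDA.pow_apply_zero_of_le X e v hv _ (by omega)]
  exact hle hw

/-- if all `B v (X^k v)` vanish, then `span {X^i v}` is totally isotropic -/
theorem iso_span (B : LinearMap.BilinForm F V) (X : Module.End F V) (hX : Skew B X) (v : V)
    (hiso : ∀ k : ℕ, B v ((X ^ k) v) = 0) {w w' : V}
    (hw : w ∈ Submodule.span F (Set.range fun i : ℕ => (X ^ i) v))
    (hw' : w' ∈ Submodule.span F (Set.range fun i : ℕ => (X ^ i) v)) : B w w' = 0 := by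
  have h1 : ∀ i : ℕ, Submodule.span F (Set.range fun i : ℕ => (X ^ i) v) ≤
      LinearMap.ker (B ((X ^ i) v)) := by
    intro i
    rw [Submodule.span_le]
    rintro _ ⟨j, rfl⟩
    show B ((X ^ i) v) ((X ^ j) v) = 0
    rw [skew_pow B X hX, ← Module.End.mul_apply, ← pow_add, hiso, mul_zero]
  have h2 : Submodule.span F (Set.range fun i : ℕ => (X ^ i) v) ≤
      LinearMap.ker (LinearMap.flip B w') := by
    rw [Submodule.span_le]
    rintro _ ⟨i, rfl⟩
    show (LinearMap.flip B w') ((X ^ i) v) = 0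
    rw [LinearMap.flip_apply]
    exact h1 i hw'
  have := h2 hw
  rwa [LinearMap.mem_ker, LinearMap.flip_apply] at this

theorem span_succ_le (X : Module.End F V) (v : V) :
    Submodule.span F (Set.range fun i : ℕ => (X ^ (i + 1)) v) ≤
      Submodule.span F (Set.range fun i : ℕ => (X ^ i) v) := by
  apply Submodule.span_mono
  rintro _ ⟨i, rfl⟩
  exact ⟨i + 1, rfl⟩

/-- normalising `b` against `a`: no hypothesis on `B`, `X` -/
theorem pair_normalize (B : LinearMap.BilinForm F V) (X : Module.End F V) (e : ℕ) (he : 0 < e)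
    (a b : V) (hb : (X ^ e) b = 0) (hab : B a ((X ^ (e - 1)) b) ≠ 0) :
    ∃ b' : V, b' ∈ Submodule.span F (Set.range fun i : ℕ => (X ^ i) b) ∧
      ∀ k : ℕ, B a ((X ^ k) b') = if k + 1 = e then 1 else 0 := by
  obtain ⟨δ, hδ⟩ : ∃ δ : F, δ = B a ((X ^ (e - 1)) b) := ⟨_, rfl⟩
  rw [← hδ] at hab
  have key : ∀ n : ℕ, ∃ w : V, w ∈ Submodule.span F (Set.range fun i : ℕ => (X ^ i) b) ∧
      B a ((X ^ (e - 1)) w) = δ ∧
      ∀ k : ℕ, k < e - 1 → e - 1 ≤ k + n → B a ((X ^ k) w) = 0 := by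
    intro n
    induction n with
    | zero =>
      exact ⟨b, Submodule.subset_span ⟨0, by simp⟩, hδ.symm, fun k h1 h2 => by omega⟩
    | succ n ih =>
      obtain ⟨w, hwS, hwδ, hwk⟩ := ih
      by_cases hn : n + 1 ≤ e - 1
      · obtain ⟨t, ht⟩ : ∃ t : F, t = - B a ((X ^ (e - 1 - (n + 1))) w) / δ := ⟨_, rfl⟩
        have hge : ∀ k, e ≤ k → (X ^ k) w = 0 := span_kill' X e b hb hwS
        have hform : ∀ k, B a ((X ^ k) (w + t • (X ^ (n + 1)) w)) =
            B a ((X ^ k) w) + t * B a ((X ^ (k + (n + 1))) w) := by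
          intro k
          rw [map_add, map_smul, map_add, map_smul, smul_eq_mul, ← Module.End.mul_apply,
            ← pow_add]
        refine ⟨w + t • (X ^ (n + 1)) w, ?_, ?_, ?_⟩
        · exact add_mem hwS (Submodule.smul_mem _ _ (NFEVEN.pow_mem_span X b _ hwS))
        · rw [hform, hwδ, hge _ (by omega), map_zero, mul_zero, add_zero]
        · intro k hk1 hk2
          rw [hform]
          by_cases hold : e - 1 ≤ k + n
          · rw [hwk k hk1 hold, hge _ (by omega), map_zero, mul_zero, add_zero]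
          · have hk0 : k = e - 1 - (n + 1) := by omega
            have hkn : k + (n + 1) = e - 1 := by omega
            have htδ : t * δ = - B a ((X ^ (e - 1 - (n + 1))) w) := by
              rw [ht]
              field_simp
            rw [hkn, hwδ, hk0, htδ, add_neg_cancel]
      · exact ⟨w, hwS, hwδ, fun k hk1 hk2 => hwk k hk1 (by omega)⟩
  obtain ⟨w, hwS, hwδ, hwk⟩ := key e
  refine ⟨δ⁻¹ • w, Submodule.smul_mem _ _ hwS, ?_⟩
  intro k
  rw [map_smul, map_smul, smul_eq_mul]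
  split_ifs with hk
  · have hk' : k = e - 1 := by omega
    rw [hk', hwδ, inv_mul_cancel₀ hab]
  · rcases Nat.lt_or_ge k (e - 1) with h | h
    · rw [hwk k h (by omega), mul_zero]
    · rw [span_kill' X e b hb hwS k (by omega), map_zero, mul_zero]

/-- the span of the `X^i a` and the `X^i b` -/
abbrev TT (X : Module.End F V) (a b : V) : Submodule F V :=
  Submodule.span F ((Set.range fun i : ℕ => (X ^ i) a) ∪ Set.range fun i : ℕ => (X ^ i) b)

theorem pow_mem_TT (X : Module.End F V) (a b : V) (n : ℕ) {u : V} (hu : u ∈ TT X a b) :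
    (X ^ n) u ∈ TT X a b := by
  have hle : TT X a b ≤ (TT X a b).comap (X ^ n) := by
    rw [TT, Submodule.span_le]
    rintro _ (⟨i, rfl⟩ | ⟨i, rfl⟩)
    · show (X ^ n) ((X ^ i) a) ∈ TT X a b
      rw [← Module.End.mul_apply, ← pow_add]
      exact Submodule.subset_span (Or.inl ⟨n + i, rfl⟩)
    · show (X ^ n) ((X ^ i) b) ∈ TT X a b
      rw [← Module.End.mul_apply, ← pow_add]
      exact Submodule.subset_span (Or.inr ⟨n + i, rfl⟩)
  exact hle hu

theorem span_le_TT (X : Module.End F V) (a b : V) {u : V} (hu : u ∈ TT X a b) :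
    Submodule.span F (Set.range fun i : ℕ => (X ^ i) u) ≤ TT X a b := by
  rw [Submodule.span_le]
  rintro _ ⟨i, rfl⟩
  exact pow_mem_TT X a b i hu

theorem left_mem_TT (X : Module.End F V) (a b : V) : a ∈ TT X a b :=
  Submodule.subset_span (Or.inl ⟨0, by simp⟩)

theorem right_mem_TT (X : Module.End F V) (a b : V) : b ∈ TT X a b :=
  Submodule.subset_span (Or.inr ⟨0, by simp⟩)

end NFODDB

open NFODDB in
theorem nf_odd {F V : Type*} [Field F] [AddCommGroup V] [Module F V] (h2 : (2 : F) ≠ 0)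
    (B : LinearMap.BilinForm F V) (halt : ∀ v, B v v = 0) (X : Module.End F V) (hX : Skew B X)
    (e : ℕ) (he : Odd e) (a b : V) (ha : (X ^ e) a = 0) (hb : (X ^ e) b = 0)
    (hab : B a ((X ^ (e - 1)) b) ≠ 0) :
    ∃ a' b' : V,
      a' ∈ Submodule.span F ((Set.range fun i : ℕ => (X ^ i) a) ∪ Set.range fun i : ℕ => (X ^ i) b) ∧
      b' ∈ Submodule.span F ((Set.range fun i : ℕ => (X ^ i) a) ∪ Set.range fun i : ℕ => (X ^ i) b) ∧
      (X ^ e) a' = 0 ∧ (X ^ e) b' = 0 ∧ (∀ k : ℕ, B a' ((X ^ k) a') = 0) ∧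
      (∀ k : ℕ, B b' ((X ^ k) b') = 0) ∧
      ∀ k : ℕ, B a' ((X ^ k) b') = if k + 1 = e then 1 else 0 := by
  have he0 : 0 < e := he.pos
  obtain ⟨c, hcS, hciso⟩ := nf_isotropize h2 B halt X hX e he a b ha hb hab
  obtain ⟨a', ha'⟩ : ∃ a' : V, a' = a + c := ⟨_, rfl⟩
  rw [← ha'] at hciso
  have ha'e : (X ^ e) a' = 0 := by
    rw [ha', map_add, ha, NFODDA.span_kill X e b hb hcS, add_zero]
  have hδ1 : B a' ((X ^ (e - 1)) b) = B a ((X ^ (e - 1)) b) := by
    rw [ha', map_add, LinearMap.add_apply, NFODDA.span_orth B X hX e he0 b hb hcS, add_zero]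
  have hba' : B b ((X ^ (e - 1)) a') ≠ 0 := by
    rw [pair_swap B halt X hX (e - 1) a' b, hδ1]
    exact mul_ne_zero (pow_ne_zero _ (neg_ne_zero.mpr one_ne_zero)) hab
  obtain ⟨c', hc'S, hc'iso⟩ := nf_isotropize h2 B halt X hX e he b a' hb ha'e hba'
  obtain ⟨b₁, hb₁⟩ : ∃ b₁ : V, b₁ = b + c' := ⟨_, rfl⟩
  rw [← hb₁] at hc'iso
  have hb₁e : (X ^ e) b₁ = 0 := by
    rw [hb₁, map_add, hb, NFODDA.span_kill X e a' ha'e hc'S, add_zero]
  have hc'Sa : c' ∈ Submodule.span F (Set.range fun i : ℕ => (X ^ i) a') :=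
    span_succ_le X a' hc'S
  have hδ2 : B a' ((X ^ (e - 1)) b₁) ≠ 0 := by
    rw [hb₁, map_add, map_add,
      iso_span B X hX a' hciso (Submodule.subset_span ⟨0, by simp⟩)
        (NFEVEN.pow_mem_span X a' _ hc'Sa), add_zero, hδ1]
    exact hab
  obtain ⟨b', hb'S, hb'k⟩ := pair_normalize B X e he0 a' b₁ hb₁e hδ2
  have ha'T : a' ∈ TT X a b := by
    rw [ha']
    exact add_mem (left_mem_TT X a b)
      (span_le_TT X a b (right_mem_TT X a b) (span_succ_le X b hcS))
  have hb₁T : b₁ ∈ TT X a b := by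
    rw [hb₁]
    exact add_mem (right_mem_TT X a b) (span_le_TT X a b ha'T hc'Sa)
  refine ⟨a', b', ha'T, span_le_TT X a b hb₁T hb'S, ha'e,
    span_kill' X e b₁ hb₁e hb'S e le_rfl, hciso, ?_, hb'k⟩
  intro k
  exact iso_span B X hX b₁ hc'iso hb'S (NFEVEN.pow_mem_span X b₁ _ hb'S)

end Cfsg.Agent.S2676P
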