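import Mathlib
import Cfsg.Prelude.Def_Classical
import Cfsg.Prelude.Def_ClassicalGeometry
import Cfsg.Prelude.Def_Characters
import Cfsg.Prelude.Def_LieExceptional
import Cfsg.Agent.Helper8.MatBNDefs
import Cfsg.Agent.Helper8.S2546Defs
import Cfsg.Agent.Helper8.S2546EMB
import Cfsg.Agent.Helper17.S2547Defs
import Cfsg.Agent.Helper1.S2546COLRED

set_option autoImplicit false
set_option linter.unusedSectionVars false
set_option linter.unusedVariables false
open scoped Matrix

/-! S2547 piece COLREDO (helper19): column reduction in `SO(J)`, `n` odd (helper1's COLRED for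
`σ = id`, without `ζ`): every nonzero isotropic vector is moved onto the first coordinate axis by
the subgroup generated by the upper triangular elements and the lifts of the simple reflections.
All the step lemmas of `Cfsg.Agent.S2546P.COLRED` are reused; only the induction is redone (no even
case, and the lifts `sMat n 0 j` exist without any `ζ`). -/

namespace Cfsg.Agent.S2547P

open Cfsg.Agent.MatBN Cfsg.Agent.S2546P

variable {K : Type*} [Field K]

namespace COLREDO

theorem genSet_eq (n : ℕ) : GenSet K n = COLRED.Hgen (RingHom.id K) n (0 : K) := rfl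

theorem hid : ∀ x : K, (RingHom.id K) ((RingHom.id K) x) = x := fun _ => rfl

theorem exists_refl_odd (n : ℕ) (hn : n % 2 = 1) (j : ℕ) (hj : j < n / 2) :
    ∃ g ∈ Subgroup.closure (COLRED.Hgen (RingHom.id K) n (0 : K)),
      rho (RingHom.id K) n g = sMat n (0 : K) j := by
  have key : ∀ M : Matrix (Fin n) (Fin n) K,
      PresJ (RingHom.id K) n M ∧ M.det = 1 ∧ Mon M (tau n j) → sMat n (0 : K) j = M →
      ∃ g ∈ Subgroup.closure (COLRED.Hgen (RingHom.id K) n (0 : K)),
        rho (RingHom.id K) n g = sMat n (0 : K) j := by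
    rintro M ⟨hP, hdet, -⟩ hM
    obtain ⟨s, hs⟩ := exists_of_presJ (RingHom.id K) n M hdet hP
    exact ⟨s, Subgroup.subset_closure (Or.inr ⟨j, hj, by rw [hs, hM]⟩), by rw [hs, hM]⟩
  by_cases h1 : j + 1 < n / 2
  · apply key _ (presJ_pMat_tau (RingHom.id K) n j h1)
    unfold sMat
    rw [if_pos h1]
  · have hj' : j = n / 2 - 1 := by omega
    have hn3 : 3 ≤ n := by omega
    have := presJ_sO (K := K) (RingHom.id K) n hn hn3
    rw [← hj'] at this
    apply key _ this
    unfold sMat
    rw [if_neg h1, if_neg (by omega)]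

theorem main_odd (n : ℕ) (hn : n % 2 = 1) :
    ∀ k : ℕ, ∀ hk : k < n, ∀ v : Fin n → K, hJ (RingHom.id K) n v v = 0 → v ⟨k, hk⟩ ≠ 0 →
      (∀ a : Fin n, k < a.val → v a = 0) →
      COLRED.Good (RingHom.id K) n (0 : K) (by omega) v := by
  intro k
  induction k using Nat.strong_induction_on with
  | _ k ih =>
  intro hk v hiso hpiv hz
  by_cases hk0 : k = 0
  · subst hk0
    refine ⟨1, Subgroup.one_mem _, v ⟨0, hk⟩, ?_⟩
    rw [map_one, Matrix.one_mulVec]
    funext a
    by_cases ha : a.val = 0
    · have : a = ⟨0, hk⟩ := Fin.ext ha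
      rw [this, Pi.smul_apply, Pi.single_eq_same, smul_eq_mul, mul_one]
    · rw [hz a (by omega), Pi.smul_apply, Pi.single_eq_of_ne, smul_zero]
      intro h
      exact ha (congrArg Fin.val h)
  · by_cases hA : k < n / 2
    · obtain ⟨j, rfl⟩ : ∃ j, k = j + 1 := ⟨k - 1, by omega⟩
      obtain ⟨t, hw1, hw2⟩ := COLRED.stepL_low (RingHom.id K) n j hA v hpiv hz
      obtain ⟨gx, hgx, hgx'⟩ := COLRED.exists_tri (RingHom.id K) n (0 : K)
        (xL (RingHom.id K) n j t) (presJ_xL (RingHom.id K) hid n j hA t).2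
        (presJ_xL (RingHom.id K) hid n j hA t).1 (COLRED.isTri_xL (RingHom.id K) n j hA t)
      obtain ⟨gs, hgs, hgs'⟩ := exists_refl_odd (K := K) n hn j (by omega)
      have hs : sMat n (0 : K) j = pMat n (tau n j) := by unfold sMat; rw [if_pos hA]
      apply COLRED.good_of_mul (RingHom.id K) n (0 : K) _ gx hgx
      apply COLRED.good_of_mul (RingHom.id K) n (0 : K) _ gs hgs
      have hiso' : hJ (RingHom.id K) n (rho (RingHom.id K) n gs *ᵥ (rho (RingHom.id K) n gx *ᵥ v))
          (rho (RingHom.id K) n gs *ᵥ (rho (RingHom.id K) n gx *ᵥ v)) = 0 := by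
        rw [hJ_mulVec, hJ_mulVec]; exact hiso
      rw [hgx', hgs', hs] at hiso' ⊢
      exact ih j (by omega) (by omega) _ hiso' hw1 hw2
    · by_cases hB : n - n / 2 < k
      · obtain ⟨j, hjk⟩ : ∃ j, j = n - 1 - k := ⟨_, rfl⟩
        have hj : j + 1 < n / 2 := by omega
        have e : (⟨k, hk⟩ : Fin n) = ⟨n - 1 - j, by omega⟩ := Fin.ext (by dsimp only; omega)
        rw [e] at hpiv
        have hz' : ∀ a : Fin n, n - 1 - j < a.val → v a = 0 := fun a ha => hz a (by omega)
        obtain ⟨t, hw1, hw2⟩ := COLRED.stepL_high (RingHom.id K) hid n j hj v hpiv hz'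
        obtain ⟨gx, hgx, hgx'⟩ := COLRED.exists_tri (RingHom.id K) n (0 : K)
          (xL (RingHom.id K) n j t) (presJ_xL (RingHom.id K) hid n j hj t).2
          (presJ_xL (RingHom.id K) hid n j hj t).1 (COLRED.isTri_xL (RingHom.id K) n j hj t)
        obtain ⟨gs, hgs, hgs'⟩ := exists_refl_odd (K := K) n hn j (by omega)
        have hs : sMat n (0 : K) j = pMat n (tau n j) := by unfold sMat; rw [if_pos hj]
        apply COLRED.good_of_mul (RingHom.id K) n (0 : K) _ gx hgx
        apply COLRED.good_of_mul (RingHom.id K) n (0 : K) _ gs hgs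
        have hiso' : hJ (RingHom.id K) n
            (rho (RingHom.id K) n gs *ᵥ (rho (RingHom.id K) n gx *ᵥ v))
            (rho (RingHom.id K) n gs *ᵥ (rho (RingHom.id K) n gx *ᵥ v)) = 0 := by
          rw [hJ_mulVec, hJ_mulVec]; exact hiso
        rw [hgx', hgs', hs] at hiso' ⊢
        exact ih (n - 2 - j) (by omega) (by omega) _ hiso' hw1 hw2
      · have hn3 : 3 ≤ n := by omega
        by_cases hkm : k = n / 2
        · subst hkm
          exact absurd (COLRED.iso_odd_mid (RingHom.id K) hid n hn v hiso hz) hpiv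
        · have hkm' : k = n / 2 + 1 := by omega
          subst hkm'
          obtain ⟨a, b, hab, hw1, hw2⟩ :=
            COLRED.stepO (RingHom.id K) hid n hn hn3 v hiso hpiv hz
          obtain ⟨gx, hgx, hgx'⟩ := COLRED.exists_tri (RingHom.id K) n (0 : K)
            (xO (RingHom.id K) n a b)
            (presJ_xO (RingHom.id K) hid n hn hn3 a b hab).2
            (presJ_xO (RingHom.id K) hid n hn hn3 a b hab).1
            (COLRED.isTri_xO (RingHom.id K) n hn3 a b)
          obtain ⟨gs, hgs, hgs'⟩ := exists_refl_odd (K := K) n hn (n / 2 - 1) (by omega)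
          have hs : sMat n (0 : K) (n / 2 - 1) = sO n := by
            unfold sMat; rw [if_neg (by omega), if_neg (by omega)]
          apply COLRED.good_of_mul (RingHom.id K) n (0 : K) _ gx hgx
          apply COLRED.good_of_mul (RingHom.id K) n (0 : K) _ gs hgs
          have hiso' : hJ (RingHom.id K) n
              (rho (RingHom.id K) n gs *ᵥ (rho (RingHom.id K) n gx *ᵥ v))
              (rho (RingHom.id K) n gs *ᵥ (rho (RingHom.id K) n gx *ᵥ v)) = 0 := by
            rw [hJ_mulVec, hJ_mulVec]; exact hiso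
          rw [hgx', hgs', hs] at hiso' ⊢
          exact ih (n / 2 - 1) (by omega) (by omega) _ hiso' hw1 hw2

end COLREDO

/-! ### COLREDO: column reduction (helper1's COLRED for `σ = id`, `n` odd, without `ζ`) -/

theorem exists_col_reduce_odd (h2 : (2 : K) ≠ 0) (n : ℕ) (hn : n % 2 = 1) (v : Fin n → K)
    (hv : v ≠ 0) (hiso : hJ (RingHom.id K) n v v = 0) :
    ∃ h ∈ Subgroup.closure (GenSet K n),
      ∃ c : K, rhoO K n h *ᵥ v = c • Pi.single (⟨0, by omega⟩ : Fin n) 1 := by
  classical
  have hex : ∃ a : Fin n, v a ≠ 0 := by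
    by_contra h
    push Not at h
    exact hv (funext h)
  obtain ⟨a0, ha0⟩ := hex
  obtain ⟨a, ha, hmax⟩ := Finset.exists_max_image (Finset.univ.filter (fun a : Fin n => v a ≠ 0))
    (fun a => a.val) ⟨a0, by simp [ha0]⟩
  have ha' : v a ≠ 0 := (Finset.mem_filter.1 ha).2
  rw [COLREDO.genSet_eq]
  exact COLREDO.main_odd n hn a.val a.2 v hiso ha' (fun b hb => by
    by_contra hne
    have := hmax b (Finset.mem_filter.2 ⟨Finset.mem_univ _, hne⟩)
    omega)

end Cfsg.Agent.S2547P
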