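import Mathlib
import Cfsg.Agent.Helper29.S2482CDefs
import Cfsg.Agent.Helper18.S2481TILDE

/-! S2482 chapter (C), piece DIVSHIFT (helper19): division by a self-reciprocal monic polynomial is a
bijection between the self-reciprocal monic polynomials divisible by it and those of smaller degree. -/

set_option autoImplicit false

namespace Cfsg.Agent.S2482P

open Polynomial Cfsg.Agent.S2478P Cfsg.Agent.S2481P

universe u

section count

variable {F : Type u} [Field F] [Fintype F]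

namespace DIVSHIFT

/-- the general form: multiplication by a self-reciprocal monic `d` with `d(0) ≠ 0` -/
theorem card_dvd_shift_gen (d : F[X]) (hdm : d.Monic) (hd0 : d.coeff 0 ≠ 0) (hdt : tilde0 d = d)
    (k b : ℕ) (hk : d.natDegree = k) :
    Nat.card {h : F[X] // h.Monic ∧ h.natDegree = b + k ∧ h.coeff 0 ≠ 0 ∧ tilde0 h = h ∧ d ∣ h} =
      Nat.card {h : F[X] // h.Monic ∧ h.natDegree = b ∧ h.coeff 0 ≠ 0 ∧ tilde0 h = h} := by
  symm
  refine Nat.card_congr (Equiv.ofBijective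
    (fun g => ⟨d * g.1, hdm.mul g.2.1, ?_, ?_, ?_, dvd_mul_right d g.1⟩) ⟨?_, ?_⟩)
  · rw [hdm.natDegree_mul g.2.1, hk, g.2.2.1, add_comm]
  · rw [mul_coeff_zero]
    exact mul_ne_zero hd0 g.2.2.2.1
  · show tilde (RingHom.id F) (d * g.1) = d * g.1
    rw [tilde_mul (RingHom.id F) hd0 g.2.2.2.1]
    have h1 : tilde (RingHom.id F) d = d := hdt
    have h2 : tilde (RingHom.id F) g.1 = g.1 := g.2.2.2.2
    rw [h1, h2]
  · intro g g' hgg
    have h1 : d * g.1 = d * g'.1 := congrArg Subtype.val hgg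
    exact Subtype.ext (mul_left_cancel₀ hdm.ne_zero h1)
  · rintro ⟨h, hm, hdeg, h0, ht, g, rfl⟩
    have hgm : g.Monic := hdm.of_mul_monic_left hm
    have hg0 : g.coeff 0 ≠ 0 := by
      rw [mul_coeff_zero] at h0
      exact right_ne_zero_of_mul h0
    refine ⟨⟨g, hgm, ?_, hg0, ?_⟩, rfl⟩
    · rw [hdm.natDegree_mul hgm, hk] at hdeg
      omega
    · exact tilde_of_mul_eq (RingHom.id F) h0 rfl ht hdt

theorem eps_ne_zero {ε : F} (hε : ε * ε = 1) : ε ≠ 0 := by
  rintro rfl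
  rw [mul_zero] at hε
  exact zero_ne_one hε

theorem eps_inv {ε : F} (hε : ε * ε = 1) : ε⁻¹ = ε :=
  inv_eq_of_mul_eq_one_left hε

/-- `X - C ε`, `ε = ±1`, is self-reciprocal -/
theorem tilde0_X_sub_C {ε : F} (hε : ε * ε = 1) : tilde0 (X - C ε : F[X]) = X - C ε := by
  have hne : ε ≠ 0 := eps_ne_zero hε
  have h0 : (X - C ε : F[X]).coeff 0 ≠ 0 := by
    rw [coeff_sub, coeff_X_zero, coeff_C_zero, zero_sub]
    exact neg_ne_zero.mpr hne
  have hdeg : (X - C ε : F[X]).natDegree = 1 := natDegree_X_sub_C ε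
  have hdeg' : (tilde (RingHom.id F) (X - C ε : F[X])).natDegree = 1 := by
    rw [tilde_natDegree (RingHom.id F) h0, hdeg]
  show tilde (RingHom.id F) (X - C ε : F[X]) = X - C ε
  ext i
  rcases Nat.lt_or_ge 1 i with hi | hi
  · rw [coeff_eq_zero_of_natDegree_lt (by rw [hdeg']; exact hi),
      coeff_eq_zero_of_natDegree_lt (by rw [hdeg]; exact hi)]
  · rw [tilde_coeff (RingHom.id F) h0 (by rw [hdeg]; exact hi), hdeg]
    simp only [RingHom.id_apply]
    have hi' : i = 0 ∨ i = 1 := by omega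
    rcases hi' with rfl | rfl
    · simp only [Nat.sub_zero, coeff_sub, coeff_X_zero, coeff_C_zero, zero_sub, coeff_X_one,
        coeff_C_succ, sub_zero, mul_one, inv_neg, eps_inv hε]
    · simp only [Nat.sub_self, coeff_sub, coeff_X_zero, coeff_C_zero, zero_sub, coeff_X_one,
        coeff_C_succ, sub_zero]
      exact inv_mul_cancel₀ (neg_ne_zero.mpr hne)

theorem coeff_zero_X_sub_C_ne {ε : F} (hε : ε * ε = 1) : (X - C ε : F[X]).coeff 0 ≠ 0 := by
  rw [coeff_sub, coeff_X_zero, coeff_C_zero, zero_sub]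
  exact neg_ne_zero.mpr (eps_ne_zero hε)

/-- in a finite field of odd order `2 ≠ 0` -/
theorem two_ne_zero_of_odd (hodd : Odd (Fintype.card F)) : (2 : F) ≠ 0 := by
  intro h2
  have h3 : ringChar F ∣ 2 := by
    apply ringChar.dvd
    exact_mod_cast h2
  have h4 : ringChar F = 2 := by
    rcases (Nat.dvd_prime Nat.prime_two).1 h3 with h | h
    · exact absurd h (CharP.ringChar_ne_one)
    · exact h
  have h5 := FiniteField.even_card_iff_char_two.mp h4
  rcases hodd with ⟨m, hm⟩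
  omega

theorem card_dvd_shift (ε : F) (hε : ε * ε = 1) (b : ℕ) :
    Nat.card {h : F[X] // h.Monic ∧ h.natDegree = b + 1 ∧ h.coeff 0 ≠ 0 ∧ tilde0 h = h ∧
        (X - C ε) ∣ h} =
      Nat.card {h : F[X] // h.Monic ∧ h.natDegree = b ∧ h.coeff 0 ≠ 0 ∧ tilde0 h = h} :=
  card_dvd_shift_gen (X - C ε) (monic_X_sub_C ε) (coeff_zero_X_sub_C_ne hε) (tilde0_X_sub_C hε)
    1 b (natDegree_X_sub_C ε)

theorem card_dvd_shift2 (hodd : Odd (Fintype.card F)) (b : ℕ) :
    Nat.card {h : F[X] // h.Monic ∧ h.natDegree = b + 2 ∧ h.coeff 0 ≠ 0 ∧ tilde0 h = h ∧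
        (X - 1 : F[X]) ∣ h ∧ (X + 1 : F[X]) ∣ h} =
      Nat.card {h : F[X] // h.Monic ∧ h.natDegree = b ∧ h.coeff 0 ≠ 0 ∧ tilde0 h = h} := by
  have e1 : (X - 1 : F[X]) = X - C 1 := by rw [C_1]
  have e2 : (X + 1 : F[X]) = X - C (-1) := by rw [C_neg, C_1, sub_neg_eq_add]
  have h1 : (1 : F) * 1 = 1 := one_mul 1
  have h2 : (-1 : F) * (-1) = 1 := by ring
  have hne : (1 : F) ≠ -1 := by
    intro h
    apply two_ne_zero_of_odd hodd
    have : (2 : F) = 1 + 1 := by norm_num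
    rw [this]
    nth_rewrite 2 [h]
    ring
  have hcop : IsCoprime (X - C (1 : F)) (X - C (-1 : F)) :=
    Polynomial.isCoprime_X_sub_C_of_isUnit_sub (IsUnit.mk0 _ (sub_ne_zero.mpr hne))
  set d : F[X] := (X - C 1) * (X - C (-1)) with hd
  have hdm : d.Monic := (monic_X_sub_C 1).mul (monic_X_sub_C (-1))
  have hd0 : d.coeff 0 ≠ 0 := by
    rw [hd, mul_coeff_zero]
    exact mul_ne_zero (coeff_zero_X_sub_C_ne h1) (coeff_zero_X_sub_C_ne h2)
  have hdt : tilde0 d = d := by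
    show tilde (RingHom.id F) d = d
    rw [hd, tilde_mul (RingHom.id F) (coeff_zero_X_sub_C_ne h1) (coeff_zero_X_sub_C_ne h2)]
    have t1 : tilde (RingHom.id F) (X - C (1 : F)) = X - C 1 := tilde0_X_sub_C h1
    have t2 : tilde (RingHom.id F) (X - C (-1 : F)) = X - C (-1) := tilde0_X_sub_C h2
    rw [t1, t2]
  have hdeg : d.natDegree = 2 := by
    rw [hd, (monic_X_sub_C (1 : F)).natDegree_mul (monic_X_sub_C (-1)), natDegree_X_sub_C,
      natDegree_X_sub_C]
  rw [← card_dvd_shift_gen d hdm hd0 hdt 2 b hdeg]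
  refine Nat.card_congr (Equiv.subtypeEquivRight fun h => ?_)
  rw [e1, e2]
  constructor
  · rintro ⟨a1, a2, a3, a4, a5, a6⟩
    exact ⟨a1, a2, a3, a4, hcop.mul_dvd a5 a6⟩
  · rintro ⟨a1, a2, a3, a4, a5⟩
    exact ⟨a1, a2, a3, a4, (dvd_mul_right _ _).trans a5, (dvd_mul_left _ _).trans a5⟩

end DIVSHIFT

end count

end Cfsg.Agent.S2482P
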