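import Mathlib
import Cfsg.Agent.Helper17.S2560SDefs

/-! S2560 chapter (S), piece EMBLIB (helper19): the calculus of `Emb.part`. -/

set_option autoImplicit false

namespace Cfsg.Agent.S2560P

open Polynomial Cfsg.Agent.Helper2.SympInvol Cfsg.Agent.S2676P Cfsg.Agent.S2478P Cfsg.Agent.S2481P
  Cfsg.Agent.S2482P Cfsg.Agent.S2558P

universe u

section emblib

variable {F : Type u} [Field F] {A : SpSpace F} {V : Type u} [AddCommGroup V] [Module F V]
  {B : LinearMap.BilinForm F V}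

theorem EMBLIB.part_one (E : Emb A B) : E.part 1 = 1 := by
  apply LinearMap.ext
  intro v
  rw [Emb.part_apply, Module.End.one_apply, Module.End.one_apply, sub_self, map_zero, add_zero]

/-- uses `P ∘ j = id` -/
theorem EMBLIB.part_mul (E : Emb A B) (h h' : Module.End F A.V) :
    E.part (h * h') = E.part h * E.part h' := by
  apply LinearMap.ext
  intro v
  rw [Module.End.mul_apply, Emb.part_apply, Emb.part_apply, Emb.part_apply, Module.End.mul_apply]
  have hP : E.P (v + E.j (h' (E.P v) - E.P v)) = h' (E.P v) := by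
    rw [map_add, E.Pj]
    abel
  rw [hP, add_assoc, ← map_add]
  congr 2
  abel

theorem EMBLIB.part_j (E : Emb A B) (h : Module.End F A.V) (a : A.V) :
    E.part h (E.j a) = E.j (h a) := by
  rw [Emb.part_apply, E.Pj, ← map_add]
  congr 1
  abel

/-- `B (j a) (v - j (P v)) = 0` when `B` is symmetric -/
theorem EMBLIB.orth' (E : Emb A B) (hs : ∀ u v, B u v = B v u) (v : V) (b : A.V) :
    B (E.j b) (v - E.j (E.P v)) = 0 := by
  rw [hs, E.orth]

/-- the decomposition of `B u v` along the embedding -/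
theorem EMBLIB.form_decomp (E : Emb A B) (hs : ∀ u v, B u v = B v u) (u₀ v₀ : V) (a b : A.V)
    (hu : ∀ c, B u₀ (E.j c) = 0) (hv : ∀ c, B v₀ (E.j c) = 0) :
    B (u₀ + E.j a) (v₀ + E.j b) = B u₀ v₀ + A.B a b := by
  have e1 : B (u₀ + E.j a) (v₀ + E.j b) =
      B u₀ v₀ + B u₀ (E.j b) + (B (E.j a) v₀ + B (E.j a) (E.j b)) := by
    simp only [map_add, LinearMap.add_apply]
    abel
  rw [e1, hu, hs (E.j a) v₀, hv, E.isom]
  abel

/-- `u = (u - j P u) + j P u`, the first summand is orthogonal to the image of `j` (on both sides, `B` symmetric) -/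
theorem EMBLIB.part_isom (E : Emb A B) (hs : ∀ u v, B u v = B v u) (h : Module.End F A.V)
    (hh : ∀ a b, A.B (h a) (h b) = A.B a b) (u v : V) : B (E.part h u) (E.part h v) = B u v := by
  have e1 : ∀ w : V, E.part h w = (w - E.j (E.P w)) + E.j (h (E.P w)) := by
    intro w
    rw [Emb.part_apply, map_sub]
    abel
  have e2 : ∀ w : V, w = (w - E.j (E.P w)) + E.j (E.P w) := by
    intro w
    abel
  rw [e1 u, e1 v, EMBLIB.form_decomp E hs _ _ _ _ (E.orth u) (E.orth v), hh]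
  conv_rhs => rw [e2 u, e2 v]
  rw [EMBLIB.form_decomp E hs _ _ _ _ (E.orth u) (E.orth v)]

/-- `A.B (P u) b = B (j (P u)) (j b) = B u (j b) - B (u - j (P u)) (j b) = 0` -/
theorem EMBLIB.P_of_orth (E : Emb A B) (hA : Nondeg A.B ⊤) (u : V) (hu : ∀ b, B u (E.j b) = 0) :
    E.P u = 0 := by
  by_contra hne
  obtain ⟨b, -, hb⟩ := hA (E.P u) Submodule.mem_top hne
  apply hb
  have h1 := E.orth u b
  rw [map_sub, LinearMap.sub_apply, hu, zero_sub, neg_eq_zero, E.isom] at h1
  exact h1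

theorem EMBLIB.part_of_P (E : Emb A B) (h : Module.End F A.V) (u : V) (hu : E.P u = 0) :
    E.part h u = u := by
  rw [Emb.part_apply, hu, map_zero, sub_self, map_zero, add_zero]

theorem EMBLIB.part_sub_one (E : Emb A B) (h : Module.End F A.V) :
    E.part h - 1 = E.j ∘ₗ (h - 1) ∘ₗ E.P := by
  unfold Emb.part
  abel

theorem EMBLIB.pow_succ_eq (E : Emb A B) (N : Module.End F A.V) (k : ℕ) :
    (E.j ∘ₗ N ∘ₗ E.P : Module.End F V) ^ (k + 1) = E.j ∘ₗ (N ^ (k + 1)) ∘ₗ E.P := by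
  induction k with
  | zero => rw [zero_add, pow_one, pow_one]
  | succ k ih =>
    rw [pow_succ, ih]
    apply LinearMap.ext
    intro v
    rw [Module.End.mul_apply]
    simp only [LinearMap.coe_comp, Function.comp_apply]
    rw [E.Pj, pow_succ (N) (k + 1), Module.End.mul_apply]

/-- `(j (h - 1) P)^k = j (h - 1)^k P` for `k ≥ 1` -/
theorem EMBLIB.nilpotent (E : Emb A B) (h : Module.End F A.V) (hn : IsNilpotent (h - 1)) :
    IsNilpotent (E.part h - 1) := by
  obtain ⟨k, hk⟩ := hn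
  refine ⟨k + 1, ?_⟩
  rw [EMBLIB.part_sub_one, EMBLIB.pow_succ_eq, pow_succ, hk, zero_mul]
  apply LinearMap.ext
  intro v
  simp

theorem EMBLIB.part_comm {A' : SpSpace F} (E : Emb A B) (E' : Emb A' B)
    (h1 : ∀ a', E.P (E'.j a') = 0) (h2 : ∀ a, E'.P (E.j a) = 0) (h : Module.End F A.V)
    (h' : Module.End F A'.V) : E.part h * E'.part h' = E'.part h' * E.part h := by
  apply LinearMap.ext
  intro v
  rw [Module.End.mul_apply, Module.End.mul_apply, Emb.part_apply, Emb.part_apply, Emb.part_apply,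
    Emb.part_apply]
  have e1 : E.P (v + E'.j (h' (E'.P v) - E'.P v)) = E.P v := by
    rw [map_add, h1, add_zero]
  have e2 : E'.P (v + E.j (h (E.P v) - E.P v)) = E'.P v := by
    rw [map_add, h2, add_zero]
  rw [e1, e2]
  abel

theorem EMBLIB.part_comp {A' : SpSpace F} (E : Emb A B) (E' : Emb A' A.B) (h : Module.End F A'.V) :
    (E.comp E').part h = E.part (E'.part h) := by
  apply LinearMap.ext
  intro v
  rw [Emb.part_apply, Emb.part_apply, Emb.part_apply]
  show v + E.j (E'.j (h (E'.P (E.P v)) - E'.P (E.P v))) = _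
  congr 2
  abel

end emblib

section emblib2

variable {F : Type u} [Field F]

theorem EMBLIB.sum_decomp (S S₁ S₂ : SpSpace F) (e : S.V ≃ₗ[F] S₁.V × S₂.V)
    (hB : ∀ u v, S.B u v = S₁.B (e u).1 (e v).1 + S₂.B (e u).2 (e v).2)
    (hg : ∀ v, e (S.g v) = (S₁.g (e v).1, S₂.g (e v).2)) :
    S.g = (Emb.ofSumLeft e hB).part S₁.g * (Emb.ofSumRight e hB).part S₂.g := by
  apply LinearMap.ext
  intro v
  apply e.injective
  rw [hg, Module.End.mul_apply, Emb.part_apply, Emb.part_apply]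
  show _ = e (v + e.symm (0, S₂.g (e v).2 - (e v).2) +
    e.symm (S₁.g (e (v + e.symm (0, S₂.g (e v).2 - (e v).2))).1 -
      (e (v + e.symm (0, S₂.g (e v).2 - (e v).2))).1, 0))
  rw [map_add, map_add, LinearEquiv.apply_symm_apply, LinearEquiv.apply_symm_apply]
  ext
  · simp
  · simp

theorem EMBLIB.sum_P_left (S S₁ S₂ : SpSpace F) (e : S.V ≃ₗ[F] S₁.V × S₂.V)
    (hB : ∀ u v, S.B u v = S₁.B (e u).1 (e v).1 + S₂.B (e u).2 (e v).2) (a : S₂.V) :
    (Emb.ofSumLeft e hB).P ((Emb.ofSumRight e hB).j a) = 0 := by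
  show (e (e.symm (0, a))).1 = 0
  rw [LinearEquiv.apply_symm_apply]

theorem EMBLIB.sum_P_right (S S₁ S₂ : SpSpace F) (e : S.V ≃ₗ[F] S₁.V × S₂.V)
    (hB : ∀ u v, S.B u v = S₁.B (e u).1 (e v).1 + S₂.B (e u).2 (e v).2) (a : S₁.V) :
    (Emb.ofSumRight e hB).P ((Emb.ofSumLeft e hB).j a) = 0 := by
  show (e (e.symm (a, 0))).2 = 0
  rw [LinearEquiv.apply_symm_apply]

end emblib2

end Cfsg.Agent.S2560P
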