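import Mathlib
import Cfsg.Agent.Helper17.S2560SDefs

/-! S2560 chapter (S), piece TOG (helper19): an isometry of the polar form `B` is the `toLin'` of an element of the
isometry group of `Q`. -/

set_option autoImplicit false

namespace Cfsg.Agent.S2560P

open Polynomial Cfsg.Agent.Helper2.SympInvol Cfsg.Agent.S2676P Cfsg.Agent.S2478P Cfsg.Agent.S2481P
  Cfsg.Agent.S2482P Cfsg.Agent.S2558P

universe u

theorem TOG.exists_mem {F : Type u} [Field F] {ι : Type} [Fintype ι] [DecidableEq ι]
    (Q : (ι → F) → F) (B : LinearMap.BilinForm F (ι → F)) (hQB : IsPolar Q B)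
    (h : Module.End F (ι → F)) (hh : ∀ u v, B (h u) (h v) = B u v) :
    ∃ y : Cfsg.isometryGroup F Q,
      Matrix.toLin' ((y : Matrix.GeneralLinearGroup ι F) : Matrix ι ι F) = h := by
  have hinj : LinearMap.ker h = ⊥ := by
    rw [LinearMap.ker_eq_bot']
    intro u hu
    by_contra hne
    obtain ⟨v, -, hv⟩ := hQB.nondeg u Submodule.mem_top hne
    apply hv
    rw [← hh, hu, map_zero, LinearMap.zero_apply]
  have hunit : IsUnit h := (LinearMap.isUnit_iff_ker_eq_bot h).mpr hinj
  obtain ⟨w, hw⟩ := hunit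
  let g : Matrix.GeneralLinearGroup ι F :=
    ⟨LinearMap.toMatrix' (w : Module.End F (ι → F)),
      LinearMap.toMatrix' ((w⁻¹ : (Module.End F (ι → F))ˣ) : Module.End F (ι → F)),
      by rw [← LinearMap.toMatrix'_mul, Units.mul_inv, LinearMap.toMatrix'_one],
      by rw [← LinearMap.toMatrix'_mul, Units.inv_mul, LinearMap.toMatrix'_one]⟩
  have hg : g ∈ Cfsg.isometryGroup F Q := by
    intro u v
    show Q (Matrix.mulVec (LinearMap.toMatrix' (w : Module.End F (ι → F))) u) = Q u
    rw [LinearMap.toMatrix'_mulVec, hw, hQB.eq, hQB.eq, hh]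
  refine ⟨⟨g, hg⟩, ?_⟩
  show Matrix.toLin' (LinearMap.toMatrix' (w : Module.End F (ι → F))) = h
  rw [Matrix.toLin'_toMatrix', hw]

end Cfsg.Agent.S2560P
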