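import Mathlib
import Cfsg.Agent.Helper26.S4395Defs
import Cfsg.Agent.Helper9.NilpotentHall
import Cfsg.Agent.Helper9.NPCSub
import Cfsg.Agent.Helper9.SylowFusion

set_option autoImplicit false

/-! Board `s4395pieces`, piece NILPN: a finite nilpotent group is `p`-nilpotent. -/

namespace Cfsg.Agent.S4395P

open Cfsg

universe u

/-- NILPN (S/M): a finite nilpotent group is `p`-nilpotent. -/
theorem NILPN {p : ℕ} [Fact p.Prime] {A : Type*} [Group A] [Finite A] (h : Group.IsNilpotent A) :
    Cfsg.HasNormalPComplement p A := by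
  classical
  obtain ⟨S⟩ : Nonempty (Sylow p A) := inferInstance
  have hfc : Cfsg.Agent.Helper9.FrobeniusCond p (S : Subgroup A) := by
    intro D hDS w hw hcop
    apply Cfsg.Agent.Helper9.mem_centralizer_of_nilpotent_of_coprime D w hw
    obtain ⟨k, hk⟩ := IsPGroup.iff_card.mp (S.2.to_le hDS)
    rw [hk]
    exact Nat.Coprime.pow_right k hcop
  have hfus : Cfsg.Agent.Helper9.ControlsFusion (S : Subgroup A) := fun x hx g hy =>
    Cfsg.Agent.Helper9.controls_fusion_of_frobeniusCond S hfc x hx g hy
  obtain ⟨N, hN, hc⟩ :=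
    Cfsg.Agent.Helper9.exists_normal_complement_of_controlsFusion _ A p S rfl hfus
  exact ⟨S, N, hN, hc⟩

end Cfsg.Agent.S4395P
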