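import Mathlib
import Cfsg.Prelude.Def_GeometricClasses
import Cfsg.Agent.Helper24.S5704.Defs
import Cfsg.Agent.Helper17.S5704.STDefs
import Cfsg.Agent.Helper4.S5704STISOPOL
import Cfsg.Agent.Helper14.S5704SEXCROSS
import Cfsg.Agent.Helper18.S5704SEXONE

set_option autoImplicit false
set_option linter.unusedSectionVars false
set_option linter.unusedVariables false

/-! # S5704, chapter STAR', piece STSIM (helper19): the similarity factors. -/

namespace Cfsg.Agent.S5704P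

open Matrix Cfsg.Agent.S5637P Cfsg.Agent.S5704S Cfsg.Agent.S5634P

variable {F : Type*} [Field F] {n a b : ℕ} (e : Fin n ≃ Fin a × Fin b)

/-- the key identity: `f_U(αu, αu') f_W(Bw, Bw') = f_U(u, u') f_W(w, w')` for `w, w' ⊥ z` -/
theorem STSIM.key {Q : QuadraticForm F (Fin n → F)} {GU : Matrix (Fin a) (Fin a) F}
    {GW : Matrix (Fin b) (Fin b) F} (hT : TData Q e 1 GU GW)
    {z : Fin b → F} {y : GL (Fin n) F} (hy : y ∈ Cfsg.isometryGroup F ⇑Q)
    (α : GL (Fin a) F) (B : GL (Fin b) F)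
    (hBψ : psi GW z ᵥ* (B : Matrix (Fin b) (Fin b) F) = psi GW z)
    (hlin : ∀ x : Fin n → F, cps e (psi GW z) x = 0 →
      (y : Matrix (Fin n) (Fin n) F) *ᵥ x -
        ((krg e α B : GL (Fin n) F) : Matrix (Fin n) (Fin n) F) *ᵥ x ∈ Vw e z)
    (u u' : Fin a → F) (w w' : Fin b → F) (hw : bf GW w z = 0) (hw' : bf GW w' z = 0) :
    bf GU ((α : Matrix (Fin a) (Fin a) F) *ᵥ u) ((α : Matrix (Fin a) (Fin a) F) *ᵥ u') *
        bf GW ((B : Matrix (Fin b) (Fin b) F) *ᵥ w) ((B : Matrix (Fin b) (Fin b) F) *ᵥ w') =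
      bf GU u u' * bf GW w w' := by
  have hW := hT.sympW
  have hpol : ∀ (u : Fin a → F) (w : Fin b → F) (u' : Fin a → F) (w' : Fin b → F),
      QuadraticMap.polar ⇑Q (tn e u w) (tn e u' w') = bf GU u u' * bf GW w w' := by
    intro u w u' w'
    have h := hT.pol u w u' w'
    rwa [pt_one, pt_one] at h
  have hBz : ∀ w : Fin b → F, bf GW w z = 0 →
      bf GW ((B : Matrix (Fin b) (Fin b) F) *ᵥ w) z = 0 := by
    intro w hw
    rw [← psi_dot, Matrix.dotProduct_mulVec, hBψ, psi_dot, hw]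
  have hyx : ∀ (u : Fin a → F) (w : Fin b → F), bf GW w z = 0 → ∃ u₁ : Fin a → F,
      (y : Matrix (Fin n) (Fin n) F) *ᵥ tn e u w =
        tn e ((α : Matrix (Fin a) (Fin a) F) *ᵥ u) ((B : Matrix (Fin b) (Fin b) F) *ᵥ w) +
          tn e u₁ z := by
    intro u w hw
    have hK : cps e (psi GW z) (tn e u w) = 0 := by
      rw [cps_tn, psi_dot, hw, zero_smul]
    obtain ⟨u₁, h1⟩ := (mem_Vw e).mp (hlin _ hK)
    refine ⟨u₁, ?_⟩
    rw [krg_mulVec_tn] at h1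
    rw [← h1]; abel
  obtain ⟨u₁, h1⟩ := hyx u w hw
  obtain ⟨u₁', h1'⟩ := hyx u' w' hw'
  have hiso := STISOPOL hy (tn e u w) (tn e u' w')
  rw [h1, h1', hpol, QuadraticMap.polar_add_left, QuadraticMap.polar_add_right,
    QuadraticMap.polar_add_right, hpol, hpol, hpol, hpol, hBz w hw,
    hW.eq_zero_symm (hBz w' hw'), hW.alt] at hiso
  linear_combination hiso

/-- STSIM (M): the similarity factors. -/
theorem STSIM {Q : QuadraticForm F (Fin n → F)} {GU : Matrix (Fin a) (Fin a) F}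
    {GW : Matrix (Fin b) (Fin b) F} (hT : TData Q e 1 GU GW) (ha : 2 ≤ a) (hb : 4 ≤ b)
    {z : Fin b → F} (hz : z ≠ 0) {y : GL (Fin n) F} (hy : y ∈ Cfsg.isometryGroup F ⇑Q)
    (α : GL (Fin a) F) (B : GL (Fin b) F)
    (hBψ : psi GW z ᵥ* (B : Matrix (Fin b) (Fin b) F) = psi GW z)
    (hlin : ∀ x : Fin n → F, cps e (psi GW z) x = 0 →
      (y : Matrix (Fin n) (Fin n) F) *ᵥ x -
        ((krg e α B : GL (Fin n) F) : Matrix (Fin n) (Fin n) F) *ᵥ x ∈ Vw e z) :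
    ∃ μ : F, μ ≠ 0 ∧
      (∀ u u' : Fin a → F, bf GU ((α : Matrix (Fin a) (Fin a) F) *ᵥ u)
        ((α : Matrix (Fin a) (Fin a) F) *ᵥ u') = μ * bf GU u u') ∧
      ∀ w w' : Fin b → F, bf GW w z = 0 → bf GW w' z = 0 →
        bf GW ((B : Matrix (Fin b) (Fin b) F) *ᵥ w) ((B : Matrix (Fin b) (Fin b) F) *ᵥ w') =
          μ⁻¹ * bf GW w w' := by
  classical
  have hW := hT.sympW
  have hU := hT.sympU
  have key := STSIM.key e hT hy α B hBψ hlin
  -- a symplectic pair in `U`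
  have hu₀ : (Pi.single (⟨0, by omega⟩ : Fin a) (1 : F) : Fin a → F) ≠ 0 := by
    intro h0
    have := congrFun h0 ⟨0, by omega⟩
    rw [Pi.single_eq_same] at this
    exact one_ne_zero this
  obtain ⟨u₀', hu⟩ := EX.one hU hu₀
  set u₀ : Fin a → F := Pi.single (⟨0, by omega⟩ : Fin a) (1 : F) with hu₀def
  -- a symplectic pair in `z^⊥`
  obtain ⟨w₀, w₀', hzw₀, hzw₀', hw⟩ := EX.cross hW hb z z
  have hw₀ : bf GW w₀ z = 0 := hW.eq_zero_symm hzw₀
  have hw₀' : bf GW w₀' z = 0 := hW.eq_zero_symm hzw₀'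
  have h00 := key u₀ u₀' w₀ w₀' hw₀ hw₀'
  rw [hu, hw, mul_one] at h00
  set μ : F := bf GU ((α : Matrix (Fin a) (Fin a) F) *ᵥ u₀) ((α : Matrix (Fin a) (Fin a) F) *ᵥ u₀')
    with hμdef
  set ν : F := bf GW ((B : Matrix (Fin b) (Fin b) F) *ᵥ w₀) ((B : Matrix (Fin b) (Fin b) F) *ᵥ w₀')
    with hνdef
  have hμ : μ ≠ 0 := by
    intro h; rw [h, zero_mul] at h00; exact zero_ne_one h00
  have hν : ν = μ⁻¹ := by
    exact eq_inv_of_mul_eq_one_right h00
  refine ⟨μ, hμ, ?_, ?_⟩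
  · intro u u'
    have h := key u u' w₀ w₀' hw₀ hw₀'
    rw [hw, mul_one] at h
    rw [← h]
    have : μ * ν = 1 := h00
    linear_combination (-(bf GU ((α : Matrix (Fin a) (Fin a) F) *ᵥ u)
      ((α : Matrix (Fin a) (Fin a) F) *ᵥ u'))) * this
  · intro w w' hwz hw'z
    have h := key u₀ u₀' w w' hwz hw'z
    rw [hu, one_mul] at h
    rw [← h]
    have h1 : μ⁻¹ * μ = 1 := inv_mul_cancel₀ hμ
    linear_combination (-(bf GW ((B : Matrix (Fin b) (Fin b) F) *ᵥ w)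
      ((B : Matrix (Fin b) (Fin b) F) *ᵥ w'))) * h1

end Cfsg.Agent.S5704P
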