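import Mathlib
import Cfsg.Agent.Helper27.Suz2Defs

/-!
# SUZ2 board, piece B0: basic facts (wrappers of `Helper17.Suz2A`).
-/

set_option autoImplicit false

namespace Cfsg.Agent.SUZ2P

open Cfsg.Agent.Helper17.Suz2 Cfsg.Agent.SUZ2P

universe u v

variable {K : Type v} {P : Type u} [Group K] [Group P] [MulDistribMulAction K P]

theorem B0_Om_inv : KInv K (Om P) := fun k _ hx => smul_mem_Om k hx

theorem B0_mem_Om (hS : Star K P) {x : P} : x ∈ Om P ↔ x * x = 1 := by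
  have := hS.fin
  exact mem_Om_iff hS.pgrp hS.reg

theorem B0_finK (hS : Star K P) : Finite K := by
  obtain ⟨x, y, -, hx1, hx2, -, -⟩ := hS.two
  have := hS.fin
  exact finite_K hS.reg hx1 hx2

theorem B0_card (hS : Star K P) :
    ∃ n : ℕ, 2 ≤ n ∧ Nat.card (Om P) = 2 ^ n ∧ Nat.card K + 1 = 2 ^ n := by
  obtain ⟨x, y, hxy, hx1, hx2, hy1, hy2⟩ := hS.two
  have := hS.fin
  have hfinK : Finite K := B0_finK hS
  have hc := card_Om hS.pgrp hS.reg hx1 hx2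
  have : Fact (Nat.Prime 2) := ⟨Nat.prime_two⟩
  obtain ⟨n, hn⟩ := (IsPGroup.iff_card (p := 2) (G := Om P)).mp (hS.pgrp.to_subgroup _)
  -- `K` is non-trivial
  obtain ⟨k, hk, -⟩ := hS.reg x y hx1 hx2 hy1 hy2
  have hk1 : k ≠ 1 := by
    intro h1
    rw [h1, one_smul] at hk
    exact hxy hk
  have hnt : Nontrivial K := ⟨⟨k, 1, hk1⟩⟩
  have h2 : 1 < Nat.card K := Finite.one_lt_card_iff_nontrivial.mpr hnt
  refine ⟨n, ?_, hn, by rw [← hc, hn]⟩
  by_contra hcon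
  push Not at hcon
  have h3 : 2 ^ n ≤ 2 ^ 1 := Nat.pow_le_pow_right (by norm_num) (by omega)
  rw [hn] at hc
  omega

theorem B0_Om_le (hS : Star K P) {M : Subgroup P} (hM : KInv K M) (hne : M ≠ ⊥) : Om P ≤ M := by
  obtain ⟨m, hm, hm1⟩ : ∃ m ∈ M, m ≠ 1 := by
    by_contra hcon
    push Not at hcon
    exact hne ((Subgroup.eq_bot_iff_forall M).2 hcon)
  obtain ⟨j, hj1, hj2⟩ := exists_invol_pow hS.pgrp hm1
  have hjM : m ^ (2 ^ j) ∈ M := pow_mem hm _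
  intro z hz
  by_cases hz1 : z = 1
  · rw [hz1]; exact one_mem _
  · obtain ⟨k, hk, -⟩ := hS.reg _ z hj1 hj2 hz1 hz.2
    rw [← hk]
    exact hM k _ hjM

theorem B0_reg (hS : Star K P) {x y : P} (hx : x ∈ Om P) (hx1 : x ≠ 1) (hy : y ∈ Om P)
    (hy1 : y ≠ 1) : ∃! k : K, k • x = y :=
  hS.reg x y hx1 hx.2 hy1 hy.2

theorem B0_center (hS : Star K P) (hna : NonAb P) : Subgroup.center P = Om P := by
  have := hS.fin
  apply le_antisymm
  · intro z hz
    exact ⟨hz, center_sq_aux K hS.comm (Nat.card P) P rfl hS.pgrp hS.reg hna z hz⟩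
  · exact Om_le_center

end Cfsg.Agent.SUZ2P
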