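import Mathlib
import Cfsg.Agent.S0992

set_option autoImplicit false

/-! S0983, piece K4CLASS: in a nonabelian simple group of even order not divisible by `8` all
involutions are conjugate. -/

namespace Cfsg.Agent.S0983P

namespace K4CLASS

/-- two nonidentity elements of a Klein four Sylow `2`-subgroup `T` with `|N(T):C(T)| = 3` are
conjugate -/
theorem isConj_of_mem {G : Type*} [Group G] [Finite G] (T : Subgroup G) (hK : IsKleinFour ↥T)
    (hidx : (Subgroup.centralizer (T : Set G)).relIndex (Subgroup.normalizer (T : Set G)) = 3)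
    (x y : G) (hxT : x ∈ T) (hyT : y ∈ T) (hx1 : x ≠ 1) (hy1 : y ≠ 1) : IsConj x y := by
  classical
  -- Klein four facts in `G`
  have hsq : ∀ a ∈ T, a * a = 1 := by
    intro a ha
    have := hK.mul_self ⟨a, ha⟩
    exact congrArg Subtype.val this
  have hthird : ∀ a b c : G, a ∈ T → b ∈ T → c ∈ T → a ≠ 1 → b ≠ 1 → a ≠ b → c ≠ 1 → c ≠ a →
      c ≠ b → c = a * b := by
    intro a b c ha hb hc ha1 hb1 hab hc1 hca hcb
    have := hK.eq_mul_of_ne_all (x := ⟨a, ha⟩) (y := ⟨b, hb⟩) (z := ⟨c, hc⟩)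
      (fun h => ha1 (congrArg Subtype.val h)) (fun h => hb1 (congrArg Subtype.val h))
      (fun h => hab (congrArg Subtype.val h)) (fun h => hc1 (congrArg Subtype.val h))
      (fun h => hca (congrArg Subtype.val h)) (fun h => hcb (congrArg Subtype.val h))
    exact congrArg Subtype.val this
  -- an element of `N(T)` outside `C(T)` whose cube lies in `C(T)`
  set N := Subgroup.normalizer (T : Set G) with hN
  set C := Subgroup.centralizer (T : Set G) with hC
  have hidx' : (C.subgroupOf N).index = 3 := hidx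
  obtain ⟨n, hn⟩ : ∃ n : ↥N, n ∉ C.subgroupOf N := by
    by_contra hcon
    push Not at hcon
    have : C.subgroupOf N = ⊤ := (Subgroup.eq_top_iff' _).mpr hcon
    rw [this, Subgroup.index_top] at hidx'
    omega
  have hn3 : n ^ 3 ∈ C.subgroupOf N := by
    have := Subgroup.pow_index_mem (C.subgroupOf N) n
    rwa [hidx'] at this
  have hnN : (n : G) ∈ N := n.2
  have hnC : (n : G) ∉ C := fun h => hn (Subgroup.mem_subgroupOf.mpr h)
  have hn3C : (n : G) ^ 3 ∈ C := by
    have := Subgroup.mem_subgroupOf.mp hn3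
    simpa using this
  set φ : G ≃* G := MulAut.conj (n : G) with hφ
  have hφapp : ∀ z, φ z = (n : G) * z * (n : G)⁻¹ := fun z => MulAut.conj_apply _ _
  have hφT : ∀ z ∈ T, φ z ∈ T := by
    intro z hz
    rw [hφapp]
    exact (Subgroup.mem_set_normalizer_iff.mp hnN z).mp hz
  have hφ3 : ∀ z ∈ T, φ (φ (φ z)) = z := by
    intro z hz
    have h1 : z * (n : G) ^ 3 = (n : G) ^ 3 * z := Subgroup.mem_centralizer_iff.mp hn3C z hz
    have h2 : (n : G) ^ 3 * z * ((n : G) ^ 3)⁻¹ = z := by
      rw [← h1, mul_inv_cancel_right]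
    rw [hφapp, hφapp, hφapp]
    have h3 : ∀ a w : G, a * (a * (a * w * a⁻¹) * a⁻¹) * a⁻¹ = a ^ 3 * w * (a ^ 3)⁻¹ := by
      intro a w
      simp only [pow_succ, pow_zero, one_mul, mul_inv_rev, mul_assoc]
    rw [h3]
    exact h2
  obtain ⟨z, hzT, hzφ⟩ : ∃ z ∈ T, φ z ≠ z := by
    by_contra hcon
    push Not at hcon
    apply hnC
    rw [Subgroup.mem_centralizer_iff]
    intro z hz
    have := hcon z hz
    rw [hφapp, mul_inv_eq_iff_eq_mul] at this
    exact this.symm
  -- no nonidentity element of `T` is fixed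
  have hnofix : ∀ a ∈ T, a ≠ 1 → φ a ≠ a := by
    intro a ha ha1 hfix
    have hz1 : z ≠ 1 := by
      intro h
      apply hzφ
      rw [h, map_one]
    have hza : z ≠ a := by
      intro h
      apply hzφ
      rw [h]; exact hfix
    have h1 : φ z ≠ 1 := by
      intro h
      apply hz1
      have : φ z = φ 1 := by rw [h, map_one]
      exact φ.injective this
    have h2 : φ z ≠ a := by
      intro h
      apply hza
      have : φ z = φ a := by rw [h, hfix]
      exact φ.injective this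
    have h3 : φ z = a * z := hthird a z (φ z) ha hzT (hφT z hzT) ha1 hz1 (Ne.symm hza) h1 h2 hzφ
    have h4 : φ (φ z) = z := by
      rw [h3, map_mul, hfix, h3, ← mul_assoc, hsq a ha, one_mul]
    have h5 := hφ3 z hzT
    rw [h4] at h5
    exact hzφ h5
  by_cases hxy : x = y
  · rw [hxy]
  have hφx := hnofix x hxT hx1
  by_cases h1 : φ x = y
  · exact isConj_iff.mpr ⟨(n : G), by rw [← hφapp]; exact h1⟩
  -- `φ x` is the third involution `w = x * y`
  have hφx1 : φ x ≠ 1 := by
    intro h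
    apply hx1
    have : φ x = φ 1 := by rw [h, map_one]
    exact φ.injective this
  have hw : φ x = x * y := hthird x y (φ x) hxT hyT (hφT x hxT) hx1 hy1 hxy hφx1 hφx h1
  have hwT : φ x ∈ T := hφT x hxT
  have hφw := hnofix (φ x) hwT hφx1
  have hφw1 : φ (φ x) ≠ 1 := by
    intro h
    apply hφx1
    have : φ (φ x) = φ 1 := by rw [h, map_one]
    exact φ.injective this
  have hφwx : φ (φ x) ≠ x := by
    intro h
    have h5 := hφ3 x hxT
    rw [h] at h5
    exact hφx h5
  have hφwy : φ (φ x) = y := by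
    by_contra hne
    -- then `φ (φ x)` is a fourth nonidentity element
    have hxw : x ≠ φ x := Ne.symm hφx
    have := hthird x (φ x) (φ (φ x)) hxT hwT (hφT _ hwT) hx1 hφx1 hxw hφw1 hφwx hφw
    rw [hw, ← mul_assoc, hsq x hxT, one_mul] at this
    exact hne (by rw [hw]; exact this)
  refine isConj_iff.mpr ⟨(n : G) * (n : G), ?_⟩
  rw [← hφwy, hφapp, hφapp]
  simp only [mul_inv_rev, mul_assoc]

end K4CLASS

/-- K4CLASS (generic, uses S0992): one class of involutions -/
theorem isConj_of_involutions {G : Type*} [Group G] [Finite G] [IsSimpleGroup G]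
    (hG : ¬ IsMulCommutative G) (h2 : Even (Nat.card G)) (h8 : ¬ 8 ∣ Nat.card G) (s t : G)
    (hs : orderOf s = 2) (ht : orderOf t = 2) : IsConj s t := by
  classical
  have : Fact (Nat.Prime 2) := ⟨Nat.prime_two⟩
  have hs1 : s ≠ 1 := by
    intro h
    rw [h, orderOf_one] at hs
    omega
  have ht1 : t ≠ 1 := by
    intro h
    rw [h, orderOf_one] at ht
    omega
  have hsP : IsPGroup 2 ↥(Subgroup.zpowers s) :=
    IsPGroup.of_card (n := 1) (by rw [Nat.card_zpowers, hs, pow_one])
  have htP : IsPGroup 2 ↥(Subgroup.zpowers t) :=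
    IsPGroup.of_card (n := 1) (by rw [Nat.card_zpowers, ht, pow_one])
  obtain ⟨Ts, hTs⟩ := hsP.exists_le_sylow
  obtain ⟨Tt, hTt⟩ := htP.exists_le_sylow
  obtain ⟨g, hg⟩ := MulAction.exists_smul_eq G Tt Ts
  have hsT : s ∈ Ts := hTs (Subgroup.mem_zpowers s)
  have htT : t ∈ Tt := hTt (Subgroup.mem_zpowers t)
  have hgt : g * t * g⁻¹ ∈ Ts := by
    rw [← hg]
    show g * t * g⁻¹ ∈ ((g • Tt : Sylow 2 G) : Subgroup G)
    rw [Sylow.coe_subgroup_smul]
    exact ⟨t, htT, rfl⟩
  have hgt1 : g * t * g⁻¹ ≠ 1 := by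
    intro h
    apply ht1
    have : g * t * g⁻¹ = g * 1 * g⁻¹ := by rw [h]; group
    exact mul_left_cancel (mul_right_cancel this)
  obtain ⟨hK, hidx⟩ := Cfsg.Agent.S0992.result hG h2 h8 Ts
  have h1 : IsConj s (g * t * g⁻¹) :=
    K4CLASS.isConj_of_mem (Ts : Subgroup G) hK hidx s (g * t * g⁻¹) hsT hgt hs1 hgt1
  have h2' : IsConj t (g * t * g⁻¹) := isConj_iff.mpr ⟨g, rfl⟩
  exact h1.trans h2'.symm

end Cfsg.Agent.S0983P
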