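import Mathlib
import Cfsg.Agent.S1018

set_option autoImplicit false

/-! S0983, piece ORBCNT: the number of orbits of a Sylow subgroup `P` of prime order on the cosets
of its normalizer (Burnside's orbit counting lemma). -/

namespace Cfsg.Agent.S0983P

/-- ORBCNT (generic, uses S1018 part 1 + Burnside's orbit counting lemma) -/
theorem card_orbits_sylow {G : Type*} [Group G] [Finite G] (p : ℕ) [Fact p.Prime] (P : Sylow p G)
    (hP : Nat.card ↥(P : Subgroup G) = p) :
    Nat.card (MulAction.orbitRel.Quotient ↥(P : Subgroup G)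
      (G ⧸ Subgroup.normalizer ((P : Subgroup G) : Set G))) * p =
    Nat.card (Sylow p G) + (p - 1) := by
  classical
  have hp : p.Prime := Fact.out
  set N := Subgroup.normalizer ((P : Subgroup G) : Set G) with hN
  letI : Fintype ↥(P : Subgroup G) := Fintype.ofFinite _
  letI : Fintype (G ⧸ N) := Fintype.ofFinite _
  letI : Fintype (MulAction.orbitRel.Quotient ↥(P : Subgroup G) (G ⧸ N)) := Fintype.ofFinite _
  letI : ∀ g : ↥(P : Subgroup G), Fintype (MulAction.fixedBy (G ⧸ N) g) :=
    fun g => Fintype.ofFinite _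
  have hB := MulAction.sum_card_fixedBy_eq_card_orbits_mul_card_group ↥(P : Subgroup G) (G ⧸ N)
  have h1 : ∀ g : ↥(P : Subgroup G), g ≠ 1 →
      Fintype.card (MulAction.fixedBy (G ⧸ N) g) = 1 := by
    intro g hg
    have hord : orderOf (g : G) = p := by
      have h2 : orderOf g ∣ p := by
        have := orderOf_dvd_natCard g
        rwa [hP] at this
      rw [Subgroup.orderOf_coe]
      rcases (Nat.dvd_prime hp).mp h2 with h | h
      · exact absurd (orderOf_eq_one_iff.mp h) hg
      · exact h
    have := (Cfsg.Agent.S1018.result p P hP).1 (g : G) hord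
    rw [← Nat.card_eq_fintype_card]
    exact this
  have h0 : Fintype.card (MulAction.fixedBy (G ⧸ N) (1 : ↥(P : Subgroup G))) =
      Nat.card (Sylow p G) := by
    rw [← Nat.card_eq_fintype_card, Sylow.card_eq_index_normalizer P]
    have : MulAction.fixedBy (G ⧸ N) (1 : ↥(P : Subgroup G)) = Set.univ := by
      ext x
      simp
    rw [this, Nat.card_coe_set_eq, Set.ncard_univ]
    rfl
  have hs : ∑ g ∈ Finset.univ.erase (1 : ↥(P : Subgroup G)),
      Fintype.card (MulAction.fixedBy (G ⧸ N) g) = p - 1 := by
    rw [Finset.sum_congr rfl (fun g hg => h1 g (Finset.ne_of_mem_erase hg)), Finset.sum_const,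
      smul_eq_mul, mul_one, Finset.card_erase_of_mem (Finset.mem_univ _), Finset.card_univ,
      ← Nat.card_eq_fintype_card, hP]
  rw [← Finset.add_sum_erase Finset.univ _ (Finset.mem_univ (1 : ↥(P : Subgroup G))), h0, hs,
    ← Nat.card_eq_fintype_card, ← Nat.card_eq_fintype_card, hP] at hB
  exact hB.symm

end Cfsg.Agent.S0983P
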