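import Cfsg.Agent.Helper21.S2286DEFS

/-! S2286 piece PW (helper19): the commutative subgroup `U = ⟨h^i u h^-i⟩` of exponent `p` is a cyclic module
over `(ZMod p)[X]` (`X` acting by conjugation with `h`): the homomorphism `ψ f = f(σ) u`. -/

set_option autoImplicit false

namespace Cfsg.Agent.Helper21.S2286

open Polynomial Multiplicative

namespace PW

/-- abstract version in a `ZMod p`-module with an endomorphism -/
theorem exists_add {p : ℕ} {A : Type*} [AddCommGroup A] [Module (ZMod p) A]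
    (σ : A →ₗ[ZMod p] A) (a₀ : A) :
    ∃ Ψ : (ZMod p)[X] →+ A, Ψ 1 = a₀ ∧ (∀ f, Ψ (X * f) = σ (Ψ f)) ∧
      (∀ (c : ZMod p) (n : ℕ), Ψ (C c * X ^ n) = c • (σ ^ n) a₀) ∧
      (∀ f g, Ψ f = 0 → Ψ (g * f) = 0) := by
  refine ⟨⟨⟨fun f => aeval σ f a₀, ?_⟩, ?_⟩, ?_, ?_, ?_, ?_⟩
  · show aeval σ (0 : (ZMod p)[X]) a₀ = 0
    rw [map_zero, LinearMap.zero_apply]
  · intro f g
    show aeval σ (f + g) a₀ = aeval σ f a₀ + aeval σ g a₀
    rw [map_add, LinearMap.add_apply]
  · show aeval σ (1 : (ZMod p)[X]) a₀ = a₀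
    rw [map_one, Module.End.one_apply]
  · intro f
    show aeval σ (X * f) a₀ = σ (aeval σ f a₀)
    rw [map_mul, aeval_X, Module.End.mul_apply]
  · intro c n
    show aeval σ (C c * X ^ n) a₀ = c • (σ ^ n) a₀
    rw [map_mul, aeval_C, map_pow, aeval_X, Module.End.mul_apply, Module.algebraMap_end_apply]
  · intro f g hf
    show aeval σ (g * f) a₀ = 0
    have hf' : aeval σ f a₀ = 0 := hf
    rw [map_mul, Module.End.mul_apply, hf', map_zero]

/-- version in a commutative group of exponent `p` with an endomorphism -/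
theorem exists_mul {p : ℕ} {U : Type*} [CommGroup U] (hexp : ∀ x : U, x ^ p = 1) (σ : U →* U)
    (u₀ : U) :
    ∃ ψ : Multiplicative (ZMod p)[X] →* U, ψ (ofAdd 1) = u₀ ∧
      (∀ f, ψ (ofAdd (X * f)) = σ (ψ (ofAdd f))) ∧
      (∀ (c n : ℕ), ψ (ofAdd (C (c : ZMod p) * X ^ n)) = ((⇑σ)^[n] u₀) ^ c) ∧
      (∀ f g, ψ (ofAdd f) = 1 → ψ (ofAdd (g * f)) = 1) := by
  have hexp' : ∀ x : Additive U, p • x = 0 := fun x => by
    show Additive.ofMul (x.toMul ^ p) = Additive.ofMul 1
    rw [hexp]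
  let inst : Module (ZMod p) (Additive U) := AddCommGroup.zmodModule (n := p) hexp'
  let σa : Additive U →+ Additive U := MonoidHom.toAdditive σ
  let σl : Additive U →ₗ[ZMod p] Additive U := AddMonoidHom.toZModLinearMap p σa
  have hσl : ∀ a : Additive U, σl a = Additive.ofMul (σ a.toMul) := fun a => rfl
  obtain ⟨Ψ, h1, h2, h3, h4⟩ := exists_add σl (Additive.ofMul u₀)
  have hiter : ∀ n : ℕ, (σl ^ n) (Additive.ofMul u₀) = Additive.ofMul ((⇑σ)^[n] u₀) := by
    intro n
    induction n with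
    | zero => rfl
    | succ n ih =>
      rw [pow_succ', Module.End.mul_apply, ih, hσl, Function.iterate_succ_apply']
      rfl
  refine ⟨AddMonoidHom.toMultiplicativeLeft Ψ, ?_, ?_, ?_, ?_⟩
  · show (Ψ 1).toMul = u₀
    rw [h1]
    rfl
  · intro f
    show (Ψ (X * f)).toMul = σ ((Ψ f).toMul)
    rw [h2, hσl]
    rfl
  · intro c n
    show (Ψ (C (c : ZMod p) * X ^ n)).toMul = ((⇑σ)^[n] u₀) ^ c
    rw [h3, hiter, Nat.cast_smul_eq_nsmul]
    rfl
  · intro f g hf
    show (Ψ (g * f)).toMul = 1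
    have hf' : Ψ f = 0 := by
      have : (Ψ f).toMul = 1 := hf
      exact Additive.toMul.injective this
    rw [h4 f g hf']
    rfl

end PW

variable {G : Type*} [Group G]

/-! ## piece PW -/
theorem exists_pw (p : ℕ) [Fact p.Prime] (h u : G) (hup : u ^ p = 1)
    (hcomm : ∀ i j : ℤ, Commute (cj h u i) (cj h u j)) :
    ∃ ψ : Multiplicative (ZMod p)[X] →* G,
      ψ (ofAdd 1) = u ∧
      (∀ f : (ZMod p)[X], ψ (ofAdd (X * f)) = h * ψ (ofAdd f) * h⁻¹) ∧
      (∀ (c : ℕ → ℕ) (n : ℕ),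
        ψ (ofAdd (∑ i ∈ Finset.range n, C (c i : ZMod p) * X ^ i)) = prodA h u c n) ∧
      (∀ f g : (ZMod p)[X], ψ (ofAdd f) = 1 → ψ (ofAdd (g * f)) = 1) := by
  classical
  set S : Set G := Set.range (cj h u) with hS
  have hScomm : ∀ x ∈ S, ∀ y ∈ S, x * y = y * x := by
    rintro _ ⟨i, rfl⟩ _ ⟨j, rfl⟩
    exact hcomm i j
  set U : Subgroup G := Subgroup.closure S with hU
  haveI hmc : IsMulCommutative U := Subgroup.isMulCommutative_closure hScomm
  let instU : CommGroup U := { (inferInstance : Group U) with mul_comm := hmc.is_comm.comm }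
  have hUcomm : ∀ x ∈ U, ∀ y ∈ U, Commute x y := by
    intro x hx y hy
    exact congrArg Subtype.val (mul_comm (⟨x, hx⟩ : U) ⟨y, hy⟩)
  have hexpG : ∀ x ∈ U, x ^ p = 1 := by
    intro x hx
    induction hx using Subgroup.closure_induction with
    | mem x hx =>
      obtain ⟨i, rfl⟩ := hx
      unfold cj
      rw [conj_pow, hup, mul_one, mul_inv_cancel]
    | one => exact one_pow _
    | mul x y hx hy ihx ihy =>
      rw [(hUcomm x hx y hy).mul_pow, ihx, ihy, one_mul]
    | inv x hx ihx => rw [inv_pow, ihx, inv_one]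
  have hexp : ∀ x : U, x ^ p = 1 := by
    intro x
    apply Subtype.ext
    exact hexpG x.1 x.2
  have hconj : ∀ x ∈ U, h * x * h⁻¹ ∈ U := by
    intro x hx
    induction hx using Subgroup.closure_induction with
    | mem x hx =>
      obtain ⟨i, rfl⟩ := hx
      rw [conj_cj]
      exact Subgroup.subset_closure ⟨i + 1, rfl⟩
    | one =>
      rw [mul_one, mul_inv_cancel]
      exact U.one_mem
    | mul x y hx hy ihx ihy =>
      have : h * (x * y) * h⁻¹ = (h * x * h⁻¹) * (h * y * h⁻¹) := by group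
      rw [this]
      exact U.mul_mem ihx ihy
    | inv x hx ihx =>
      have : h * x⁻¹ * h⁻¹ = (h * x * h⁻¹)⁻¹ := by group
      rw [this]
      exact U.inv_mem ihx
  let σ : U →* U :=
    { toFun := fun x => ⟨h * x.1 * h⁻¹, hconj x.1 x.2⟩
      map_one' := by
        apply Subtype.ext
        show h * 1 * h⁻¹ = 1
        rw [mul_one, mul_inv_cancel]
      map_mul' := fun x y => by
        apply Subtype.ext
        show h * (x.1 * y.1) * h⁻¹ = (h * x.1 * h⁻¹) * (h * y.1 * h⁻¹)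
        group }
  have hσ : ∀ x : U, ((σ x : U) : G) = h * x.1 * h⁻¹ := fun x => rfl
  have hu0 : u ∈ U := Subgroup.subset_closure ⟨0, cj_zero h u⟩
  obtain ⟨ψ, h1, h2, h3, h4⟩ := PW.exists_mul (p := p) hexp σ ⟨u, hu0⟩
  have hiter : ∀ n : ℕ, (((⇑σ)^[n] ⟨u, hu0⟩ : U) : G) = cj h u (n : ℤ) := by
    intro n
    induction n with
    | zero => exact (cj_zero h u).symm
    | succ n ih =>
      rw [Function.iterate_succ_apply', hσ, ih, conj_cj]
      push_cast
      rfl
  have hψmul : ∀ a b : Multiplicative (ZMod p)[X], ((ψ (a * b) : U) : G) = (ψ a : G) * (ψ b : G) := by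
    intro a b
    rw [map_mul]
    rfl
  refine ⟨⟨⟨fun f => ((ψ f : U) : G), ?_⟩, hψmul⟩, ?_, ?_, ?_, ?_⟩
  · show ((ψ 1 : U) : G) = 1
    rw [map_one]
    rfl
  · show ((ψ (ofAdd 1) : U) : G) = u
    rw [h1]
  · intro f
    show ((ψ (ofAdd (X * f)) : U) : G) = h * ((ψ (ofAdd f) : U) : G) * h⁻¹
    rw [h2, hσ]
  · intro c n
    show ((ψ (ofAdd (∑ i ∈ Finset.range n, C (c i : ZMod p) * X ^ i)) : U) : G) = prodA h u c n
    induction n with
    | zero =>
      rw [Finset.range_zero, Finset.sum_empty]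
      show ((ψ 1 : U) : G) = prodA h u c 0
      rw [map_one]
      simp [prodA]
    | succ n ih =>
      rw [Finset.sum_range_succ, ofAdd_add, hψmul, ih, h3]
      unfold prodA
      rw [List.range_succ, List.map_append, List.prod_append, List.map_singleton,
        List.prod_singleton]
      congr 1
      show (((⇑σ)^[n] ⟨u, hu0⟩ : U) : G) ^ c n = cj h u (n : ℤ) ^ c n
      rw [hiter]
  · intro f g hf
    show ((ψ (ofAdd (g * f)) : U) : G) = 1
    have hf' : ψ (ofAdd f) = 1 := by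
      apply Subtype.ext
      exact hf
    rw [h4 f g hf']
    rfl

end Cfsg.Agent.Helper21.S2286
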