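import Mathlib
import Cfsg.Prelude.Def_Classical
import Cfsg.Agent.Helper28.S2512Defs
import Cfsg.Agent.Helper18.S2512GENORD
import Cfsg.Agent.Helper25.S2512BMFORM

/-! S2512 piece TORMBLOCK (helper19): the split torus block: on `K × K` (`K = F_{q^d}`) with the form
`Tr(a e - b c)` the map `(a, b) ↦ (s a, s⁻¹ b)` is an isometry with `X ^ j = ± 1 ↔ s ^ j = ± 1`. -/

set_option autoImplicit false

universe u

namespace Cfsg.Agent.S2512P

open Polynomial Matrix
open Cfsg.Agent.S2264P

namespace TORMBLOCK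

section tor

variable (F K : Type*) [Field F] [Field K] [Algebra F K]

theorem torM_one : torM F K (1 : K) = 1 := by
  apply LinearMap.ext
  intro u
  rw [torM_apply, inv_one, one_mul, one_mul]
  rfl

theorem torM_mul (a b : K) : torM F K a * torM F K b = torM F K (a * b) := by
  apply LinearMap.ext
  intro u
  rw [Module.End.mul_apply, torM_apply, torM_apply, torM_apply, mul_inv]
  simp only [mul_assoc]

theorem torM_pow (s : K) (j : ℕ) : (torM F K s) ^ j = torM F K (s ^ j) := by
  induction j with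
  | zero => rw [pow_zero, pow_zero, torM_one]
  | succ j ih => rw [pow_succ, pow_succ, ih, torM_mul]

theorem torM_eq_one_iff (a : K) : torM F K a = 1 ↔ a = 1 := by
  constructor
  · intro h
    have h1 := LinearMap.congr_fun h ((1 : K), (0 : K))
    rw [torM_apply, Module.End.one_apply, mul_one] at h1
    exact (Prod.ext_iff.mp h1).1
  · rintro rfl
    exact torM_one F K

theorem torM_eq_neg_one_iff (a : K) : torM F K a = -1 ↔ a = -1 := by
  constructor
  · intro h
    have h1 := LinearMap.congr_fun h ((1 : K), (0 : K))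
    rw [torM_apply, LinearMap.neg_apply, Module.End.one_apply, mul_one] at h1
    exact (Prod.ext_iff.mp h1).1
  · rintro rfl
    apply LinearMap.ext
    intro u
    rw [torM_apply, LinearMap.neg_apply, Module.End.one_apply, inv_neg, inv_one, neg_one_mul,
      neg_one_mul]
    rfl

theorem torM_isom (s : K) (hs : s ≠ 0) (u v : K × K) :
    Bm F K (torM F K s u) (torM F K s v) = Bm F K u v := by
  rw [Bm_apply, Bm_apply, torM_apply, torM_apply]
  congr 1
  show s * u.1 * (s⁻¹ * v.2) - s⁻¹ * u.2 * (s * v.1) = u.1 * v.2 - u.2 * v.1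
  field_simp

end tor

section transport

variable {F : Type*} [Field F] {V₀ : Type*} [AddCommGroup V₀] [Module F V₀]
  {V : Type*} [AddCommGroup V] [Module F V]

/-- transport of a symplectic space with an isometry along a linear equivalence -/
theorem transport (φ : V ≃ₗ[F] V₀) {B₀ : V₀ → V₀ → F} (X₀ : Module.End F V₀) (hB : IsSymp B₀)
    (hX₀ : ∀ u v, B₀ (X₀ u) (X₀ v) = B₀ u v) :
    ∃ (B : V → V → F) (X : Module.End F V), IsSymp B ∧ (∀ u v, B (X u) (X v) = B u v) ∧
      (∀ j : ℕ, X ^ j = 1 ↔ X₀ ^ j = 1) ∧ (∀ j : ℕ, X ^ j = -1 ↔ X₀ ^ j = -1) := by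
  set e := φ.symm.conjAlgEquiv F with he
  have heX : ∀ (Y : Module.End F V₀) (u : V), e Y u = φ.symm (Y (φ u)) := by
    intro Y u
    rw [he, LinearEquiv.conjAlgEquiv_apply]
    rfl
  refine ⟨fun u v => B₀ (φ u) (φ v), e X₀, ?_, ?_, ?_, ?_⟩
  · refine ⟨?_, ?_, ?_, ?_⟩
    · intro u u' v
      show B₀ (φ (u + u')) (φ v) = B₀ (φ u) (φ v) + B₀ (φ u') (φ v)
      rw [map_add, hB.add_left]
    · intro c u v
      show B₀ (φ (c • u)) (φ v) = c * B₀ (φ u) (φ v)
      rw [map_smul, hB.smul_left]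
    · intro u v
      exact hB.skew (φ u) (φ v)
    · intro u hu
      have h1 : φ u = 0 := by
        apply hB.nondeg
        intro w
        have := hu (φ.symm w)
        rwa [LinearEquiv.apply_symm_apply] at this
      exact φ.map_eq_zero_iff.mp h1
  · intro u v
    show B₀ (φ (e X₀ u)) (φ (e X₀ v)) = B₀ (φ u) (φ v)
    rw [heX, heX, LinearEquiv.apply_symm_apply, LinearEquiv.apply_symm_apply, hX₀]
  · intro j
    rw [← map_pow]
    exact EmbeddingLike.map_eq_one_iff
  · intro j
    rw [← map_pow]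
    have h1 : e (-1) = -1 := by rw [map_neg, map_one]
    constructor
    · intro h
      rw [← h1] at h
      exact e.injective h
    · intro h
      rw [h, h1]

end transport

end TORMBLOCK

section blocks

/-- TORMBLOCK (M-L): `K := FiniteField.Extension F p d` (`NeZero d`; `FiniteField.finrank_extension`,
`FiniteField.natCard_extension`), `V := K × K`, `B := Bm F K` (BMFORM), `s` from GENORD (`M ∣ card K - 1`),
`X := torM F K s`: `X ^ j = torM F K (s ^ j)`, `torM F K a = 1 ↔ a = 1`, `torM F K a = -1 ↔ a = -1` (`a ≠ 0`),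
isometry: `(s a)(s⁻¹ e) - (s⁻¹ b)(s c) = a e - b c`; `Module.finrank_prod`. -/
theorem exists_block_minus {F : Type u} [Field F] [Fintype F] {p : ℕ} [Fact p.Prime] [CharP F p]
    {f q : ℕ} (hp2 : p ≠ 2) (hq : q = p ^ f) (hF : Fintype.card F = q) (d M : ℕ) (hd : 1 ≤ d)
    (hM : M ∣ q ^ d - 1) :
    ∃ (V : Type u) (_ : AddCommGroup V) (_ : Module F V) (_ : FiniteDimensional F V)
      (B : V → V → F) (X : Module.End F V), IsSymp B ∧ Module.finrank F V = 2 * d ∧
      (∀ u v, B (X u) (X v) = B u v) ∧ (∀ j : ℕ, X ^ j = 1 ↔ M ∣ j) ∧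
      (∀ j : ℕ, X ^ j = -1 ↔ (M ∣ 2 * j ∧ ¬ M ∣ j)) := by
  classical
  haveI : NeZero d := ⟨by omega⟩
  let K := FiniteField.Extension F p d
  letI : Fintype K := Fintype.ofFinite K
  haveI : CharP K p := charP_of_injective_algebraMap (algebraMap F K).injective p
  have h2 : (2 : K) ≠ 0 := by
    intro h
    have h3 : ((2 : ℕ) : K) = 0 := by exact_mod_cast h
    rw [CharP.cast_eq_zero_iff K p 2] at h3
    exact hp2 ((Nat.prime_dvd_prime_iff_eq (Fact.out : p.Prime) Nat.prime_two).mp h3)
  have hcard : Fintype.card K = q ^ d := by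
    rw [← Nat.card_eq_fintype_card, FiniteField.natCard_extension, Nat.card_eq_fintype_card, hF]
  obtain ⟨s, hs0, hs1, hs2⟩ := exists_pow_eq_one_iff (K := K) h2 M (by rw [hcard]; exact hM)
  have hBm : IsSymp (Bm F K) := isSymp_Bm
  obtain ⟨B, X, hB, hX, hX1, hX2⟩ :=
    TORMBLOCK.transport (ULift.moduleEquiv : ULift.{u} (K × K) ≃ₗ[F] (K × K)) (torM F K s) hBm
      (TORMBLOCK.torM_isom F K s hs0)
  refine ⟨ULift.{u} (K × K), inferInstance, inferInstance,
    LinearEquiv.finiteDimensional (ULift.moduleEquiv : ULift.{u} (K × K) ≃ₗ[F] (K × K)).symm,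
    B, X, hB, ?_, hX, ?_, ?_⟩
  · rw [LinearEquiv.finrank_eq (ULift.moduleEquiv : ULift.{u} (K × K) ≃ₗ[F] (K × K)),
      Module.finrank_prod, FiniteField.finrank_extension]
    ring
  · intro j
    rw [hX1, TORMBLOCK.torM_pow, TORMBLOCK.torM_eq_one_iff, hs1]
  · intro j
    rw [hX2, TORMBLOCK.torM_pow, TORMBLOCK.torM_eq_neg_one_iff, hs2]

end blocks

end Cfsg.Agent.S2512P
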