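import Mathlib
import Cfsg.Prelude.Def_GeometricClasses
import Cfsg.Agent.Helper29.S5655.Defs
import Cfsg.Agent.Helper29.S5655BGEO1

/-! # S5655 (half `k ≥ 2`): piece GEO3 (helper19)

A nondegenerate subspace `Y` of dimension `≥ 2` is spanned by its isotropic vectors: for `y` anisotropic take an
isotropic `u ∈ Y` with `h y u ≠ 0` (GEO1) and `α` with `Tr (α h(u, y)) = h y y`; then `v = y - α • u` is isotropic and
`y = v + α • u`. -/

set_option autoImplicit false

namespace Cfsg.Agent.S5655P

open Matrix Module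
open Cfsg.Agent.S2644 Cfsg.Agent.Helper2.SUGen Cfsg.Agent.Helper28.SimMax Cfsg.Agent.S5658P

variable {K : Type*} [Field K] {q n t k : ℕ}

local notation "h" => Cfsg.hermForm n K q
local notation "T" => Cfsg.unitaryTransvection n q

/-- piece GEO3 (M): `Y` is spanned by its isotropic vectors.  For `y` anisotropic: isotropic `u ∈ Y`
with `h y u ≠ 0` (GEO1), then `v = y - α • u` isotropic for `Tr (σ α * h y u) = h y y` (`exists_trace`). -/
theorem GEO3.iso_span [Fintype K] (D : Frob K q) (hK : Fintype.card K = q ^ 2)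
    {Y : Submodule K (Fin n → K)} (hY : NonDeg q Y) (hd : 2 ≤ finrank K Y) :
    ∀ y ∈ Y, y ∈ Submodule.span K {x : Fin n → K | x ∈ Y ∧ h x x = 0} := by
  intro y hy
  by_cases hyy : h y y = 0
  · exact Submodule.subset_span ⟨hy, hyy⟩
  have hy0 : y ≠ 0 := by
    rintro rfl
    exact hyy (h_zero_left _)
  obtain ⟨u, hu, huu, hyu⟩ := GEO1.exists_iso_ne D hK hY hd hy hy0
  have huy : h u y ≠ 0 := h_symm_ne D hyu
  obtain ⟨x, hx⟩ := exists_trace D (h y y) (h_self_fix D y)
  set α : K := x / h u y with hα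
  have hαu : α * h u y = x := by
    rw [hα]; field_simp
  have hvv : h (y - α • u) (y - α • u) = 0 := by
    rw [h_sub_left, h_sub_right D, h_sub_right D, h_smul_left, h_smul_left, h_smul_right D,
      h_smul_right D, huu, ← h_conj D y u, hαu]
    have h1 : D.σ α * D.σ (h u y) = D.σ x := by rw [← map_mul, hαu]
    linear_combination -hx - h1
  have hmem : y - α • u ∈ Y := Y.sub_mem hy (Y.smul_mem α hu)
  have hsum : y = (y - α • u) + α • u := by abel
  rw [hsum]
  apply Submodule.add_mem
  · exact Submodule.subset_span ⟨hmem, hvv⟩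
  · exact Submodule.smul_mem _ α (Submodule.subset_span ⟨hu, huu⟩)

end Cfsg.Agent.S5655P
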