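import Mathlib
import Cfsg.Prelude.Def_GeometricClasses
import Cfsg.Agent.Helper18.S5707.Defs
import Cfsg.Agent.Helper20.S5707TENS
import Cfsg.Agent.Helper18.S5707COMM
import Cfsg.Agent.Helper6.S5707ISOMEM

/-! # S5707, piece K4YOMEGA: `k = 4`, the element `y = 1 + loc2 s0 s1 Eb Ea` lies in `Ω` -/

set_option autoImplicit false

namespace Cfsg.Agent.S5707P

open Matrix

variable {F : Type*} [Field F] {k t : ℕ}

namespace K4YOMEGA

theorem Eab_Ea'_add : (Eab : Matrix (Fin 4) (Fin 4) F) * Ea' + Ea' * Eab = Eb := by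
  ext i j
  fin_cases i <;> fin_cases j <;> simp [Eab, Ea', Eb, Matrix.mul_apply, Fin.sum_univ_four]

theorem Eab_sq : (Eab : Matrix (Fin 4) (Fin 4) F) * Eab = 0 := by
  ext i j
  fin_cases i <;> fin_cases j <;> simp [Eab, Matrix.mul_apply, Fin.sum_univ_four]

theorem Ea_sq : (Ea : Matrix (Fin 4) (Fin 4) F) * Ea = 0 := by
  ext i j
  fin_cases i <;> fin_cases j <;> simp [Ea, Matrix.mul_apply, Fin.sum_univ_four]

theorem Eab_Ea'_Eab : (Eab : Matrix (Fin 4) (Fin 4) F) * Ea' * Eab = 0 := by
  ext i j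
  fin_cases i <;> fin_cases j <;> simp [Eab, Ea', Matrix.mul_apply, Fin.sum_univ_four]

theorem J4_Eab_symm : ((J4 : Matrix (Fin 4) (Fin 4) F) * Eab).IsSymm := by
  ext i j
  fin_cases i <;> fin_cases j <;> simp [J4, Eab, Matrix.mul_apply, Fin.sum_univ_four]

theorem J4_Ea_symm : ((J4 : Matrix (Fin 4) (Fin 4) F) * Ea).IsSymm := by
  ext i j
  fin_cases i <;> fin_cases j <;> simp [J4, Ea, Matrix.mul_apply, Fin.sum_univ_four]

theorem J4_Ea'_symm : ((J4 : Matrix (Fin 4) (Fin 4) F) * Ea').IsSymm := by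
  ext i j
  fin_cases i <;> fin_cases j <;> simp [J4, Ea', Matrix.mul_apply, Fin.sum_univ_four]

theorem J4_symm : ((J4 : Matrix (Fin 4) (Fin 4) F) * (1 : Matrix (Fin 4) (Fin 4) F)).IsSymm := by
  ext i j
  fin_cases i <;> fin_cases j <;> simp [J4]

theorem J4_diag (a : Fin 4) :
    ((J4 : Matrix (Fin 4) (Fin 4) F) * (1 : Matrix (Fin 4) (Fin 4) F)) a a = 0 := by
  fin_cases a <;> simp [J4]

theorem J4_Ea'_diag (a : Fin 4) :
    ((J4 : Matrix (Fin 4) (Fin 4) F) * (Ea' : Matrix (Fin 4) (Fin 4) F)) a a = 0 := by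
  fin_cases a <;> simp [J4, Ea', Matrix.mul_apply, Fin.sum_univ_four]

theorem invo_congr [CharP F 2] {N N' : Matrix (X k t) (X k t) F} (h : N = N') (hN : N * N = 0)
    (hN' : N' * N' = 0) : invo N hN = invo N' hN' := by
  subst h
  rfl

/-- `[loc s0 A, loc2 s0 s1 B C]₊ = loc2 s0 s1 (A B + B A) C` -/
theorem anticomm (s0 s1 : Fin t) (h01 : s0 ≠ s1) (A B C : Matrix (Fin k) (Fin k) F) :
    loc s0 A * loc2 s0 s1 B C + loc2 s0 s1 B C * loc s0 A = loc2 s0 s1 (A * B + B * A) C := by
  unfold loc loc2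
  rw [TENS.tensM_mul, TENS.tensM_mul]
  have e1 : (fun i => upd1 s0 A i * Function.update (upd1 s0 B) s1 C i) =
      Function.update (Function.update (fun _ => (1 : Matrix (Fin k) (Fin k) F)) s1 C) s0 (A * B) := by
    funext i
    by_cases h1 : i = s0
    · subst h1
      simp [upd1, Function.update_of_ne h01]
    · by_cases h2 : i = s1
      · subst h2
        simp [upd1, Function.update_of_ne h1]
      · simp [upd1, Function.update_of_ne h1, Function.update_of_ne h2]
  have e2 : (fun i => Function.update (upd1 s0 B) s1 C i * upd1 s0 A i) =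
      Function.update (Function.update (fun _ => (1 : Matrix (Fin k) (Fin k) F)) s1 C) s0 (B * A) := by
    funext i
    by_cases h1 : i = s0
    · subst h1
      simp [upd1, Function.update_of_ne h01]
    · by_cases h2 : i = s1
      · subst h2
        simp [upd1, Function.update_of_ne h1]
      · simp [upd1, Function.update_of_ne h1, Function.update_of_ne h2]
  have e3 : Function.update (upd1 s0 (A * B + B * A)) s1 C =
      Function.update (Function.update (fun _ => (1 : Matrix (Fin k) (Fin k) F)) s1 C) s0 (A * B + B * A) := by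
    unfold upd1
    rw [Function.update_comm h01]
  rw [e1, e2, e3, TENS.tensM_update_add]

end K4YOMEGA

/-- piece K4YOMEGA (M; uses COMM, ISOMEM, TENS): `P = loc s0 Eab`, `R = loc2 s0 s1 Ea' Ea`,
`Eab * Ea' + Ea' * Eab = Eb`. -/
theorem K4.y_mem_omegaGL [CharP F 2] {c : F} {Q : (X 4 t → F) → F} (hQ : StdQ (J4 : Matrix (Fin 4) (Fin 4) F) c Q)
    (s0 s1 : Fin t) (h01 : s0 ≠ s1)
    (hN : loc2 s0 s1 (Eb : Matrix (Fin 4) (Fin 4) F) Ea * loc2 s0 s1 Eb Ea = 0) :
    invo (loc2 s0 s1 Eb Ea) hN ∈ Cfsg.Geo.omegaGL Q := by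
  have h10 : s1 ≠ s0 := fun h => h01 h.symm
  set P : Matrix (X 4 t) (X 4 t) F := loc s0 Eab with hPdef
  set R : Matrix (X 4 t) (X 4 t) F := loc2 s0 s1 Ea' Ea with hRdef
  have hP : P * P = 0 := by
    rw [hPdef]; unfold loc
    exact TENS.tensM_sq_zero _ s0 (by simp [upd1, K4YOMEGA.Eab_sq])
  have hR : R * R = 0 := by
    rw [hRdef]; unfold loc2
    exact TENS.tensM_sq_zero _ s1 (by simp [K4YOMEGA.Ea_sq])
  have hPRP : P * R * P = 0 := by
    rw [hPdef, hRdef]; unfold loc loc2
    rw [TENS.tensM_mul, TENS.tensM_mul]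
    apply TENS.tensM_eq_zero _ s0
    simp [upd1, Function.update_of_ne h01, K4YOMEGA.Eab_Ea'_Eab]
  have hRPR : R * P * R = 0 := by
    rw [hPdef, hRdef]; unfold loc loc2
    rw [TENS.tensM_mul, TENS.tensM_mul]
    apply TENS.tensM_eq_zero _ s1
    simp [upd1, Function.update_of_ne h10, K4YOMEGA.Ea_sq]
  have hsum : P * R + R * P = loc2 s0 s1 Eb Ea := by
    rw [hPdef, hRdef, K4YOMEGA.anticomm s0 s1 h01, K4YOMEGA.Eab_Ea'_add]
  have hN' : (P * R + R * P) * (P * R + R * P) = 0 := by rw [hsum]; exact hN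
  have hiP : invo P hP ∈ Cfsg.isometryGroup F Q := by
    have hP' : tensM (upd1 s0 (Eab : Matrix (Fin 4) (Fin 4) F)) * tensM (upd1 s0 Eab) = 0 := hP
    have := ISOMEM.invo_mem hQ (upd1 s0 (Eab : Matrix (Fin 4) (Fin 4) F)) hP'
      (fun i => by
        by_cases h : i = s0
        · subst h; simp only [upd1, Function.update_self]; exact K4YOMEGA.J4_Eab_symm
        · simp only [upd1, Function.update_of_ne h]; exact K4YOMEGA.J4_symm)
      s1 (fun a => by
        simp only [upd1, Function.update_of_ne h10]; exact K4YOMEGA.J4_diag a)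
      s0 {0} (fun a ha b hb => by
        rw [Set.mem_singleton_iff] at ha hb
        subst ha; subst hb
        simp [J4])
      (fun a b ha => by
        simp only [upd1, Function.update_self]
        rw [Set.mem_singleton_iff] at ha
        fin_cases a <;> fin_cases b <;> simp [Eab] at ha ⊢)
    exact this
  have hiR : invo R hR ∈ Cfsg.isometryGroup F Q := by
    have hR' : tensM (Function.update (upd1 s0 (Ea' : Matrix (Fin 4) (Fin 4) F)) s1 Ea) *
        tensM (Function.update (upd1 s0 (Ea' : Matrix (Fin 4) (Fin 4) F)) s1 Ea) = 0 := hR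
    have := ISOMEM.invo_mem hQ (Function.update (upd1 s0 (Ea' : Matrix (Fin 4) (Fin 4) F)) s1 Ea) hR'
      (fun i => by
        by_cases h : i = s1
        · subst h; simp only [Function.update_self]; exact K4YOMEGA.J4_Ea_symm
        · by_cases h' : i = s0
          · subst h'; simp only [Function.update_of_ne h, upd1, Function.update_self]
            exact K4YOMEGA.J4_Ea'_symm
          · simp only [Function.update_of_ne h, upd1, Function.update_of_ne h']
            exact K4YOMEGA.J4_symm)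
      s0 (fun a => by
        simp only [Function.update_of_ne h01, upd1, Function.update_self]
        exact K4YOMEGA.J4_Ea'_diag a)
      s1 {0, 1} (fun a ha b hb => by
        rw [Set.mem_insert_iff, Set.mem_singleton_iff] at ha hb
        rcases ha with rfl | rfl <;> rcases hb with rfl | rfl <;> simp [J4])
      (fun a b ha => by
        simp only [Function.update_self]
        rw [Set.mem_insert_iff, Set.mem_singleton_iff] at ha
        fin_cases a <;> fin_cases b <;> simp [Ea] at ha ⊢)
    exact this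
  have hmem := COMM.mem_omegaGL P R hP hR hPRP hRPR hN' hiP hiR
  rw [K4YOMEGA.invo_congr hsum hN' hN] at hmem
  exact hmem

end Cfsg.Agent.S5707P
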