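import Mathlib
import Cfsg.Agent.Helper5.ABDefs

set_option autoImplicit false

/-!
# S4463 piece PERFNI (helper19): a non-invariant irreducible character of a normal subgroup with
perfect quotient lies under a character of at least three times its degree
-/

namespace Cfsg.Agent.Helper19.AB

open Cfsg Cfsg.Agent.Helper24 Cfsg.Agent.Helper29.TwoDeg Cfsg.Agent.Helper5.AB
open scoped ComplexConjugate commutatorElement

universe u

variable {G : Type u} [Group G] [Finite G]

/-- a subgroup of index two contains the commutator subgroup -/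
theorem commutator_le_of_index_two {M : Type u} [Group M] (T : Subgroup M) (h2 : T.index = 2) :
    commutator M ≤ T := by
  rw [commutator_eq_closure, Subgroup.closure_le]
  rintro _ ⟨a, b, rfl⟩
  show ⁅a, b⁆ ∈ T
  rw [commutatorElement_def]
  simp_rw [Subgroup.mul_mem_iff_of_index_two h2, inv_mem_iff]
  tauto

/-- if `M / K` is perfect, a subgroup containing `K` and the commutator subgroup is everything -/
theorem eq_top_of_perfect_quot {M : Type u} [Group M] (K : Subgroup M) [hK : K.Normal]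
    (hperf : commutator (M ⧸ K) = ⊤) (T : Subgroup M) (hKT : K ≤ T) (hc : commutator M ≤ T) :
    T = ⊤ := by
  rw [eq_top_iff]
  intro m _
  have h1 : (commutator M).map (QuotientGroup.mk' K) = commutator (M ⧸ K) := by
    rw [commutator_def, Subgroup.map_commutator, commutator_def,
      Subgroup.map_top_of_surjective _ (QuotientGroup.mk'_surjective K)]
  have h2 : (QuotientGroup.mk' K m) ∈ (commutator M).map (QuotientGroup.mk' K) := by
    rw [h1, hperf]; exact Subgroup.mem_top _
  obtain ⟨c, hc', hcm⟩ := h2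
  have h3 : c⁻¹ * m ∈ K := by
    rw [← QuotientGroup.eq]
    exact hcm
  have : m = c * (c⁻¹ * m) := by group
  rw [this]
  exact T.mul_mem (hc hc') (hKT h3)

theorem perf_not_invariant {M : Type u} [Group M] [Finite M] (K : Subgroup M) [hK : K.Normal]
    (hperf : commutator (M ⧸ K) = ⊤) (θ : IrrCharacter K)
    (hni : ¬ ∀ (g : M) (k : K),
      (θ : K → ℂ) ⟨g * k * g⁻¹, hK.conj_mem k k.2 g⟩ = (θ : K → ℂ) k) :
    ∃ ψ : IrrCharacter M, 3 * irrDeg θ ≤ irrDeg ψ := by
  classical
  haveI : Fintype M := Fintype.ofFinite M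
  haveI : Fintype K := Fintype.ofFinite K
  obtain ⟨χ, hχ⟩ := exists_irr_over K θ
  refine ⟨χ, ?_⟩
  haveI : Fintype (inertiaSubgroup K (θ : K → ℂ)) := Fintype.ofFinite _
  haveI : Fintype (K.subgroupOf (inertiaSubgroup K (θ : K → ℂ))) := Fintype.ofFinite _
  have hθcf : IsClassFunction K (θ : K → ℂ) :=
    IsCharacter.isClassFunction (IsIrrCharacter.isCharacter θ.2)
  have hKT : K ≤ inertiaSubgroup K (θ : K → ℂ) := le_inertiaSubgroup K _ hθcf
  obtain ⟨ψ, hψ, hind, hover⟩ := exists_irr_inertia_over K (χ : M → ℂ) χ.2 (θ : K → ℂ) θ.2 hχ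
  have hθ'irr : IsIrrCharacter (K.subgroupOf (inertiaSubgroup K (θ : K → ℂ)))
      (Helper8.toSubgroupOf K (inertiaSubgroup K (θ : K → ℂ)) (θ : K → ℂ)) :=
    Helper8.isIrrCharacter_comp_surjective (Subgroup.subgroupOfEquivOfLe hKT).toMonoidHom
      (Subgroup.subgroupOfEquivOfLe hKT).surjective θ.2
  haveI : (K.subgroupOf (inertiaSubgroup K (θ : K → ℂ))).Normal := Subgroup.normal_subgroupOf
  have hinv : ∀ (t : inertiaSubgroup K (θ : K → ℂ))
      (n : K.subgroupOf (inertiaSubgroup K (θ : K → ℂ))),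
      Helper8.toSubgroupOf K (inertiaSubgroup K (θ : K → ℂ)) (θ : K → ℂ)
        ⟨t * n * t⁻¹, Subgroup.Normal.conj_mem inferInstance
          (n : inertiaSubgroup K (θ : K → ℂ)) n.2 t⟩ =
      Helper8.toSubgroupOf K (inertiaSubgroup K (θ : K → ℂ)) (θ : K → ℂ) n := by
    intro t n
    have h1 := (mem_inertiaSubgroup K (θ : K → ℂ) t).mp t.2
      ⟨((n : inertiaSubgroup K (θ : K → ℂ)) : M), Subgroup.mem_subgroupOf.mp n.2⟩
    exact h1
  obtain ⟨e, he1, -⟩ := degree_ratio_dvd_index_of_invariant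
    (K.subgroupOf (inertiaSubgroup K (θ : K → ℂ))) ψ hψ _ hθ'irr hinv hover
  -- the degree
  have hdeg : irrDeg χ = (inertiaSubgroup K (θ : K → ℂ)).index * e * irrDeg θ := by
    have h1 : (χ : M → ℂ) 1 =
        ((inertiaSubgroup K (θ : K → ℂ)).index : ℂ) * ((e : ℂ) * (θ : K → ℂ) 1) := by
      rw [← hind, Helper5.indFun_apply_one, he1]
      rfl
    rw [irrDeg_spec, irrDeg_spec] at h1
    exact_mod_cast (by rw [h1]; push_cast; ring :
      ((irrDeg χ : ℕ) : ℂ) = (((inertiaSubgroup K (θ : K → ℂ)).index * e * irrDeg θ : ℕ) : ℂ))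
  have hepos : 1 ≤ e := by
    rcases Nat.eq_zero_or_pos e with h | h
    · rw [h, mul_zero, zero_mul] at hdeg
      have := irrDeg_pos χ
      omega
    · exact h
  -- the index of the inertia group is at least three
  have hTne : inertiaSubgroup K (θ : K → ℂ) ≠ ⊤ := by
    intro htop
    apply hni
    intro g k
    have hg : g ∈ inertiaSubgroup K (θ : K → ℂ) := by rw [htop]; exact Subgroup.mem_top _
    exact (mem_inertiaSubgroup K (θ : K → ℂ) g).mp hg k
  have hidx : 3 ≤ (inertiaSubgroup K (θ : K → ℂ)).index := by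
    have h0 : (inertiaSubgroup K (θ : K → ℂ)).index ≠ 0 := Subgroup.index_ne_zero_of_finite
    have h1 : (inertiaSubgroup K (θ : K → ℂ)).index ≠ 1 := fun h =>
      hTne (Subgroup.index_eq_one.mp h)
    have h2 : (inertiaSubgroup K (θ : K → ℂ)).index ≠ 2 := fun h =>
      hTne (eq_top_of_perfect_quot K hperf _ hKT (commutator_le_of_index_two _ h))
    omega
  rw [hdeg]
  calc 3 * irrDeg θ ≤ (inertiaSubgroup K (θ : K → ℂ)).index * irrDeg θ :=
        Nat.mul_le_mul_right _ hidx
    _ = (inertiaSubgroup K (θ : K → ℂ)).index * 1 * irrDeg θ := by rw [mul_one]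
    _ ≤ (inertiaSubgroup K (θ : K → ℂ)).index * e * irrDeg θ :=
        Nat.mul_le_mul_right _ (Nat.mul_le_mul_left _ hepos)

end Cfsg.Agent.Helper19.AB
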