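import Mathlib

set_option autoImplicit false

namespace Cfsg.Agent.Helper19.PartCount

open Classical in
/-- pick an element of a nonempty multiset -/
noncomputable def pick (m : Multiset ℕ) : ℕ :=
  if h : m ≠ 0 then (Multiset.exists_mem_of_ne_zero h).choose else 0

theorem pick_mem {m : Multiset ℕ} (h : m ≠ 0) : pick m ∈ m := by
  unfold pick
  rw [dif_pos h]
  exact (Multiset.exists_mem_of_ne_zero h).choose_spec

/-- replace the picked part `s` by `s - 2` ones -/
noncomputable def phi2 (m : Multiset ℕ) : Multiset ℕ :=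
  m.erase (pick m) + Multiset.replicate (pick m - 2) 1

theorem phi2_pos {m : Multiset ℕ} (hpos : ∀ i ∈ m, 0 < i) : ∀ i ∈ phi2 m, 0 < i := by
  intro i hi
  rcases Multiset.mem_add.mp hi with hi | hi
  · exact hpos i (Multiset.mem_of_mem_erase hi)
  · rw [Multiset.eq_of_mem_replicate hi]; exact Nat.one_pos

theorem phi2_sum {m : Multiset ℕ} {k : ℕ} (hpos : ∀ i ∈ m, 0 < i) (h1 : 1 ∉ m)
    (hsum : m.sum = k + 2) : (phi2 m).sum = k := by
  have hne : m ≠ 0 := by
    intro h0
    rw [h0] at hsum
    simp at hsum
  have hs := pick_mem hne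
  have h3 := Multiset.sum_erase hs
  have hs0 : 0 < pick m := hpos _ hs
  have hs1 : pick m ≠ 1 := fun h => h1 (h ▸ hs)
  unfold phi2
  rw [Multiset.sum_add, Multiset.sum_replicate]
  simp only [smul_eq_mul, mul_one]
  omega

theorem phi2_inj {m m' : Multiset ℕ} (hpos : ∀ i ∈ m, 0 < i) (hpos' : ∀ i ∈ m', 0 < i)
    (h1 : 1 ∉ m) (h1' : 1 ∉ m') (hne : m ≠ 0) (hne' : m' ≠ 0) (h : phi2 m = phi2 m') :
    m = m' := by
  have hs := pick_mem hne
  have hs' := pick_mem hne'
  have hs0 : 0 < pick m := hpos _ hs
  have hs1 : pick m ≠ 1 := fun h => h1 (h ▸ hs)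
  have hs0' : 0 < pick m' := hpos' _ hs'
  have hs1' : pick m' ≠ 1 := fun h => h1' (h ▸ hs')
  have hc : ∀ m : Multiset ℕ, 1 ∉ m → Multiset.count 1 (phi2 m) = pick m - 2 := by
    intro m h1
    unfold phi2
    rw [Multiset.count_add, Multiset.count_replicate, if_pos rfl,
      Multiset.count_eq_zero_of_notMem (fun hh => h1 (Multiset.mem_of_mem_erase hh)), zero_add]
  have h2 : pick m - 2 = pick m' - 2 := by rw [← hc m h1, ← hc m' h1', h]
  have h3 : pick m = pick m' := by omega
  unfold phi2 at h
  rw [h3] at h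
  have h4 := add_right_cancel h
  rw [← Multiset.cons_erase hs, ← Multiset.cons_erase hs', h3, ← h4, ← h3]

open Classical in
/-- the injection `Partition (k+2) → Partition (k+1) ⊕ Partition k` -/
noncomputable def splitMap (k : ℕ) (π : Nat.Partition (k + 2)) :
    Nat.Partition (k + 1) ⊕ Nat.Partition k :=
  if h1 : 1 ∈ π.parts then
    Sum.inl ⟨π.parts.erase 1, fun hi => π.parts_pos (Multiset.mem_of_mem_erase hi), by
      have := Multiset.sum_erase h1
      have h2 := π.parts_sum
      omega⟩
  else
    Sum.inr ⟨phi2 π.parts, fun {i} hi => phi2_pos (fun j hj => π.parts_pos hj) i hi,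
      phi2_sum (fun j hj => π.parts_pos hj) h1 π.parts_sum⟩

theorem splitMap_injective (k : ℕ) : Function.Injective (splitMap k) := by
  intro π π' h
  unfold splitMap at h
  split_ifs at h with h1 h1' h1'
  · have h2 := congrArg Nat.Partition.parts (Sum.inl.inj h)
    simp only at h2
    apply Nat.Partition.ext
    rw [← Multiset.cons_erase h1, ← Multiset.cons_erase h1', h2]
  · have h2 := congrArg Nat.Partition.parts (Sum.inr.inj h)
    simp only at h2
    apply Nat.Partition.ext
    have hne : ∀ π : Nat.Partition (k + 2), π.parts ≠ 0 := by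
      intro π h0
      have := π.parts_sum
      rw [h0] at this
      simp at this
    exact phi2_inj (fun j hj => π.parts_pos hj) (fun j hj => π'.parts_pos hj) h1 h1'
      (hne π) (hne π') h2

theorem card_partition_le (k : ℕ) :
    Fintype.card (Nat.Partition (k + 2)) ≤
      Fintype.card (Nat.Partition (k + 1)) + Fintype.card (Nat.Partition k) := by
  have := Fintype.card_le_of_injective _ (splitMap_injective k)
  rwa [Fintype.card_sum] at this

theorem card_partition_le_fib (k : ℕ) : Fintype.card (Nat.Partition k) ≤ Nat.fib (k + 1) := by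
  induction k using Nat.strong_induction_on with
  | _ k ih =>
    match k, ih with
    | 0, _ => simp
    | 1, _ => simp
    | (k + 2), ih =>
      have h1 := ih (k + 1) (by omega)
      have h2 := ih k (by omega)
      have h3 := card_partition_le k
      have h4 : Nat.fib (k + 2 + 1) = Nat.fib (k + 1) + Nat.fib (k + 1 + 1) := Nat.fib_add_two
      omega

theorem fib_le_two_pow (k : ℕ) (hk : 5 ≤ k) : Nat.fib (k + 1) ≤ 2 ^ (k - 2) ∧
    Nat.fib (k + 2) ≤ 2 ^ (k - 1) := by
  induction k, hk using Nat.le_induction with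
  | base => decide
  | succ k hk ih =>
    obtain ⟨h1, h2⟩ := ih
    refine ⟨?_, ?_⟩
    · have : k + 1 - 2 = k - 1 := by omega
      rw [this]; exact h2
    · have h4 : Nat.fib (k + 1 + 2) = Nat.fib (k + 1) + Nat.fib (k + 1 + 1) := Nat.fib_add_two
      have h5 : k + 1 - 1 = (k - 2) + 2 := by omega
      have h6 : k - 1 = (k - 2) + 1 := by omega
      rw [h5, h4]
      rw [h6] at h2
      have h7 : 2 ^ (k - 2 + 2) = 4 * 2 ^ (k - 2) := by ring
      have h8 : 2 ^ (k - 2 + 1) = 2 * 2 ^ (k - 2) := by ring
      have h9 : k + 1 + 1 = k + 2 := by omega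
      rw [h9]
      omega

theorem card_partition_le_two_pow (k : ℕ) (hk : 5 ≤ k) :
    Fintype.card (Nat.Partition k) ≤ 2 ^ (k - 2) :=
  (card_partition_le_fib k).trans (fib_le_two_pow k hk).1

theorem card_conjClasses_perm_le (n : ℕ) (hn : 5 ≤ n) :
    Nat.card (ConjClasses (Equiv.Perm (Fin n))) ≤ 2 ^ (n - 2) := by
  classical
  let f : ConjClasses (Equiv.Perm (Fin n)) → Nat.Partition (Fintype.card (Fin n)) :=
    Quotient.lift (fun σ => Equiv.Perm.partition σ) (by
      intro a b hab
      exact Equiv.Perm.partition_eq_of_isConj.mp hab)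
  have hf : Function.Injective f := by
    intro x y hxy
    induction x using Quotient.inductionOn with
    | _ a =>
    induction y using Quotient.inductionOn with
    | _ b =>
    exact Quotient.sound (Equiv.Perm.partition_eq_of_isConj.mpr hxy)
  rw [Nat.card_eq_fintype_card]
  have h1 := Fintype.card_le_of_injective f hf
  have h2 := card_partition_le_two_pow (Fintype.card (Fin n)) (by simpa using hn)
  have h3 : Fintype.card (Fin n) - 2 = n - 2 := by rw [Fintype.card_fin]
  rw [h3] at h2
  exact h1.trans h2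

end Cfsg.Agent.Helper19.PartCount
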