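import Mathlib
import Cfsg.Agent.Helper19.PartCount

set_option autoImplicit false

namespace Cfsg.Agent.Helper19.PartCount

open Equiv.Perm

variable {α : Type*} [Fintype α] [DecidableEq α]

/-- replace the picked part `a` by `a - 1` -/
noncomputable def phi (m : Multiset ℕ) : Multiset ℕ :=
  m.erase (pick m) + {pick m - 1}

theorem phi_inj {m m' : Multiset ℕ} (hodd : ∀ i ∈ m, Odd i) (hodd' : ∀ i ∈ m', Odd i)
    (hne : m ≠ 0) (hne' : m' ≠ 0) (h : phi m = phi m') : m = m' := by
  have hs := pick_mem hne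
  have hs' := pick_mem hne'
  have ho := hodd _ hs
  have ho' := hodd' _ hs'
  have h1 : pick m - 1 ∈ phi m' := by
    rw [← h]; unfold phi
    exact Multiset.mem_add.mpr (Or.inr (Multiset.mem_singleton_self _))
  have h2 : pick m - 1 = pick m' - 1 := by
    unfold phi at h1
    rcases Multiset.mem_add.mp h1 with h1 | h1
    · have := hodd' _ (Multiset.mem_of_mem_erase h1)
      exfalso
      rcases ho with ⟨k, hk⟩
      rcases this with ⟨l, hl⟩
      omega
    · exact Multiset.mem_singleton.mp h1
  have h3 : pick m = pick m' := by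
    rcases ho with ⟨k, hk⟩
    rcases ho' with ⟨l, hl⟩
    omega
  unfold phi at h
  rw [h3] at h
  have h4 := add_right_cancel h
  rw [← Multiset.cons_erase hs, ← Multiset.cons_erase hs', h3, ← h4, ← h3]

theorem phi_sum {m : Multiset ℕ} (hne : m ≠ 0) (hpos : ∀ i ∈ m, 0 < i) :
    (phi m).sum + 1 = m.sum := by
  have hs := pick_mem hne
  have h3 := Multiset.sum_erase hs
  have := hpos _ hs
  unfold phi
  rw [Multiset.sum_add, Multiset.sum_singleton]
  omega

theorem phi_card {m : Multiset ℕ} (hne : m ≠ 0) :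
    Multiset.card (phi m) = Multiset.card m := by
  have hs := pick_mem hne
  unfold phi
  rw [Multiset.card_add, Multiset.card_singleton, Multiset.card_erase_of_mem hs]
  have : 0 < Multiset.card m := Multiset.card_pos.mpr hne
  simp only [Nat.pred_eq_sub_one]
  omega

open Classical in
/-- the class of a given cycle type -/
noncomputable def cls (α : Type*) [Fintype α] [DecidableEq α] (m : Multiset ℕ) :
    ConjClasses (Equiv.Perm α) :=
  if h : ∃ g : Equiv.Perm α, g.cycleType = m then ConjClasses.mk h.choose else 1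

theorem cls_cycleType (g : Equiv.Perm α) : cls α g.cycleType = ConjClasses.mk g := by
  unfold cls
  have h : ∃ g' : Equiv.Perm α, g'.cycleType = g.cycleType := ⟨g, rfl⟩
  rw [dif_pos h]
  apply ConjClasses.mk_eq_mk_iff_isConj.mpr
  rw [isConj_iff_cycleType_eq]
  exact h.choose_spec

theorem cls_inj {m m' : Multiset ℕ} (h : ∃ g : Equiv.Perm α, g.cycleType = m)
    (h' : ∃ g : Equiv.Perm α, g.cycleType = m') (heq : cls α m = cls α m') : m = m' := by
  obtain ⟨g, rfl⟩ := h
  obtain ⟨g', rfl⟩ := h'
  rw [cls_cycleType, cls_cycleType] at heq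
  exact isConj_iff_cycleType_eq.mp (ConjClasses.mk_eq_mk_iff_isConj.mp heq)

/-- chosen representative of the `Perm α`-class -/
noncomputable def rep (σ : Equiv.Perm α) : Equiv.Perm α := Quotient.out (ConjClasses.mk σ)

omit [Fintype α] [DecidableEq α] in
theorem rep_isConj (σ : Equiv.Perm α) : IsConj (rep σ) σ := by
  apply ConjClasses.mk_eq_mk_iff_isConj.mp
  exact Quotient.out_eq (ConjClasses.mk σ)

omit [Fintype α] [DecidableEq α] in
theorem rep_eq {σ τ : Equiv.Perm α} (h : IsConj σ τ) : rep σ = rep τ := by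
  unfold rep
  rw [ConjClasses.mk_eq_mk_iff_isConj.mpr h]

/-- `σ` is conjugate to the chosen representative by an even permutation -/
def primary (σ : Equiv.Perm α) : Prop :=
  ∃ g ∈ alternatingGroup α, g * rep σ * g⁻¹ = σ

theorem primary_conj {σ c : Equiv.Perm α} (hc : c ∈ alternatingGroup α) (h : primary σ) :
    primary (c * σ * c⁻¹) := by
  obtain ⟨g, hg, hgσ⟩ := h
  refine ⟨c * g, mul_mem hc hg, ?_⟩
  have h1 : rep (c * σ * c⁻¹) = rep σ := by
    apply rep_eq
    exact (isConj_iff.mpr ⟨c, rfl⟩).symm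
  rw [h1]
  calc c * g * rep σ * (c * g)⁻¹ = c * (g * rep σ * g⁻¹) * c⁻¹ := by group
    _ = c * σ * c⁻¹ := by rw [hgσ]

theorem primary_conj_iff {σ c : Equiv.Perm α} (hc : c ∈ alternatingGroup α) :
    primary (c * σ * c⁻¹) ↔ primary σ := by
  constructor
  · intro h
    have := primary_conj (inv_mem hc) h
    have h2 : c⁻¹ * (c * σ * c⁻¹) * c⁻¹⁻¹ = σ := by group
    rwa [h2] at this
  · exact primary_conj hc

theorem mul_mem_alt_of_notMem {g h : Equiv.Perm α} (hg : g ∉ alternatingGroup α)
    (hh : h ∉ alternatingGroup α) : g * h ∈ alternatingGroup α := by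
  rw [mem_alternatingGroup] at *
  rcases Int.units_eq_one_or (sign g) with h1 | h1
  · exact absurd h1 hg
  rcases Int.units_eq_one_or (sign h) with h2 | h2
  · exact absurd h2 hh
  rw [map_mul, h1, h2]; rfl

theorem inv_notMem_alt {g : Equiv.Perm α} (hg : g ∉ alternatingGroup α) :
    g⁻¹ ∉ alternatingGroup α := fun h => hg (by simpa using inv_mem h)

theorem centralizer_le_of_not_primary {σ : Equiv.Perm α} (h : ¬ primary σ) :
    Subgroup.centralizer {σ} ≤ alternatingGroup α := by
  intro z hz
  by_contra hzA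
  obtain ⟨g, hg⟩ := isConj_iff.mp (rep_isConj σ)
  have hgA : g ∉ alternatingGroup α := fun hgA => h ⟨g, hgA, hg⟩
  apply h
  refine ⟨z * g, mul_mem_alt_of_notMem hzA hgA, ?_⟩
  rw [Subgroup.mem_centralizer_singleton_iff] at hz
  calc z * g * rep σ * (z * g)⁻¹ = z * (g * rep σ * g⁻¹) * z⁻¹ := by group
    _ = z * σ * z⁻¹ := by rw [hg]
    _ = σ := by rw [hz]; group

theorem conj_of_primary {σ τ : Equiv.Perm α} (hσ : primary σ) (hτ : primary τ)
    (h : IsConj σ τ) : ∃ c ∈ alternatingGroup α, c * σ * c⁻¹ = τ := by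
  obtain ⟨g, hg, hgσ⟩ := hσ
  obtain ⟨k, hk, hkτ⟩ := hτ
  refine ⟨k * g⁻¹, mul_mem hk (inv_mem hg), ?_⟩
  rw [← hgσ, ← hkτ, rep_eq h]
  group

theorem conj_of_not_primary {σ τ : Equiv.Perm α} (hσ : ¬ primary σ) (hτ : ¬ primary τ)
    (h : IsConj σ τ) : ∃ c ∈ alternatingGroup α, c * σ * c⁻¹ = τ := by
  obtain ⟨g, hg⟩ := isConj_iff.mp (rep_isConj σ)
  obtain ⟨k, hk⟩ := isConj_iff.mp (rep_isConj τ)
  have hgA : g ∉ alternatingGroup α := fun hgA => hσ ⟨g, hgA, hg⟩
  have hkA : k ∉ alternatingGroup α := fun hkA => hτ ⟨k, hkA, hk⟩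
  refine ⟨k * g⁻¹, mul_mem_alt_of_notMem hkA (inv_notMem_alt hgA), ?_⟩
  rw [← hg, ← hk, rep_eq h]
  group

open Classical in
/-- the map on elements inducing the injection of class sets -/
noncomputable def jmap (a : alternatingGroup α) : ConjClasses (Equiv.Perm α) :=
  if primary (a : Equiv.Perm α) then cls α (a : Equiv.Perm α).cycleType
  else cls α (phi (a : Equiv.Perm α).cycleType)

theorem jmap_conj {a b : alternatingGroup α} (h : IsConj a b) : jmap a = jmap b := by
  obtain ⟨c, hc⟩ := isConj_iff.mp h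
  have h1 : (c : Equiv.Perm α) * a * (c : Equiv.Perm α)⁻¹ = b := by
    rw [← hc]; rfl
  have h2 : (b : Equiv.Perm α).cycleType = (a : Equiv.Perm α).cycleType := by
    rw [← h1]
    exact isConj_iff_cycleType_eq.mp (isConj_iff.mpr ⟨(c : Equiv.Perm α)⁻¹, by group⟩)
  have h3 : primary (b : Equiv.Perm α) ↔ primary (a : Equiv.Perm α) := by
    rw [← h1]; exact primary_conj_iff c.2
  unfold jmap
  rw [h2]
  by_cases hp : primary (a : Equiv.Perm α)
  · rw [if_pos hp, if_pos (h3.mpr hp)]
  · rw [if_neg hp, if_neg (fun hh => hp (h3.mp hh))]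

/-- the injection of class sets -/
noncomputable def Jmap : ConjClasses (alternatingGroup α) → ConjClasses (Equiv.Perm α) :=
  Quotient.lift jmap (fun _ _ h => jmap_conj h)

/-- properties of a non-primary even permutation -/
theorem not_primary_props (h5 : 5 ≤ Fintype.card α) {σ : Equiv.Perm α} (h : ¬ primary σ) :
    (∀ i ∈ σ.cycleType, Odd i) ∧ σ.cycleType ≠ 0 ∧ Fintype.card α ≤ σ.cycleType.sum + 1 ∧
    (∃ g : Equiv.Perm α, g.cycleType = phi σ.cycleType) := by
  obtain ⟨h1, h2, -⟩ := centralizer_le_alternating_iff.mp (centralizer_le_of_not_primary h)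
  have hne : σ.cycleType ≠ 0 := by
    intro h0
    rw [h0] at h2
    simp at h2
    omega
  refine ⟨h1, hne, h2, ?_⟩
  rw [exists_with_cycleType_iff]
  have hpos : ∀ i ∈ σ.cycleType, 0 < i := fun i hi => by
    have := two_le_of_mem_cycleType hi
    omega
  have hs := phi_sum hne hpos
  have := sum_cycleType_le σ
  refine ⟨by omega, ?_⟩
  intro a ha
  unfold phi at ha
  rcases Multiset.mem_add.mp ha with ha | ha
  · exact two_le_of_mem_cycleType (Multiset.mem_of_mem_erase ha)
  · rw [Multiset.mem_singleton] at ha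
    have h3 := two_le_of_mem_cycleType (pick_mem hne)
    obtain ⟨k, hk⟩ := h1 _ (pick_mem hne)
    omega

theorem sign_eq_of_cycleType_phi {σ τ : Equiv.Perm α} (hne : σ.cycleType ≠ 0)
    (h : τ.cycleType = phi σ.cycleType) : sign τ = - sign σ := by
  rw [sign_of_cycleType, sign_of_cycleType, h, phi_card hne]
  have hpos : ∀ i ∈ σ.cycleType, 0 < i := fun i hi => by
    have := two_le_of_mem_cycleType hi
    omega
  rw [← phi_sum hne hpos]
  rw [show (phi σ.cycleType).sum + 1 + Multiset.card σ.cycleType =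
    ((phi σ.cycleType).sum + Multiset.card σ.cycleType) + 1 by ring, pow_succ]
  simp

theorem Jmap_injective (h5 : 5 ≤ Fintype.card α) :
    Function.Injective (Jmap (α := α)) := by
  intro x y hxy
  induction x using Quotient.inductionOn with
  | _ a =>
  induction y using Quotient.inductionOn with
  | _ b =>
  change jmap a = jmap b at hxy
  apply Quotient.sound
  change IsConj a b
  have key : ∀ c ∈ alternatingGroup α, c * (a : Equiv.Perm α) * c⁻¹ = b → IsConj a b := by
    intro c hc hcab
    rw [isConj_iff]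
    refine ⟨⟨c, hc⟩, ?_⟩
    apply Subtype.ext
    exact hcab
  have hsa : sign (a : Equiv.Perm α) = 1 := mem_alternatingGroup.mp a.2
  have hsb : sign (b : Equiv.Perm α) = 1 := mem_alternatingGroup.mp b.2
  unfold jmap at hxy
  by_cases hpa : primary (a : Equiv.Perm α)
  · by_cases hpb : primary (b : Equiv.Perm α)
    · rw [if_pos hpa, if_pos hpb, cls_cycleType, cls_cycleType] at hxy
      obtain ⟨c, hc, hcab⟩ := conj_of_primary hpa hpb (ConjClasses.mk_eq_mk_iff_isConj.mp hxy)
      exact key c hc hcab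
    · exfalso
      rw [if_pos hpa, if_neg hpb] at hxy
      obtain ⟨-, hne, -, g, hg⟩ := not_primary_props h5 hpb
      rw [← hg, cls_cycleType, cls_cycleType] at hxy
      have h1 := sign_eq_of_cycleType_phi hne hg
      have h2 : sign (a : Equiv.Perm α) = sign g := by
        rw [sign_of_cycleType, sign_of_cycleType,
          isConj_iff_cycleType_eq.mp (ConjClasses.mk_eq_mk_iff_isConj.mp hxy)]
      rw [← h2, hsa, hsb] at h1
      exact absurd h1 (by decide)
  · by_cases hpb : primary (b : Equiv.Perm α)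
    · exfalso
      rw [if_neg hpa, if_pos hpb] at hxy
      obtain ⟨-, hne, -, g, hg⟩ := not_primary_props h5 hpa
      rw [← hg, cls_cycleType, cls_cycleType] at hxy
      have h1 := sign_eq_of_cycleType_phi hne hg
      have h2 : sign (b : Equiv.Perm α) = sign g := by
        rw [sign_of_cycleType, sign_of_cycleType,
          isConj_iff_cycleType_eq.mp (ConjClasses.mk_eq_mk_iff_isConj.mp hxy)]
      rw [← h2, hsa, hsb] at h1
      exact absurd h1 (by decide)
    · rw [if_neg hpa, if_neg hpb] at hxy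
      obtain ⟨hoa, hnea, -, hga⟩ := not_primary_props h5 hpa
      obtain ⟨hob, hneb, -, hgb⟩ := not_primary_props h5 hpb
      have h1 := cls_inj hga hgb hxy
      have h2 := phi_inj hoa hob hnea hneb h1
      obtain ⟨c, hc, hcab⟩ := conj_of_not_primary hpa hpb (isConj_iff_cycleType_eq.mpr h2)
      exact key c hc hcab

theorem swap_notMem_range (h5 : 5 ≤ Fintype.card α) {x y : α} (hxy : x ≠ y) :
    ConjClasses.mk (Equiv.swap x y) ∉ Set.range (Jmap (α := α)) := by
  rintro ⟨c, hc⟩
  induction c using Quotient.inductionOn with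
  | _ a =>
  change jmap a = _ at hc
  have hsa : sign (a : Equiv.Perm α) = 1 := mem_alternatingGroup.mp a.2
  unfold jmap at hc
  by_cases hpa : primary (a : Equiv.Perm α)
  · rw [if_pos hpa, cls_cycleType] at hc
    have h2 : sign (a : Equiv.Perm α) = sign (Equiv.swap x y) := by
      rw [sign_of_cycleType, sign_of_cycleType,
        isConj_iff_cycleType_eq.mp (ConjClasses.mk_eq_mk_iff_isConj.mp hc)]
    rw [hsa, sign_swap hxy] at h2
    exact absurd h2 (by decide)
  · rw [if_neg hpa] at hc
    obtain ⟨hoa, hnea, hsum, g, hg⟩ := not_primary_props h5 hpa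
    rw [← hg, cls_cycleType] at hc
    have h1 := isConj_iff_cycleType_eq.mp (ConjClasses.mk_eq_mk_iff_isConj.mp hc)
    rw [hg, (Equiv.Perm.IsSwap.isCycle ⟨x, y, hxy, rfl⟩).cycleType, card_support_swap hxy] at h1
    have hpos : ∀ i ∈ (a : Equiv.Perm α).cycleType, 0 < i := fun i hi => by
      have := two_le_of_mem_cycleType hi
      omega
    have h3 := phi_sum hnea hpos
    rw [h1] at h3
    simp at h3
    have h4 := phi_card hnea
    rw [h1] at h4
    simp at h4
    -- cycle type has one element and sum 3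
    obtain ⟨t, ht⟩ := Multiset.card_eq_one.mp h4.symm
    rw [ht] at h3 hsum
    simp at h3 hsum
    omega

theorem card_conjClasses_alt_lt (h5 : 5 ≤ Fintype.card α) :
    Nat.card (ConjClasses (alternatingGroup α)) < Nat.card (ConjClasses (Equiv.Perm α)) := by
  classical
  rw [Nat.card_eq_fintype_card, Nat.card_eq_fintype_card]
  have : Nontrivial α := by
    rw [← Fintype.one_lt_card_iff_nontrivial]; omega
  obtain ⟨x, y, hxy⟩ := exists_pair_ne α
  exact Fintype.card_lt_of_injective_of_notMem _ (Jmap_injective h5)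
    (swap_notMem_range h5 hxy)

end Cfsg.Agent.Helper19.PartCount
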