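import Mathlib

set_option autoImplicit false

/-! Automorphisms of odd order of a group fixing a chain of subsets with steps of "index two". -/

namespace Cfsg.Agent.Helper19.AutTwo

variable {T : Type*} [Group T]

theorem pow_apply_of_fix (φ : MulAut T) (x t : T) (hx : φ x = x * t) (ht : φ t = t) (i : ℕ) :
    (φ ^ i) x = x * t ^ i := by
  induction i with
  | zero => simp
  | succ i ih =>
    rw [pow_succ', MulAut.mul_apply, ih, map_mul, map_pow, hx, ht, mul_assoc, ← pow_succ']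

/-- the step lemma -/
theorem fix_of_step (φ : MulAut T) (r : ℕ) (hr : Odd r) (hφ : φ ^ r = 1)
    (H K : Set T) (h2 : ∀ x ∈ H, ∃ N : ℕ, x ^ (2 ^ N) = 1)
    (hH : ∀ x ∈ H, φ x = x) (hK : ∀ x ∈ K, φ x ∈ K)
    (hstep : ∀ x ∈ K, ∀ y ∈ K, x ∉ H → y ∉ H → x⁻¹ * y ∈ H) :
    ∀ x ∈ K, φ x = x := by
  intro x hxK
  by_cases hxH : x ∈ H
  · exact hH x hxH
  have hφxH : φ x ∉ H := by
    intro h
    apply hxH
    have h1 := hH _ h
    have h2 : φ x = x := φ.injective h1
    rw [← h2]; exact h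
  have ht : x⁻¹ * φ x ∈ H := hstep x hxK (φ x) (hK x hxK) hxH hφxH
  set t := x⁻¹ * φ x with htdef
  have hx : φ x = x * t := by rw [htdef]; group
  have hpow := pow_apply_of_fix φ x t hx (hH t ht) r
  rw [hφ, MulAut.one_apply] at hpow
  have htr : t ^ r = 1 := by
    have : x * t ^ r = x * 1 := by rw [mul_one]; exact hpow.symm
    exact mul_left_cancel this
  obtain ⟨N, hN⟩ := h2 t ht
  have h1 : orderOf t ∣ r := orderOf_dvd_of_pow_eq_one htr
  have h3 : orderOf t ∣ 2 ^ N := orderOf_dvd_of_pow_eq_one hN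
  have hcop : Nat.Coprime r (2 ^ N) := by
    apply Nat.Coprime.pow_right
    exact Nat.coprime_two_right.mpr hr
  have h4 : orderOf t = 1 := (hcop.coprime_dvd_left h1).eq_one_of_dvd h3
  rw [orderOf_eq_one_iff] at h4
  rw [hx, h4, mul_one]

/-- an automorphism of odd order mapping an element of `2`-power order into the cyclic subgroup
it generates fixes it -/
theorem fix_of_mem_zpowers (φ : MulAut T) (r : ℕ) (hr : Odd r) (hφ : φ ^ r = 1) (N : ℕ) :
    ∀ c : T, c ^ (2 ^ N) = 1 → φ c ∈ Subgroup.zpowers c → φ c = c := by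
  induction N with
  | zero =>
    intro c hc _
    rw [pow_zero, pow_one] at hc
    rw [hc, map_one]
  | succ N ih =>
    intro c hc hφc
    obtain ⟨j, hj⟩ := Subgroup.mem_zpowers_iff.mp hφc
    have hc2 : (c ^ 2) ^ (2 ^ N) = 1 := by rw [← pow_mul, ← pow_succ']; exact hc
    have hφc2 : φ (c ^ 2) ∈ Subgroup.zpowers (c ^ 2) := by
      rw [map_pow, ← hj]
      refine Subgroup.mem_zpowers_iff.mpr ⟨j, ?_⟩
      rw [← zpow_natCast, ← zpow_natCast, ← zpow_mul, ← zpow_mul, mul_comm]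
    have hfix2 : φ (c ^ 2) = c ^ 2 := ih (c ^ 2) hc2 hφc2
    refine fix_of_step φ r hr hφ (Subgroup.zpowers (c ^ 2) : Set T) (Subgroup.zpowers c : Set T)
      ?_ ?_ ?_ ?_ c (Subgroup.mem_zpowers c)
    · intro x hx
      obtain ⟨i, rfl⟩ := Subgroup.mem_zpowers_iff.mp hx
      refine ⟨N, ?_⟩
      rw [← zpow_natCast, ← zpow_mul, mul_comm, zpow_mul, zpow_natCast, hc2, one_zpow]
    · intro x hx
      obtain ⟨i, rfl⟩ := Subgroup.mem_zpowers_iff.mp hx
      rw [map_zpow, hfix2]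
    · intro x hx
      obtain ⟨i, rfl⟩ := Subgroup.mem_zpowers_iff.mp hx
      rw [map_zpow]
      exact Subgroup.zpow_mem _ hφc i
    · intro x hx y hy hxn hyn
      obtain ⟨i, rfl⟩ := Subgroup.mem_zpowers_iff.mp hx
      obtain ⟨k, rfl⟩ := Subgroup.mem_zpowers_iff.mp hy
      have hodd : ∀ i : ℤ, c ^ i ∉ (Subgroup.zpowers (c ^ 2) : Set T) → Odd i := by
        intro i hi
        by_contra hne
        rw [Int.not_odd_iff_even] at hne
        obtain ⟨i', rfl⟩ := hne
        apply hi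
        refine Subgroup.mem_zpowers_iff.mpr ⟨i', ?_⟩
        rw [← zpow_natCast, ← zpow_mul]
        congr 1; push_cast; ring
      obtain ⟨i', rfl⟩ := hodd i hxn
      obtain ⟨k', rfl⟩ := hodd k hyn
      refine Subgroup.mem_zpowers_iff.mpr ⟨k' - i', ?_⟩
      rw [← zpow_natCast, ← zpow_mul, ← zpow_neg, ← zpow_add]
      congr 1; push_cast; ring

/-- criterion for the automorphism group to be a `2`-group -/
theorem isPGroup_two_mulAut [Finite T]
    (h : ∀ (φ : MulAut T) (r : ℕ), Odd r → φ ^ r = 1 → ∀ x, φ x = x) : IsPGroup 2 (MulAut T) := by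
  intro φ
  have hn : orderOf φ ≠ 0 := (orderOf_pos φ).ne'
  obtain ⟨k, r, hr, hkr⟩ := Nat.exists_eq_two_pow_mul_odd hn
  refine ⟨k, ?_⟩
  have h1 : (φ ^ (2 ^ k)) ^ r = 1 := by
    rw [← pow_mul, ← hkr, pow_orderOf_eq_one]
  ext x
  rw [h (φ ^ (2 ^ k)) r hr h1 x, MulAut.one_apply]

end Cfsg.Agent.Helper19.AutTwo
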