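import Mathlib

set_option autoImplicit false

/-! Monomial `2 × 2` matrices over `ZMod q` as linear equivalences. -/

namespace Cfsg.Agent.Helper19.AutTwo

variable {q : ℕ} [Fact q.Prime]

/-- the diagonal map `(x, y) ↦ (a x, b y)` -/
def dg (a b : (ZMod q)ˣ) : (Fin 2 → ZMod q) ≃ₗ[ZMod q] (Fin 2 → ZMod q) where
  toFun v := ![(a : ZMod q) * v 0, (b : ZMod q) * v 1]
  invFun v := ![((a⁻¹ : (ZMod q)ˣ) : ZMod q) * v 0, ((b⁻¹ : (ZMod q)ˣ) : ZMod q) * v 1]
  map_add' v w := by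
    ext i; fin_cases i <;> simp [mul_add]
  map_smul' c v := by
    ext i; fin_cases i <;> simp [mul_left_comm]
  left_inv v := by
    ext i
    fin_cases i
    · show ((a⁻¹ : (ZMod q)ˣ) : ZMod q) * ((a : ZMod q) * v 0) = v 0
      rw [← mul_assoc, Units.inv_mul, one_mul]
    · show ((b⁻¹ : (ZMod q)ˣ) : ZMod q) * ((b : ZMod q) * v 1) = v 1
      rw [← mul_assoc, Units.inv_mul, one_mul]
  right_inv v := by
    ext i
    fin_cases i
    · show (a : ZMod q) * (((a⁻¹ : (ZMod q)ˣ) : ZMod q) * v 0) = v 0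
      rw [← mul_assoc, Units.mul_inv, one_mul]
    · show (b : ZMod q) * (((b⁻¹ : (ZMod q)ˣ) : ZMod q) * v 1) = v 1
      rw [← mul_assoc, Units.mul_inv, one_mul]

/-- the antidiagonal map `(x, y) ↦ (a y, b x)` -/
def ad (a b : (ZMod q)ˣ) : (Fin 2 → ZMod q) ≃ₗ[ZMod q] (Fin 2 → ZMod q) where
  toFun v := ![(a : ZMod q) * v 1, (b : ZMod q) * v 0]
  invFun v := ![((b⁻¹ : (ZMod q)ˣ) : ZMod q) * v 1, ((a⁻¹ : (ZMod q)ˣ) : ZMod q) * v 0]
  map_add' v w := by
    ext i; fin_cases i <;> simp [mul_add]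
  map_smul' c v := by
    ext i; fin_cases i <;> simp [mul_left_comm]
  left_inv v := by
    ext i
    fin_cases i
    · show ((b⁻¹ : (ZMod q)ˣ) : ZMod q) * ((b : ZMod q) * v 0) = v 0
      rw [← mul_assoc, Units.inv_mul, one_mul]
    · show ((a⁻¹ : (ZMod q)ˣ) : ZMod q) * ((a : ZMod q) * v 1) = v 1
      rw [← mul_assoc, Units.inv_mul, one_mul]
  right_inv v := by
    ext i
    fin_cases i
    · show (a : ZMod q) * (((a⁻¹ : (ZMod q)ˣ) : ZMod q) * v 0) = v 0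
      rw [← mul_assoc, Units.mul_inv, one_mul]
    · show (b : ZMod q) * (((b⁻¹ : (ZMod q)ˣ) : ZMod q) * v 1) = v 1
      rw [← mul_assoc, Units.mul_inv, one_mul]

theorem dg_apply (a b : (ZMod q)ˣ) (v : Fin 2 → ZMod q) :
    dg a b v = ![(a : ZMod q) * v 0, (b : ZMod q) * v 1] := rfl

theorem ad_apply (a b : (ZMod q)ˣ) (v : Fin 2 → ZMod q) :
    ad a b v = ![(a : ZMod q) * v 1, (b : ZMod q) * v 0] := rfl

theorem dg_mul_dg (a b c d : (ZMod q)ˣ) : dg a b * dg c d = dg (a * c) (b * d) := by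
  ext v i
  rw [LinearEquiv.mul_apply, dg_apply, dg_apply, dg_apply]
  fin_cases i <;> simp [mul_assoc]

theorem dg_mul_ad (a b c d : (ZMod q)ˣ) : dg a b * ad c d = ad (a * c) (b * d) := by
  ext v i
  rw [LinearEquiv.mul_apply, dg_apply, ad_apply, ad_apply]
  fin_cases i <;> simp [mul_assoc]

theorem ad_mul_dg (a b c d : (ZMod q)ˣ) : ad a b * dg c d = ad (a * d) (b * c) := by
  ext v i
  rw [LinearEquiv.mul_apply, ad_apply, dg_apply, ad_apply]
  fin_cases i <;> simp [mul_assoc]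

theorem ad_mul_ad (a b c d : (ZMod q)ˣ) : ad a b * ad c d = dg (a * d) (b * c) := by
  ext v i
  rw [LinearEquiv.mul_apply, ad_apply, ad_apply, dg_apply]
  fin_cases i <;> simp [mul_assoc]

theorem dg_one : dg (1 : (ZMod q)ˣ) 1 = 1 := by
  ext v i
  rw [dg_apply]
  fin_cases i <;> simp

theorem dg_inv (a b : (ZMod q)ˣ) : (dg a b)⁻¹ = dg a⁻¹ b⁻¹ := by
  apply inv_eq_of_mul_eq_one_right
  rw [dg_mul_dg, mul_inv_cancel, mul_inv_cancel, dg_one]

theorem ad_inv (a b : (ZMod q)ˣ) : (ad a b)⁻¹ = ad b⁻¹ a⁻¹ := by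
  apply inv_eq_of_mul_eq_one_right
  rw [ad_mul_ad, mul_inv_cancel, mul_inv_cancel, dg_one]

theorem dg_pow (a b : (ZMod q)ˣ) (n : ℕ) : (dg a b) ^ n = dg (a ^ n) (b ^ n) := by
  induction n with
  | zero => simp [dg_one]
  | succ n ih => rw [pow_succ, ih, dg_mul_dg, pow_succ, pow_succ]

theorem dg_inj {a b c d : (ZMod q)ˣ} (h : dg a b = dg c d) : a = c ∧ b = d := by
  have h0 := congrArg (fun f => f ![1, 0] 0) h
  have h1 := congrArg (fun f => f ![0, 1] 1) h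
  simp only [dg_apply] at h0 h1
  simp at h0 h1
  exact ⟨Units.ext h0, Units.ext h1⟩

theorem ad_inj {a b c d : (ZMod q)ˣ} (h : ad a b = ad c d) : a = c ∧ b = d := by
  have h0 := congrArg (fun f => f ![0, 1] 0) h
  have h1 := congrArg (fun f => f ![1, 0] 1) h
  simp only [ad_apply] at h0 h1
  simp at h0 h1
  exact ⟨Units.ext h0, Units.ext h1⟩

theorem dg_ne_ad (a b c d : (ZMod q)ˣ) : dg a b ≠ ad c d := by
  intro h
  have h0 := congrArg (fun f => f ![1, 0] 0) h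
  simp only [dg_apply, ad_apply] at h0
  simp at h0

theorem dg_eq_one_iff (a b : (ZMod q)ˣ) : dg a b = 1 ↔ a = 1 ∧ b = 1 := by
  constructor
  · intro h
    rw [← dg_one] at h
    exact dg_inj h
  · rintro ⟨rfl, rfl⟩
    exact dg_one

theorem dg_zpow (a b : (ZMod q)ˣ) (n : ℤ) : (dg a b) ^ n = dg (a ^ n) (b ^ n) := by
  cases n with
  | ofNat n => simp only [Int.ofNat_eq_natCast, zpow_natCast, dg_pow]
  | negSucc n => simp only [zpow_negSucc, dg_pow, dg_inv]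

theorem dg_comm (a b c d : (ZMod q)ˣ) : dg a b * dg c d = dg c d * dg a b := by
  rw [dg_mul_dg, dg_mul_dg, mul_comm a c, mul_comm b d]

theorem ad_sq (a b : (ZMod q)ˣ) : (ad a b) ^ 2 = dg (a * b) (a * b) := by
  rw [pow_two, ad_mul_ad, mul_comm b a]

end Cfsg.Agent.Helper19.AutTwo
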