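import Mathlib
import Cfsg.Agent.Helper19.AutTwoB

set_option autoImplicit false

/-! The monomial group `T` of determinant `± 1`: membership. -/

namespace Cfsg.Agent.Helper19.AutTwo

variable {q : ℕ} [Fact q.Prime]
  (T : Subgroup ((Fin 2 → ZMod q) ≃ₗ[ZMod q] (Fin 2 → ZMod q)))
  (hT : ∀ f, f ∈ T ↔ ∃ a s : ZMod q, a ≠ 0 ∧ (s = 1 ∨ s = -1) ∧
      ((∀ v, f v = ![a * v 0, s * a⁻¹ * v 1]) ∨ (∀ v, f v = ![s * a⁻¹ * v 1, a * v 0])))

include hT in
theorem mem_cases {f : (Fin 2 → ZMod q) ≃ₗ[ZMod q] (Fin 2 → ZMod q)} (hf : f ∈ T) :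
    (∃ a b : (ZMod q)ˣ, f = dg a b ∧ (a * b = 1 ∨ a * b = -1)) ∨
    (∃ a b : (ZMod q)ˣ, f = ad a b ∧ (a * b = 1 ∨ a * b = -1)) := by
  obtain ⟨a, s, ha, hs, h | h⟩ := (hT f).mp hf
  · left
    rcases hs with rfl | rfl
    · refine ⟨Units.mk0 a ha, (Units.mk0 a ha)⁻¹, ?_, Or.inl (mul_inv_cancel _)⟩
      ext v i
      rw [h v, dg_apply]
      fin_cases i <;> simp
    · refine ⟨Units.mk0 a ha, -(Units.mk0 a ha)⁻¹, ?_, Or.inr ?_⟩
      · ext v i
        rw [h v, dg_apply]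
        fin_cases i <;> simp
      · rw [mul_neg, mul_inv_cancel]
  · right
    rcases hs with rfl | rfl
    · refine ⟨(Units.mk0 a ha)⁻¹, Units.mk0 a ha, ?_, Or.inl (inv_mul_cancel _)⟩
      ext v i
      rw [h v, ad_apply]
      fin_cases i <;> simp
    · refine ⟨-(Units.mk0 a ha)⁻¹, Units.mk0 a ha, ?_, Or.inr ?_⟩
      · ext v i
        rw [h v, ad_apply]
        fin_cases i <;> simp
      · rw [neg_mul, inv_mul_cancel]

include hT in
theorem dg_mem {a b : (ZMod q)ˣ} (h : a * b = 1 ∨ a * b = -1) : dg a b ∈ T := by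
  rw [hT]
  rcases h with h | h
  · refine ⟨(a : ZMod q), 1, a.ne_zero, Or.inl rfl, Or.inl ?_⟩
    intro v
    have hb : b = a⁻¹ := eq_inv_of_mul_eq_one_right h
    rw [dg_apply, hb, Units.val_inv_eq_inv_val, one_mul]
  · refine ⟨(a : ZMod q), -1, a.ne_zero, Or.inr rfl, Or.inl ?_⟩
    intro v
    have hb : b = -a⁻¹ := by
      have : a * (-b) = 1 := by rw [mul_neg, h, neg_neg]
      have h2 : -b = a⁻¹ := eq_inv_of_mul_eq_one_right this
      rw [← h2, neg_neg]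
    rw [dg_apply, hb, Units.val_neg, Units.val_inv_eq_inv_val, neg_one_mul]

include hT in
theorem ad_mem {a b : (ZMod q)ˣ} (h : a * b = 1 ∨ a * b = -1) : ad a b ∈ T := by
  rw [hT]
  rcases h with h | h
  · refine ⟨(b : ZMod q), 1, b.ne_zero, Or.inl rfl, Or.inr ?_⟩
    intro v
    have ha : a = b⁻¹ := eq_inv_of_mul_eq_one_left h
    rw [ad_apply, ha, Units.val_inv_eq_inv_val, one_mul]
  · refine ⟨(b : ZMod q), -1, b.ne_zero, Or.inr rfl, Or.inr ?_⟩
    intro v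
    have ha : a = -b⁻¹ := by
      have : (-a) * b = 1 := by rw [neg_mul, h, neg_neg]
      have h2 : -a = b⁻¹ := eq_inv_of_mul_eq_one_left this
      rw [← h2, neg_neg]
    rw [ad_apply, ha, Units.val_neg, Units.val_inv_eq_inv_val, neg_one_mul]

include hT in
theorem dg_mem_iff {a b : (ZMod q)ˣ} : dg a b ∈ T ↔ (a * b = 1 ∨ a * b = -1) := by
  constructor
  · intro h
    rcases mem_cases T hT h with ⟨c, d, h1, h2⟩ | ⟨c, d, h1, -⟩
    · obtain ⟨rfl, rfl⟩ := dg_inj h1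
      exact h2
    · exact absurd h1 (dg_ne_ad _ _ _ _)
  · exact dg_mem T hT

include hT in
theorem ad_mem_iff {a b : (ZMod q)ˣ} : ad a b ∈ T ↔ (a * b = 1 ∨ a * b = -1) := by
  constructor
  · intro h
    rcases mem_cases T hT h with ⟨c, d, h1, -⟩ | ⟨c, d, h1, h2⟩
    · exact absurd h1.symm (dg_ne_ad _ _ _ _)
    · obtain ⟨rfl, rfl⟩ := ad_inj h1
      exact h2
  · exact ad_mem T hT

end Cfsg.Agent.Helper19.AutTwo
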