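import Mathlib
import Cfsg.Agent.Helper19.AutTwoC

set_option autoImplicit false

/-! The monomial group `T`: diagonal elements, units of `ZMod (2 ^ m + 1)`. -/

namespace Cfsg.Agent.Helper19.AutTwo

variable {q : ℕ} [Fact q.Prime]

section units

variable {m : ℕ} (hq : q = 2 ^ m + 1)

include hq in
theorem units_pow_card (u : (ZMod q)ˣ) : u ^ (2 ^ m) = 1 := by
  have h1 : Fintype.card (ZMod q)ˣ = 2 ^ m := by
    rw [ZMod.card_units, hq, Nat.add_sub_cancel]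
  rw [← h1]
  exact pow_card_eq_one

include hq in
theorem units_pow_half (hm : 1 ≤ m) (u : (ZMod q)ˣ) :
    u ^ (2 ^ (m - 1)) = 1 ∨ u ^ (2 ^ (m - 1)) = -1 := by
  have h1 : (u ^ (2 ^ (m - 1))) ^ 2 = 1 := by
    rw [← pow_mul, ← pow_succ]
    have : m - 1 + 1 = m := by omega
    rw [this]
    exact units_pow_card hq u
  have h2 : ((u ^ (2 ^ (m - 1)) : (ZMod q)ˣ) : ZMod q) ^ 2 = 1 := by
    rw [← Units.val_pow_eq_pow_val, h1, Units.val_one]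
  rcases sq_eq_one_iff.mp h2 with h3 | h3
  · left
    exact Units.ext (by rw [h3, Units.val_one])
  · right
    exact Units.ext (by rw [h3, Units.val_neg, Units.val_one])

include hq in
theorem exists_sqrt (hm : 1 ≤ m) (u : (ZMod q)ˣ) (h : u ^ (2 ^ (m - 1)) = 1) :
    ∃ e : (ZMod q)ˣ, e ^ 2 = u := by
  rw [ZMod.euler_criterion_units]
  have : q / 2 = 2 ^ (m - 1) := by
    rw [hq]
    obtain ⟨k, rfl⟩ : ∃ k, m = k + 1 := ⟨m - 1, by omega⟩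
    rw [Nat.add_sub_cancel, pow_succ]
    omega
  rw [this]
  exact h

include hq in
theorem exists_gen : ∃ g : (ZMod q)ˣ, (∀ u : (ZMod q)ˣ, u ∈ Subgroup.zpowers g) ∧
    orderOf g = 2 ^ m := by
  obtain ⟨g, hg⟩ := IsCyclic.exists_generator (α := (ZMod q)ˣ)
  refine ⟨g, hg, ?_⟩
  rw [orderOf_eq_card_of_forall_mem_zpowers hg, Nat.card_eq_fintype_card, ZMod.card_units, hq,
    Nat.add_sub_cancel]

end units

variable (T : Subgroup ((Fin 2 → ZMod q) ≃ₗ[ZMod q] (Fin 2 → ZMod q)))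

/-- the diagonal elements of `T` -/
def diagSet : Set ↥T :=
  {x | ∃ a b : (ZMod q)ˣ, (x : (Fin 2 → ZMod q) ≃ₗ[ZMod q] (Fin 2 → ZMod q)) = dg a b}

variable {T}

theorem diag_mul {x y : ↥T} (hx : x ∈ diagSet T) (hy : y ∈ diagSet T) : x * y ∈ diagSet T := by
  obtain ⟨a, b, hab⟩ := hx
  obtain ⟨c, d, hcd⟩ := hy
  exact ⟨a * c, b * d, by rw [Subgroup.coe_mul, hab, hcd, dg_mul_dg]⟩

theorem diag_inv {x : ↥T} (hx : x ∈ diagSet T) : x⁻¹ ∈ diagSet T := by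
  obtain ⟨a, b, hab⟩ := hx
  exact ⟨a⁻¹, b⁻¹, by rw [Subgroup.coe_inv, hab, dg_inv]⟩

theorem diag_pow {x : ↥T} (hx : x ∈ diagSet T) (n : ℕ) : x ^ n ∈ diagSet T := by
  obtain ⟨a, b, hab⟩ := hx
  exact ⟨a ^ n, b ^ n, by rw [Subgroup.coe_pow, hab, dg_pow]⟩

theorem diag_comm {x y : ↥T} (hx : x ∈ diagSet T) (hy : y ∈ diagSet T) : x * y = y * x := by
  obtain ⟨a, b, hab⟩ := hx
  obtain ⟨c, d, hcd⟩ := hy
  apply Subtype.ext
  rw [Subgroup.coe_mul, Subgroup.coe_mul, hab, hcd, dg_comm]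

variable (hT : ∀ f, f ∈ T ↔ ∃ a s : ZMod q, a ≠ 0 ∧ (s = 1 ∨ s = -1) ∧
      ((∀ v, f v = ![a * v 0, s * a⁻¹ * v 1]) ∨ (∀ v, f v = ![s * a⁻¹ * v 1, a * v 0])))

include hT in
theorem not_diag {x : ↥T} (hx : x ∉ diagSet T) : ∃ a b : (ZMod q)ˣ,
    (x : (Fin 2 → ZMod q) ≃ₗ[ZMod q] (Fin 2 → ZMod q)) = ad a b ∧ (a * b = 1 ∨ a * b = -1) := by
  rcases mem_cases T hT x.2 with ⟨a, b, h1, -⟩ | h
  · exact absurd ⟨a, b, h1⟩ hx
  · exact h

include hT in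
theorem diag_prod {x : ↥T} {a b : (ZMod q)ˣ}
    (hx : (x : (Fin 2 → ZMod q) ≃ₗ[ZMod q] (Fin 2 → ZMod q)) = dg a b) :
    a * b = 1 ∨ a * b = -1 := by
  have := x.2
  rw [hx] at this
  exact (dg_mem_iff T hT).mp this

include hT in
theorem pow_four_of_not_diag {x : ↥T} (hx : x ∉ diagSet T) : x ^ 4 = 1 := by
  obtain ⟨a, b, hab, h⟩ := not_diag hT hx
  apply Subtype.ext
  have h4 : (4 : ℕ) = 2 * 2 := rfl
  rw [Subgroup.coe_pow, hab, Subgroup.coe_one, h4, pow_mul, ad_sq, dg_pow, dg_eq_one_iff]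
  rcases h with h | h <;> rw [h] <;> simp

include hT in
theorem not_diag_step {x y : ↥T} (hx : x ∉ diagSet T) (hy : y ∉ diagSet T) :
    x⁻¹ * y ∈ diagSet T := by
  obtain ⟨a, b, hab, -⟩ := not_diag hT hx
  obtain ⟨c, d, hcd, -⟩ := not_diag hT hy
  exact ⟨b⁻¹ * d, a⁻¹ * c, by rw [Subgroup.coe_mul, Subgroup.coe_inv, hab, hcd, ad_inv, ad_mul_ad]⟩

end Cfsg.Agent.Helper19.AutTwo
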