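import Mathlib
import Cfsg.Agent.Helper19.AutTwoA
import Cfsg.Agent.Helper19.AutTwoD

set_option autoImplicit false

/-! The monomial group `T` over `ZMod (2 ^ m + 1)`, `m ≥ 3`: automorphisms of odd order are
trivial. -/

namespace Cfsg.Agent.Helper19.AutTwo

variable {q : ℕ} [Fact q.Prime] {m : ℕ} (hq : q = 2 ^ m + 1)
  {T : Subgroup ((Fin 2 → ZMod q) ≃ₗ[ZMod q] (Fin 2 → ZMod q))}
  (hT : ∀ f, f ∈ T ↔ ∃ a s : ZMod q, a ≠ 0 ∧ (s = 1 ∨ s = -1) ∧
      ((∀ v, f v = ![a * v 0, s * a⁻¹ * v 1]) ∨ (∀ v, f v = ![s * a⁻¹ * v 1, a * v 0])))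

include hq in
theorem diag_pow_card {x : ↥T} (hx : x ∈ diagSet T) : x ^ (2 ^ m) = 1 := by
  obtain ⟨a, b, hab⟩ := hx
  apply Subtype.ext
  rw [Subgroup.coe_pow, hab, dg_pow, units_pow_card hq, units_pow_card hq, dg_one, Subgroup.coe_one]

include hq hT in
theorem diag_pow_half (hm : 2 ≤ m) {x : ↥T} (hx : x ∈ diagSet T) :
    ((x ^ (2 ^ (m - 1)) : ↥T) : (Fin 2 → ZMod q) ≃ₗ[ZMod q] (Fin 2 → ZMod q)) = 1 ∨
    ((x ^ (2 ^ (m - 1)) : ↥T) : (Fin 2 → ZMod q) ≃ₗ[ZMod q] (Fin 2 → ZMod q)) = dg (-1) (-1) := by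
  obtain ⟨a, b, hab⟩ := hx
  have hprod := diag_prod hT hab
  have heven : Even (2 ^ (m - 1)) := by
    obtain ⟨k, rfl⟩ : ∃ k, m = k + 2 := ⟨m - 2, by omega⟩
    have : k + 2 - 1 = k + 1 := by omega
    rw [this, pow_succ]
    exact even_two.mul_left _
  have h1 : (a * b) ^ (2 ^ (m - 1)) = 1 := by
    rcases hprod with h | h
    · rw [h, one_pow]
    · rw [h, heven.neg_one_pow]
  rw [mul_pow] at h1
  rw [Subgroup.coe_pow, hab, dg_pow]
  rcases units_pow_half hq (by omega) a with h | h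
  · left
    rw [h, one_mul] at h1
    rw [h, h1, dg_one]
  · right
    rw [h] at h1
    have h2 : b ^ (2 ^ (m - 1)) = -1 := by
      have h3 : -(b ^ (2 ^ (m - 1))) = 1 := by rw [← h1, neg_one_mul]
      rw [← h3, neg_neg]
    rw [h, h2]

include hq hT in
/-- automorphisms of odd order are trivial, case `m ≥ 3` -/
theorem fix_all_of_three_le (hm : 3 ≤ m) (φ : MulAut ↥T) (r : ℕ) (hr : Odd r) (hφ : φ ^ r = 1) :
    ∀ x : ↥T, φ x = x := by
  obtain ⟨g, hg, hgo⟩ := exists_gen hq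
  set d : ↥T := ⟨dg g g⁻¹, dg_mem T hT (Or.inl (mul_inv_cancel g))⟩ with hd
  have hdA : d ∈ diagSet T := ⟨g, g⁻¹, rfl⟩
  have hd4 : d ^ 4 ≠ 1 := by
    intro h
    have h1 := congrArg (Subtype.val) h
    rw [Subgroup.coe_pow, Subgroup.coe_one] at h1
    change (dg g g⁻¹) ^ 4 = 1 at h1
    rw [dg_pow, dg_eq_one_iff] at h1
    have h2 : orderOf g ∣ 4 := orderOf_dvd_of_pow_eq_one h1.1
    rw [hgo] at h2
    have h3 : 2 ^ m ≤ 4 := Nat.le_of_dvd (by norm_num) h2
    have h4 : 2 ^ 3 ≤ 2 ^ m := Nat.pow_le_pow_right (by norm_num) hm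
    omega
  -- the diagonal subgroup is invariant
  have key : ∀ x : ↥T, x ^ 4 ≠ 1 → φ x ∈ diagSet T := by
    intro x hx
    by_contra hn
    have h1 := pow_four_of_not_diag hT hn
    rw [← map_pow] at h1
    exact hx ((MulEquiv.map_eq_one_iff φ).mp h1)
  have hA : ∀ x ∈ diagSet T, φ x ∈ diagSet T := by
    intro x hx
    by_cases h4 : x ^ 4 = 1
    · have h5 : (x * d) ^ 4 ≠ 1 := by
        rw [Commute.mul_pow (show Commute x d from diag_comm hx hdA), h4, one_mul]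
        exact hd4
      have h6 : φ x = φ (x * d) * (φ d)⁻¹ := by rw [map_mul]; group
      rw [h6]
      exact diag_mul (key _ h5) (diag_inv (key _ hd4))
    · exact key x h4
  -- the squares
  have hΦc : ∀ y ∈ diagSet T, y ^ 2 ∈ Subgroup.zpowers (d ^ 2) := by
    intro y hy
    obtain ⟨a, b, hab⟩ := hy
    have hprod := diag_prod hT hab
    obtain ⟨i, hi⟩ := Subgroup.mem_zpowers_iff.mp (hg a)
    refine Subgroup.mem_zpowers_iff.mpr ⟨i, ?_⟩
    apply Subtype.ext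
    have hb2 : b ^ 2 = (a ^ 2)⁻¹ := by
      have : a ^ 2 * b ^ 2 = 1 := by
        rw [← mul_pow]
        rcases hprod with h | h <;> rw [h] <;> simp
      exact eq_inv_of_mul_eq_one_right this
    rw [Subgroup.coe_zpow, Subgroup.coe_pow, Subgroup.coe_pow, hab]
    change ((dg g g⁻¹) ^ 2) ^ i = _
    rw [dg_pow, dg_pow, dg_zpow, hb2, ← hi]
    congr 1
    · rw [← zpow_natCast, ← zpow_natCast, ← zpow_mul, ← zpow_mul, mul_comm]
    · rw [inv_pow, inv_zpow, ← zpow_natCast, ← zpow_natCast, ← zpow_mul, ← zpow_mul, mul_comm]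
  have hc : φ (d ^ 2) = d ^ 2 := by
    apply fix_of_mem_zpowers φ r hr hφ m
    · exact diag_pow_card hq (diag_pow hdA 2)
    · rw [map_pow]
      exact hΦc _ (hA d hdA)
  have hΦfix : ∀ x ∈ {x : ↥T | ∃ y ∈ diagSet T, x = y ^ 2}, φ x = x := by
    rintro x ⟨y, hy, rfl⟩
    obtain ⟨i, hi⟩ := Subgroup.mem_zpowers_iff.mp (hΦc y hy)
    rw [← hi, map_zpow, hc]
  -- the elements of order dividing `2 ^ (m - 1)`
  have hBfix : ∀ x ∈ {x : ↥T | x ∈ diagSet T ∧ x ^ (2 ^ (m - 1)) = 1}, φ x = x := by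
    apply fix_of_step φ r hr hφ {x : ↥T | ∃ y ∈ diagSet T, x = y ^ 2}
    · rintro x ⟨y, hy, rfl⟩
      exact ⟨m, diag_pow_card hq (diag_pow hy 2)⟩
    · exact hΦfix
    · rintro x ⟨hx1, hx2⟩
      exact ⟨hA x hx1, by rw [← map_pow, hx2, map_one]⟩
    · have hkey : ∀ x : ↥T, x ∈ diagSet T → x ^ (2 ^ (m - 1)) = 1 →
          x ∉ {x : ↥T | ∃ y ∈ diagSet T, x = y ^ 2} → ∃ e : (ZMod q)ˣ,
          (x : (Fin 2 → ZMod q) ≃ₗ[ZMod q] (Fin 2 → ZMod q)) = dg (e ^ 2) (-(e ^ 2)⁻¹) := by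
        intro x hx1 hx2 hx3
        obtain ⟨a, b, hab⟩ := hx1
        have hprod := diag_prod hT hab
        have h1 := congrArg (Subtype.val) hx2
        rw [Subgroup.coe_pow, Subgroup.coe_one, hab, dg_pow, dg_eq_one_iff] at h1
        obtain ⟨e, he⟩ := exists_sqrt hq (by omega) a h1.1
        refine ⟨e, ?_⟩
        rcases hprod with h | h
        · exfalso
          apply hx3
          refine ⟨⟨dg e e⁻¹, dg_mem T hT (Or.inl (mul_inv_cancel e))⟩, ⟨e, e⁻¹, rfl⟩, ?_⟩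
          apply Subtype.ext
          rw [Subgroup.coe_pow, hab]
          change _ = (dg e e⁻¹) ^ 2
          rw [dg_pow, he, inv_pow, he]
          have hb : b = a⁻¹ := eq_inv_of_mul_eq_one_right h
          rw [hb]
        · have hb : b = -a⁻¹ := by
            have : a * (-b) = 1 := by rw [mul_neg, h, neg_neg]
            have h2 : -b = a⁻¹ := eq_inv_of_mul_eq_one_right this
            rw [← h2, neg_neg]
          rw [hab, hb, he]
      rintro x ⟨hx1, hx2⟩ y ⟨hy1, hy2⟩ hx3 hy3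
      obtain ⟨e, he⟩ := hkey x hx1 hx2 hx3
      obtain ⟨f, hf⟩ := hkey y hy1 hy2 hy3
      refine ⟨⟨dg (e⁻¹ * f) (e * f⁻¹), dg_mem T hT (Or.inl ?_)⟩, ⟨_, _, rfl⟩, ?_⟩
      · rw [mul_mul_mul_comm, inv_mul_cancel, mul_inv_cancel, one_mul]
      · apply Subtype.ext
        rw [Subgroup.coe_mul, Subgroup.coe_inv, he, hf, Subgroup.coe_pow]
        change _ = (dg (e⁻¹ * f) (e * f⁻¹)) ^ 2
        rw [dg_pow, dg_inv, dg_mul_dg]
        congr 1
        · rw [mul_pow, inv_pow]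
        · rw [mul_pow, inv_pow, inv_neg, inv_inv, neg_mul_neg]
  -- the diagonal subgroup
  have hAfix : ∀ x ∈ diagSet T, φ x = x := by
    apply fix_of_step φ r hr hφ {x : ↥T | x ∈ diagSet T ∧ x ^ (2 ^ (m - 1)) = 1}
    · rintro x ⟨hx1, -⟩
      exact ⟨m, diag_pow_card hq hx1⟩
    · exact hBfix
    · exact hA
    · intro x hx y hy hxn hyn
      refine ⟨diag_mul (diag_inv hx) hy, ?_⟩
      have hx' : ((x ^ (2 ^ (m - 1)) : ↥T) : (Fin 2 → ZMod q) ≃ₗ[ZMod q] (Fin 2 → ZMod q)) =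
          dg (-1) (-1) := by
        rcases diag_pow_half hq hT (by omega) hx with h | h
        · exfalso
          apply hxn
          refine ⟨hx, Subtype.ext ?_⟩
          rw [h, Subgroup.coe_one]
        · exact h
      have hy' : ((y ^ (2 ^ (m - 1)) : ↥T) : (Fin 2 → ZMod q) ≃ₗ[ZMod q] (Fin 2 → ZMod q)) =
          dg (-1) (-1) := by
        rcases diag_pow_half hq hT (by omega) hy with h | h
        · exfalso
          apply hyn
          refine ⟨hy, Subtype.ext ?_⟩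
          rw [h, Subgroup.coe_one]
        · exact h
      have hxy : x ^ (2 ^ (m - 1)) = y ^ (2 ^ (m - 1)) := Subtype.ext (hx'.trans hy'.symm)
      rw [Commute.mul_pow (show Commute x⁻¹ y from diag_comm (diag_inv hx) hy), inv_pow, hxy,
        inv_mul_cancel]
  -- the whole group
  intro x
  apply fix_of_step φ r hr hφ (diagSet T) Set.univ
  · intro x hx
    exact ⟨m, diag_pow_card hq hx⟩
  · exact hAfix
  · intro x _
    exact Set.mem_univ _
  · intro x _ y _ hx hy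
    exact not_diag_step hT hx hy
  · exact Set.mem_univ x

end Cfsg.Agent.Helper19.AutTwo
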