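import Mathlib
import Cfsg.Agent.Helper19.AutTwoE

set_option autoImplicit false

/-! The monomial group `T` over `ZMod 2` and `ZMod 3`: automorphisms of odd order are trivial. -/

namespace Cfsg.Agent.Helper19.AutTwo

theorem units_two_eq : ∀ u : (ZMod 2)ˣ, u = 1 := by decide

theorem units_three_eq : ∀ u : (ZMod 3)ˣ, u = 1 ∨ u = -1 := by decide

theorem units_three_ne : (-1 : (ZMod 3)ˣ) ≠ 1 := by decide

variable {q : ℕ} [Fact q.Prime]
  {T : Subgroup ((Fin 2 → ZMod q) ≃ₗ[ZMod q] (Fin 2 → ZMod q))}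
  (hT : ∀ f, f ∈ T ↔ ∃ a s : ZMod q, a ≠ 0 ∧ (s = 1 ∨ s = -1) ∧
      ((∀ v, f v = ![a * v 0, s * a⁻¹ * v 1]) ∨ (∀ v, f v = ![s * a⁻¹ * v 1, a * v 0])))

include hT in
/-- the case where `1` is the only unit -/
theorem fix_all_of_units_eq_one (hu : ∀ u : (ZMod q)ˣ, u = 1) (φ : MulAut ↥T) :
    ∀ x : ↥T, φ x = x := by
  have key : ∀ x : ↥T, x ≠ 1 →
      (x : (Fin 2 → ZMod q) ≃ₗ[ZMod q] (Fin 2 → ZMod q)) = ad 1 1 := by
    intro x hx
    rcases mem_cases T hT x.2 with ⟨a, b, h1, -⟩ | ⟨a, b, h1, -⟩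
    · exfalso
      apply hx
      apply Subtype.ext
      rw [h1, hu a, hu b, dg_one, Subgroup.coe_one]
    · rw [h1, hu a, hu b]
  intro x
  by_cases hx : x = 1
  · rw [hx, map_one]
  · have h1 : φ x ≠ 1 := fun h => hx ((MulEquiv.map_eq_one_iff φ).mp h)
    exact Subtype.ext ((key _ h1).trans (key _ hx).symm)

/-- the elements of determinant one -/
def detOne (T : Subgroup ((Fin 2 → ZMod q) ≃ₗ[ZMod q] (Fin 2 → ZMod q))) : Set ↥T :=
  {x | (∃ a b : (ZMod q)ˣ,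
      (x : (Fin 2 → ZMod q) ≃ₗ[ZMod q] (Fin 2 → ZMod q)) = dg a b ∧ a * b = 1) ∨
    (∃ a b : (ZMod q)ˣ,
      (x : (Fin 2 → ZMod q) ≃ₗ[ZMod q] (Fin 2 → ZMod q)) = ad a b ∧ a * b = -1)}

include hT in
theorem not_detOne {x : ↥T} (hx : x ∉ detOne T) :
    (∃ a b : (ZMod q)ˣ,
      (x : (Fin 2 → ZMod q) ≃ₗ[ZMod q] (Fin 2 → ZMod q)) = dg a b ∧ a * b = -1) ∨
    (∃ a b : (ZMod q)ˣ,
      (x : (Fin 2 → ZMod q) ≃ₗ[ZMod q] (Fin 2 → ZMod q)) = ad a b ∧ a * b = 1) := by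
  rcases mem_cases T hT x.2 with ⟨a, b, h1, h2 | h2⟩ | ⟨a, b, h1, h2 | h2⟩
  · exact absurd (Or.inl ⟨a, b, h1, h2⟩) hx
  · exact Or.inl ⟨a, b, h1, h2⟩
  · exact Or.inr ⟨a, b, h1, h2⟩
  · exact absurd (Or.inr ⟨a, b, h1, h2⟩) hx

include hT in
theorem detOne_step {x y : ↥T} (hx : x ∉ detOne T) (hy : y ∉ detOne T) : x⁻¹ * y ∈ detOne T := by
  rcases not_detOne hT hx with ⟨a, b, h1, h2⟩ | ⟨a, b, h1, h2⟩ <;>
  rcases not_detOne hT hy with ⟨c, d, h3, h4⟩ | ⟨c, d, h3, h4⟩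
  · left
    refine ⟨a⁻¹ * c, b⁻¹ * d, by rw [Subgroup.coe_mul, Subgroup.coe_inv, h1, h3, dg_inv, dg_mul_dg], ?_⟩
    rw [mul_mul_mul_comm, ← mul_inv, h2, h4, inv_neg_one, neg_mul_neg, one_mul]
  · right
    refine ⟨a⁻¹ * c, b⁻¹ * d, by rw [Subgroup.coe_mul, Subgroup.coe_inv, h1, h3, dg_inv, dg_mul_ad], ?_⟩
    rw [mul_mul_mul_comm, ← mul_inv, h2, h4, inv_neg_one, mul_one]
  · right
    refine ⟨b⁻¹ * d, a⁻¹ * c, by rw [Subgroup.coe_mul, Subgroup.coe_inv, h1, h3, ad_inv, ad_mul_dg], ?_⟩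
    rw [mul_mul_mul_comm, ← mul_inv, mul_comm b a, mul_comm d c, h2, h4, inv_one, one_mul]
  · left
    refine ⟨b⁻¹ * d, a⁻¹ * c, by rw [Subgroup.coe_mul, Subgroup.coe_inv, h1, h3, ad_inv, ad_mul_ad], ?_⟩
    rw [mul_mul_mul_comm, ← mul_inv, mul_comm b a, mul_comm d c, h2, h4, inv_one, one_mul]

include hT in
/-- the case where `1` and `-1` are the only units -/
theorem fix_all_of_units_eq_one_or (hu : ∀ u : (ZMod q)ˣ, u = 1 ∨ u = -1)
    (hne : (-1 : (ZMod q)ˣ) ≠ 1) (φ : MulAut ↥T) (r : ℕ) (hr : Odd r) (hφ : φ ^ r = 1) :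
    ∀ x : ↥T, φ x = x := by
  set c : ↥T := ⟨ad (-1) 1, ad_mem T hT (Or.inr (mul_one _))⟩ with hc
  have hc1 : (c : (Fin 2 → ZMod q) ≃ₗ[ZMod q] (Fin 2 → ZMod q)) = ad (-1) 1 := rfl
  have hc2 : ((c ^ 2 : ↥T) : (Fin 2 → ZMod q) ≃ₗ[ZMod q] (Fin 2 → ZMod q)) = dg (-1) (-1) := by
    rw [Subgroup.coe_pow, hc1, ad_sq, mul_one]
  have hc3 : ((c ^ 3 : ↥T) : (Fin 2 → ZMod q) ≃ₗ[ZMod q] (Fin 2 → ZMod q)) = ad 1 (-1) := by
    rw [pow_succ, Subgroup.coe_mul, hc2, hc1, dg_mul_ad, neg_mul_neg, mul_one, mul_one]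
  have hc4 : c ^ 4 = 1 := by
    apply Subtype.ext
    have h4 : (4 : ℕ) = 2 * 2 := rfl
    rw [h4, pow_mul, Subgroup.coe_pow, hc2, dg_pow, neg_one_sq, dg_one, Subgroup.coe_one]
  have hsq : ∀ u : (ZMod q)ˣ, u ^ 2 = 1 := by
    intro u
    rcases hu u with h | h <;> rw [h] <;> simp
  -- determinant one means a power of `c`
  have hH : ∀ x ∈ detOne T, x ∈ Subgroup.zpowers c := by
    rintro x (⟨a, b, h1, h2⟩ | ⟨a, b, h1, h2⟩)
    · rcases hu a with ha | ha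
      · refine ⟨0, ?_⟩
        apply Subtype.ext
        have hb : b = 1 := by rw [ha, one_mul] at h2; exact h2
        simp only [zpow_zero]
        rw [h1, ha, hb, dg_one, Subgroup.coe_one]
      · refine ⟨2, ?_⟩
        apply Subtype.ext
        have hb : b = -1 := by
          rw [ha, neg_one_mul] at h2
          rw [← h2, neg_neg]
        show ((c ^ (2 : ℤ) : ↥T) : (Fin 2 → ZMod q) ≃ₗ[ZMod q] (Fin 2 → ZMod q)) = _
        rw [zpow_ofNat, hc2, h1, ha, hb]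
    · rcases hu a with ha | ha
      · refine ⟨3, ?_⟩
        apply Subtype.ext
        have hb : b = -1 := by rw [ha, one_mul] at h2; exact h2
        show ((c ^ (3 : ℤ) : ↥T) : (Fin 2 → ZMod q) ≃ₗ[ZMod q] (Fin 2 → ZMod q)) = _
        rw [zpow_ofNat, hc3, h1, ha, hb]
      · refine ⟨1, ?_⟩
        apply Subtype.ext
        have hb : b = 1 := by
          rw [ha, neg_one_mul] at h2
          exact neg_injective h2
        show ((c ^ (1 : ℤ) : ↥T) : (Fin 2 → ZMod q) ≃ₗ[ZMod q] (Fin 2 → ZMod q)) = _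
        rw [zpow_one, hc1, h1, ha, hb]
  -- the image of `c`
  have hφc : φ c ∈ Subgroup.zpowers c := by
    apply hH
    have h1 : (φ c) ^ 2 ≠ 1 := by
      rw [← map_pow]
      intro h
      have h2 := (MulEquiv.map_eq_one_iff φ).mp h
      have h3 := congrArg Subtype.val h2
      rw [hc2, Subgroup.coe_one, dg_eq_one_iff] at h3
      exact hne h3.1
    by_contra hn
    apply h1
    apply Subtype.ext
    rcases not_detOne hT hn with ⟨a, b, h2, -⟩ | ⟨a, b, h2, h3⟩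
    · rw [Subgroup.coe_pow, h2, dg_pow, hsq, hsq, dg_one, Subgroup.coe_one]
    · rw [Subgroup.coe_pow, h2, ad_sq, h3, dg_one, Subgroup.coe_one]
  have hfc : φ c = c := fix_of_mem_zpowers φ r hr hφ 2 c hc4 hφc
  have hHfix : ∀ x ∈ detOne T, φ x = x := by
    intro x hx
    obtain ⟨i, hi⟩ := Subgroup.mem_zpowers_iff.mp (hH x hx)
    rw [← hi, map_zpow, hfc]
  intro x
  apply fix_of_step φ r hr hφ (detOne T) Set.univ
  · intro x hx
    obtain ⟨i, hi⟩ := Subgroup.mem_zpowers_iff.mp (hH x hx)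
    refine ⟨2, ?_⟩
    rw [← hi, ← zpow_natCast, ← zpow_mul, mul_comm, zpow_mul, zpow_natCast]
    have : (2 : ℕ) ^ 2 = 4 := by norm_num
    rw [this, hc4, one_zpow]
  · exact hHfix
  · intro x _
    exact Set.mem_univ _
  · intro x _ y _ hx hy
    exact detOne_step hT hx hy
  · exact Set.mem_univ x

end Cfsg.Agent.Helper19.AutTwo
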