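import Mathlib
import Cfsg.Agent.Helper20.Sylow
import Cfsg.Agent.Helper22.ConjCover
import Cfsg.Agent.Helper18.FocalFusion

/-!
Camina's lemma: if every `p'`-element of a finite group has a conjugacy class of size prime to
`p`, then the Sylow `p`-subgroup is normal and centralized by all `p'`-elements.
-/

set_option autoImplicit false

namespace Cfsg.Agent.Helper19

open Subgroup
open scoped Pointwise

variable {G : Type*} [Group G]

/-- A `p`-subgroup of a subgroup `H` of index prime to `p` lies in a Sylow `p`-subgroup of `G`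
contained in `H`. -/
theorem exists_sylow_between [Finite G] {p : ℕ} [Fact p.Prime] (H U : Subgroup G)
    (hH : ¬ p ∣ H.index) (hU : IsPGroup p U) (hUH : U ≤ H) :
    ∃ Q : Sylow p G, U ≤ (Q : Subgroup G) ∧ (Q : Subgroup G) ≤ H := by
  have hp : p.Prime := Fact.out
  have hU' : IsPGroup p (U.subgroupOf H) :=
    hU.comap_of_injective H.subtype H.subtype_injective
  obtain ⟨S, hS⟩ := hU'.exists_le_sylow
  have hfac : (Nat.card H).factorization p = (Nat.card G).factorization p := by
    rw [← Subgroup.card_mul_index H, Nat.factorization_mul Nat.card_pos.ne' Subgroup.index_ne_zero_of_finite]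
    simp [Nat.factorization_eq_zero_of_not_dvd hH]
  have hcard : Nat.card ((S : Subgroup H).map H.subtype) = p ^ (Nat.card G).factorization p := by
    rw [Subgroup.card_map_of_injective H.subtype_injective, Sylow.card_eq_multiplicity, hfac]
  refine ⟨Sylow.ofCard _ hcard, ?_, Subgroup.map_subtype_le _⟩
  intro u hu
  show u ∈ (S : Subgroup H).map H.subtype
  exact ⟨⟨u, hUH hu⟩, hS (Subgroup.mem_subgroupOf.mpr hu), rfl⟩

/-- Camina's lemma, first part: the Sylow `p`-subgroup is normal. -/
theorem normal_sylow_of_pprime_class [Finite G] {p : ℕ} [Fact p.Prime]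
    (h : ∀ y : G, (orderOf y).Coprime p → ¬ p ∣ (centralizer ({y} : Set G)).index)
    (P : Sylow p G) : (P : Subgroup G).Normal := by
  rw [← Subgroup.normalizer_eq_top_iff]
  by_contra hne
  obtain ⟨g, hg⟩ := Cfsg.Agent.Helper22.exists_not_mem_conj _ hne
  obtain ⟨x, y, hxy, hxg, hyg, ⟨k, hk⟩, hycop⟩ := Cfsg.Agent.Helper18.exists_pPart_decomp p g
  have hcomm : x * y = y * x := by
    obtain ⟨i, hi⟩ := Subgroup.mem_zpowers_iff.mp hxg
    obtain ⟨j, hj⟩ := Subgroup.mem_zpowers_iff.mp hyg
    rw [← hi, ← hj, ← zpow_add, ← zpow_add, add_comm]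
  have hUp : IsPGroup p (zpowers x) := by
    rw [IsPGroup.iff_card, Nat.card_zpowers]; exact ⟨k, hk⟩
  have hUD : zpowers x ≤ centralizer ({y} : Set G) := by
    rw [zpowers_le, mem_centralizer_iff]
    intro z hz
    rw [Set.mem_singleton_iff.mp hz]
    exact hcomm.symm
  obtain ⟨Q, hxQ, hQD⟩ := exists_sylow_between _ _ (h y hycop) hUp hUD
  obtain ⟨c, hc⟩ := MulAction.exists_smul_eq G P Q
  have hgN : g ∈ normalizer (((c • P : Sylow p G) : Subgroup G) : Set G) := by
    rw [hc, hxy]
    apply Subgroup.mul_mem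
    · exact le_normalizer (hxQ (mem_zpowers x))
    · apply Subgroup.centralizer_le_normalizer
      rw [mem_centralizer_iff]
      intro q hq
      exact ((mem_centralizer_iff.mp (hQD hq)) y rfl).symm
  rw [Cfsg.Agent.Helper20.mem_normalizer_smul_sylow_iff] at hgN
  apply hg c
  rw [Subgroup.mem_pointwise_smul_iff_inv_smul_mem]
  simpa [MulAut.smul_def, MulAut.conj_apply] using hgN

/-- Camina's lemma: elements of `p`-power order commute with elements of order prime to `p`. -/
theorem commute_of_pprime_class [Finite G] {p : ℕ} [Fact p.Prime]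
    (h : ∀ y : G, (orderOf y).Coprime p → ¬ p ∣ (centralizer ({y} : Set G)).index)
    (x y : G) (hx : ∃ a : ℕ, orderOf x = p ^ a) (hy : (orderOf y).Coprime p) :
    x * y = y * x := by
  obtain ⟨P⟩ : Nonempty (Sylow p G) := inferInstance
  have hPn := normal_sylow_of_pprime_class h P
  obtain ⟨a, ha⟩ := hx
  have hxP : x ∈ (P : Subgroup G) := Cfsg.Agent.Helper20.mem_normal_sylow_of_orderOf P hPn x a ha
  obtain ⟨Q, hQ⟩ := Cfsg.Agent.Helper20.exists_sylow_le_of_not_dvd_index _ (h y hy)
  haveI : Subsingleton (Sylow p G) := (Sylow.unique_of_normal P hPn).instSubsingleton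
  have hQP : Q = P := Subsingleton.elim _ _
  rw [hQP] at hQ
  exact ((mem_centralizer_iff.mp (hQ hxP)) y rfl).symm

end Cfsg.Agent.Helper19
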