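import Mathlib
import Cfsg.Agent.Helper19.Basic

set_option autoImplicit false

namespace Cfsg.Agent.Helper19

open Classical in
/-- Conjugation by `c` as an endomorphism of the subgroup `V`; it is the trivial homomorphism when
`c` does not normalize `V`. -/
noncomputable def cjHom {G : Type*} [Group G] (V : Subgroup G) (c : G) : V →* V :=
  if hc : c ∈ Subgroup.normalizer (V : Set G) then
    { toFun := fun v => ⟨c * v * c⁻¹, (Subgroup.mem_normalizer_iff.mp hc v).mp v.2⟩
      map_one' := by ext; simp
      map_mul' := fun a b => by ext; simp }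
  else 1

lemma cjHom_coe {G : Type*} [Group G] {V : Subgroup G} {c : G}
    (hc : c ∈ Subgroup.normalizer (V : Set G)) (v : V) :
    ((cjHom V c v : V) : G) = c * v * c⁻¹ := by
  unfold cjHom
  rw [dif_pos hc]
  rfl

lemma cjHom_one {G : Type*} [Group G] (V : Subgroup G) (v : V) : cjHom V 1 v = v := by
  ext
  rw [cjHom_coe (Subgroup.one_mem _)]
  simp

lemma cjHom_mul {G : Type*} [Group G] {V : Subgroup G} {c d : G}
    (hc : c ∈ Subgroup.normalizer (V : Set G)) (hd : d ∈ Subgroup.normalizer (V : Set G)) (v : V) :
    cjHom V c (cjHom V d v) = cjHom V (c * d) v := by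
  ext
  rw [cjHom_coe hc, cjHom_coe hd, cjHom_coe (Subgroup.mul_mem _ hc hd)]
  group

end Cfsg.Agent.Helper19
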