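import Mathlib

/-!
# Module core for S4407 (helper19)

Four linear maps `α β R σ` on a `ZMod 2`-module satisfying the relations of `3² : D₈`.
-/

set_option autoImplicit false

namespace Cfsg.Agent.Helper19.D8Mod

variable {M : Type*} [AddCommGroup M] [Module (ZMod 2) M]

theorem add_self_zero (m : M) : m + m = 0 := by
  have h2 : (2 : ZMod 2) = 0 := by decide
  rw [← two_smul (ZMod 2) m, h2, zero_smul]

theorem eq_of_add_eq_zero {m n : M} (h : m + n = 0) : m = n := by
  have : m + n + n = n := by rw [h, zero_add]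
  rwa [add_assoc, add_self_zero, add_zero] at this

/-- The relations. -/
structure MC (α β R σ : Module.End (ZMod 2) M) : Prop where
  a3 : ∀ m, α (α (α m)) = m
  b3 : ∀ m, β (β (β m)) = m
  ab : ∀ m, α (β m) = β (α m)
  r4 : ∀ m, R (R (R (R m))) = m
  s2 : ∀ m, σ (σ m) = m
  sr : ∀ m, σ (R m) = R (R (R (σ m)))
  ra : ∀ m, R (α m) = β (R m)
  rb : ∀ m, R (β m) = α (α (R m))
  sa : ∀ m, σ (α m) = α (σ m)
  sb : ∀ m, σ (β m) = β (β (σ m))
  irr : ∀ N : Submodule (ZMod 2) M, (∀ m ∈ N, α m ∈ N) → (∀ m ∈ N, β m ∈ N) →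
    (∀ m ∈ N, R m ∈ N) → (∀ m ∈ N, σ m ∈ N) → N = ⊥ ∨ N = ⊤

/-- fixed points of a linear map -/
def fx (f : Module.End (ZMod 2) M) : Submodule (ZMod 2) M := LinearMap.ker (f - 1)

theorem mem_fx {f : Module.End (ZMod 2) M} {m : M} : m ∈ fx f ↔ f m = m := by
  simp [fx, sub_eq_zero]

variable {α β R σ : Module.End (ZMod 2) M}

namespace MC

variable (h : MC α β R σ)
include h

theorem R_fxa {m : M} (hm : α m = m) : β (R m) = R m := by
  rw [← h.ra, hm]

theorem R_fxb {m : M} (hm : β m = m) : α (R m) = R m := by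
  have h1 : α (α (R m)) = R m := by rw [← h.rb, hm]
  calc α (R m) = α (α (α (R m))) := by rw [h1]
    _ = R m := h.a3 _

theorem s_fxa {m : M} (hm : α m = m) : α (σ m) = σ m := by
  rw [← h.sa, hm]

theorem s_fxb {m : M} (hm : β m = m) : β (σ m) = σ m := by
  have h1 : β (β (σ m)) = σ m := by rw [← h.sb, hm]
  calc β (σ m) = β (β (β (σ m))) := by rw [h1]
    _ = σ m := h.b3 _

theorem b_fxa {m : M} (hm : α m = m) : α (β m) = β m := by
  rw [h.ab, hm]

theorem a_fxb {m : M} (hm : β m = m) : β (α m) = α m := by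
  rw [← h.ab, hm]

theorem R_inj {m n : M} (hmn : R m = R n) : m = n := by
  rw [← h.r4 m, ← h.r4 n, hmn]

theorem b_inj {m n : M} (hmn : β m = β n) : m = n := by
  rw [← h.b3 m, ← h.b3 n, hmn]

end MC

namespace MC

variable (h : MC α β R σ)
include h

/-- The general sub-lemma: an invariant nonzero piece of `C(α)` is all of `C(α)`. -/
theorem subLemma (hinf : fx α ⊓ fx β = ⊥) (W : Submodule (ZMod 2) M) (hW1 : W ≤ fx α)
    (hWβ : ∀ w ∈ W, β w ∈ W) (hWσ : ∀ w ∈ W, σ w ∈ W) (hWZ : ∀ w ∈ W, R (R w) ∈ W)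
    (hne : W ≠ ⊥) : fx α ≤ W := by
  have hfa : ∀ w ∈ W, α w = w := fun w hw => mem_fx.1 (hW1 hw)
  set N : Submodule (ZMod 2) M := W ⊔ W.map R with hN
  have hWN : W ≤ N := le_sup_left
  have hRN : ∀ w ∈ W, R w ∈ N := fun w hw =>
    (le_sup_right : W.map R ≤ N) (Submodule.mem_map_of_mem hw)
  -- invariance helper
  have key : ∀ f : Module.End (ZMod 2) M, (∀ w ∈ W, f w ∈ N) → (∀ w ∈ W, f (R w) ∈ N) →
      ∀ m ∈ N, f m ∈ N := by
    intro f h1 h2 m hm
    obtain ⟨y, hy, z, hz, rfl⟩ := Submodule.mem_sup.1 hm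
    obtain ⟨w, hw, rfl⟩ := Submodule.mem_map.1 hz
    rw [map_add]
    exact N.add_mem (h1 y hy) (h2 w hw)
  have hNα : ∀ m ∈ N, α m ∈ N := by
    apply key
    · intro w hw; rw [hfa w hw]; exact hWN hw
    · intro w hw
      have : α (R w) = R (β (β w)) := by
        rw [h.rb, h.rb, h.a3]
      rw [this]
      exact hRN _ (hWβ _ (hWβ _ hw))
  have hNβ : ∀ m ∈ N, β m ∈ N := by
    apply key
    · intro w hw; exact hWN (hWβ w hw)
    · intro w hw
      rw [← h.ra, hfa w hw]; exact hRN w hw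
  have hNR : ∀ m ∈ N, R m ∈ N := by
    apply key
    · intro w hw; exact hRN w hw
    · intro w hw; exact hWN (hWZ w hw)
  have hNσ : ∀ m ∈ N, σ m ∈ N := by
    apply key
    · intro w hw; exact hWN (hWσ w hw)
    · intro w hw
      rw [h.sr]
      exact hRN _ (hWZ _ (hWσ w hw))
  have hNtop : N = ⊤ := by
    rcases h.irr N hNα hNβ hNR hNσ with h0 | h1
    · exfalso; apply hne
      rw [eq_bot_iff, ← h0]; exact hWN
    · exact h1
  intro m hm
  have hmN : m ∈ N := by rw [hNtop]; trivial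
  obtain ⟨y, hy, z, hz, hyz⟩ := Submodule.mem_sup.1 hmN
  obtain ⟨w, hw, rfl⟩ := Submodule.mem_map.1 hz
  have hRw1 : R w ∈ fx α := by
    have : R w = m - y := by rw [← hyz]; abel
    rw [this]; exact (fx α).sub_mem hm (hW1 hy)
  have hRw2 : R w ∈ fx β := mem_fx.2 (h.R_fxa (hfa w hw))
  have : R w ∈ fx α ⊓ fx β := ⟨hRw1, hRw2⟩
  rw [hinf, Submodule.mem_bot] at this
  rw [this, add_zero] at hyz
  rw [← hyz]; exact hy

end MC

theorem zmod2_cases (c : ZMod 2) : c = 0 ∨ c = 1 := by
  revert c; decide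

/-- an involution on a nonzero invariant submodule of a `ZMod 2`-module has a nonzero fixed point -/
theorem exists_fixed (P : Submodule (ZMod 2) M) (hP : P ≠ ⊥) (f : Module.End (ZMod 2) M)
    (hf : ∀ m ∈ P, f m ∈ P) (hff : ∀ m ∈ P, f (f m) = m) :
    ∃ v ∈ P, v ≠ 0 ∧ f v = v := by
  obtain ⟨m, hm, hm0⟩ := Submodule.exists_mem_ne_zero_of_ne_bot hP
  by_cases hfm : f m = m
  · exact ⟨m, hm, hm0, hfm⟩
  · refine ⟨m + f m, P.add_mem hm (hf m hm), ?_, ?_⟩
    · intro h0
      exact hfm (eq_of_add_eq_zero h0).symm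
    · rw [map_add, hff m hm, add_comm]

theorem span_pair_inv (f : Module.End (ZMod 2) M) (v u : M)
    (hv : f v ∈ Submodule.span (ZMod 2) {v, u}) (hu : f u ∈ Submodule.span (ZMod 2) {v, u}) :
    ∀ w ∈ Submodule.span (ZMod 2) {v, u}, f w ∈ Submodule.span (ZMod 2) {v, u} := by
  intro w hw
  obtain ⟨c, d, rfl⟩ := Submodule.mem_span_pair.1 hw
  rw [map_add, map_smul, map_smul]
  exact Submodule.add_mem _ (Submodule.smul_mem _ _ hv) (Submodule.smul_mem _ _ hu)

namespace MC

variable (h : MC α β R σ)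
include h

theorem fxa_ne_bot [Nontrivial M] (hsup : fx α ⊔ fx β = ⊤) : fx α ≠ ⊥ := by
  intro h0
  have hb : fx β = ⊥ := by
    rw [eq_bot_iff]
    intro m hm
    have h1 : R m ∈ fx α := mem_fx.2 (h.R_fxb (mem_fx.1 hm))
    rw [h0, Submodule.mem_bot] at h1
    have : m = 0 := h.R_inj (by rw [h1, map_zero])
    rw [this]; exact Submodule.zero_mem _
  rw [h0, hb, bot_sup_eq] at hsup
  obtain ⟨x, hx⟩ := exists_ne (0 : M)
  have : x ∈ (⊥ : Submodule (ZMod 2) M) := by rw [hsup]; trivial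
  exact hx ((Submodule.mem_bot _).1 this)

theorem ZZ_fxa {m : M} (hm : α m = m) : α (R (R m)) = R (R m) :=
  h.R_fxb (h.R_fxa hm)

theorem sRRs (x : M) : σ (R (R (σ x))) = R (R x) := by
  rw [h.sr, h.sr, h.s2, h.r4]

/-- `τ = σ R R` acts trivially on `C(α)`. -/
theorem tau_trivial [Nontrivial M] (hinf : fx α ⊓ fx β = ⊥) (hsup : fx α ⊔ fx β = ⊤) :
    ∀ m ∈ fx α, σ (R (R m)) = m := by
  have hne := h.fxa_ne_bot hsup
  set τ : Module.End (ZMod 2) M := σ * (R * R) with hτ
  have hτa : ∀ m, τ m = σ (R (R m)) := fun m => rfl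
  have hττ : ∀ m, τ (τ m) = m := by
    intro m; rw [hτa, hτa, h.sRRs, h.r4]
  have hτP : ∀ m ∈ fx α, τ m ∈ fx α := by
    intro m hm
    rw [hτa]
    exact mem_fx.2 (h.s_fxa (h.ZZ_fxa (mem_fx.1 hm)))
  set W : Submodule (ZMod 2) M := fx α ⊓ fx τ with hW
  have hWne : W ≠ ⊥ := by
    obtain ⟨v, hv, hv0, hfv⟩ := exists_fixed (fx α) hne τ hτP (fun m _ => hττ m)
    intro h0
    have : v ∈ W := ⟨hv, mem_fx.2 hfv⟩
    rw [h0, Submodule.mem_bot] at this
    exact hv0 this
  have key : fx α ≤ W := by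
    apply h.subLemma hinf W inf_le_left
    · intro w hw
      have hw1 : α w = w := mem_fx.1 hw.1
      have hw2 : σ (R (R w)) = w := mem_fx.1 hw.2
      refine ⟨mem_fx.2 (h.b_fxa hw1), mem_fx.2 ?_⟩
      rw [hτa, h.rb, h.ra, h.ra, h.sb, h.sb, h.b3, hw2]
    · intro w hw
      have hw1 : α w = w := mem_fx.1 hw.1
      have hw2 : σ (R (R w)) = w := mem_fx.1 hw.2
      have e2 : σ w = R (R w) := by
        conv_lhs => rw [← hw2]
        rw [h.s2]
      refine ⟨mem_fx.2 (h.s_fxa hw1), mem_fx.2 ?_⟩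
      rw [hτa, h.sRRs, e2]
    · intro w hw
      have hw1 : α w = w := mem_fx.1 hw.1
      have hw2 : σ (R (R w)) = w := mem_fx.1 hw.2
      have e2 : σ w = R (R w) := by
        conv_lhs => rw [← hw2]
        rw [h.s2]
      refine ⟨mem_fx.2 (h.ZZ_fxa hw1), mem_fx.2 ?_⟩
      rw [hτa, h.r4, e2]
    · exact hWne
  intro m hm
  exact mem_fx.1 (key hm).2

end MC

theorem card_span_pair [Finite M] (v u : M)
    (hli : ∀ c d : ZMod 2, c • v + d • u = 0 → c = 0 ∧ d = 0) :
    Nat.card ↥(Submodule.span (ZMod 2) {v, u}) = 4 := by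
  have hl : LinearIndependent (ZMod 2) ![v, u] := LinearIndependent.pair_iff.2 hli
  have h1 := finrank_span_eq_card hl
  have h2 : Set.range ![v, u] = {v, u} := by
    simp [Matrix.range_cons]
    exact Set.pair_comm u v
  rw [h2] at h1
  rw [Module.natCard_eq_pow_finrank (K := ZMod 2), h1]
  simp

theorem card_span_single [Finite M] (v : M) (hv : v ≠ 0) :
    Nat.card ↥(Submodule.span (ZMod 2) {v}) = 2 := by
  rw [Module.natCard_eq_pow_finrank (K := ZMod 2), finrank_span_singleton hv]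
  simp

theorem smul_eq_zero_z2 {c : ZMod 2} {v : M} (hv : v ≠ 0) (hc : c • v = 0) : c = 0 := by
  rcases zmod2_cases c with rfl | rfl
  · rfl
  · rw [one_smul] at hc; exact absurd hc hv

namespace MC

variable (h : MC α β R σ)
include h

theorem core [Nontrivial M] [Finite M] (hinf : fx α ⊓ fx β = ⊥) (hsup : fx α ⊔ fx β = ⊤) :
    Nat.card M = 16 ∧ Nat.card ↥(fx σ ⊓ fx (R * R)) = 4 ∧
      Nat.card ↥(fx (R * σ) ⊓ fx (R * R)) = 2 := by
  have hne := h.fxa_ne_bot hsup
  have htau := h.tau_trivial hinf hsup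
  -- `R R = σ` on `C(α)`
  have hZs : ∀ u ∈ fx α, R (R u) = σ u := by
    intro u hu
    have := htau u hu
    calc R (R u) = σ (σ (R (R u))) := (h.s2 _).symm
      _ = σ u := by rw [this]
  have hsP : ∀ u ∈ fx α, σ u ∈ fx α := fun u hu => mem_fx.2 (h.s_fxa (mem_fx.1 hu))
  -- `σ` fixes `R w`
  have hsR : ∀ w ∈ fx α, σ (R w) = R w := by
    intro w hw
    rw [h.sr, hZs _ (hsP w hw), h.s2]
  have hinf0 : ∀ x, x ∈ fx α → x ∈ fx β → x = 0 := by
    intro x h1 h2
    have : x ∈ fx α ⊓ fx β := ⟨h1, h2⟩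
    rwa [hinf, Submodule.mem_bot] at this
  have hRP : ∀ w ∈ fx α, R w ∈ fx β := fun w hw => mem_fx.2 (h.R_fxa (mem_fx.1 hw))
  have hRQ : ∀ w ∈ fx β, R w ∈ fx α := fun w hw => mem_fx.2 (h.R_fxb (mem_fx.1 hw))
  -- decomposition
  have D1 : ∀ m : M, ∃ u ∈ fx α, ∃ w ∈ fx α, m = u + R w := by
    intro m
    have hm : m ∈ fx α ⊔ fx β := by rw [hsup]; trivial
    obtain ⟨y, hy, z, hz, rfl⟩ := Submodule.mem_sup.1 hm
    refine ⟨y, hy, R (R (R z)), hRQ _ (hRP _ (hRQ _ hz)), ?_⟩
    rw [h.r4]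
  have D2 : ∀ u ∈ fx α, ∀ w ∈ fx α, ∀ u' ∈ fx α, ∀ w' ∈ fx α, u + R w = u' + R w' →
      u = u' ∧ w = w' := by
    intro u hu w hw u' hu' w' hw' he
    have h1 : u - u' = R (w' - w) := by
      rw [map_sub]
      have : u = u' + R w' - R w := by rw [← he]; abel
      rw [this]; abel
    have h2 : u - u' = 0 := by
      apply hinf0
      · exact (fx α).sub_mem hu hu'
      · rw [h1]; exact hRP _ ((fx α).sub_mem hw' hw)
    have h3 : R (w' - w) = 0 := by rw [← h1, h2]
    have h4 : w' - w = 0 := h.R_inj (by rw [h3, map_zero])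
    exact ⟨sub_eq_zero.1 h2, (sub_eq_zero.1 h4).symm⟩
  -- the vector `v`
  obtain ⟨v, hv, hv0, hsv⟩ := exists_fixed (fx α) hne σ hsP (fun m _ => h.s2 m)
  have hav : α v = v := mem_fx.1 hv
  have hbv : β v ∈ fx α := mem_fx.2 (h.b_fxa hav)
  have hbbv : β (β v) = v + β v := by
    have h1 : v + β v + β (β v) ∈ fx α :=
      (fx α).add_mem ((fx α).add_mem hv hbv) (mem_fx.2 (h.b_fxa (mem_fx.1 hbv)))
    have h2 : v + β v + β (β v) ∈ fx β := by
      apply mem_fx.2
      rw [map_add, map_add, h.b3]; abel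
    exact (eq_of_add_eq_zero (hinf0 _ h1 h2)).symm
  have hsbv : σ (β v) = v + β v := by
    rw [h.sb, hsv, hbbv]
  have hbv_ne : β v ≠ v := by
    intro hh
    exact hv0 (hinf0 v hv (mem_fx.2 hh))
  have hbv0 : β v ≠ 0 := by
    intro hh
    exact hv0 (h.b_inj (by rw [hh, map_zero]))
  -- `C(α) = span {v, β v}`
  have hspan : fx α = Submodule.span (ZMod 2) {v, β v} := by
    apply le_antisymm
    · apply h.subLemma hinf
      · rw [Submodule.span_le]
        intro x hx
        rcases hx with rfl | rfl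
        · exact hv
        · exact hbv
      · apply span_pair_inv
        · exact Submodule.subset_span (by simp)
        · rw [hbbv]
          exact Submodule.add_mem _ (Submodule.subset_span (by simp))
            (Submodule.subset_span (by simp))
      · apply span_pair_inv
        · rw [hsv]; exact Submodule.subset_span (by simp)
        · rw [hsbv]
          exact Submodule.add_mem _ (Submodule.subset_span (by simp))
            (Submodule.subset_span (by simp))
      · have hZ : ∀ w ∈ Submodule.span (ZMod 2) {v, β v},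
            (R * R) w ∈ Submodule.span (ZMod 2) {v, β v} := by
          apply span_pair_inv
          · show R (R v) ∈ _
            rw [hZs v hv, hsv]; exact Submodule.subset_span (by simp)
          · show R (R (β v)) ∈ _
            rw [hZs _ hbv, hsbv]
            exact Submodule.add_mem _ (Submodule.subset_span (by simp))
              (Submodule.subset_span (by simp))
        exact hZ
      · intro h0
        have : v ∈ Submodule.span (ZMod 2) {v, β v} := Submodule.subset_span (by simp)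
        rw [h0, Submodule.mem_bot] at this
        exact hv0 this
    · rw [Submodule.span_le]
      intro x hx
      rcases hx with rfl | rfl
      · exact hv
      · exact hbv
  have E : ∀ u ∈ fx α, ∃ c d : ZMod 2, u = c • v + d • β v := by
    intro u hu
    rw [hspan] at hu
    obtain ⟨c, d, hcd⟩ := Submodule.mem_span_pair.1 hu
    exact ⟨c, d, hcd.symm⟩
  have G : ∀ u ∈ fx α, σ u = u → ∃ c : ZMod 2, u = c • v := by
    intro u hu hsu
    obtain ⟨c, d, rfl⟩ := E u hu
    refine ⟨c, ?_⟩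
    rw [map_add, map_smul, map_smul, hsv, hsbv, smul_add] at hsu
    have : d • v = 0 := by
      have h5 : c • v + (d • v + d • β v) = c • v + d • β v + d • v := by abel
      rw [h5] at hsu
      exact add_eq_left.1 hsu
    rw [smul_eq_zero_z2 hv0 this, zero_smul, add_zero]
  have hRv_ne : v + R v ≠ 0 := by
    intro hh
    have h1 : v = R v := eq_of_add_eq_zero hh
    apply hv0
    apply hinf0 v hv
    rw [h1]; exact hRP v hv
  -- (i) card M
  have hcardP : Nat.card ↥(fx α) = 4 := by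
    rw [hspan]
    apply card_span_pair
    intro c d hcd
    rcases zmod2_cases d with rfl | rfl
    · rw [zero_smul, add_zero] at hcd
      exact ⟨smul_eq_zero_z2 hv0 hcd, rfl⟩
    · exfalso
      rw [one_smul] at hcd
      rcases zmod2_cases c with rfl | rfl
      · rw [zero_smul, zero_add] at hcd; exact hbv0 hcd
      · rw [one_smul] at hcd; exact hbv_ne (eq_of_add_eq_zero hcd).symm
  have hcardM : Nat.card M = 16 := by
    have hbij : Function.Bijective (fun p : ↥(fx α) × ↥(fx α) => (p.1 : M) + R (p.2 : M)) := by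
      constructor
      · rintro ⟨⟨u, hu⟩, ⟨w, hw⟩⟩ ⟨⟨u', hu'⟩, ⟨w', hw'⟩⟩ he
        obtain ⟨e1, e2⟩ := D2 u hu w hw u' hu' w' hw' he
        subst e1; subst e2; rfl
      · intro m
        obtain ⟨u, hu, w, hw, rfl⟩ := D1 m
        exact ⟨⟨⟨u, hu⟩, ⟨w, hw⟩⟩, rfl⟩
    rw [← Nat.card_congr (Equiv.ofBijective _ hbij), Nat.card_prod, hcardP]
  refine ⟨hcardM, ?_, ?_⟩
  · -- (ii)
    have hF : fx σ ⊓ fx (R * R) = Submodule.span (ZMod 2) {v, R v} := by
      apply le_antisymm
      · intro m hm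
        have hm1 : σ m = m := mem_fx.1 hm.1
        have hm2 : R (R m) = m := mem_fx.1 hm.2
        obtain ⟨u, hu, w, hw, rfl⟩ := D1 m
        rw [map_add, hsR w hw] at hm1
        obtain ⟨e1, -⟩ := D2 _ (hsP u hu) w hw u hu w hw hm1
        have hm2' : σ u + R (σ w) = u + R w := by
          rw [← hZs u hu, ← hZs w hw]
          rw [map_add, map_add] at hm2
          exact hm2
        obtain ⟨-, e2⟩ := D2 _ (hsP u hu) _ (hsP w hw) u hu w hw hm2'
        obtain ⟨c, rfl⟩ := G u hu e1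
        obtain ⟨d, rfl⟩ := G w hw e2
        rw [map_smul]
        exact Submodule.mem_span_pair.2 ⟨c, d, rfl⟩
      · rw [Submodule.span_le]
        intro x hx
        rcases hx with rfl | rfl
        · refine ⟨mem_fx.2 hsv, mem_fx.2 ?_⟩
          show R (R x) = x
          rw [hZs x hv, hsv]
        · refine ⟨mem_fx.2 (hsR v hv), mem_fx.2 ?_⟩
          show R (R (R v)) = R v
          rw [hZs v hv, hsv]
    rw [hF]
    apply card_span_pair
    intro c d hcd
    have h0 : c • v + R (d • v) = 0 + R 0 := by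
      rw [map_smul, hcd, map_zero, add_zero]
    obtain ⟨e1, e2⟩ := D2 _ ((fx α).smul_mem c hv) _ ((fx α).smul_mem d hv) 0 (fx α).zero_mem
      0 (fx α).zero_mem h0
    exact ⟨smul_eq_zero_z2 hv0 e1, smul_eq_zero_z2 hv0 e2⟩
  · -- (iii)
    have hF : fx (R * σ) ⊓ fx (R * R) = Submodule.span (ZMod 2) {v + R v} := by
      apply le_antisymm
      · intro m hm
        have hm1 : R (σ m) = m := mem_fx.1 hm.1
        have hm2 : R (R m) = m := mem_fx.1 hm.2
        obtain ⟨u, hu, w, hw, rfl⟩ := D1 m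
        have hm2' : σ u + R (σ w) = u + R w := by
          rw [← hZs u hu, ← hZs w hw]
          rw [map_add, map_add] at hm2
          exact hm2
        obtain ⟨e1, e2⟩ := D2 _ (hsP u hu) _ (hsP w hw) u hu w hw hm2'
        rw [map_add, map_add, hsR w hw, e1, hZs w hw, e2, add_comm] at hm1
        obtain ⟨e3, -⟩ := D2 w hw u hu u hu w hw hm1
        obtain ⟨c, rfl⟩ := G u hu e1
        rw [e3, map_smul, ← smul_add]
        exact Submodule.mem_span_singleton.2 ⟨c, rfl⟩
      · rw [Submodule.span_le]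
        intro x hx
        rcases hx with rfl
        refine ⟨mem_fx.2 ?_, mem_fx.2 ?_⟩
        · show R (σ (v + R v)) = v + R v
          rw [map_add, map_add, hsv, hsR v hv, hZs v hv, hsv, add_comm]
        · show R (R (v + R v)) = v + R v
          rw [map_add, map_add, hZs v hv, hsv]
    rw [hF]
    exact card_span_single _ hRv_ne

end MC

end Cfsg.Agent.Helper19.D8Mod
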