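import Cfsg.Agent.Helper19.D8ModA

/-!
# Module core for S4407, part B (helper19): the two cases.
-/

set_option autoImplicit false
set_option linter.unusedSimpArgs false

namespace Cfsg.Agent.Helper19.D8Mod

variable {M : Type*} [AddCommGroup M] [Module (ZMod 2) M]
variable {α β R σ : Module.End (ZMod 2) M}

namespace MC

variable (h : MC α β R σ)
include h

/-- the twisted tuple again satisfies the relations -/
theorem twist : MC (α * β) (β * (α * α)) R (R * σ) where
  a3 := by
    intro m
    simp only [Module.End.mul_apply, h.ab, h.a3, h.b3]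
  b3 := by
    intro m
    simp only [Module.End.mul_apply, h.ab, h.a3, h.b3]
  ab := by
    intro m
    simp only [Module.End.mul_apply, h.ab, h.a3, h.b3]
  r4 := h.r4
  s2 := by
    intro m
    simp only [Module.End.mul_apply, h.sr, h.s2, h.r4]
  sr := by
    intro m
    simp only [Module.End.mul_apply, h.sr, h.s2, h.r4]
  ra := by
    intro m
    simp only [Module.End.mul_apply, h.ra, h.rb, h.ab, h.a3, h.b3]
  rb := by
    intro m
    simp only [Module.End.mul_apply, h.ra, h.rb, h.ab, h.a3, h.b3]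
  sa := by
    intro m
    simp only [Module.End.mul_apply, h.sa, h.sb, h.sr, h.ra, h.rb, h.ab, h.a3, h.b3, h.r4, h.s2]
  sb := by
    intro m
    simp only [Module.End.mul_apply, h.sa, h.sb, h.sr, h.ra, h.rb, h.ab, h.a3, h.b3, h.r4, h.s2]
  irr := by
    intro N h1 h2 h3 h4
    have hσ : ∀ m ∈ N, σ m ∈ N := by
      intro m hm
      have : σ m = R (R (R ((R * σ) m))) := by
        simp only [Module.End.mul_apply, h.r4]
      rw [this]
      exact h3 _ (h3 _ (h3 _ (h4 m hm)))
    have hββ : ∀ m ∈ N, β (β m) ∈ N := by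
      intro m hm
      have : β (β m) = (α * β) ((β * (α * α)) m) := by
        simp only [Module.End.mul_apply, h.ab, h.a3, h.b3]
      rw [this]
      exact h1 _ (h2 m hm)
    have hβ : ∀ m ∈ N, β m ∈ N := by
      intro m hm
      have : β m = β (β (β (β m))) := by rw [h.b3]
      rw [this]
      exact hββ _ (hββ m hm)
    have hα : ∀ m ∈ N, α m ∈ N := by
      intro m hm
      have : α m = (α * β) (β (β m)) := by
        simp only [Module.End.mul_apply, h.b3]
      rw [this]
      exact h1 _ (hββ m hm)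
    exact h.irr N hα hβ h3 hσ

end MC

namespace MC

variable (h : MC α β R σ)
include h

theorem sRR (x : M) : σ (R (R x)) = R (R (σ x)) := by
  rw [h.sr, h.sr, h.r4]

theorem main [Nontrivial M] [Finite M] (hα : ∃ m, α m ≠ m) :
    Nat.card M = 16 ∧
    ((Nat.card ↥(fx σ ⊓ fx (R * R)) = 4 ∧ Nat.card ↥(fx (R * σ) ⊓ fx (R * R)) = 2) ∨
     (Nat.card ↥(fx σ ⊓ fx (R * R)) = 2 ∧ Nat.card ↥(fx (R * σ) ⊓ fx (R * R)) = 4)) := by
  -- `C(α) ⊓ C(β) = ⊥`
  have hinf : fx α ⊓ fx β = ⊥ := by
    have := h.irr (fx α ⊓ fx β) ?_ ?_ ?_ ?_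
    · rcases this with h0 | h1
      · exact h0
      · exfalso
        obtain ⟨m, hm⟩ := hα
        have : m ∈ fx α ⊓ fx β := by rw [h1]; trivial
        exact hm (mem_fx.1 this.1)
    · intro m hm
      rw [mem_fx.1 hm.1]; exact hm
    · intro m hm
      rw [mem_fx.1 hm.2]; exact hm
    · intro m hm
      exact ⟨mem_fx.2 (h.R_fxb (mem_fx.1 hm.2)), mem_fx.2 (h.R_fxa (mem_fx.1 hm.1))⟩
    · intro m hm
      exact ⟨mem_fx.2 (h.s_fxa (mem_fx.1 hm.1)), mem_fx.2 (h.s_fxb (mem_fx.1 hm.2))⟩
  -- `C(α) ⊔ C(β)` is invariant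
  have hsupinv : fx α ⊔ fx β = ⊥ ∨ fx α ⊔ fx β = ⊤ := by
    have key : ∀ f : Module.End (ZMod 2) M, (∀ w ∈ fx α, f w ∈ fx α ⊔ fx β) →
        (∀ w ∈ fx β, f w ∈ fx α ⊔ fx β) → ∀ m ∈ fx α ⊔ fx β, f m ∈ fx α ⊔ fx β := by
      intro f h1 h2 m hm
      obtain ⟨y, hy, z, hz, rfl⟩ := Submodule.mem_sup.1 hm
      rw [map_add]
      exact Submodule.add_mem _ (h1 y hy) (h2 z hz)
    have hl : fx α ≤ fx α ⊔ fx β := le_sup_left
    have hr : fx β ≤ fx α ⊔ fx β := le_sup_right
    apply h.irr
    · apply key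
      · intro w hw; rw [mem_fx.1 hw]; exact hl hw
      · intro w hw; exact hr (mem_fx.2 (h.a_fxb (mem_fx.1 hw)))
    · apply key
      · intro w hw; exact hl (mem_fx.2 (h.b_fxa (mem_fx.1 hw)))
      · intro w hw; rw [mem_fx.1 hw]; exact hr hw
    · apply key
      · intro w hw; exact hr (mem_fx.2 (h.R_fxa (mem_fx.1 hw)))
      · intro w hw; exact hl (mem_fx.2 (h.R_fxb (mem_fx.1 hw)))
    · apply key
      · intro w hw; exact hl (mem_fx.2 (h.s_fxa (mem_fx.1 hw)))
      · intro w hw; exact hr (mem_fx.2 (h.s_fxb (mem_fx.1 hw)))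
  rcases hsupinv with hbot | htop
  · -- second case: twist
    have ha0 : fx α = ⊥ := by
      rw [eq_bot_iff, ← hbot]; exact le_sup_left
    have hb0 : fx β = ⊥ := by
      rw [eq_bot_iff, ← hbot]; exact le_sup_right
    have p1 : ∀ m, α (α m) = m + α m := by
      intro m
      have : m + α m + α (α m) ∈ fx α := by
        apply mem_fx.2
        rw [map_add, map_add, h.a3]; abel
      rw [ha0, Submodule.mem_bot] at this
      exact (eq_of_add_eq_zero this).symm
    have p2 : ∀ m, β (β m) = m + β m := by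
      intro m
      have : m + β m + β (β m) ∈ fx β := by
        apply mem_fx.2
        rw [map_add, map_add, h.b3]; abel
      rw [hb0, Submodule.mem_bot] at this
      exact (eq_of_add_eq_zero this).symm
    have ht := h.twist
    have hinf' : fx (α * β) ⊓ fx (β * (α * α)) = ⊥ := by
      rw [eq_bot_iff]
      intro m hm
      have h1 : α (β m) = m := mem_fx.1 hm.1
      have h2 : β (α (α m)) = m := mem_fx.1 hm.2
      have h3 : β (β m) = m := by
        have : β (β m) = (α * β) ((β * (α * α)) m) := by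
          simp only [Module.End.mul_apply, h.ab, h.a3, h.b3]
        rw [this, Module.End.mul_apply, Module.End.mul_apply, Module.End.mul_apply, h2, h1]
      have h4 : β m = m := by
        calc β m = β (β (β m)) := by rw [h3]
          _ = m := h.b3 m
      have h5 : α m = m := by rw [h4] at h1; exact h1
      have : m ∈ fx α ⊓ fx β := ⟨mem_fx.2 h5, mem_fx.2 h4⟩
      rw [hinf] at this
      exact this
    have hsup' : fx (α * β) ⊔ fx (β * (α * α)) = ⊤ := by
      rw [eq_top_iff]
      intro m _
      have hx : m + (α * β) m + (α * β) ((α * β) m) ∈ fx (α * β) := by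
        apply mem_fx.2
        rw [map_add, map_add, ht.a3]; abel
      have hy : m + (β * (α * α)) m + (β * (α * α)) ((β * (α * α)) m) ∈ fx (β * (α * α)) := by
        apply mem_fx.2
        rw [map_add, map_add, ht.b3]; abel
      have hm : m = (m + (α * β) m + (α * β) ((α * β) m)) +
          (m + (β * (α * α)) m + (β * (α * α)) ((β * (α * α)) m)) := by
        simp only [Module.End.mul_apply, h.ab, p1, p2, map_add]
        have key : ∀ x y : M, (1 : ZMod 2) • x = (1 : ZMod 2) • y → x = y := by
          intro x y hxy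
          rwa [one_smul, one_smul] at hxy
        apply key
        match_scalars <;> decide
      rw [hm]
      exact Submodule.add_mem _ (Submodule.mem_sup_left hx) (Submodule.mem_sup_right hy)
    obtain ⟨c1, c2, c3⟩ := ht.core hinf' hsup'
    refine ⟨c1, Or.inr ⟨?_, c2⟩⟩
    have : fx σ ⊓ fx (R * R) = fx (R * (R * σ)) ⊓ fx (R * R) := by
      ext m
      constructor
      · rintro ⟨h1, h2⟩
        refine ⟨mem_fx.2 ?_, h2⟩
        have h1' : σ m = m := mem_fx.1 h1
        have h2' : R (R m) = m := mem_fx.1 h2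
        show R (R (σ m)) = m
        rw [h1', h2']
      · rintro ⟨h1, h2⟩
        refine ⟨mem_fx.2 ?_, h2⟩
        have h1' : R (R (σ m)) = m := mem_fx.1 h1
        have h2' : R (R m) = m := mem_fx.1 h2
        rw [← h.sRR, h2'] at h1'
        exact h1'
    rw [this]; exact c3
  · obtain ⟨c1, c2, c3⟩ := h.core hinf htop
    exact ⟨c1, Or.inl ⟨c2, c3⟩⟩

end MC

end Cfsg.Agent.Helper19.D8Mod
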