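import Mathlib

/-!
# Facts about `DihedralGroup 4` for S4407 (helper19)
-/

set_option autoImplicit false

namespace Cfsg.Agent.Helper19.D8Mod

open DihedralGroup

theorem d4_gen : ∀ i : ZMod 4, ∀ d : DihedralGroup 4, ∃ k : Fin 4, ∃ l : Fin 2,
    d = r 1 ^ (k:ℕ) * sr i ^ (l:ℕ) := by decide

theorem d4_rel_sr : ∀ i : ZMod 4, (sr i : DihedralGroup 4) * r 1 = r 1 * r 1 * r 1 * sr i := by
  decide

theorem d4_rel_ss : ∀ i : ZMod 4, (sr i : DihedralGroup 4) * sr i = 1 := by decide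

theorem d4_rel_r4 : (r 1 : DihedralGroup 4) * r 1 * r 1 * r 1 = 1 := by decide

theorem d4_rr : (r 1 : DihedralGroup 4) * r 1 = r 2 := by decide

theorem d4_zz : (r 2 : DihedralGroup 4) * r 2 = 1 := by decide

theorem d4_sz : ∀ i : ZMod 4, (sr i : DihedralGroup 4) * r 2 = r 2 * sr i := by decide

theorem d4_sz' : ∀ i : ZMod 4, (sr i : DihedralGroup 4) * r 2 = sr (i + 2) := by decide

theorem d4_rs : ∀ i : ZMod 4, (r 1 : DihedralGroup 4) * sr i = sr (i - 1) := by decide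

theorem d4_s_ne : ∀ i : ZMod 4, (sr i : DihedralGroup 4) ≠ 1 := by decide

theorem d4_z_ne : (r 2 : DihedralGroup 4) ≠ 1 := by decide

theorem d4_r_ne : (r 1 : DihedralGroup 4) ≠ 1 := by decide

theorem d4_sz_ne : ∀ i : ZMod 4, (sr i : DihedralGroup 4) * r 2 ≠ 1 := by decide

theorem d4_s0s1 : (sr 0 : DihedralGroup 4) * sr 1 = r 1 := by decide

theorem d4_D1 : ∀ x y : DihedralGroup 4, x * x = 1 → y * y = 1 → (x * y) * (x * y) = 1 →
    x ≠ 1 → y ≠ 1 → x ≠ y → (r 2 = x ∨ r 2 = y ∨ r 2 = x * y) := by decide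

theorem d4_D2 : ∀ x : DihedralGroup 4, x * x = 1 → x ≠ 1 → x ≠ r 2 →
    ∃ i : ZMod 4, x = sr i := by decide

/-- membership predicate of the four-group `K j` -/
def Kmem (j : ZMod 4) (x : DihedralGroup 4) : Prop :=
  x = 1 ∨ x = r 2 ∨ x = sr j ∨ x = sr (j + 2)

instance (j : ZMod 4) (x : DihedralGroup 4) : Decidable (Kmem j x) := by
  unfold Kmem; infer_instance

theorem Kmem_mul : ∀ j : ZMod 4, ∀ a b : DihedralGroup 4, Kmem j a → Kmem j b → Kmem j (a * b) := by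
  decide

theorem Kmem_inv : ∀ j : ZMod 4, ∀ a : DihedralGroup 4, Kmem j a → Kmem j a⁻¹ := by
  decide

theorem Kmem_sq : ∀ j : ZMod 4, ∀ a : DihedralGroup 4, Kmem j a → a * a = 1 := by
  decide

theorem Kmem_01 : ∀ j : ZMod 4, (∀ x, Kmem j x ↔ Kmem 0 x) ∨ (∀ x, Kmem j x ↔ Kmem 1 x) := by
  decide

/-- the four-group `{1, r², sr j, sr (j+2)}` -/
def K (j : ZMod 4) : Subgroup (DihedralGroup 4) where
  carrier := {x | Kmem j x}
  mul_mem' := fun {a b} ha hb => Kmem_mul j a b ha hb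
  one_mem' := Or.inl rfl
  inv_mem' := fun {a} ha => Kmem_inv j a ha

theorem mem_K {j : ZMod 4} {x : DihedralGroup 4} : x ∈ K j ↔ Kmem j x := Iff.rfl

theorem K_01 (j : ZMod 4) : K j = K 0 ∨ K j = K 1 := by
  rcases Kmem_01 j with h | h
  · left; ext x; exact h x
  · right; ext x; exact h x

theorem card_K_aux : ∀ j : ZMod 4,
    ({1, r 2, sr j, sr (j + 2)} : Finset (DihedralGroup 4)).card = 4 := by decide

theorem card_K : ∀ j : ZMod 4, Nat.card ↥(K j) = 4 := by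
  intro j
  have h1 : ((K j : Subgroup (DihedralGroup 4)) : Set (DihedralGroup 4)) =
      (({1, r 2, sr j, sr (j + 2)} : Finset (DihedralGroup 4)) : Set (DihedralGroup 4)) := by
    ext x
    simp [K, Kmem]
  have h2 : Nat.card ↥(K j) = Set.ncard ((K j : Subgroup (DihedralGroup 4)) : Set (DihedralGroup 4)) :=
    (Nat.card_coe_set_eq _)
  rw [h2, h1, Set.ncard_coe_finset]
  exact card_K_aux j

theorem classify (B : Subgroup (DihedralGroup 4)) (h4 : Nat.card ↥B = 4)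
    (hexp : ∀ d ∈ B, d * d = 1) : B = K 0 ∨ B = K 1 := by
  have hn : Set.ncard (B : Set (DihedralGroup 4)) = 4 := by
    rw [← Nat.card_coe_set_eq]; exact h4
  -- an element `x ≠ 1`
  obtain ⟨x, hxB, hx1⟩ : ∃ x ∈ (B : Set (DihedralGroup 4)), x ∉ ({1} : Set (DihedralGroup 4)) := by
    apply Set.exists_mem_notMem_of_ncard_lt_ncard _ (Set.toFinite _)
    rw [hn, Set.ncard_singleton]; norm_num
  obtain ⟨y, hyB, hy1⟩ : ∃ y ∈ (B : Set (DihedralGroup 4)), y ∉ ({1, x} : Set (DihedralGroup 4)) := by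
    apply Set.exists_mem_notMem_of_ncard_lt_ncard _ (Set.toFinite _)
    rw [hn]
    have := Set.ncard_insert_le (1 : DihedralGroup 4) ({x} : Set (DihedralGroup 4))
    rw [Set.ncard_singleton] at this
    omega
  have hx1' : x ≠ 1 := by simpa using hx1
  have hy1' : y ≠ 1 ∧ y ≠ x := by simpa using hy1
  have hz : r 2 ∈ B := by
    rcases d4_D1 x y (hexp x hxB) (hexp y hyB) (hexp _ (B.mul_mem hxB hyB)) hx1' hy1'.1
      (Ne.symm hy1'.2) with h | h | h
    · rw [h]; exact hxB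
    · rw [h]; exact hyB
    · rw [h]; exact B.mul_mem hxB hyB
  obtain ⟨w, hwB, hw1⟩ : ∃ w ∈ (B : Set (DihedralGroup 4)),
      w ∉ ({1, r 2} : Set (DihedralGroup 4)) := by
    apply Set.exists_mem_notMem_of_ncard_lt_ncard _ (Set.toFinite _)
    rw [hn]
    have := Set.ncard_insert_le (1 : DihedralGroup 4) ({r 2} : Set (DihedralGroup 4))
    rw [Set.ncard_singleton] at this
    omega
  have hw1' : w ≠ 1 ∧ w ≠ r 2 := by simpa using hw1
  obtain ⟨i, rfl⟩ := d4_D2 w (hexp w hwB) hw1'.1 hw1'.2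
  have hle : K i ≤ B := by
    intro d hd
    rcases hd with rfl | rfl | rfl | rfl
    · exact B.one_mem
    · exact hz
    · exact hwB
    · rw [← d4_sz']; exact B.mul_mem hwB hz
  have : K i = B := by
    apply Subgroup.eq_of_le_of_card_ge hle
    rw [h4, card_K]
  rw [← this]; exact K_01 i

theorem Kmem_pair : ∀ i : ZMod 4,
    ((∀ x, Kmem i x ↔ Kmem 0 x) ∧ (∀ x, Kmem (i - 1) x ↔ Kmem 1 x)) ∨
    ((∀ x, Kmem i x ↔ Kmem 1 x) ∧ (∀ x, Kmem (i - 1) x ↔ Kmem 0 x)) := by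
  decide

theorem K_pair (i : ZMod 4) :
    (K i = K 0 ∧ K (i - 1) = K 1) ∨ (K i = K 1 ∧ K (i - 1) = K 0) := by
  rcases Kmem_pair i with ⟨h1, h2⟩ | ⟨h1, h2⟩
  · left; exact ⟨by ext x; exact h1 x, by ext x; exact h2 x⟩
  · right; exact ⟨by ext x; exact h1 x, by ext x; exact h2 x⟩

end Cfsg.Agent.Helper19.D8Mod
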