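import Cfsg.Agent.Helper19.D8ModC

/-!
# Group side for S4407 (helper19): `3² : D₈`
-/

set_option autoImplicit false

namespace Cfsg.Agent.Helper19.D8Mod

open DihedralGroup

variable {S : Type*} [Group S]

/-- group hypotheses -/
structure GS (A X : Subgroup S) : Prop where
  nA : A.Normal
  comm : ∀ x ∈ A, ∀ y ∈ A, x * y = y * x
  exp3 : ∀ x ∈ A, x ^ 3 = 1
  card9 : Nat.card ↥A = 9
  faith : ∀ x ∈ X, (∀ y ∈ A, x * y = y * x) → x = 1

local notation "κ" => (MulAut.conj : S →* MulAut S)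

theorem conj_eq_iff {x y : S} : κ x y = y ↔ x * y = y * x := by
  rw [MulAut.conj_apply, mul_inv_eq_iff_eq_mul]

theorem conj_conj (x w y : S) : κ x (κ w y) = κ (x * w) y := by
  rw [map_mul, MulAut.mul_apply]

theorem sq_eq_one_of_cube {w : S} (h3 : w ^ 3 = 1) (h2 : w * w = 1) : w = 1 := by
  have : w ^ 3 = w * w * w := by rw [pow_succ, pow_two]
  rw [this, h2, one_mul] at h3
  exact h3

namespace GS

variable {A X : Subgroup S} (hG : GS A X)
include hG

theorem conj_mem (x : S) {y : S} (hy : y ∈ A) : κ x y ∈ A := by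
  rw [MulAut.conj_apply]; exact hG.nA.conj_mem y hy x

theorem gen_of_two [Finite S] {c e : S} (hc : c ∈ A) (he : e ∈ A) (hc1 : c ≠ 1) (he1 : e ≠ 1)
    (hec : e ≠ c) (hec' : e ≠ c⁻¹) : Subgroup.closure {c, e} = A := by
  set H := Subgroup.closure ({c, e} : Set S) with hH
  have hHA : H ≤ A := by
    rw [hH, Subgroup.closure_le]
    intro x hx
    rcases hx with rfl | rfl
    · exact hc
    · exact he
  have hcH : c ∈ H := Subgroup.subset_closure (by simp)
  have heH : e ∈ H := Subgroup.subset_closure (by simp)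
  have : Fact (Nat.Prime 3) := ⟨Nat.prime_three⟩
  have hoc : orderOf c = 3 := orderOf_eq_prime (hG.exp3 c hc) hc1
  have hzH : Subgroup.zpowers c ≤ H := by
    rw [Subgroup.zpowers_le]; exact hcH
  have hcz : Nat.card ↥(Subgroup.zpowers c) = 3 := by rw [Nat.card_zpowers, hoc]
  have h3 : 3 ∣ Nat.card ↥H := by
    rw [← hcz]; exact Subgroup.card_dvd_of_le hzH
  have h9 : Nat.card ↥H ∣ 9 := by
    rw [← hG.card9]; exact Subgroup.card_dvd_of_le hHA
  have hne3 : Nat.card ↥H ≠ 3 := by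
    intro h3'
    have hzeq : Subgroup.zpowers c = H := by
      apply Subgroup.eq_of_le_of_card_ge hzH
      rw [hcz, h3']
    have : e ∈ Subgroup.zpowers c := by rw [hzeq]; exact heH
    obtain ⟨k, hk⟩ := Subgroup.mem_zpowers_iff.1 this
    have hk' : c ^ (k % 3) = e := by
      have := zpow_mod_orderOf c k
      rw [hoc] at this
      rw [← hk]; exact_mod_cast this
    have h0 : 0 ≤ k % 3 := Int.emod_nonneg _ (by norm_num)
    have h1 : k % 3 < 3 := Int.emod_lt_of_pos _ (by norm_num)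
    have hc2 : c ^ (2 : ℤ) = c⁻¹ := by
      have h3c := hG.exp3 c hc
      have : c ^ (2 : ℤ) * c = 1 := by
        have : c ^ (2 : ℤ) = c ^ 2 := by norm_cast
        rw [this, ← pow_succ]; exact h3c
      exact eq_inv_of_mul_eq_one_left this
    interval_cases (k % 3)
    · rw [zpow_zero] at hk'; exact he1 hk'.symm
    · rw [zpow_one] at hk'; exact hec hk'.symm
    · rw [hc2] at hk'; exact hec' hk'.symm
  have hcard : Nat.card ↥H = 9 := by
    obtain ⟨k, hk⟩ := h3
    rw [hk] at h9 hne3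
    have hk3 : k ∣ 3 := by
      have : 3 * k ∣ 3 * 3 := by simpa using h9
      exact (Nat.mul_dvd_mul_iff_left (by norm_num)).1 this
    rcases (Nat.dvd_prime Nat.prime_three).1 hk3 with rfl | rfl
    · exact absurd rfl hne3
    · rw [hk]
  apply Subgroup.eq_of_le_of_card_ge hHA
  rw [hcard, hG.card9]

/-- commuting involutions have no common nontrivial fixed point -/
theorem no_common_fix [Finite S] {s z : S} (hs : s ∈ X) (hz : z ∈ X) (hss : s * s = 1)
    (hzz : z * z = 1) (hsz : s * z = z * s) (hs1 : s ≠ 1) (hz1 : z ≠ 1) (hsz1 : s * z ≠ 1)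
    {c : S} (hc : c ∈ A) (hsc : κ s c = c) (hzc : κ z c = c) : c = 1 := by
  by_contra hc1
  -- an element moved by `s`
  obtain ⟨x₀, hx₀, hsx₀⟩ : ∃ x₀ ∈ A, κ s x₀ ≠ x₀ := by
    by_contra hcon
    push Not at hcon
    exact hs1 (hG.faith s hs (fun y hy => conj_eq_iff.1 (hcon y hy)))
  obtain ⟨e, he_def⟩ : ∃ e, e = x₀ * (κ s x₀)⁻¹ := ⟨_, rfl⟩
  have he : e ∈ A := by rw [he_def]; exact A.mul_mem hx₀ (A.inv_mem (hG.conj_mem s hx₀))
  have he1 : e ≠ 1 := by
    intro h
    rw [he_def, mul_inv_eq_one] at h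
    exact hsx₀ h.symm
  have hss' : ∀ y, κ s (κ s y) = y := by
    intro y; rw [conj_conj, hss, map_one, MulAut.one_apply]
  have hzz' : ∀ y, κ z (κ z y) = y := by
    intro y; rw [conj_conj, hzz, map_one, MulAut.one_apply]
  have hse : κ s e = e⁻¹ := by
    rw [he_def, map_mul, map_inv, hss', mul_inv_rev, inv_inv]
  -- elements inverted by `s` differ from `c`, `c⁻¹`
  have hdiff : ∀ w ∈ A, w ≠ 1 → κ s w = w⁻¹ → w ≠ c ∧ w ≠ c⁻¹ := by
    intro w hw hw1 hsw
    constructor
    · rintro rfl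
      rw [hsc] at hsw
      exact hw1 (sq_eq_one_of_cube (hG.exp3 w hw) (mul_eq_one_iff_eq_inv.2 hsw))
    · rintro rfl
      rw [map_inv, hsc, inv_inv] at hsw
      apply hc1
      have : c * c = 1 := by
        rw [mul_eq_one_iff_eq_inv]; exact hsw.symm
      exact sq_eq_one_of_cube (hG.exp3 c hc) this
  obtain ⟨e', he'_def⟩ : ∃ e', e' = κ z e := ⟨_, rfl⟩
  have he' : e' ∈ A := by rw [he'_def]; exact hG.conj_mem z he
  have hse' : κ s e' = e'⁻¹ := by
    rw [he'_def, conj_conj, hsz, ← conj_conj, hse, map_inv]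
  obtain ⟨g, hg_def⟩ : ∃ g, g = e * e'⁻¹ := ⟨_, rfl⟩
  have hg : g ∈ A := by rw [hg_def]; exact A.mul_mem he (A.inv_mem he')
  have hzg : κ z g = g⁻¹ := by
    rw [hg_def, map_mul, map_inv, he'_def, hzz', mul_inv_rev, inv_inv]
  have hsg : κ s g = g⁻¹ := by
    rw [hg_def, map_mul, map_inv, hse, hse', mul_inv_rev, inv_inv]
    exact hG.comm _ (A.inv_mem he) _ he'
  by_cases hg1 : g = 1
  · -- `z` fixes `e`
    have hze : κ z e = e := by
      rw [hg_def, mul_inv_eq_one] at hg1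
      rw [← he'_def]; exact hg1.symm
    obtain ⟨h1, h2⟩ := hdiff e he he1 hse
    have hgen := hG.gen_of_two hc he hc1 he1 h1 h2
    apply hz1
    apply hG.faith z hz
    have hle : Subgroup.closure ({c, e} : Set S) ≤ Subgroup.centralizer ({z} : Set S) := by
      rw [Subgroup.closure_le]
      intro y hy
      rw [SetLike.mem_coe, Subgroup.mem_centralizer_iff]
      intro w hw
      rw [Set.mem_singleton_iff] at hw
      subst hw
      rcases hy with rfl | rfl
      · exact conj_eq_iff.1 hzc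
      · exact conj_eq_iff.1 hze
    intro y hy
    rw [← hgen] at hy
    have := hle hy
    rw [Subgroup.mem_centralizer_iff] at this
    exact this z rfl
  · obtain ⟨h1, h2⟩ := hdiff g hg hg1 hsg
    have hgen := hG.gen_of_two hc hg hc1 hg1 h1 h2
    apply hsz1
    apply hG.faith (s * z) (X.mul_mem hs hz)
    have hle : Subgroup.closure ({c, g} : Set S) ≤ Subgroup.centralizer ({s * z} : Set S) := by
      rw [Subgroup.closure_le]
      intro y hy
      rw [SetLike.mem_coe, Subgroup.mem_centralizer_iff]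
      intro w hw
      rw [Set.mem_singleton_iff] at hw
      subst hw
      rcases hy with rfl | rfl
      · apply conj_eq_iff.1
        rw [← conj_conj, hzc, hsc]
      · apply conj_eq_iff.1
        rw [← conj_conj, hzg, map_inv, hsg, inv_inv]
    intro y hy
    rw [← hgen] at hy
    have := hle hy
    rw [Subgroup.mem_centralizer_iff] at this
    exact this (s * z) rfl

/-- an involution without nontrivial fixed points inverts `A` -/
theorem inverts_of_no_fix {s : S} (hss : s * s = 1)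
    (hnf : ∀ a ∈ A, κ s a = a → a = 1) : ∀ y ∈ A, κ s y = y⁻¹ := by
  intro y hy
  have hss' : κ s (κ s y) = y := by
    rw [conj_conj, hss, map_one, MulAut.one_apply]
  have hc : y * κ s y ∈ A := A.mul_mem hy (hG.conj_mem s hy)
  have : κ s (y * κ s y) = y * κ s y := by
    rw [map_mul, hss']
    exact hG.comm _ (hG.conj_mem s hy) _ hy
  have h1 := hnf _ hc this
  exact eq_inv_of_mul_eq_one_right h1

theorem exists_fix {s₀ s₁ : S} (h0 : s₀ ∈ X) (h1 : s₁ ∈ X) (h00 : s₀ * s₀ = 1)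
    (h11 : s₁ * s₁ = 1) (h01 : s₀ * s₁ ≠ 1) :
    (∃ a ∈ A, a ≠ 1 ∧ κ s₀ a = a) ∨ (∃ a ∈ A, a ≠ 1 ∧ κ s₁ a = a) := by
  by_contra hcon
  push Not at hcon
  obtain ⟨hc0, hc1⟩ := hcon
  have i0 := hG.inverts_of_no_fix h00 (fun a ha hfa => by
    by_contra hne; exact hc0 a ha hne hfa)
  have i1 := hG.inverts_of_no_fix h11 (fun a ha hfa => by
    by_contra hne; exact hc1 a ha hne hfa)
  apply h01
  apply hG.faith _ (X.mul_mem h0 h1)
  intro y hy
  apply conj_eq_iff.1
  rw [← conj_conj, i1 y hy, map_inv, i0 y hy, inv_inv]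

end GS

theorem conj_rel {x y w : S} (h : κ x y = w) : x * y = w * x := by
  rw [MulAut.conj_apply] at h
  rw [← h]; group

theorem inv_eq_sq {w : S} (h3 : w ^ 3 = 1) : w⁻¹ = w * w := by
  have : w ^ 3 = w * w * w := by rw [pow_succ, pow_two]
  rw [this] at h3
  exact (eq_inv_of_mul_eq_one_left h3).symm

namespace GS

variable {A X : Subgroup S} (hG : GS A X)
include hG

theorem extract [Finite S] (f : DihedralGroup 4 →* S) (hf : Function.Injective f)
    (hfX : f.range = X) (hAX : A ⊔ X = ⊤) :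
    ∃ i : ZMod 4, ∃ a b : S, a ≠ 1 ∧ a * a * a = 1 ∧ b * b * b = 1 ∧ a * b = b * a ∧
      f (r 1) * a = b * f (r 1) ∧ f (r 1) * b = a * a * f (r 1) ∧
      f (sr i) * a = a * f (sr i) ∧ f (sr i) * b = b * b * f (sr i) ∧
      Subgroup.closure {a, b, f (r 1), f (sr i)} = ⊤ := by
  have hfmem : ∀ d, f d ∈ X := fun d => by rw [← hfX]; exact ⟨d, rfl⟩
  have hf1 : ∀ d, d ≠ 1 → f d ≠ 1 := by
    intro d hd h1
    apply hd; apply hf; rw [h1, map_one]
  have hss : ∀ i : ZMod 4, f (sr i) * f (sr i) = 1 := by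
    intro i; rw [← map_mul, d4_rel_ss, map_one]
  have key : ∀ i : ZMod 4, (∃ a ∈ A, a ≠ 1 ∧ κ (f (sr i)) a = a) →
      ∃ a b : S, a ≠ 1 ∧ a * a * a = 1 ∧ b * b * b = 1 ∧ a * b = b * a ∧
      f (r 1) * a = b * f (r 1) ∧ f (r 1) * b = a * a * f (r 1) ∧
      f (sr i) * a = a * f (sr i) ∧ f (sr i) * b = b * b * f (sr i) ∧
      Subgroup.closure {a, b, f (r 1), f (sr i)} = ⊤ := by
    rintro i ⟨a, ha, ha1, hsa⟩
    obtain ⟨s, hs_def⟩ : ∃ s, s = f (sr i) := ⟨_, rfl⟩
    obtain ⟨ρ, hr_def⟩ : ∃ ρ, ρ = f (r 1) := ⟨_, rfl⟩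
    obtain ⟨z, hz_def⟩ : ∃ z, z = f (r 2) := ⟨_, rfl⟩
    rw [← hs_def] at hsa
    have hsX : s ∈ X := hs_def ▸ hfmem _
    have hzX : z ∈ X := hz_def ▸ hfmem _
    have hs2 : s * s = 1 := by rw [hs_def]; exact hss i
    have hz2 : z * z = 1 := by rw [hz_def, ← map_mul, d4_zz, map_one]
    have hrr : ρ * ρ = z := by rw [hr_def, hz_def, ← map_mul, d4_rr]
    have hsz : s * z = z * s := by rw [hs_def, hz_def, ← map_mul, ← map_mul, d4_sz]
    have hsr : s * ρ = ρ * ρ * ρ * s := by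
      rw [hs_def, hr_def, ← map_mul, ← map_mul, ← map_mul, ← map_mul, d4_rel_sr]
    have hs1 : s ≠ 1 := hs_def ▸ hf1 _ (d4_s_ne i)
    have hz1 : z ≠ 1 := hz_def ▸ hf1 _ d4_z_ne
    have hsz1 : s * z ≠ 1 := by
      rw [hs_def, hz_def, ← map_mul]; exact hf1 _ (d4_sz_ne i)
    have hzz' : ∀ y, κ z (κ z y) = y := by
      intro y; rw [conj_conj, hz2, map_one, MulAut.one_apply]
    -- `z` inverts `a`
    have hza : κ z a = a⁻¹ := by
      have hc : a * κ z a ∈ A := A.mul_mem ha (hG.conj_mem z ha)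
      have h1 : κ z (a * κ z a) = a * κ z a := by
        rw [map_mul, hzz']
        exact hG.comm _ (hG.conj_mem z ha) _ ha
      have h2 : κ s (a * κ z a) = a * κ z a := by
        rw [map_mul, hsa, conj_conj, hsz, ← conj_conj, hsa]
      have := hG.no_common_fix hsX hzX hs2 hz2 hsz hs1 hz1 hsz1 hc h2 h1
      exact eq_inv_of_mul_eq_one_right this
    obtain ⟨b, hb_def⟩ : ∃ b, b = κ ρ a := ⟨_, rfl⟩
    have hb : b ∈ A := by rw [hb_def]; exact hG.conj_mem ρ ha
    have hrb : κ ρ b = a⁻¹ := by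
      rw [hb_def, conj_conj, hrr, hza]
    have hsb : κ s b = b⁻¹ := by
      rw [hb_def, conj_conj, hsr, ← conj_conj, hsa, mul_assoc, ← conj_conj, hrr, hza, map_inv]
    have ha3 := hG.exp3 a ha
    have hb3 := hG.exp3 b hb
    have hinj : ∀ y w, κ ρ y = κ ρ w → y = w := fun y w h => (MulAut.conj ρ).injective h
    have hb1 : b ≠ 1 := by
      intro h
      apply ha1
      apply hinj
      rw [← hb_def, h, map_one]
    have haa : a⁻¹ ≠ a := by
      intro h
      apply ha1
      exact sq_eq_one_of_cube ha3 (mul_eq_one_iff_eq_inv.2 h.symm)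
    have hba : b ≠ a := by
      intro h
      apply haa
      calc a⁻¹ = κ ρ b := hrb.symm
        _ = κ ρ a := by rw [h]
        _ = b := hb_def.symm
        _ = a := h
    have hba' : b ≠ a⁻¹ := by
      intro h
      apply haa
      calc a⁻¹ = κ ρ b := hrb.symm
        _ = κ ρ a⁻¹ := by rw [h]
        _ = (κ ρ a)⁻¹ := map_inv _ _
        _ = b⁻¹ := by rw [← hb_def]
        _ = a := by rw [h, inv_inv]
    have hgen := hG.gen_of_two ha hb ha1 hb1 hba hba'
    refine ⟨a, b, ha1, ?_, ?_, hG.comm a ha b hb, ?_, ?_, ?_, ?_, ?_⟩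
    · rw [← ha3, pow_succ, pow_two]
    · rw [← hb3, pow_succ, pow_two]
    · rw [← hr_def]; exact conj_rel hb_def.symm
    · rw [← hr_def, ← inv_eq_sq ha3]; exact conj_rel hrb
    · rw [← hs_def]; exact conj_rel hsa
    · rw [← hs_def, ← inv_eq_sq hb3]; exact conj_rel hsb
    · rw [← hr_def, ← hs_def, eq_top_iff, ← hAX, sup_le_iff]
      constructor
      · rw [← hgen]
        apply Subgroup.closure_mono
        intro y hy
        rcases hy with rfl | rfl
        · simp
        · simp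
      · intro x hx
        rw [← hfX] at hx
        obtain ⟨d, rfl⟩ := hx
        obtain ⟨k, l, hd⟩ := d4_gen i d
        rw [hd, map_mul, map_pow, map_pow, ← hr_def, ← hs_def]
        apply Subgroup.mul_mem
        · exact Subgroup.pow_mem _ (Subgroup.subset_closure (by simp)) _
        · exact Subgroup.pow_mem _ (Subgroup.subset_closure (by simp)) _
  have h01 : f (sr 0) * f (sr 1) ≠ 1 := by
    rw [← map_mul, d4_s0s1]; exact hf1 _ d4_r_ne
  rcases hG.exists_fix (hfmem (sr 0)) (hfmem (sr 1)) (hss 0) (hss 1) h01 with h | h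
  · exact ⟨0, key 0 h⟩
  · exact ⟨1, key 1 h⟩

end GS

end Cfsg.Agent.Helper19.D8Mod
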