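import Cfsg.Agent.Helper19.D8ModB
import Cfsg.Agent.Helper19.D8ModD

/-!
# Assembly lemmas for S4407 (helper19)
-/

set_option autoImplicit false

namespace Cfsg.Agent.Helper19.D8Mod

open DihedralGroup

variable {S : Type*} [Group S] {M : Type*} [AddCommGroup M] [Module (ZMod 2) M]

theorem inv_invariant [Finite M] (ρ : Representation (ZMod 2) S M) (N : Submodule (ZMod 2) M)
    (g : S) (h : ∀ m ∈ N, ρ g m ∈ N) : ∀ m ∈ N, ρ g⁻¹ m ∈ N := by
  have hleft : ∀ m, ρ g⁻¹ (ρ g m) = m := by
    intro m
    rw [← Module.End.mul_apply, ← map_mul, inv_mul_cancel, map_one, Module.End.one_apply]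
  let F : ↥N → ↥N := fun m => ⟨ρ g m, h m m.2⟩
  have hinj : Function.Injective F := by
    intro m m' hmm
    have : ρ g m = ρ g m' := congrArg Subtype.val hmm
    have h2 := congrArg (ρ g⁻¹) this
    rw [hleft, hleft] at h2
    exact Subtype.ext h2
  have hsurj : Function.Surjective F := Finite.injective_iff_surjective.1 hinj
  intro m hm
  obtain ⟨m', hm'⟩ := hsurj ⟨m, hm⟩
  have : ρ g m' = m := congrArg Subtype.val hm'
  rw [← this, hleft]
  exact m'.2

theorem invariant_of_gens [Finite M] (ρ : Representation (ZMod 2) S M)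
    (N : Submodule (ZMod 2) M) (T : Set S) (hT : Subgroup.closure T = ⊤)
    (h : ∀ g ∈ T, ∀ m ∈ N, ρ g m ∈ N) : ∀ g : S, ∀ m ∈ N, ρ g m ∈ N := by
  intro g
  have hg : g ∈ Subgroup.closure T := by rw [hT]; trivial
  induction hg using Subgroup.closure_induction with
  | mem x hx => exact h x hx
  | one => intro m hm; rw [map_one, Module.End.one_apply]; exact hm
  | mul x y _ _ hx hy =>
    intro m hm
    rw [map_mul, Module.End.mul_apply]
    exact hx _ (hy m hm)
  | inv x _ hx => exact inv_invariant ρ N x hx

theorem rel_apply (ρ : Representation (ZMod 2) S M) {w₁ w₂ : S} (h : w₁ = w₂) (m : M) :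
    ρ w₁ m = ρ w₂ m := by rw [h]

/-- the relations give an `MC` structure -/
theorem mk_MC [Finite M] (ρ : Representation (ZMod 2) S M)
    (hirr : ∀ N : Submodule (ZMod 2) M, (∀ s : S, ∀ m ∈ N, ρ s m ∈ N) → N = ⊥ ∨ N = ⊤)
    {a b r s : S} (ha3 : a * a * a = 1) (hb3 : b * b * b = 1) (hab : a * b = b * a)
    (hr4 : r * r * r * r = 1) (hs2 : s * s = 1) (hsr : s * r = r * r * r * s)
    (hra : r * a = b * r) (hrb : r * b = a * a * r) (hsa : s * a = a * s)
    (hsb : s * b = b * b * s) (hgen : Subgroup.closure {a, b, r, s} = ⊤) :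
    MC (ρ a) (ρ b) (ρ r) (ρ s) where
  a3 := fun m => by
    have := rel_apply ρ ha3 m
    simpa only [map_mul, map_one, Module.End.mul_apply, Module.End.one_apply] using this
  b3 := fun m => by
    have := rel_apply ρ hb3 m
    simpa only [map_mul, map_one, Module.End.mul_apply, Module.End.one_apply] using this
  ab := fun m => by
    have := rel_apply ρ hab m
    simpa only [map_mul, map_one, Module.End.mul_apply, Module.End.one_apply] using this
  r4 := fun m => by
    have := rel_apply ρ hr4 m
    simpa only [map_mul, map_one, Module.End.mul_apply, Module.End.one_apply] using this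
  s2 := fun m => by
    have := rel_apply ρ hs2 m
    simpa only [map_mul, map_one, Module.End.mul_apply, Module.End.one_apply] using this
  sr := fun m => by
    have := rel_apply ρ hsr m
    simpa only [map_mul, map_one, Module.End.mul_apply, Module.End.one_apply] using this
  ra := fun m => by
    have := rel_apply ρ hra m
    simpa only [map_mul, map_one, Module.End.mul_apply, Module.End.one_apply] using this
  rb := fun m => by
    have := rel_apply ρ hrb m
    simpa only [map_mul, map_one, Module.End.mul_apply, Module.End.one_apply] using this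
  sa := fun m => by
    have := rel_apply ρ hsa m
    simpa only [map_mul, map_one, Module.End.mul_apply, Module.End.one_apply] using this
  sb := fun m => by
    have := rel_apply ρ hsb m
    simpa only [map_mul, map_one, Module.End.mul_apply, Module.End.one_apply] using this
  irr := by
    intro N h1 h2 h3 h4
    apply hirr
    apply invariant_of_gens ρ N _ hgen
    intro g hg
    rcases hg with rfl | rfl | rfl | rfl
    · exact h1
    · exact h2
    · exact h3
    · exact h4

/-- fixed points of the image of `K j` -/
theorem card_fix_K (ρ : Representation (ZMod 2) S M) (f : DihedralGroup 4 →* S) (j : ZMod 4) :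
    Nat.card {m : M // ∀ b ∈ (K j).map f, ρ b m = m} =
      Nat.card ↥(fx (ρ (f (sr j))) ⊓ fx (ρ (f (r 2)))) := by
  apply Nat.card_congr
  apply Equiv.subtypeEquivRight
  intro m
  constructor
  · intro h
    refine ⟨mem_fx.2 (h _ ?_), mem_fx.2 (h _ ?_)⟩
    · exact Subgroup.mem_map_of_mem f (Or.inr (Or.inr (Or.inl rfl)))
    · exact Subgroup.mem_map_of_mem f (Or.inr (Or.inl rfl))
  · rintro ⟨h1, h2⟩ b hb
    have h1' := mem_fx.1 h1
    have h2' := mem_fx.1 h2
    obtain ⟨d, hd, rfl⟩ := Subgroup.mem_map.1 hb
    rcases hd with rfl | rfl | rfl | rfl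
    · rw [map_one, map_one, Module.End.one_apply]
    · exact h2'
    · exact h1'
    · rw [← d4_sz', map_mul, map_mul, Module.End.mul_apply, h2', h1']

theorem classify_in [Finite S] (f : DihedralGroup 4 →* S) (hf : Function.Injective f)
    (B : Subgroup S) (hB : B ≤ f.range) (h4 : Nat.card ↥B = 4) (hexp : ∀ b ∈ B, b ^ 2 = 1) :
    B = (K 0).map f ∨ B = (K 1).map f := by
  have hmap : (B.comap f).map f = B := Subgroup.map_comap_eq_self hB
  have hcard : Nat.card ↥(B.comap f) = 4 := by
    rw [← Subgroup.card_map_of_injective hf, hmap, h4]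
  have hexp' : ∀ d ∈ B.comap f, d * d = 1 := by
    intro d hd
    apply hf
    rw [map_mul, map_one, ← pow_two]
    exact hexp _ hd
  rcases classify (B.comap f) hcard hexp' with h | h
  · left; rw [← hmap, h]
  · right; rw [← hmap, h]

end Cfsg.Agent.Helper19.D8Mod
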