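import Mathlib

set_option autoImplicit false
set_option linter.unusedSectionVars false

/-! Fixed-point-free elements of order three acting on a normal subgroup: class at most two. -/

namespace Cfsg.Agent.Helper19.E4

open scoped commutatorElement

variable {G : Type*} [Group G]

/-- every element of `H` is of the form `h⁻¹ · g h g⁻¹` when `g` acts fixed-point-freely. -/
theorem exists_comm_eq (H : Subgroup G) [hHn : H.Normal] [Finite H] (g : G)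
    (hfix : ∀ h ∈ H, g * h = h * g → h = 1) (x : G) (hx : x ∈ H) :
    ∃ h ∈ H, x = h⁻¹ * (g * h * g⁻¹) := by
  let ψ : H → H := fun h => ⟨(h : G)⁻¹ * (g * h * g⁻¹),
    H.mul_mem (H.inv_mem h.2) (hHn.conj_mem _ h.2 g)⟩
  have hinj : Function.Injective ψ := by
    intro h k hhk
    have h1 : (h : G)⁻¹ * (g * h * g⁻¹) = (k : G)⁻¹ * (g * k * g⁻¹) := congrArg Subtype.val hhk
    have h3 : (h : G)⁻¹ * g * h = (k : G)⁻¹ * g * k := by
      calc (h : G)⁻¹ * g * h = ((h : G)⁻¹ * (g * h * g⁻¹)) * g := by group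
        _ = ((k : G)⁻¹ * (g * k * g⁻¹)) * g := by rw [h1]
        _ = (k : G)⁻¹ * g * k := by group
    have h2 : g * ((k : G) * (h : G)⁻¹) = ((k : G) * (h : G)⁻¹) * g := by
      calc g * ((k : G) * (h : G)⁻¹) = k * ((k : G)⁻¹ * g * k) * (h : G)⁻¹ := by group
        _ = k * ((h : G)⁻¹ * g * h) * (h : G)⁻¹ := by rw [h3]
        _ = ((k : G) * (h : G)⁻¹) * g := by group
    have h4 := hfix _ (H.mul_mem k.2 (H.inv_mem h.2)) h2
    have h5 : (k : G) = h := mul_inv_eq_one.mp h4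
    exact Subtype.ext h5.symm
  have hsurj : Function.Surjective ψ := Finite.injective_iff_surjective.mp hinj
  obtain ⟨h, hh⟩ := hsurj ⟨x, hx⟩
  exact ⟨h, h.2, (congrArg Subtype.val hh).symm⟩

/-- `x · gxg⁻¹ · g²xg⁻² = 1` for `g` of order dividing 3 acting fixed-point-freely on `H`. -/
theorem three_prod (H : Subgroup G) [hHn : H.Normal] [Finite H] (g : G) (hg : g ^ 3 = 1)
    (hfix : ∀ h ∈ H, g * h = h * g → h = 1) (x : G) (hx : x ∈ H) :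
    x * (g * x * g⁻¹) * (g * (g * x * g⁻¹) * g⁻¹) = 1 := by
  obtain ⟨h, -, hxe⟩ := exists_comm_eq H g hfix x hx
  have hg3 : g * g * g = 1 := by rw [← hg]; simp only [pow_succ, pow_zero, one_mul]
  have key : x * (g * x * g⁻¹) * (g * (g * x * g⁻¹) * g⁻¹) =
      h⁻¹ * (g * g * g) * h * (g * g * g)⁻¹ := by
    rw [hxe]; group
  rw [key, hg3]; group

/-- `x` commutes with `gxg⁻¹`. -/
theorem three_commute (H : Subgroup G) [hHn : H.Normal] [Finite H] (g : G) (hg : g ^ 3 = 1)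
    (hfix : ∀ h ∈ H, g * h = h * g → h = 1) (x : G) (hx : x ∈ H) :
    x * (g * x * g⁻¹) = (g * x * g⁻¹) * x := by
  have h1 := three_prod H g hg hfix x hx
  have hg' : g⁻¹ ^ 3 = 1 := by rw [inv_pow, hg, inv_one]
  have hfix' : ∀ h ∈ H, g⁻¹ * h = h * g⁻¹ → h = 1 := by
    intro h hh hc
    apply hfix h hh
    calc g * h = g * (h * g⁻¹) * g := by group
      _ = g * (g⁻¹ * h) * g := by rw [hc]
      _ = h * g := by group
  have h2 := three_prod H g⁻¹ hg' hfix' x hx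
  have hg3 : g * g * g = 1 := by rw [← hg]; simp only [pow_succ, pow_zero, one_mul]
  have e2 : g⁻¹ * x * g⁻¹⁻¹ = g * (g * x * g⁻¹) * g⁻¹ := by
    have : g * (g * x * g⁻¹) * g⁻¹ = (g * g * g) * (g⁻¹ * x * g⁻¹⁻¹) * (g * g * g)⁻¹ := by group
    rw [this, hg3]; group
  have e1 : g⁻¹ * (g⁻¹ * x * g⁻¹⁻¹) * g⁻¹⁻¹ = g * x * g⁻¹ := by
    have : g * x * g⁻¹ = (g * g * g) * (g⁻¹ * (g⁻¹ * x * g⁻¹⁻¹) * g⁻¹⁻¹) * (g * g * g)⁻¹ := by
      group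
    rw [this, hg3]; group
  rw [e1, e2] at h2
  -- h1 : x * x₁ * x₂ = 1, h2 : x * x₂ * x₁ = 1
  have h3 : (g * x * g⁻¹) * (g * (g * x * g⁻¹) * g⁻¹) = x⁻¹ := by
    rw [mul_assoc] at h1; exact eq_inv_of_mul_eq_one_right h1
  have h4 : (g * (g * x * g⁻¹) * g⁻¹) * (g * x * g⁻¹) = x⁻¹ := by
    rw [mul_assoc] at h2; exact eq_inv_of_mul_eq_one_right h2
  have h5 : (g * x * g⁻¹) * (g * (g * x * g⁻¹) * g⁻¹) =
      (g * (g * x * g⁻¹) * g⁻¹) * (g * x * g⁻¹) := h3.trans h4.symm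
  calc x * (g * x * g⁻¹) = g⁻¹ * ((g * x * g⁻¹) * (g * (g * x * g⁻¹) * g⁻¹)) * g := by group
    _ = g⁻¹ * ((g * (g * x * g⁻¹) * g⁻¹) * (g * x * g⁻¹)) * g := by rw [h5]
    _ = (g * x * g⁻¹) * x := by group

section class2

variable (H : Subgroup G) [hHn : H.Normal] [Finite H] (d : G)
  (hgood : ∀ y ∈ H, (y * d) ^ 3 = 1 ∧ ∀ h ∈ H, (y * d) * h = h * (y * d) → h = 1)

include hgood

theorem d_cube : d * d * d = 1 := by
  have := (hgood 1 H.one_mem).1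
  rw [one_mul] at this
  rw [← this]; simp only [pow_succ, pow_zero, one_mul]

theorem d_pow : d ^ 3 = 1 := by
  have := (hgood 1 H.one_mem).1
  rwa [one_mul] at this

theorem d_fix : ∀ h ∈ H, d * h = h * d → h = 1 := by
  have := (hgood 1 H.one_mem).2
  simpa only [one_mul] using this

theorem comm_conj (y w : G) (hy : y ∈ H) (hw : w ∈ H) :
    w * (y * (d * w * d⁻¹) * y⁻¹) = (y * (d * w * d⁻¹) * y⁻¹) * w := by
  have := three_commute H (y * d) (hgood y hy).1 (hgood y hy).2 w hw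
  have e : (y * d) * w * (y * d)⁻¹ = y * (d * w * d⁻¹) * y⁻¹ := by group
  rwa [e] at this

/-- The 2-Engel law. -/
theorem engel (x y : G) (hx : x ∈ H) (hy : y ∈ H) :
    x * (y * x * y⁻¹) = (y * x * y⁻¹) * x := by
  have hd3 := d_cube H d hgood
  have hx1 : d * x * d⁻¹ ∈ H := hHn.conj_mem _ hx d
  have hx2 : d * (d * x * d⁻¹) * d⁻¹ ∈ H := hHn.conj_mem _ hx1 d
  have hprod := three_prod H d (d_pow H d hgood) (d_fix H d hgood) x hx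
  have e3 : d * (d * (d * x * d⁻¹) * d⁻¹) * d⁻¹ = x := by
    have : d * (d * (d * x * d⁻¹) * d⁻¹) * d⁻¹ = (d * d * d) * x * (d * d * d)⁻¹ := by group
    rw [this, hd3]; group
  have ha := comm_conj H d hgood y _ hy hx2
  rw [e3] at ha
  have hb0 := comm_conj H d hgood y⁻¹ x (H.inv_mem hy) hx
  have hb : (d * x * d⁻¹) * (y * x * y⁻¹) = (y * x * y⁻¹) * (d * x * d⁻¹) := by
    have h1 : y * (x * (y⁻¹ * (d * x * d⁻¹) * y⁻¹⁻¹)) * y⁻¹ =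
        y * ((y⁻¹ * (d * x * d⁻¹) * y⁻¹⁻¹) * x) * y⁻¹ := by rw [hb0]
    have e1 : y * (x * (y⁻¹ * (d * x * d⁻¹) * y⁻¹⁻¹)) * y⁻¹ =
        (y * x * y⁻¹) * (d * x * d⁻¹) := by group
    have e2 : y * ((y⁻¹ * (d * x * d⁻¹) * y⁻¹⁻¹) * x) * y⁻¹ =
        (d * x * d⁻¹) * (y * x * y⁻¹) := by group
    rw [e1, e2] at h1
    exact h1.symm
  have hxe : x = (d * x * d⁻¹ * (d * (d * x * d⁻¹) * d⁻¹))⁻¹ := by
    have : x * (d * x * d⁻¹ * (d * (d * x * d⁻¹) * d⁻¹)) = 1 := by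
      rw [← mul_assoc]; exact hprod
    exact eq_inv_of_mul_eq_one_left this
  have hc : Commute (d * x * d⁻¹ * (d * (d * x * d⁻¹) * d⁻¹)) (y * x * y⁻¹) :=
    Commute.mul_left hb ha
  have hc2 : Commute ((d * x * d⁻¹ * (d * (d * x * d⁻¹) * d⁻¹))⁻¹) (y * x * y⁻¹) := hc.inv_left
  have hc3 : Commute x (y * x * y⁻¹) := by
    rw [hxe]
    have e : y * (d * x * d⁻¹ * (d * (d * x * d⁻¹) * d⁻¹))⁻¹ * y⁻¹ = y * x * y⁻¹ := by
      rw [← hxe]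
    rw [e]
    exact hc2
  exact hc3.eq

theorem comm_elt_left (x y : G) (hx : x ∈ H) (hy : y ∈ H) : Commute ⁅x, y⁆ x := by
  have h : Commute x (y * x * y⁻¹) := engel H d hgood x y hx hy
  have e : ⁅x, y⁆ = x * (y * x * y⁻¹)⁻¹ := by rw [commutatorElement_def]; group
  rw [e]
  exact ((Commute.refl x).mul_right h.inv_right).symm

theorem comm_elt_right (x y : G) (hx : x ∈ H) (hy : y ∈ H) : Commute ⁅x, y⁆ y := by
  have h : Commute y (x * y * x⁻¹) := engel H d hgood y x hy hx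
  have e : ⁅x, y⁆ = (x * y * x⁻¹) * y⁻¹ := by rw [commutatorElement_def]
  rw [e]
  exact (h.mul_right (Commute.refl y).inv_right).symm

theorem comm_inv_left (y v : G) (hy : y ∈ H) (hv : v ∈ H) : ⁅y⁻¹, v⁆ = ⁅y, v⁆⁻¹ := by
  have h := comm_elt_left H d hgood y v hy hv
  have e : ⁅y⁻¹, v⁆ = y⁻¹ * ⁅y, v⁆⁻¹ * y := by simp only [commutatorElement_def]; group
  rw [e]
  have h2 : Commute ⁅y, v⁆⁻¹ y := h.inv_left
  calc y⁻¹ * ⁅y, v⁆⁻¹ * y = y⁻¹ * (⁅y, v⁆⁻¹ * y) := by rw [mul_assoc]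
    _ = y⁻¹ * (y * ⁅y, v⁆⁻¹) := by rw [h2.eq]
    _ = ⁅y, v⁆⁻¹ := by group

theorem comm_inv_right (y w : G) (hy : y ∈ H) (hw : w ∈ H) : ⁅y, w⁻¹⁆ = ⁅y, w⁆⁻¹ := by
  have h := comm_elt_right H d hgood y w hy hw
  have e : ⁅y, w⁻¹⁆ = w⁻¹ * ⁅y, w⁆⁻¹ * w := by simp only [commutatorElement_def]; group
  rw [e]
  have h2 : Commute ⁅y, w⁆⁻¹ w := h.inv_left
  calc w⁻¹ * ⁅y, w⁆⁻¹ * w = w⁻¹ * (⁅y, w⁆⁻¹ * w) := by rw [mul_assoc]
    _ = w⁻¹ * (w * ⁅y, w⁆⁻¹) := by rw [h2.eq]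
    _ = ⁅y, w⁆⁻¹ := by group

/-- The key twisted equivariance: `⁅y, v⁆ = d ⁅y, d v d⁻¹⁆ d⁻¹`. -/
theorem comm_twist (y v : G) (hy : y ∈ H) (hv : v ∈ H) :
    ⁅y, v⁆ = d * ⁅y, d * v * d⁻¹⁆ * d⁻¹ := by
  have hv1 : d * v * d⁻¹ ∈ H := hHn.conj_mem _ hv d
  have hy1 : d * y * d⁻¹ ∈ H := hHn.conj_mem _ hy d
  have hu : y⁻¹ * v * y ∈ H := by
    have := hHn.conj_mem _ hv y⁻¹
    rwa [inv_inv] at this
  have ha := three_prod H (d * y * d⁻¹ * d) (hgood _ hy1).1 (hgood _ hy1).2 _ hu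
  have e1 : (d * y * d⁻¹ * d) * (y⁻¹ * v * y) * (d * y * d⁻¹ * d)⁻¹ = d * v * d⁻¹ := by group
  have e2 : (d * y * d⁻¹ * d) * (d * v * d⁻¹) * (d * y * d⁻¹ * d)⁻¹ =
      d * (y * (d * v * d⁻¹) * y⁻¹) * d⁻¹ := by group
  rw [e1, e2] at ha
  have hb := three_prod H d (d_pow H d hgood) (d_fix H d hgood) v hv
  have hA : y⁻¹ * v * y * (d * v * d⁻¹) = (d * (y * (d * v * d⁻¹) * y⁻¹) * d⁻¹)⁻¹ :=
    eq_inv_of_mul_eq_one_left ha
  have hB : v * (d * v * d⁻¹) = (d * (d * v * d⁻¹) * d⁻¹)⁻¹ := eq_inv_of_mul_eq_one_left hb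
  have hQ : ⁅y⁻¹, v⁆ = d * ⁅y, (d * v * d⁻¹)⁻¹⁆ * d⁻¹ := by
    calc ⁅y⁻¹, v⁆ = (y⁻¹ * v * y * (d * v * d⁻¹)) * (v * (d * v * d⁻¹))⁻¹ := by
          rw [commutatorElement_def]; group
      _ = (d * (y * (d * v * d⁻¹) * y⁻¹) * d⁻¹)⁻¹ * (d * (d * v * d⁻¹) * d⁻¹)⁻¹⁻¹ := by
          rw [hA, hB]
      _ = d * ⁅y, (d * v * d⁻¹)⁻¹⁆ * d⁻¹ := by rw [commutatorElement_def]; group
  rw [comm_inv_left H d hgood y v hy hv, comm_inv_right H d hgood y _ hy hv1] at hQ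
  have : (⁅y, v⁆⁻¹)⁻¹ = (d * ⁅y, d * v * d⁻¹⁆⁻¹ * d⁻¹)⁻¹ := by rw [hQ]
  rw [inv_inv] at this
  rw [this]; group

/-- Class at most two: all double commutators vanish. -/
theorem double_comm (y z v : G) (hy : y ∈ H) (hz : z ∈ H) (hv : v ∈ H) :
    ⁅y, ⁅z, v⁆⁆ = 1 := by
  have hd3 := d_cube H d hgood
  have hv1 : d * v * d⁻¹ ∈ H := hHn.conj_mem _ hv d
  have hcH : ∀ a b : G, a ∈ H → b ∈ H → ⁅a, b⁆ ∈ H := by
    intro a b ha hb
    rw [commutatorElement_def]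
    exact H.mul_mem (H.mul_mem (H.mul_mem ha hb) (H.inv_mem ha)) (H.inv_mem hb)
  have hprod : ∀ a b c : G, ⁅a * b, c⁆ = ⁅a, ⁅b, c⁆⁆ * ⁅b, c⁆ * ⁅a, c⁆ := by
    intro a b c
    simp only [commutatorElement_def]; group
  -- (N1)
  have h1 := comm_twist H d hgood (y * z) v (H.mul_mem hy hz) hv
  rw [hprod y z v, hprod y z (d * v * d⁻¹)] at h1
  have h2 := comm_twist H d hgood z v hz hv
  have h3 := comm_twist H d hgood y v hy hv
  have hN1 : ⁅y, ⁅z, v⁆⁆ = d * ⁅y, ⁅z, d * v * d⁻¹⁆⁆ * d⁻¹ := by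
    have e : d * (⁅y, ⁅z, d * v * d⁻¹⁆⁆ * ⁅z, d * v * d⁻¹⁆ * ⁅y, d * v * d⁻¹⁆) * d⁻¹ =
        (d * ⁅y, ⁅z, d * v * d⁻¹⁆⁆ * d⁻¹) * (d * ⁅z, d * v * d⁻¹⁆ * d⁻¹) *
          (d * ⁅y, d * v * d⁻¹⁆ * d⁻¹) := by group
    rw [e, ← h2, ← h3] at h1
    exact mul_right_cancel (mul_right_cancel h1)
  -- c' = ⁅z, d v d⁻¹⁆ = d⁻¹ c d
  have hc' : ⁅z, d * v * d⁻¹⁆ = d⁻¹ * ⁅z, v⁆ * d := by
    rw [h2]; group
  have hc'H : d⁻¹ * ⁅z, v⁆ * d ∈ H := by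
    rw [← hc']; exact hcH _ _ hz hv1
  have h4 := comm_twist H d hgood y (d⁻¹ * ⁅z, v⁆ * d) hy hc'H
  have e4 : d * (d⁻¹ * ⁅z, v⁆ * d) * d⁻¹ = ⁅z, v⁆ := by group
  rw [e4] at h4
  rw [hc', h4] at hN1
  -- n = d (d n d⁻¹) d⁻¹
  have hnH : ⁅y, ⁅z, v⁆⁆ ∈ H := hcH _ _ hy (hcH _ _ hz hv)
  have hcomm2 : Commute (d * d) ⁅y, ⁅z, v⁆⁆ := by
    have : (d * d) * ⁅y, ⁅z, v⁆⁆ = (d * (d * ⁅y, ⁅z, v⁆⁆ * d⁻¹) * d⁻¹) * (d * d) := by group
    rw [← hN1] at this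
    exact this
  have hcomm4 : Commute ((d * d) * (d * d)) ⁅y, ⁅z, v⁆⁆ := hcomm2.mul_left hcomm2
  have e5 : (d * d) * (d * d) = d := by
    calc (d * d) * (d * d) = (d * d * d) * d := by group
      _ = d := by rw [hd3, one_mul]
  rw [e5] at hcomm4
  exact d_fix H d hgood _ hnH hcomm4.eq

theorem comm_central (a b c : G) (ha : a ∈ H) (hb : b ∈ H) (hc : c ∈ H) :
    ⁅a, b⁆ * c = c * ⁅a, b⁆ := by
  have h := double_comm H d hgood c a b hc ha hb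
  exact ((commutatorElement_eq_one_iff_commute.mp h).eq).symm

end class2

/-- criterion for class at most two -/
theorem class_le_two {P : Type*} [Group P] [Group.IsNilpotent P]
    (hP : ∀ a b c : P, ⁅a, b⁆ * c = c * ⁅a, b⁆) : Group.nilpotencyClass P ≤ 2 := by
  rw [← Subgroup.upperCentralSeries_eq_top_iff_nilpotencyClass_le, eq_top_iff]
  intro x _
  rw [show (2 : ℕ) = 1 + 1 from rfl, Subgroup.mem_upperCentralSeries_succ_iff]
  intro y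
  rw [Subgroup.upperCentralSeries_one, Subgroup.mem_center_iff]
  intro g
  exact (hP x y g).symm

theorem nilpotencyClass_le_two (H : Subgroup G) [hHn : H.Normal] [Finite H] (d : G)
    (hgood : ∀ y ∈ H, (y * d) ^ 3 = 1 ∧ ∀ h ∈ H, (y * d) * h = h * (y * d) → h = 1)
    [Group.IsNilpotent H] : Group.nilpotencyClass H ≤ 2 := by
  apply class_le_two
  intro a b c
  apply Subtype.ext
  have := comm_central H d hgood a b c a.2 b.2 c.2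
  simpa [commutatorElement_def] using this

end Cfsg.Agent.Helper19.E4
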