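import Mathlib
import Cfsg.Agent.Helper25.PFour

set_option autoImplicit false
set_option linter.unusedSectionVars false

/-! A class-two group of exponent four with a fixed-point-free "order three" endomorphism `δ`
and an involutory endomorphism `τ` inverting `δ`, such that `(τ v · v)² = 1` for all `v`, is
elementary abelian. -/

namespace Cfsg.Agent.Helper19.E4

open scoped commutatorElement

section elemab

variable {P : Type*} [Group P] (δ τ : P →* P)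
  (hZ : ∀ a b c : P, ⁅a, b⁆ * c = c * ⁅a, b⁆)
  (h4 : ∀ v : P, v ^ 4 = 1)
  (hδfix : ∀ v, δ v = v → v = 1)
  (hδ3 : ∀ v, v * δ v * δ (δ v) = 1)
  (hδc : ∀ v, v * δ v = δ v * v)
  (hτ2 : ∀ v, τ (τ v) = v)
  (hτδ : ∀ v, τ (δ (τ v)) = δ (δ v))
  (hτ4 : ∀ v, (τ v * v) ^ 2 = 1)

include hZ in
theorem bl (a b c : P) : ⁅a * b, c⁆ = ⁅a, c⁆ * ⁅b, c⁆ := by
  calc ⁅a * b, c⁆ = a * ⁅b, c⁆ * a⁻¹ * ⁅a, c⁆ := by simp only [commutatorElement_def]; group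
    _ = ⁅b, c⁆ * a * a⁻¹ * ⁅a, c⁆ := by rw [← hZ b c a]
    _ = ⁅b, c⁆ * ⁅a, c⁆ := by rw [mul_assoc ⁅b, c⁆ a, mul_inv_cancel, mul_one]
    _ = ⁅a, c⁆ * ⁅b, c⁆ := hZ b c ⁅a, c⁆

include hZ in
theorem br (a b c : P) : ⁅a, b * c⁆ = ⁅a, b⁆ * ⁅a, c⁆ := by
  calc ⁅a, b * c⁆ = ⁅a, b⁆ * (b * ⁅a, c⁆ * b⁻¹) := by simp only [commutatorElement_def]; group
    _ = ⁅a, b⁆ * (⁅a, c⁆ * b * b⁻¹) := by rw [← hZ a c b]
    _ = ⁅a, b⁆ * ⁅a, c⁆ := by rw [mul_assoc ⁅a, c⁆ b, mul_inv_cancel, mul_one]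

include hZ h4 in
theorem comm_sq (a b : P) : ⁅a, b⁆ * ⁅a, b⁆ = 1 := by
  have hzx : Commute ⁅a, b⁆ b := hZ a b b
  have hzy : Commute ⁅a, b⁆ a := hZ a b a
  have h := Cfsg.Agent.Helper25.PFour.mul_pow_of_central hzx hzy 4
  rw [h4, h4, h4, one_mul, one_mul] at h
  have h6 : Nat.choose 4 2 = 6 := by decide
  rw [h6] at h
  have h2 : ⁅a, b⁆ ^ 6 = ⁅a, b⁆ ^ 4 * (⁅a, b⁆ * ⁅a, b⁆) := by
    rw [← pow_two, ← pow_add]
  rw [h2, h4, one_mul] at h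
  exact h.symm

include hZ h4 in
theorem comm_symm (a b : P) : ⁅a, b⁆ = ⁅b, a⁆ := by
  rw [← commutatorElement_inv a b]
  exact (inv_eq_of_mul_eq_one_left (comm_sq hZ h4 a b)).symm

include hZ h4 in
theorem br_inv (a b : P) : ⁅a, b⁻¹⁆ = ⁅a, b⁆ := by
  have h := br hZ a b⁻¹ b
  rw [inv_mul_cancel, commutatorElement_one_right] at h
  have h1 : ⁅a, b⁻¹⁆ = ⁅a, b⁆⁻¹ := eq_inv_of_mul_eq_one_left h.symm
  rw [h1]
  exact inv_eq_of_mul_eq_one_left (comm_sq hZ h4 a b)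

include hZ h4 in
theorem comm_sq_right (a m : P) : ⁅a, m * m⁆ = 1 := by
  rw [br hZ, comm_sq hZ h4]

include hZ in
theorem comm_central_right (u a b : P) : ⁅u, ⁅a, b⁆⁆ = 1 := by
  rw [commutatorElement_eq_one_iff_commute]
  exact (hZ a b u).symm

include hZ h4 hδc in
/-- self-adjointness of `δ` -/
theorem sa (a b : P) : ⁅a, δ b⁆ = ⁅δ a, b⁆ := by
  have h1 : ⁅a * b, δ (a * b)⁆ = 1 :=
    commutatorElement_eq_one_iff_commute.mpr (hδc (a * b))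
  have ha : ⁅a, δ a⁆ = 1 := commutatorElement_eq_one_iff_commute.mpr (hδc a)
  have hb : ⁅b, δ b⁆ = 1 := commutatorElement_eq_one_iff_commute.mpr (hδc b)
  rw [map_mul, bl hZ, br hZ, br hZ, ha, hb, one_mul, mul_one] at h1
  have h2 : ⁅a, δ b⁆ = ⁅b, δ a⁆⁻¹ := eq_inv_of_mul_eq_one_left h1
  rw [h2, commutatorElement_inv]

include hZ h4 hτ4 in
/-- isotropy of the `w`-elements -/
theorem iso (a b : P) : ⁅τ a * a, τ b * b⁆ = 1 := by
  have hw : τ (a * b) * (a * b) = ⁅τ b, a⁆ * ((τ a * a) * (τ b * b)) := by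
    have e1 : τ b * a = ⁅τ b, a⁆ * a * τ b := by rw [commutatorElement_def]; group
    calc τ (a * b) * (a * b) = τ a * (τ b * a) * b := by rw [map_mul]; group
      _ = τ a * (⁅τ b, a⁆ * a * τ b) * b := by rw [e1]
      _ = (τ a * ⁅τ b, a⁆) * a * τ b * b := by group
      _ = (⁅τ b, a⁆ * τ a) * a * τ b * b := by rw [hZ (τ b) a (τ a)]
      _ = ⁅τ b, a⁆ * ((τ a * a) * (τ b * b)) := by group
  have h1 := hτ4 (a * b)
  rw [hw] at h1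
  have hc : Commute ⁅τ b, a⁆ ((τ a * a) * (τ b * b)) := hZ _ _ _
  rw [hc.mul_pow, pow_two ⁅τ b, a⁆, comm_sq hZ h4, one_mul] at h1
  have hzx : Commute ⁅τ b * b, τ a * a⁆ (τ a * a) := hZ _ _ _
  have hzy : Commute ⁅τ b * b, τ a * a⁆ (τ b * b) := hZ _ _ _
  have h2 := Cfsg.Agent.Helper25.PFour.mul_pow_of_central hzx hzy 2
  rw [h1, hτ4, hτ4, one_mul, one_mul] at h2
  have h3 : Nat.choose 2 2 = 1 := by decide
  rw [h3, pow_one] at h2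
  rw [comm_symm hZ h4]
  exact h2.symm

include hZ h4 hδfix hδ3 hδc hτ4 in
theorem claim5 (a b : P) : ⁅τ a * a, δ (δ (τ b * b))⁆ = 1 := by
  have hxy : ⁅τ a * a, τ b * b⁆ = 1 := iso τ hZ h4 hτ4 a b
  have hdd : δ (δ (τ b * b)) = ((τ b * b) * δ (τ b * b))⁻¹ := by
    have := hδ3 (τ b * b)
    exact eq_inv_of_mul_eq_one_right this
  have hg : δ ⁅τ a * a, δ (τ b * b)⁆ = ⁅τ a * a, δ (τ b * b)⁆ := by
    rw [map_commutatorElement, hdd, br_inv hZ h4, br hZ, ← sa δ hZ h4 hδc (τ a * a) (τ b * b),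
      ← map_commutatorElement, hxy, map_one, mul_one]
  have hg1 : ⁅τ a * a, δ (τ b * b)⁆ = 1 := hδfix _ hg
  rw [hdd, br_inv hZ h4, br hZ, hxy, hg1, one_mul]

include hZ h4 hδ3 hτ2 hτδ in
/-- decomposition of `v` modulo the centre -/
theorem decomp (u v : P) :
    ⁅u, v⁆ = ⁅u, τ (δ v) * δ v⁆ * ⁅u, δ (δ (τ v * v))⁆ := by
  have hm : δ (δ (τ v)) = τ (δ v) := by
    have := hτδ (τ v)
    rw [hτ2] at this
    exact this.symm
  have hpq : (τ (δ v) * δ v) * δ (δ (τ v * v)) =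
      ⁅δ v, τ (δ v)⁆ * ((τ (δ v) * τ (δ v)) * v⁻¹) := by
    have e1 : δ v * τ (δ v) = ⁅δ v, τ (δ v)⁆ * τ (δ v) * δ v := by
      rw [commutatorElement_def]; group
    have e2 : δ v * δ (δ v) = v⁻¹ := by
      have := hδ3 v
      rw [mul_assoc] at this
      exact eq_inv_of_mul_eq_one_right this
    calc (τ (δ v) * δ v) * δ (δ (τ v * v))
        = τ (δ v) * (δ v * τ (δ v)) * δ (δ v) := by
          rw [map_mul, map_mul, hm]; group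
      _ = τ (δ v) * (⁅δ v, τ (δ v)⁆ * τ (δ v) * δ v) * δ (δ v) := by rw [e1]
      _ = (τ (δ v) * ⁅δ v, τ (δ v)⁆) * τ (δ v) * (δ v * δ (δ v)) := by group
      _ = (⁅δ v, τ (δ v)⁆ * τ (δ v)) * τ (δ v) * v⁻¹ := by
          rw [hZ (δ v) (τ (δ v)) (τ (δ v)), e2]
      _ = ⁅δ v, τ (δ v)⁆ * ((τ (δ v) * τ (δ v)) * v⁻¹) := by group
  rw [← br hZ, hpq, br hZ, br hZ, comm_central_right hZ, comm_sq_right hZ h4, br_inv hZ h4,
    one_mul, one_mul]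

include hZ h4 hδfix hδ3 hδc hτ2 hτδ hτ4 in
theorem abelian (u v : P) : u * v = v * u := by
  have key : ⁅u, v⁆ = 1 := by
    rw [decomp δ τ hZ h4 hδ3 hτ2 hτδ u v]
    -- expand the left argument in each factor
    have hL : ∀ x : P, ⁅u, x⁆ = ⁅τ (δ u) * δ u, x⁆ * ⁅δ (δ (τ u * u)), x⁆ := by
      intro x
      rw [comm_symm hZ h4 u x, decomp δ τ hZ h4 hδ3 hτ2 hτδ x u,
        comm_symm hZ h4 x (τ (δ u) * δ u), comm_symm hZ h4 x (δ (δ (τ u * u)))]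
    rw [hL (τ (δ v) * δ v), hL (δ (δ (τ v * v)))]
    have t1 : ⁅τ (δ u) * δ u, τ (δ v) * δ v⁆ = 1 := iso τ hZ h4 hτ4 (δ u) (δ v)
    have t2 : ⁅δ (δ (τ u * u)), τ (δ v) * δ v⁆ = 1 := by
      rw [comm_symm hZ h4]
      exact claim5 δ τ hZ h4 hδfix hδ3 hδc hτ4 (δ v) u
    have t3 : ⁅τ (δ u) * δ u, δ (δ (τ v * v))⁆ = 1 :=
      claim5 δ τ hZ h4 hδfix hδ3 hδc hτ4 (δ u) v
    have t4 : ⁅δ (δ (τ u * u)), δ (δ (τ v * v))⁆ = 1 := by
      rw [← map_commutatorElement, ← map_commutatorElement, iso τ hZ h4 hτ4 u v, map_one, map_one]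
    rw [t1, t2, t3, t4]; simp
  exact (commutatorElement_eq_one_iff_commute.mp key).eq

include hZ h4 hδfix hδ3 hδc hτ2 hτδ hτ4 in
theorem sq_eq_one (v : P) : v ^ 2 = 1 := by
  have hab := abelian δ τ hZ h4 hδfix hδ3 hδc hτ2 hτδ hτ4
  have hτsq : ∀ x : P, τ (x ^ 2) = (x ^ 2)⁻¹ := by
    intro x
    have h1 := hτ4 x
    have hc : Commute (τ x) x := hab _ _
    rw [hc.mul_pow, ← map_pow] at h1
    exact eq_inv_of_mul_eq_one_left h1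
  have h1 := hτδ (v ^ 2)
  rw [hτsq v, map_inv, map_inv, map_pow δ v 2, hτsq (δ v), inv_inv, ← map_pow] at h1
  -- h1 : δ (v^2) = δ (δ (v^2))
  have h2 : δ (v ^ 2) = 1 := hδfix _ h1.symm
  have h3 := hδ3 (v ^ 2)
  rw [h2, map_one, mul_one, mul_one] at h3
  exact h3

end elemab

end Cfsg.Agent.Helper19.E4
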