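import Mathlib
import Cfsg.Agent.Helper1.CNSolv
import Cfsg.Agent.Helper1.FrobGroup
import Cfsg.Agent.S0144
import Cfsg.Agent.Helper19.E4A

set_option autoImplicit false
set_option linter.unusedSectionVars false
set_option linter.style.haveILetI false

/-! Groups with element orders `{1,2,3,4}`: basic structure. -/

namespace Cfsg.Agent.Helper19.E4

open Cfsg.Agent.Helper14 (pCore_isPGroup le_pCore pCore_le_sylow)

/-- the spectrum hypothesis -/
structure Spec (G : Type*) [Group G] : Prop where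
  ord : ∀ g : G, orderOf g = 1 ∨ orderOf g = 2 ∨ orderOf g = 3 ∨ orderOf g = 4
  ex2 : ∃ g : G, orderOf g = 2
  ex3 : ∃ g : G, orderOf g = 3
  ex4 : ∃ g : G, orderOf g = 4

variable {G : Type*} [Group G]

theorem Spec.pow4 (hS : Spec G) (g : G) (h3 : orderOf g ≠ 3) : g ^ 4 = 1 := by
  rcases hS.ord g with h | h | h | h
  · rw [orderOf_eq_one_iff.1 h, one_pow]
  · have : g ^ 2 = 1 := by rw [← h]; exact pow_orderOf_eq_one g
    rw [show (4 : ℕ) = 2 * 2 from rfl, pow_mul, this, one_pow]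
  · exact absurd h h3
  · rw [← h]; exact pow_orderOf_eq_one g

theorem Spec.no6 (hS : Spec G) (a b : G) (hab : a * b = b * a) (ha : a ^ 4 = 1)
    (hb : orderOf b = 3) : a = 1 := by
  by_contra ha1
  have hd : orderOf a ∣ 4 := orderOf_dvd_of_pow_eq_one ha
  have h1 : orderOf a ≠ 1 := fun h => ha1 (orderOf_eq_one_iff.1 h)
  have hcases : orderOf a = 2 ∨ orderOf a = 4 := by
    rcases hS.ord a with h | h | h | h
    · exact absurd h h1
    · exact Or.inl h
    · rw [h] at hd; omega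
    · exact Or.inr h
  have hcop : (orderOf a).Coprime (orderOf b) := by
    rw [hb]; rcases hcases with h | h <;> rw [h] <;> decide
  have := Commute.orderOf_mul_eq_mul_orderOf_of_coprime (show Commute a b from hab) hcop
  rw [hb] at this
  rcases hS.ord (a * b) with h | h | h | h <;> rcases hcases with h' | h' <;> omega

theorem Spec.pow3_of_commute (hS : Spec G) (g c : G) (hg : orderOf g = 3) (hc : c * g = g * c) :
    c ^ 3 = 1 := by
  by_cases h3 : orderOf c = 3
  · rw [← h3]; exact pow_orderOf_eq_one c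
  · have := hS.no6 c g hc (hS.pow4 c h3) hg
    rw [this, one_pow]

theorem Spec.isCN [Finite G] (hS : Spec G) : Cfsg.IsCNGroup G := by
  intro g hg1
  haveI : Fact (Nat.Prime 2) := ⟨Nat.prime_two⟩
  haveI : Fact (Nat.Prime 3) := ⟨Nat.prime_three⟩
  by_cases h3 : orderOf g = 3
  · have hP : IsPGroup 3 (Subgroup.centralizer ({g} : Set G)) := by
      intro c
      refine ⟨1, ?_⟩
      apply Subtype.ext
      have hc : (c : G) * g = g * c := Subgroup.mem_centralizer_singleton_iff.1 c.2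
      simp only [pow_one, Subgroup.coe_pow, Subgroup.coe_one]
      exact hS.pow3_of_commute g c h3 hc
    exact hP.isNilpotent
  · have hP : IsPGroup 2 (Subgroup.centralizer ({g} : Set G)) := by
      intro c
      refine ⟨2, ?_⟩
      apply Subtype.ext
      have hc : (c : G) * g = g * c := Subgroup.mem_centralizer_singleton_iff.1 c.2
      simp only [Subgroup.coe_pow, Subgroup.coe_one]
      have hc3 : orderOf (c : G) ≠ 3 := by
        intro hc3
        exact hg1 (hS.no6 g c hc.symm (hS.pow4 g h3) hc3)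
      exact hS.pow4 c hc3
    exact hP.isNilpotent

theorem Spec.prime_dvd [Finite G] (hS : Spec G) {q : ℕ} (hq : q.Prime) (hqG : q ∣ Nat.card G) :
    q = 2 ∨ q = 3 := by
  haveI : Fact q.Prime := ⟨hq⟩
  obtain ⟨g, hg⟩ := exists_prime_orderOf_dvd_card' q hqG
  rcases hS.ord g with h | h | h | h
  · rw [h] at hg; exact absurd hg.symm hq.ne_one
  · left; rw [← hg, h]
  · right; rw [← hg, h]
  · rw [h] at hg; rw [← hg] at hq; exact absurd hq (by decide)

theorem Spec.card [Finite G] (hS : Spec G) : ∃ a b : ℕ, Nat.card G = 2 ^ a * 3 ^ b := by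
  haveI : Fact (Nat.Prime 2) := ⟨Nat.prime_two⟩
  obtain ⟨P⟩ : Nonempty (Sylow 2 G) := inferInstance
  obtain ⟨a, ha⟩ := IsPGroup.iff_card.mp P.isPGroup'
  set m := (P : Subgroup G).index with hm
  have hm2 : ¬ 2 ∣ m := P.not_dvd_index
  have hmn : m ∣ Nat.card G := Subgroup.index_dvd_card _
  have hprime : ∀ {q : ℕ}, q.Prime → q ∣ m → q = 3 := by
    intro q hq hqm
    rcases hS.prime_dvd hq (hqm.trans hmn) with h | h
    · rw [h] at hqm; exact absurd hqm hm2
    · exact h
  have hm0 : m ≠ 0 := Subgroup.index_ne_zero_of_finite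
  have hmpow := Nat.eq_prime_pow_of_unique_prime_dvd hm0 hprime
  refine ⟨a, m.primeFactorsList.length, ?_⟩
  rw [← hmpow, ← ha, hm]
  exact ((P : Subgroup G).card_mul_index).symm

theorem Spec.solvable [Finite G] (hS : Spec G) : Group.IsSolvable G := by
  obtain ⟨a, b, hab⟩ := hS.card
  exact Cfsg.Agent.S0144.result 2 3 a b Nat.prime_two Nat.prime_three hab

theorem Spec.not_nilpotent [Finite G] (hS : Spec G) : ¬ Group.IsNilpotent G := by
  intro hn
  haveI := hn
  obtain ⟨g2, hg2⟩ := hS.ex2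
  obtain ⟨g3, hg3⟩ := hS.ex3
  have h2 : 2 ∣ Nat.card G := hg2 ▸ orderOf_dvd_natCard g2
  have h3 : 3 ∣ Nat.card G := hg3 ▸ orderOf_dvd_natCard g3
  obtain ⟨g, hg⟩ := Cfsg.Agent.Helper1.FrobGroup.exists_orderOf_mul_of_nilpotent
    Nat.prime_two Nat.prime_three (by decide) h2 h3
  rcases hS.ord g with h | h | h | h <;> omega

/-- elements of a `3`-subgroup have order `1` or `3` -/
theorem Spec.order_three (hS : Spec G) {K : Subgroup G} (hK : IsPGroup 3 K) (b : G) (hb : b ∈ K)
    (hb1 : b ≠ 1) : orderOf b = 3 := by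
  obtain ⟨k, hk⟩ := (IsPGroup.iff_orderOf.1 hK) ⟨b, hb⟩
  rw [Subgroup.orderOf_mk] at hk
  rcases hS.ord b with h | h | h | h
  · exact absurd (orderOf_eq_one_iff.1 h) hb1
  · exfalso
    rw [h] at hk
    cases k with
    | zero => simp at hk
    | succ k =>
      have : 3 ∣ 2 := by rw [hk, pow_succ]; exact dvd_mul_left 3 _
      omega
  · exact h
  · exfalso
    rw [h] at hk
    cases k with
    | zero => simp at hk
    | succ k =>
      have : 3 ∣ 4 := by rw [hk, pow_succ]; exact dvd_mul_left 3 _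
      omega

/-- elements of a `2`-subgroup have order dividing `4` -/
theorem Spec.pow_four (hS : Spec G) {K : Subgroup G} (hK : IsPGroup 2 K) (a : G) (ha : a ∈ K) :
    a ^ 4 = 1 := by
  apply hS.pow4
  intro h3
  obtain ⟨k, hk⟩ := (IsPGroup.iff_orderOf.1 hK) ⟨a, ha⟩
  rw [Subgroup.orderOf_mk, h3] at hk
  cases k with
  | zero => simp at hk
  | succ k =>
    have : 2 ∣ 3 := by rw [hk, pow_succ]; exact dvd_mul_left 2 _
    omega

theorem Spec.fitting [Finite G] (hS : Spec G) :
    (Cfsg.pCore 2 G ≠ ⊥ ∧ Cfsg.fittingSubgroup G = Cfsg.pCore 2 G) ∨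
    (Cfsg.pCore 3 G ≠ ⊥ ∧ Cfsg.fittingSubgroup G = Cfsg.pCore 3 G) := by
  haveI := hS.solvable
  have hF : Cfsg.fittingSubgroup G = Cfsg.Agent.Helper7.pCoreSup G :=
    Cfsg.Agent.Helper7.fittingSubgroup_eq_pCoreSup
  have hF1 : Cfsg.fittingSubgroup G ≠ ⊥ := by
    intro h0
    have h1 := Cfsg.Agent.S0044.result (G := G)
    rw [h0] at h1
    have h2 : (⊤ : Subgroup G) ≤ ⊥ := by
      refine le_trans ?_ h1
      intro x _
      rw [Subgroup.mem_centralizer_iff]
      intro y hy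
      rw [Subgroup.coe_bot, Set.mem_singleton_iff] at hy
      subst hy
      simp
    obtain ⟨g, hg⟩ := hS.ex2
    have : g ∈ (⊥ : Subgroup G) := h2 (Subgroup.mem_top g)
    rw [Subgroup.mem_bot] at this
    rw [this, orderOf_one] at hg
    omega
  have hother : ∀ q : Nat.Primes, (q : ℕ) ≠ 2 → (q : ℕ) ≠ 3 → Cfsg.pCore (q : ℕ) G = ⊥ := by
    intro q h2 h3
    by_contra hne
    haveI : Fact (q : ℕ).Prime := ⟨q.2⟩
    obtain ⟨⟨a, ha⟩, ha1⟩ := (Subgroup.ne_bot_iff_exists_ne_one).mp hne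
    have ha1' : a ≠ 1 := fun h => ha1 (Subtype.ext h)
    obtain ⟨k, hk⟩ := (IsPGroup.iff_orderOf.1 (pCore_isPGroup (G := G) (q : ℕ))) ⟨a, ha⟩
    rw [Subgroup.orderOf_mk] at hk
    have hk0 : k ≠ 0 := by
      intro h0
      rw [h0, pow_zero] at hk
      exact ha1' (orderOf_eq_one_iff.1 hk)
    have hq : (q : ℕ) ∣ Nat.card G := by
      have h1 : (q : ℕ) ∣ orderOf a := by rw [hk]; exact dvd_pow_self _ hk0
      exact h1.trans (orderOf_dvd_natCard a)
    rcases hS.prime_dvd q.2 hq with h | h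
    · exact h2 h
    · exact h3 h
  have hnot : Cfsg.pCore 2 G ≠ ⊥ → Cfsg.pCore 3 G = ⊥ := by
    intro h2
    by_contra h3
    obtain ⟨⟨a, ha⟩, ha1⟩ := (Subgroup.ne_bot_iff_exists_ne_one).mp h2
    have ha1' : a ≠ 1 := fun h => ha1 (Subtype.ext h)
    obtain ⟨⟨b, hb⟩, hb1⟩ := (Subgroup.ne_bot_iff_exists_ne_one).mp h3
    have hb1' : b ≠ 1 := fun h => hb1 (Subtype.ext h)
    have hdis : Disjoint (Cfsg.pCore 2 G) (Cfsg.pCore 3 G) :=
      IsPGroup.disjoint_of_ne 2 3 (by decide) _ _ (pCore_isPGroup 2) (pCore_isPGroup 3)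
    have hab : a * b = b * a :=
      (Subgroup.commute_of_normal_of_disjoint _ _ (Cfsg.pCore_normal 2 G)
        (Cfsg.pCore_normal 3 G) hdis a b ha hb).eq
    have hb3 : orderOf b = 3 := hS.order_three (pCore_isPGroup 3) b hb hb1'
    have ha4 : a ^ 4 = 1 := hS.pow_four (pCore_isPGroup 2) a ha
    exact ha1' (hS.no6 a b hab ha4 hb3)
  by_cases h2 : Cfsg.pCore 2 G = ⊥
  · right
    have h3eq : Cfsg.fittingSubgroup G = Cfsg.pCore 3 G := by
      rw [hF]
      unfold Cfsg.Agent.Helper7.pCoreSup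
      apply le_antisymm
      · apply iSup_le
        intro q
        by_cases hq2 : (q : ℕ) = 2
        · rw [hq2, h2]; exact bot_le
        · by_cases hq3 : (q : ℕ) = 3
          · rw [hq3]
          · rw [hother q hq2 hq3]; exact bot_le
      · exact le_iSup (fun q : Nat.Primes => Cfsg.pCore (q : ℕ) G) ⟨3, Nat.prime_three⟩
    refine ⟨?_, h3eq⟩
    rw [← h3eq]; exact hF1
  · left
    refine ⟨h2, ?_⟩
    rw [hF]
    unfold Cfsg.Agent.Helper7.pCoreSup
    apply le_antisymm
    · apply iSup_le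
      intro q
      by_cases hq2 : (q : ℕ) = 2
      · rw [hq2]
      · by_cases hq3 : (q : ℕ) = 3
        · rw [hq3, hnot h2]; exact bot_le
        · rw [hother q hq2 hq3]; exact bot_le
    · exact le_iSup (fun q : Nat.Primes => Cfsg.pCore (q : ℕ) G) ⟨2, Nat.prime_two⟩

end Cfsg.Agent.Helper19.E4
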