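import Mathlib
import Cfsg.Agent.Helper19.E4C

set_option autoImplicit false
set_option linter.unusedSectionVars false
set_option linter.style.haveILetI false

/-! Groups with element orders `{1,2,3,4}`: the case `F(G) = O_3(G)`. -/

namespace Cfsg.Agent.Helper19.E4

open Cfsg.Agent.Helper14 (pCore_isPGroup le_pCore pCore_le_sylow)

variable {G : Type*} [Group G]

theorem Spec.case_three [Finite G] (hS : Spec G) (h3 : Cfsg.pCore 3 G ≠ ⊥)
    (hF : Cfsg.fittingSubgroup G = Cfsg.pCore 3 G) :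
    ∃ (N : Subgroup G) (_ : N.Normal), Cfsg.IsElementaryAbelian 3 N ∧
      ((IsCyclic (G ⧸ N) ∧ N.index = 4) ∨ Nonempty (G ⧸ N ≃* QuaternionGroup 2)) := by
  haveI := hS.solvable
  haveI : Fact (Nat.Prime 2) := ⟨Nat.prime_two⟩
  haveI : Fact (Nat.Prime 3) := ⟨Nat.prime_three⟩
  have hCN := hS.isCN
  have hnn := hS.not_nilpotent
  obtain ⟨D, k, hGcard, hDcop, hD1, hDnil, hfpf⟩ :=
    Cfsg.Agent.Helper1.CNSolv.exists_hall_compl hCN hnn h3 hF
  obtain ⟨hDF, hcentr, huniq⟩ :=
    Cfsg.Agent.Helper1.CNSolv.quotient_structure hCN hnn h3 D k hGcard hDcop hDnil hfpf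
  haveI hHn : (Cfsg.pCore 3 G).Normal := Cfsg.pCore_normal 3 G
  have hHp : IsPGroup 3 (Cfsg.pCore 3 G) := pCore_isPGroup 3
  -- elements of D
  have hD4 : ∀ x ∈ D, x ^ 4 = 1 := by
    intro x hx
    apply hS.pow4
    intro h3'
    have h1 : orderOf x ∣ Nat.card D := by
      have := orderOf_dvd_natCard (⟨x, hx⟩ : D)
      rwa [Subgroup.orderOf_mk] at this
    rw [h3'] at h1
    have := Nat.Coprime.eq_one_of_dvd hDcop.symm h1
    omega
  have hD2 : IsPGroup 2 D := by
    intro x
    refine ⟨2, ?_⟩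
    apply Subtype.ext
    simp only [Subgroup.coe_pow, Subgroup.coe_one]
    exact hD4 x x.2
  have hH3 : ∀ a ∈ Cfsg.pCore 3 G, a ^ 3 = 1 := by
    intro a ha
    by_cases ha1 : a = 1
    · rw [ha1, one_pow]
    · rw [← hS.order_three hHp a ha ha1]; exact pow_orderOf_eq_one a
  have hDH : ∀ x ∈ D, x ∈ Cfsg.pCore 3 G → x = 1 := by
    intro x hxD hxH
    have h4 := hD4 x hxD
    have h3' := hH3 x hxH
    calc x = x ^ 4 * (x ^ 3)⁻¹ := by group
      _ = 1 := by rw [h4, h3', inv_one, one_mul]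
  -- an involution in D
  obtain ⟨z, hzD, hz2⟩ : ∃ z ∈ D, orderOf z = 2 := by
    obtain ⟨j, hj⟩ := IsPGroup.iff_card.mp hD2
    have hj0 : j ≠ 0 := by
      intro h0
      rw [h0, pow_zero] at hj
      exact hD1 (Subgroup.card_eq_one.mp hj)
    have h2 : 2 ∣ Nat.card D := by rw [hj]; exact dvd_pow_self 2 hj0
    obtain ⟨z, hz⟩ := exists_prime_orderOf_dvd_card' (G := D) 2 h2
    exact ⟨z, z.2, by rw [← hz, Subgroup.orderOf_coe]⟩
  have hz1 : z ≠ 1 := by
    intro h; rw [h, orderOf_one] at hz2; omega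
  have hzsq : z * z = 1 := by rw [← sq, ← hz2]; exact pow_orderOf_eq_one z
  set π := QuotientGroup.mk' (Cfsg.pCore 3 G) with hπ
  have hzbar : orderOf (π z) = 2 := by
    have h1 : (π z) ^ 2 = 1 := by rw [← map_pow, sq, hzsq, map_one]
    have h2 : π z ≠ 1 := by
      intro h
      have : z ∈ Cfsg.pCore 3 G := by
        rw [← QuotientGroup.ker_mk' (Cfsg.pCore 3 G)]; exact h
      exact hz1 (hDH z hzD this)
    exact orderOf_eq_prime h1 h2
  have hzbarD : π z ∈ D.map π := Subgroup.mem_map_of_mem π hzD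
  haveI hDn : (D.map π).Normal := by
    rw [hDF]; exact Cfsg.Agent.Helper7.fittingSubgroup_normal _
  -- D̄ = ⊤
  have htop : D.map π = ⊤ := by
    rw [eq_top_iff]
    intro q _
    apply hcentr 2 Nat.prime_two (π z) hzbarD hzbar
    rw [Subgroup.mem_centralizer_singleton_iff]
    have hw : q * π z * q⁻¹ ∈ D.map π := hDn.conj_mem _ hzbarD q
    have hwo : orderOf (q * π z * q⁻¹) = 2 := by
      have := orderOf_injective (MulAut.conj q).toMonoidHom (MulAut.conj q).injective (π z)
      simp only [MulEquiv.coe_toMonoidHom, MulAut.conj_apply] at this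
      rw [this, hzbar]
    have hmem := huniq 2 Nat.prime_two (π z) hzbarD _ hw hzbar hwo
    -- members of zpowers of an involution
    have : q * π z * q⁻¹ = π z := by
      rw [Subgroup.mem_zpowers_iff] at hmem
      obtain ⟨i, hi⟩ := hmem
      rcases Int.even_or_odd i with ⟨m, hm⟩ | ⟨m, hm⟩
      · exfalso
        have h1 : (π z) ^ i = 1 := by
          rw [hm, ← two_mul, zpow_mul, zpow_ofNat, ← hzbar, pow_orderOf_eq_one, one_zpow]
        rw [h1] at hi
        rw [← hi, orderOf_one] at hwo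
        omega
      · have h1 : (π z) ^ i = π z := by
          rw [hm, zpow_add, zpow_mul, zpow_ofNat, ← hzbar, pow_orderOf_eq_one, one_zpow, one_mul,
            zpow_one]
        rw [← hi, h1]
    calc q * π z = (q * π z * q⁻¹) * q := by group
      _ = π z * q := by rw [this]
  -- the isomorphism D ≃* G ⧸ H
  let f : D →* G ⧸ Cfsg.pCore 3 G := π.comp D.subtype
  have hfinj : Function.Injective f := by
    rw [injective_iff_map_eq_one]
    intro x hx
    have : (x : G) ∈ Cfsg.pCore 3 G := by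
      rw [← QuotientGroup.ker_mk' (Cfsg.pCore 3 G)]; exact hx
    exact Subtype.ext (hDH x x.2 this)
  have hfsurj : Function.Surjective f := by
    intro q
    have : q ∈ D.map π := htop ▸ Subgroup.mem_top q
    obtain ⟨x, hx, rfl⟩ := this
    exact ⟨⟨x, hx⟩, rfl⟩
  let e : D ≃* G ⧸ Cfsg.pCore 3 G := MulEquiv.ofBijective f ⟨hfinj, hfsurj⟩
  have hQ4 : ∀ q : G ⧸ Cfsg.pCore 3 G, q ^ 4 = 1 := by
    intro q
    obtain ⟨x, rfl⟩ := hfsurj q
    rw [← map_pow]
    have : x ^ 4 = 1 := Subtype.ext (by simpa using hD4 x x.2)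
    rw [this, map_one]
  -- an element of order 4 in the quotient
  obtain ⟨g4, hg4⟩ := hS.ex4
  have hq4 : orderOf (π g4) = 4 := by
    have h1 : orderOf (π g4) ∣ 4 := orderOf_dvd_of_pow_eq_one (hQ4 _)
    have h2 : (π g4) ^ 2 ≠ 1 := by
      intro h
      have hmem : g4 ^ 2 ∈ Cfsg.pCore 3 G := by
        rw [← QuotientGroup.ker_mk' (Cfsg.pCore 3 G)]
        change π (g4 ^ 2) = 1
        rw [map_pow]; exact h
      have h3' := hH3 _ hmem
      have h6 : g4 ^ 6 = 1 := by rw [show 6 = 2 * 3 from rfl, pow_mul]; exact h3'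
      have := orderOf_dvd_of_pow_eq_one h6
      rw [hg4] at this
      omega
    have h3' : orderOf (π g4) ≤ 4 := Nat.le_of_dvd (by norm_num) h1
    interval_cases h : orderOf (π g4)
    · simp at h1
    · exact absurd (by rw [orderOf_eq_one_iff.1 h, one_pow]) h2
    · exact absurd (by rw [← h]; exact pow_orderOf_eq_one _) h2
    · omega
    · rfl
  -- H elementary abelian
  have hHel : Cfsg.IsElementaryAbelian 3 (Cfsg.pCore 3 G) := by
    refine ⟨?_, hH3⟩
    let φ : Cfsg.pCore 3 G →* Cfsg.pCore 3 G := (MulAut.conjNormal z : MulAut _).toMonoidHom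
    have hφ : ∀ a : Cfsg.pCore 3 G, ((φ a : Cfsg.pCore 3 G) : G) = z * a * z⁻¹ :=
      fun a => MulAut.conjNormal_apply z a
    have hfpf' : MonoidHom.FixedPointFree φ := by
      intro a ha
      have h1 := congrArg Subtype.val ha
      rw [hφ] at h1
      have h2 : (a : G) ∈ Cfsg.pCore 3 G ⊓ Subgroup.centralizer {z} := by
        refine Subgroup.mem_inf.mpr ⟨a.2, ?_⟩
        rw [Subgroup.mem_centralizer_singleton_iff]
        calc (a : G) * z = (z * a * z⁻¹) * z := by rw [h1]
          _ = z * a := by group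
      rw [hfpf z hzD hz1, Subgroup.mem_bot] at h2
      exact Subtype.ext h2
    have hinv : Function.Involutive φ := by
      intro a
      apply Subtype.ext
      rw [hφ, hφ]
      have hzi : z⁻¹ = z := inv_eq_of_mul_eq_one_left hzsq
      calc z * (z * (a : G) * z⁻¹) * z⁻¹ = (z * z) * a * (z⁻¹ * z⁻¹) := by group
        _ = a := by rw [hzi, hzsq, one_mul, mul_one]
    rw [isMulCommutative_iff]
    intro a b
    exact (hfpf'.commute_all_of_involutive hinv a b).eq
  -- the cyclic case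
  have hcyc : IsCyclic (G ⧸ Cfsg.pCore 3 G) → (IsCyclic (G ⧸ Cfsg.pCore 3 G) ∧
      (Cfsg.pCore 3 G).index = 4) := by
    intro hc
    refine ⟨hc, ?_⟩
    obtain ⟨γ, hγ⟩ := hc.exists_generator
    have h1 : Nat.card (G ⧸ Cfsg.pCore 3 G) = orderOf γ := by
      rw [← Nat.card_zpowers]
      have : Subgroup.zpowers γ = ⊤ := by
        rw [eq_top_iff]; intro x _; exact hγ x
      rw [this, Subgroup.card_top]
    have h2 : orderOf γ ∣ 4 := orderOf_dvd_of_pow_eq_one (hQ4 γ)
    have h3' : 4 ∣ Nat.card (G ⧸ Cfsg.pCore 3 G) := hq4 ▸ orderOf_dvd_natCard (π g4)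
    rw [Subgroup.index_eq_card]
    rw [h1] at h3' ⊢
    exact Nat.dvd_antisymm h2 h3'
  refine ⟨Cfsg.pCore 3 G, hHn, hHel, ?_⟩
  rcases Cfsg.Agent.Helper1.fpf_pgroup_cyclic_or_quaternion h3 D hD2 hfpf with hc | ⟨-, n, ⟨eQ⟩⟩
  · left
    apply hcyc
    haveI := hc
    exact isCyclic_of_surjective e.toMonoidHom e.surjective
  · let e' : G ⧸ Cfsg.pCore 3 G ≃* QuaternionGroup (2 ^ n) := e.symm.trans eQ
    have ha4 : (QuaternionGroup.a 1 : QuaternionGroup (2 ^ n)) ^ 4 = 1 := by
      have := hQ4 (e'.symm (QuaternionGroup.a 1))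
      rw [← map_pow] at this
      have h2 := congrArg e' this
      rwa [MulEquiv.apply_symm_apply, map_one] at h2
    have hdvd : 2 * 2 ^ n ∣ 4 := by
      rw [← QuaternionGroup.orderOf_a_one]
      exact orderOf_dvd_of_pow_eq_one ha4
    have hn : n ≤ 1 := by
      by_contra hn
      have : 2 ^ 2 ∣ 2 ^ n := pow_dvd_pow 2 (by omega)
      have h8 : 2 * 2 ^ 2 ∣ 4 := (Nat.mul_dvd_mul_left 2 this).trans hdvd
      omega
    interval_cases n
    · left
      apply hcyc
      haveI : IsCyclic (QuaternionGroup (2 ^ 0)) := by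
        rw [pow_zero]; exact QuaternionGroup.quaternionGroup_one_isCyclic
      exact isCyclic_of_surjective e'.symm.toMonoidHom e'.symm.surjective
    · right
      exact ⟨e'⟩

end Cfsg.Agent.Helper19.E4
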