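import Mathlib
import Cfsg.Agent.Helper7.S3Iso
import Cfsg.Agent.Helper19.E4B
import Cfsg.Agent.Helper19.E4C

set_option autoImplicit false
set_option linter.unusedSectionVars false
set_option linter.style.haveILetI false

/-! Groups with element orders `{1,2,3,4}`: the case `F(G) = O_2(G)`. -/

namespace Cfsg.Agent.Helper19.E4

open Cfsg.Agent.Helper14 (pCore_isPGroup le_pCore pCore_le_sylow)
open scoped commutatorElement

variable {G : Type*} [Group G]

/-- The elementary abelian conclusion from the existence of an inverting involution. -/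
theorem elemAb_of_invol (H : Subgroup G) [hHn : H.Normal] [Finite H]
    (hH4 : ∀ v ∈ H, v ^ 4 = 1) (d t : G)
    (hgood : ∀ y ∈ H, (y * d) ^ 3 = 1 ∧ ∀ h ∈ H, (y * d) * h = h * (y * d) → h = 1)
    (htt : t * t = 1) (htd : t * d * t⁻¹ = d⁻¹) (htv : ∀ v ∈ H, (t * v) ^ 4 = 1) :
    Cfsg.IsElementaryAbelian 2 H := by
  have hd3 := d_cube H d hgood
  have hti : t⁻¹ = t := inv_eq_of_mul_eq_one_left htt
  let δ : H →* H := (MulAut.conjNormal d : MulAut H).toMonoidHom
  let τ : H →* H := (MulAut.conjNormal t : MulAut H).toMonoidHom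
  have hδ : ∀ a : H, ((δ a : H) : G) = d * a * d⁻¹ := fun a => MulAut.conjNormal_apply d a
  have hτ : ∀ a : H, ((τ a : H) : G) = t * a * t⁻¹ := fun a => MulAut.conjNormal_apply t a
  have hZ : ∀ a b c : H, ⁅a, b⁆ * c = c * ⁅a, b⁆ := by
    intro a b c
    apply Subtype.ext
    have := comm_central H d hgood a b c a.2 b.2 c.2
    simpa [commutatorElement_def] using this
  have h4 : ∀ v : H, v ^ 4 = 1 := fun v => Subtype.ext (by simpa using hH4 v v.2)
  have hδfix : ∀ v, δ v = v → v = 1 := by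
    intro v hv
    have h1 := congrArg Subtype.val hv
    rw [hδ] at h1
    apply Subtype.ext
    apply d_fix H d hgood v v.2
    calc d * (v : G) = (d * v * d⁻¹) * d := by group
      _ = v * d := by rw [h1]
  have hδ3 : ∀ v, v * δ v * δ (δ v) = 1 := by
    intro v
    apply Subtype.ext
    simp only [Subgroup.coe_mul, hδ, Subgroup.coe_one]
    exact three_prod H d (d_pow H d hgood) (d_fix H d hgood) v v.2
  have hδc : ∀ v, v * δ v = δ v * v := by
    intro v
    apply Subtype.ext
    simp only [Subgroup.coe_mul, hδ]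
    exact three_commute H d (d_pow H d hgood) (d_fix H d hgood) v v.2
  have hτ2 : ∀ v, τ (τ v) = v := by
    intro v
    apply Subtype.ext
    rw [hτ, hτ, hti]
    calc t * (t * (v : G) * t) * t = (t * t) * v * (t * t) := by group
      _ = v := by rw [htt, one_mul, mul_one]
  have hdi : d⁻¹ = d * d := by
    exact inv_eq_of_mul_eq_one_left hd3
  have hτδ : ∀ v, τ (δ (τ v)) = δ (δ v) := by
    intro v
    apply Subtype.ext
    rw [hτ, hδ, hτ, hδ, hδ]
    have e1 : t * (d * (t * (v : G) * t⁻¹) * d⁻¹) * t⁻¹ =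
        (t * d * t⁻¹) * ((t * t) * v * (t * t)⁻¹) * (t * d * t⁻¹)⁻¹ := by group
    rw [e1, htd, htt]
    have e2 : d * (d * (v : G) * d⁻¹) * d⁻¹ = (d * d) * v * (d * d)⁻¹ := by group
    rw [e2, ← hdi]; group
  have hτ4 : ∀ v, (τ v * v) ^ 2 = 1 := by
    intro v
    apply Subtype.ext
    simp only [Subgroup.coe_pow, Subgroup.coe_mul, hτ, Subgroup.coe_one, hti]
    have := htv v v.2
    calc (t * (v : G) * t * v) ^ 2 = (t * v) ^ 4 := by
          simp only [pow_succ, pow_zero, one_mul, mul_assoc]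
      _ = 1 := this
  refine ⟨?_, ?_⟩
  · rw [isMulCommutative_iff]
    intro a b
    exact abelian δ τ hZ h4 hδfix hδ3 hδc hτ2 hτδ hτ4 a b
  · intro a ha
    have := sq_eq_one δ τ hZ h4 hδfix hδ3 hδc hτ2 hτδ hτ4 ⟨a, ha⟩
    exact congrArg Subtype.val this

theorem Spec.case_two [Finite G] (hS : Spec G) (h2 : Cfsg.pCore 2 G ≠ ⊥)
    (hF : Cfsg.fittingSubgroup G = Cfsg.pCore 2 G) :
    ∃ (N : Subgroup G) (_ : N.Normal),
      (IsPGroup 2 ↥N ∧ Monoid.exponent ↥N = 4 ∧ Group.nilpotencyClass ↥N ≤ 2 ∧ N.index = 3) ∨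
      (Cfsg.IsElementaryAbelian 2 N ∧ Nonempty (G ⧸ N ≃* Equiv.Perm (Fin 3))) := by
  haveI := hS.solvable
  haveI : Fact (Nat.Prime 2) := ⟨Nat.prime_two⟩
  haveI : Fact (Nat.Prime 3) := ⟨Nat.prime_three⟩
  have hCN := hS.isCN
  have hnn := hS.not_nilpotent
  obtain ⟨D, k, hGcard, hDcop, hD1, hDnil, hfpf⟩ :=
    Cfsg.Agent.Helper1.CNSolv.exists_hall_compl hCN hnn h2 hF
  obtain ⟨hDF, hcentr, huniq⟩ :=
    Cfsg.Agent.Helper1.CNSolv.quotient_structure hCN hnn h2 D k hGcard hDcop hDnil hfpf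
  haveI hHn : (Cfsg.pCore 2 G).Normal := Cfsg.pCore_normal 2 G
  have hHp : IsPGroup 2 (Cfsg.pCore 2 G) := pCore_isPGroup 2
  have hH4 : ∀ v ∈ Cfsg.pCore 2 G, v ^ 4 = 1 := fun v hv => hS.pow_four hHp v hv
  -- elements of D
  have hD3 : ∀ x ∈ D, x ^ 3 = 1 := by
    intro x hx
    have h1 : orderOf x ∣ Nat.card D := by
      have := orderOf_dvd_natCard (⟨x, hx⟩ : D)
      rwa [Subgroup.orderOf_mk] at this
    have hodd : (orderOf x).Coprime 2 := Nat.Coprime.coprime_dvd_left h1 hDcop
    rcases hS.ord x with h | h | h | h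
    · rw [orderOf_eq_one_iff.1 h, one_pow]
    · rw [h] at hodd; exact absurd hodd (by decide)
    · rw [← h]; exact pow_orderOf_eq_one x
    · rw [h] at hodd; exact absurd hodd (by decide)
  have hDp : IsPGroup 3 D := by
    intro x
    refine ⟨1, ?_⟩
    apply Subtype.ext
    simp only [pow_one, Subgroup.coe_pow, Subgroup.coe_one]
    exact hD3 x x.2
  have hDH : ∀ x ∈ D, x ∈ Cfsg.pCore 2 G → x = 1 := by
    intro x hxD hxH
    have h4 := hH4 x hxH
    have h3' := hD3 x hxD
    calc x = x ^ 4 * (x ^ 3)⁻¹ := by group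
      _ = 1 := by rw [h4, h3', inv_one, one_mul]
  -- D is cyclic of order 3
  have hDc : IsCyclic D := by
    rcases Cfsg.Agent.Helper1.fpf_pgroup_cyclic_or_quaternion h2 D hDp hfpf with hc | ⟨h32, -⟩
    · exact hc
    · omega
  obtain ⟨⟨d, hdD⟩, hdgen⟩ := hDc.exists_generator
  have hd1 : d ≠ 1 := by
    intro h
    apply hD1
    rw [eq_bot_iff]
    intro x hx
    obtain ⟨i, hi⟩ := Subgroup.mem_zpowers_iff.mp (hdgen ⟨x, hx⟩)
    have := congrArg Subtype.val hi
    simp only [Subgroup.coe_zpow] at this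
    rw [h, one_zpow] at this
    rw [Subgroup.mem_bot, ← this]
  have hdo : orderOf d = 3 := orderOf_eq_prime (hD3 d hdD) hd1
  have hDmem : ∀ x ∈ D, x ∈ Subgroup.zpowers d := by
    intro x hx
    obtain ⟨i, hi⟩ := Subgroup.mem_zpowers_iff.mp (hdgen ⟨x, hx⟩)
    have := congrArg Subtype.val hi
    simp only [Subgroup.coe_zpow] at this
    exact Subgroup.mem_zpowers_iff.mpr ⟨i, this⟩
  have hdfix : ∀ h ∈ Cfsg.pCore 2 G, d * h = h * d → h = 1 := by
    intro h hh hc
    have : h ∈ Cfsg.pCore 2 G ⊓ Subgroup.centralizer {d} :=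
      Subgroup.mem_inf.mpr ⟨hh, Subgroup.mem_centralizer_singleton_iff.mpr hc.symm⟩
    rw [hfpf d hdD hd1, Subgroup.mem_bot] at this
    exact this
  set π := QuotientGroup.mk' (Cfsg.pCore 2 G) with hπ
  have hker : ∀ x : G, π x = 1 ↔ x ∈ Cfsg.pCore 2 G := by
    intro x
    exact QuotientGroup.eq_one_iff x
  have hdbar1 : π d ≠ 1 := by
    intro h
    exact hd1 (hDH d hdD ((hker d).mp h))
  have hdbar : orderOf (π d) = 3 := by
    apply orderOf_eq_prime _ hdbar1
    rw [← map_pow, hD3 d hdD, map_one]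
  have hdbarD : π d ∈ D.map π := Subgroup.mem_map_of_mem π hdD
  haveI hDn : (D.map π).Normal := by
    rw [hDF]; exact Cfsg.Agent.Helper7.fittingSubgroup_normal _
  -- the hypothesis of the class two lemma
  have hgood : ∀ y ∈ Cfsg.pCore 2 G, (y * d) ^ 3 = 1 ∧
      ∀ h ∈ Cfsg.pCore 2 G, (y * d) * h = h * (y * d) → h = 1 := by
    intro y hy
    have hyd : π (y * d) = π d := by
      rw [map_mul, (hker y).mpr hy, one_mul]
    have ho : orderOf (y * d) = 3 := by
      have h1 : orderOf (π (y * d)) ∣ orderOf (y * d) := orderOf_map_dvd π (y * d)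
      rw [hyd, hdbar] at h1
      rcases hS.ord (y * d) with h | h | h | h <;> rw [h] at h1 <;> omega
    refine ⟨by rw [← ho]; exact pow_orderOf_eq_one _, ?_⟩
    intro h hh hc
    exact hS.no6 h (y * d) hc.symm (hH4 h hh) ho
  -- conjugation action on D̄
  have hkey : ∀ q : G ⧸ Cfsg.pCore 2 G, q ∉ D.map π → q * π d * q⁻¹ = (π d)⁻¹ := by
    intro q hq
    have hw : q * π d * q⁻¹ ∈ D.map π := hDn.conj_mem _ hdbarD q
    have hwo : orderOf (q * π d * q⁻¹) = 3 := by
      have := orderOf_injective (MulAut.conj q).toMonoidHom (MulAut.conj q).injective (π d)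
      simp only [MulEquiv.coe_toMonoidHom, MulAut.conj_apply] at this
      rw [this, hdbar]
    have hmem := huniq 3 Nat.prime_three (π d) hdbarD _ hw hdbar hwo
    rw [Subgroup.mem_zpowers_iff] at hmem
    obtain ⟨i, hi⟩ := hmem
    have hmod : π d ^ (i % 3) = π d ^ i := by
      have := zpow_mod_orderOf (π d) i
      rw [hdbar] at this
      exact_mod_cast this
    have hj0 : 0 ≤ i % 3 := Int.emod_nonneg i (by norm_num)
    have hj3 : i % 3 < 3 := Int.emod_lt_of_pos i (by norm_num)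
    rw [← hi, ← hmod]
    have hcases : i % 3 = 0 ∨ i % 3 = 1 ∨ i % 3 = 2 := by omega
    rcases hcases with h | h | h
    · exfalso
      rw [h, zpow_zero] at hmod
      rw [← hi, ← hmod, orderOf_one] at hwo
      omega
    · exfalso
      rw [h, zpow_one] at hmod
      apply hq
      apply hcentr 3 Nat.prime_three (π d) hdbarD hdbar
      rw [Subgroup.mem_centralizer_singleton_iff]
      calc q * π d = (q * π d * q⁻¹) * q := by group
        _ = π d * q := by rw [← hi, ← hmod]
    · rw [h]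
      have h3' : (π d) ^ 3 = 1 := by rw [← hdbar]; exact pow_orderOf_eq_one _
      have : (π d) ^ (2 : ℤ) * π d = 1 := by
        rw [← h3', zpow_ofNat, ← pow_succ]
      exact eq_inv_of_mul_eq_one_left this
  have hprod : ∀ a b : G ⧸ Cfsg.pCore 2 G, a ∉ D.map π → b ∉ D.map π → b * a ∈ D.map π := by
    intro a b ha hb
    apply hcentr 3 Nat.prime_three (π d) hdbarD hdbar
    rw [Subgroup.mem_centralizer_singleton_iff]
    have h1 := hkey a ha
    have h2' := hkey b hb
    have h3' : (b * a) * π d * (b * a)⁻¹ = π d := by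
      calc (b * a) * π d * (b * a)⁻¹ = b * (a * π d * a⁻¹) * b⁻¹ := by group
        _ = b * (π d)⁻¹ * b⁻¹ := by rw [h1]
        _ = (b * π d * b⁻¹)⁻¹ := by group
        _ = π d := by rw [h2', inv_inv]
    calc b * a * π d = ((b * a) * π d * (b * a)⁻¹) * (b * a) := by group
      _ = π d * (b * a) := by rw [h3']
  -- card of D̄
  have hDbar : D.map π = Subgroup.zpowers (π d) := by
    apply le_antisymm
    · rintro _ ⟨x, hx, rfl⟩
      obtain ⟨i, hi⟩ := Subgroup.mem_zpowers_iff.mp (hDmem x hx)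
      rw [← hi, map_zpow]
      exact Subgroup.zpow_mem _ (Subgroup.mem_zpowers _) i
    · exact Subgroup.zpowers_le.mpr hdbarD
  have hDbarcard : Nat.card (D.map π) = 3 := by
    rw [hDbar, Nat.card_zpowers, hdbar]
  obtain ⟨g4, hg4⟩ := hS.ex4
  by_cases htop : D.map π = ⊤
  · -- the quotient has order 3
    have hQcard : Nat.card (G ⧸ Cfsg.pCore 2 G) = 3 := by
      rw [← Subgroup.card_top (G := G ⧸ Cfsg.pCore 2 G), ← htop, hDbarcard]
    refine ⟨Cfsg.pCore 2 G, hHn, Or.inl ⟨hHp, ?_, ?_, ?_⟩⟩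
    · have hg4H : g4 ∈ Cfsg.pCore 2 G := by
        rw [← hker]
        have h3' : (π g4) ^ 3 = 1 := by rw [← hQcard]; exact pow_card_eq_one'
        have h4' : (π g4) ^ 4 = 1 := by
          rw [← map_pow, ← hg4, pow_orderOf_eq_one, map_one]
        calc π g4 = (π g4) ^ 4 * ((π g4) ^ 3)⁻¹ := by group
          _ = 1 := by rw [h3', h4', inv_one, one_mul]
      apply Nat.dvd_antisymm
      · apply Monoid.exponent_dvd_of_forall_pow_eq_one
        intro v
        exact Subtype.ext (by simpa using hH4 v v.2)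
      · have := Monoid.order_dvd_exponent (⟨g4, hg4H⟩ : Cfsg.pCore 2 G)
        rwa [Subgroup.orderOf_mk, hg4] at this
    · haveI : Group.IsNilpotent (Cfsg.pCore 2 G) := hHp.isNilpotent
      exact nilpotencyClass_le_two (Cfsg.pCore 2 G) d hgood
    · rw [Subgroup.index_eq_card, hQcard]
  · -- the quotient has order 6
    obtain ⟨a, ha⟩ : ∃ a : G ⧸ Cfsg.pCore 2 G, a ∉ D.map π := by
      by_contra hcon
      push Not at hcon
      exact htop (eq_top_iff.mpr (fun x _ => hcon x))
    have hidx : (D.map π).index = 2 := by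
      rw [Subgroup.index_eq_two_iff]
      refine ⟨a, fun b => ?_⟩
      by_cases hb : b ∈ D.map π
      · refine Or.inr ⟨hb, fun h => ha ?_⟩
        have : a = b⁻¹ * (b * a) := by group
        rw [this]
        exact Subgroup.mul_mem _ (Subgroup.inv_mem _ hb) h
      · exact Or.inl ⟨hprod a b ha hb, hb⟩
    have hQcard : Nat.card (G ⧸ Cfsg.pCore 2 G) = 6 := by
      rw [← (D.map π).card_mul_index, hDbarcard, hidx]
    have hna : ∃ x y : G ⧸ Cfsg.pCore 2 G, x * y ≠ y * x := by
      refine ⟨a, π d, fun h => ha ?_⟩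
      apply hcentr 3 Nat.prime_three (π d) hdbarD hdbar
      rw [Subgroup.mem_centralizer_singleton_iff]
      exact h
    have hiso := Cfsg.Agent.Helper7.nonempty_mulEquiv_perm_three_of_card_six hQcard hna
    refine ⟨Cfsg.pCore 2 G, hHn, Or.inr ⟨?_, hiso⟩⟩
    -- elements outside the index two subgroup
    have hout : ∀ x : G, π x ∉ D.map π → x ^ 4 = 1 := by
      intro x hx
      apply hS.pow4
      intro h3'
      apply hx
      have h1 : (π x) ^ 3 = 1 := by rw [← map_pow, ← h3', pow_orderOf_eq_one, map_one]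
      have h2' : π x * π x ∈ D.map π := hprod _ _ hx hx
      have h4' : π x = (π x * π x) * (π x * π x) := by
        calc π x = ((π x) ^ 3)⁻¹ * ((π x * π x) * (π x * π x)) := by group
          _ = (π x * π x) * (π x * π x) := by rw [h1, inv_one, one_mul]
      rw [h4']
      exact Subgroup.mul_mem _ h2' h2'
    -- the inverting involution
    obtain ⟨g, hg⟩ := QuotientGroup.mk'_surjective (Cfsg.pCore 2 G) a
    obtain ⟨y, hy⟩ : ∃ y, y = g * d * g⁻¹ * d := ⟨_, rfl⟩
    have hyH : y ∈ Cfsg.pCore 2 G := by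
      rw [← hker, hy, map_mul, map_mul, map_mul, map_inv]
      change π g * π d * (π g)⁻¹ * π d = 1
      rw [hg, hkey a ha, inv_mul_cancel]
    have hfix' : ∀ h ∈ Cfsg.pCore 2 G, d⁻¹ * h = h * d⁻¹ → h = 1 := by
      intro h hh hc
      apply hdfix h hh
      calc d * h = d * (h * d⁻¹) * d := by group
        _ = d * (d⁻¹ * h) * d := by rw [hc]
        _ = h * d := by group
    obtain ⟨k', hk'H, hk'⟩ := exists_comm_eq (Cfsg.pCore 2 G) d⁻¹ hfix' y hyH
    obtain ⟨t, ht⟩ : ∃ t, t = k' * g := ⟨_, rfl⟩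
    have htd : t * d * t⁻¹ = d⁻¹ := by
      calc t * d * t⁻¹ = k' * ((g * d * g⁻¹ * d) * d⁻¹) * k'⁻¹ := by rw [ht]; group
        _ = k' * ((k'⁻¹ * (d⁻¹ * k' * d⁻¹⁻¹)) * d⁻¹) * k'⁻¹ := by rw [← hy, ← hk']
        _ = d⁻¹ := by group
    have hπt : π t = a := by
      rw [ht, map_mul, (hker k').mpr hk'H, one_mul]
      exact hg
    have hta : π t ∉ D.map π := by rw [hπt]; exact ha
    have ht4 : t ^ 4 = 1 := hout t hta
    have htt : t * t = 1 := by
      have hc : (t * t) * d = d * (t * t) := by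
        calc t * t * d = t * (t * d * t⁻¹) * t := by group
          _ = t * d⁻¹ * t := by rw [htd]
          _ = (t * d * t⁻¹)⁻¹ * t * t := by group
          _ = d⁻¹⁻¹ * t * t := by rw [htd]
          _ = d * (t * t) := by group
      have h44 : (t * t) ^ 4 = 1 := by
        calc (t * t) ^ 4 = (t ^ 4) ^ 2 := by
              rw [← pow_two, ← pow_mul, ← pow_mul]
          _ = 1 := by rw [ht4, one_pow]
      exact hS.no6 (t * t) d hc h44 hdo
    have htv : ∀ v ∈ Cfsg.pCore 2 G, (t * v) ^ 4 = 1 := by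
      intro v hv
      apply hout
      rw [map_mul, (hker v).mpr hv, mul_one]
      exact hta
    exact elemAb_of_invol (Cfsg.pCore 2 G) hH4 d t hgood htt htd htv

end Cfsg.Agent.Helper19.E4
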