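import Mathlib

/-!
Finite fields: an involutory ring automorphism is the "half" Frobenius.
Used for cyclic irreducible isometry groups of symplectic spaces (S3767).
-/

set_option autoImplicit false

namespace Cfsg.Agent.Helper19.ESCyc

/-- Every ring endomorphism of a finite field of characteristic `p` is a power of Frobenius. -/
theorem exists_frob {L : Type*} [Field L] [Finite L] (p : ℕ) [Fact p.Prime] [CharP L p]
    (τ : L →+* L) :
    ∃ d k : ℕ, Nat.card L = p ^ d ∧ k < d ∧ (∀ s : L, τ s = s ^ (p ^ k)) ∧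
      ∀ j : ℕ, (∀ s : L, s ^ (p ^ j) = s) → d ∣ j := by
  classical
  letI : Algebra (ZMod p) L := ZMod.algebra L p
  haveI : Fintype L := Fintype.ofFinite L
  let τ' : L →ₐ[ZMod p] L :=
    { τ with
      commutes' := fun r => by
        have h := Subsingleton.elim (τ.comp (algebraMap (ZMod p) L)) (algebraMap (ZMod p) L)
        exact RingHom.congr_fun h r }
  obtain ⟨n, hn⟩ := (FiniteField.bijective_frobeniusAlgHom_pow (ZMod p) L).2 τ'
  have hcard : Fintype.card (ZMod p) = p := ZMod.card p
  refine ⟨Module.finrank (ZMod p) L, n.1, (FiniteField.pow_finrank_eq_natCard p L).symm, n.2, ?_, ?_⟩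
  · intro s
    have h1 : τ s = τ' s := rfl
    rw [h1, ← hn]
    simp only [AlgHom.coe_pow, FiniteField.coe_frobeniusAlgHom, pow_iterate, hcard]
  · intro j hj
    have h1 : FiniteField.frobeniusAlgHom (ZMod p) L ^ j = 1 := by
      apply AlgHom.ext
      intro s
      simp only [AlgHom.coe_pow, FiniteField.coe_frobeniusAlgHom, pow_iterate, hcard,
        AlgHom.one_apply]
      exact hj s
    have h2 := orderOf_dvd_of_pow_eq_one h1
    rwa [FiniteField.orderOf_frobeniusAlgHom] at h2

/-- An involutory ring automorphism `τ ≠ 1` of a finite field of characteristic `p`: the field has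
`p ^ (2 m)` elements and `τ s = s ^ (p ^ m)`. -/
theorem frob_main {L : Type*} [Field L] [Finite L] (p : ℕ) [Fact p.Prime] [CharP L p]
    (τ : L →+* L) (hττ : ∀ s, τ (τ s) = s) (hτ : ∃ s, τ s ≠ s) :
    ∃ m : ℕ, Nat.card L = p ^ (2 * m) ∧ ∀ s : L, τ s = s ^ (p ^ m) := by
  obtain ⟨d, k, hd, hkd, hk, hper⟩ := exists_frob p τ
  have h2 : ∀ s : L, s ^ (p ^ (2 * k)) = s := by
    intro s
    have := hττ s
    rw [hk s, hk (s ^ p ^ k), ← pow_mul, ← pow_add, ← two_mul] at this
    exact this
  have hdvd := hper (2 * k) h2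
  obtain ⟨c, hc⟩ := hdvd
  have hk0 : k ≠ 0 := by
    rintro rfl
    obtain ⟨s, hs⟩ := hτ
    apply hs
    rw [hk s]; simp
  have hc1 : c = 1 := by
    have hc0 : c ≠ 0 := by
      rintro rfl
      omega
    have : c < 2 := by
      by_contra hlt
      have h3 : 2 ≤ c := by omega
      have : d * 2 ≤ d * c := Nat.mul_le_mul_left d h3
      omega
    omega
  refine ⟨k, ?_, hk⟩
  rw [hd, hc, hc1, mul_one]

/-- Domain version of `frob_main`. -/
theorem frob_main_domain {R : Type*} [CommRing R] [IsDomain R] [Finite R] (p : ℕ) [Fact p.Prime]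
    [CharP R p] (τ : R →+* R) (hττ : ∀ s, τ (τ s) = s) (hτ : ∃ s, τ s ≠ s) :
    ∃ m : ℕ, Nat.card R = p ^ (2 * m) ∧ ∀ s : R, τ s = s ^ (p ^ m) := by
  classical
  letI : Fintype R := Fintype.ofFinite R
  letI : Field R := Fintype.fieldOfDomain R
  exact frob_main p τ hττ hτ

end Cfsg.Agent.Helper19.ESCyc
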