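import Mathlib
import Cfsg.Agent.Helper19.ESCycA

/-!
The heart lemma for S3767: an isometry acting irreducibly on a finite elementary abelian group
carrying a nondegenerate skew form.
-/

set_option autoImplicit false

namespace Cfsg.Agent.Helper19.ESCyc

open scoped IsMulCommutative

variable {V A : Type*} [AddCommGroup V] [Finite V] [AddCommGroup A]

theorem heart {p : ℕ} [Fact p.Prime]
    (hV : ∀ v : V, p • v = 0) (B : V → V → A)
    (hBl : ∀ x y z, B (x + y) z = B x z + B y z) (hBr : ∀ x y z, B x (y + z) = B x y + B x z)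
    (hskew : ∀ x y, B x y = - B y x) (hnd : ∀ x, (∀ y, B x y = 0) → x = 0)
    (σ σ' : AddMonoid.End V) (hσσ' : σ * σ' = 1) (hσ'σ : σ' * σ = 1)
    (hinv : ∀ x y, B (σ x) (σ y) = B x y)
    (hirr : ∀ W : AddSubgroup V, (∀ w ∈ W, σ w ∈ W) → W = ⊥ ∨ W = ⊤)
    (hnt : Nontrivial V) (hσ2 : σ ≠ σ') :
    ∃ m : ℕ, Nat.card V = p ^ (2 * m) ∧ σ ^ (p ^ m + 1) = 1 := by
  classical
  have hpp : p.Prime := Fact.out
  -- basic properties of B
  have hB0l : ∀ y, B 0 y = 0 := by
    intro y
    have := hBl 0 0 y
    rw [add_zero] at this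
    exact left_eq_add.mp this
  have hB0r : ∀ x, B x 0 = 0 := by
    intro x
    have := hBr x 0 0
    rw [add_zero] at this
    exact left_eq_add.mp this
  have hBnegl : ∀ x y, B (-x) y = - B x y := by
    intro x y
    have := hBl (-x) x y
    rw [neg_add_cancel, hB0l] at this
    exact eq_neg_of_add_eq_zero_left this.symm
  have hBnegr : ∀ x y, B x (-y) = - B x y := by
    intro x y
    have := hBr x (-y) y
    rw [neg_add_cancel, hB0r] at this
    exact eq_neg_of_add_eq_zero_left this.symm
  have hnd' : ∀ y, (∀ x, B x y = 0) → y = 0 := by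
    intro y hy
    apply hnd
    intro x
    rw [hskew, hy, neg_zero]
  -- the ring
  set S : Set (AddMonoid.End V) := {σ, σ'} with hS
  have hcommS : ∀ x ∈ S, ∀ y ∈ S, x * y = y * x := by
    intro x hx y hy
    rcases hx with rfl | rfl <;> rcases hy with rfl | rfl
    · rfl
    · rw [hσσ', hσ'σ]
    · rw [hσσ', hσ'σ]
    · rfl
  set R : Subring (AddMonoid.End V) := Subring.closure S with hR
  haveI hRc : IsMulCommutative R := Subring.isMulCommutative_closure hcommS
  have hcomm : ∀ x ∈ R, ∀ y ∈ R, x * y = y * x := by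
    intro x hx y hy
    have := hRc.is_comm.comm (⟨x, hx⟩ : R) ⟨y, hy⟩
    simpa using congrArg Subtype.val this
  have hσR : σ ∈ R := Subring.subset_closure (by simp [hS])
  have hσ'R : σ' ∈ R := Subring.subset_closure (by simp [hS])
  -- characteristic
  haveI hchar : CharP (AddMonoid.End V) p := by
    constructor
    intro n
    constructor
    · intro h
      obtain ⟨v, hv⟩ := exists_ne (0 : V)
      have h1 : n • v = 0 := by
        have := congrArg (fun f : AddMonoid.End V => f v) h
        simpa using this
      have h2 : addOrderOf v ∣ p := addOrderOf_dvd_of_nsmul_eq_zero (hV v)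
      have h3 : addOrderOf v ∣ n := addOrderOf_dvd_of_nsmul_eq_zero h1
      rcases (Nat.dvd_prime hpp).mp h2 with h4 | h4
      · exact absurd (AddMonoid.addOrderOf_eq_one_iff.mp h4) hv
      · rwa [h4] at h3
    · rintro ⟨k, rfl⟩
      ext v
      simp [hV]
  -- nonzero elements of R are injective
  have hinj : ∀ s ∈ R, s ≠ 0 → Function.Injective s := by
    intro s hs hs0
    let Ks : AddSubgroup V :=
      { carrier := {w | s w = 0}
        zero_mem' := map_zero s
        add_mem' := by
          intro a b ha hb
          show s (a + b) = 0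
          rw [map_add, ha, hb, add_zero]
        neg_mem' := by
          intro a ha
          show s (-a) = 0
          rw [map_neg, ha, neg_zero] }
    have hker : ∀ w ∈ Ks, σ w ∈ Ks := by
      intro w hw
      have hw' : s w = 0 := hw
      show s (σ w) = 0
      have h1 : s * σ = σ * s := hcomm s hs σ hσR
      have h2 : s (σ w) = σ (s w) := by
        have := congrArg (fun f : AddMonoid.End V => f w) h1
        simpa using this
      rw [h2, hw', map_zero]
    rcases hirr _ hker with h | h
    · intro a b hab
      have : a - b ∈ Ks := by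
        show s (a - b) = 0
        rw [map_sub, hab, sub_self]
      rw [h, AddSubgroup.mem_bot] at this
      exact sub_eq_zero.mp this
    · exfalso
      apply hs0
      ext v
      have : v ∈ Ks := by rw [h]; trivial
      exact this
  -- R is a domain
  haveI : Nontrivial R := by
    refine ⟨⟨0, 1, ?_⟩⟩
    intro h
    obtain ⟨v, hv⟩ := exists_ne (0 : V)
    have h1 : (0 : AddMonoid.End V) = 1 := congrArg Subtype.val h
    have := congrArg (fun f : AddMonoid.End V => f v) h1
    simp at this
    exact hv this.symm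
  haveI : NoZeroDivisors R := by
    constructor
    intro a b hab
    by_cases ha : a = 0
    · exact Or.inl ha
    right
    have ha' : (a : AddMonoid.End V) ≠ 0 := fun h => ha (Subtype.ext h)
    have hai := hinj a a.2 ha'
    apply Subtype.ext
    ext v
    have h1 : (a : AddMonoid.End V) * (b : AddMonoid.End V) = 0 := by
      have := congrArg Subtype.val hab
      simpa using this
    have h2 : (a : AddMonoid.End V) ((b : AddMonoid.End V) v) = 0 := by
      have := congrArg (fun f : AddMonoid.End V => f v) h1
      simpa using this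
    have h3 : (a : AddMonoid.End V) ((b : AddMonoid.End V) v) = (a : AddMonoid.End V) 0 := by
      rw [h2, map_zero]
    exact hai h3
  haveI : IsDomain R := NoZeroDivisors.to_isDomain R
  haveI : Finite (AddMonoid.End V) := DFunLike.finite (V →+ V)
  haveI : Finite R := inferInstance
  -- adjoints
  have hadj : ∀ s ∈ R, ∃ s' ∈ R, ∀ x y, B (s x) y = B x (s' y) := by
    intro s hs
    induction hs using Subring.closure_induction with
    | mem x hx =>
      rcases hx with h | h
      · rw [h]
        refine ⟨σ', hσ'R, fun x y => ?_⟩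
        have h1 : σ (σ' y) = y := by
          have := congrArg (fun f : AddMonoid.End V => f y) hσσ'
          simpa using this
        rw [← hinv x (σ' y), h1]
      · rw [Set.mem_singleton_iff.mp h]
        refine ⟨σ, hσR, fun x y => ?_⟩
        have h2 : σ (σ' x) = x := by
          have := congrArg (fun f : AddMonoid.End V => f x) hσσ'
          simpa using this
        rw [← hinv (σ' x) y, h2]
    | zero =>
      refine ⟨0, R.zero_mem, fun x y => ?_⟩
      simp [hB0l, hB0r]
    | one =>
      refine ⟨1, R.one_mem, fun x y => ?_⟩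
      simp
    | add s t hs ht ihs iht =>
      obtain ⟨s', hs', hss⟩ := ihs
      obtain ⟨t', ht', htt⟩ := iht
      refine ⟨s' + t', R.add_mem hs' ht', fun x y => ?_⟩
      show B (s x + t x) y = B x (s' y + t' y)
      rw [hBl, hBr, hss, htt]
    | neg s hs ihs =>
      obtain ⟨s', hs', hss⟩ := ihs
      refine ⟨-s', R.neg_mem hs', fun x y => ?_⟩
      show B (-(s x)) y = B x (-(s' y))
      rw [hBnegl, hBnegr, hss]
    | mul s t hs ht ihs iht =>
      obtain ⟨s', hs', hss⟩ := ihs
      obtain ⟨t', ht', htt⟩ := iht
      refine ⟨t' * s', R.mul_mem ht' hs', fun x y => ?_⟩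
      show B (s (t x)) y = B x (t' (s' y))
      rw [hss, htt]
  have hadj_unique : ∀ s' s'' : AddMonoid.End V,
      (∀ x y, B x (s' y) = B x (s'' y)) → s' = s'' := by
    intro s' s'' h
    ext y
    have h1 : ∀ x, B x (s' y - s'' y) = 0 := by
      intro x
      rw [sub_eq_add_neg, hBr, hBnegr, h x y, add_neg_cancel]
    exact sub_eq_zero.mp (hnd' _ h1)
  choose! adj hadjR hadjB using hadj
  have hadj_eq : ∀ s ∈ R, ∀ t ∈ R, (∀ x y, B (s x) y = B x (t y)) → adj s = t := by
    intro s hs t ht h
    apply hadj_unique
    intro x y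
    rw [← hadjB s hs, h]
  -- the ring hom τ
  let τ : R →+* R :=
    { toFun := fun s => ⟨adj s.1, hadjR s.1 s.2⟩
      map_one' := by
        apply Subtype.ext
        exact hadj_eq 1 R.one_mem 1 R.one_mem (fun x y => by simp)
      map_mul' := by
        intro s t
        apply Subtype.ext
        show adj (s.1 * t.1) = adj s.1 * adj t.1
        rw [hcomm (adj s.1) (hadjR s.1 s.2) (adj t.1) (hadjR t.1 t.2)]
        apply hadj_eq _ (R.mul_mem s.2 t.2) _ (R.mul_mem (hadjR t.1 t.2) (hadjR s.1 s.2))
        intro x y
        show B (s.1 (t.1 x)) y = B x (adj t.1 (adj s.1 y))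
        rw [hadjB s.1 s.2, hadjB t.1 t.2]
      map_zero' := by
        apply Subtype.ext
        exact hadj_eq 0 R.zero_mem 0 R.zero_mem (fun x y => by simp [hB0l, hB0r])
      map_add' := by
        intro s t
        apply Subtype.ext
        show adj (s.1 + t.1) = adj s.1 + adj t.1
        apply hadj_eq _ (R.add_mem s.2 t.2) _ (R.add_mem (hadjR s.1 s.2) (hadjR t.1 t.2))
        intro x y
        show B (s.1 x + t.1 x) y = B x (adj s.1 y + adj t.1 y)
        rw [hBl, hBr, hadjB s.1 s.2, hadjB t.1 t.2] }
  have hτσ : adj σ = σ' := by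
    apply hadj_eq σ hσR σ' hσ'R
    intro x y
    have h1 : σ (σ' y) = y := by
      have := congrArg (fun f : AddMonoid.End V => f y) hσσ'
      simpa using this
    rw [← hinv x (σ' y), h1]
  have hττ : ∀ s : R, τ (τ s) = s := by
    intro s
    apply Subtype.ext
    show adj (adj s.1) = s.1
    apply hadj_eq _ (hadjR s.1 s.2) _ s.2
    intro x y
    rw [hskew, ← hadjB s.1 s.2, ← hskew]
  have hτne : ∃ s : R, τ s ≠ s := by
    refine ⟨⟨σ, hσR⟩, fun h => hσ2 ?_⟩
    have := congrArg Subtype.val h
    have h2 : adj σ = σ := this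
    rw [← h2, hτσ]
  obtain ⟨m, hm, hfrob⟩ := frob_main_domain p τ hττ hτne
  refine ⟨m, ?_, ?_⟩
  · -- |V| = |R|
    obtain ⟨a, ha⟩ := exists_ne (0 : V)
    let W : AddSubgroup V :=
      { carrier := {v | ∃ s ∈ R, s a = v}
        zero_mem' := ⟨0, R.zero_mem, rfl⟩
        add_mem' := by
          rintro _ _ ⟨s, hs, rfl⟩ ⟨t, ht, rfl⟩
          exact ⟨s + t, R.add_mem hs ht, rfl⟩
        neg_mem' := by
          rintro _ ⟨s, hs, rfl⟩
          exact ⟨-s, R.neg_mem hs, rfl⟩ }
    have hWinv : ∀ w ∈ W, σ w ∈ W := by
      rintro _ ⟨s, hs, rfl⟩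
      exact ⟨σ * s, R.mul_mem hσR hs, rfl⟩
    have hWtop : W = ⊤ := by
      rcases hirr W hWinv with h | h
      · exfalso
        have : a ∈ W := ⟨1, R.one_mem, rfl⟩
        rw [h, AddSubgroup.mem_bot] at this
        exact ha this
      · exact h
    have hbij : Function.Bijective (fun s : R => (s : AddMonoid.End V) a) := by
      constructor
      · intro s t hst
        by_contra hne
        have hsub : (s - t : R) ≠ 0 := sub_ne_zero.mpr hne
        have hsub' : ((s - t : R) : AddMonoid.End V) ≠ 0 := fun h => hsub (Subtype.ext h)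
        have hi := hinj _ (s - t : R).2 hsub'
        have h0 : ((s - t : R) : AddMonoid.End V) a = ((s - t : R) : AddMonoid.End V) 0 := by
          rw [map_zero]
          have hst' : (s : AddMonoid.End V) a = (t : AddMonoid.End V) a := hst
          show (s : AddMonoid.End V) a - (t : AddMonoid.End V) a = 0
          rw [hst', sub_self]
        exact ha (hi h0)
      · intro v
        have : v ∈ W := by rw [hWtop]; trivial
        obtain ⟨s, hs, rfl⟩ := this
        exact ⟨⟨s, hs⟩, rfl⟩
    rw [← hm]
    exact (Nat.card_congr (Equiv.ofBijective _ hbij)).symm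
  · have h1 := hfrob ⟨σ, hσR⟩
    have h2 : (τ ⟨σ, hσR⟩ : AddMonoid.End V) = σ' := hτσ
    have h3 : σ' = σ ^ (p ^ m) := by
      rw [← h2, h1]
      rfl
    rw [pow_succ, ← h3, hσ'σ]

end Cfsg.Agent.Helper19.ESCyc
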