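import Mathlib
import Cfsg.Agent.Helper9.HomCount
import Cfsg.Agent.Helper17.Basic
import Cfsg.Agent.Lead.Coprime2

/-!
Group-level toolkit for S3767: the class `ESC` of `p`-subgroups `P` of an ambient group with
commutators in a fixed central subgroup `Z₀` of order `p`, `P / Z(P)` of exponent `p`, acted on by
an element `g` with controlled fixed points.
-/

set_option autoImplicit false

namespace Cfsg.Agent.Helper19.ESCyc

open Subgroup
open scoped commutatorElement

variable {G : Type*} [Group G]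

/-- The centre of the subgroup `P`, as a subgroup of the ambient group. -/
def Zc (P : Subgroup G) : Subgroup G := P ⊓ centralizer (P : Set G)

theorem mem_Zc {P : Subgroup G} {x : G} : x ∈ Zc P ↔ x ∈ P ∧ ∀ y ∈ P, y * x = x * y := by
  rw [Zc, mem_inf, mem_centralizer_iff]
  rfl

theorem Zc_le (P : Subgroup G) : Zc P ≤ P := inf_le_left

/-- normalizing elements normalize the centralizer -/
theorem mem_normalizer_centralizer {A : Subgroup G} {g : G} (hg : g ∈ normalizer (A : Set G)) :
    g ∈ normalizer (centralizer (A : Set G) : Set G) := by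
  have key : ∀ g : G, g ∈ normalizer (A : Set G) → ∀ x ∈ centralizer (A : Set G),
      g * x * g⁻¹ ∈ centralizer (A : Set G) := by
    intro g hg x hx
    rw [mem_centralizer_iff] at hx ⊢
    intro a ha
    have ha' : g⁻¹ * a * g ∈ A := by
      have := (mem_normalizer_iff.mp (inv_mem hg) a).mp ha
      simpa using this
    have := hx _ ha'
    calc a * (g * x * g⁻¹) = g * ((g⁻¹ * a * g) * x) * g⁻¹ := by group
      _ = g * (x * (g⁻¹ * a * g)) * g⁻¹ := by rw [this]
      _ = g * x * g⁻¹ * a := by group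
  rw [mem_normalizer_iff]
  intro x
  constructor
  · exact key g hg x
  · intro hx
    have := key g⁻¹ (inv_mem hg) _ hx
    simpa [mul_assoc] using this

theorem mem_normalizer_inf {A B : Subgroup G} {g : G} (hA : g ∈ normalizer (A : Set G))
    (hB : g ∈ normalizer (B : Set G)) : g ∈ normalizer ((A ⊓ B : Subgroup G) : Set G) := by
  rw [mem_normalizer_iff] at hA hB ⊢
  intro x
  rw [mem_inf, mem_inf, ← hA x, ← hB x]

theorem mem_normalizer_Zc {P : Subgroup G} {g : G} (hg : g ∈ normalizer (P : Set G)) :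
    g ∈ normalizer (Zc P : Set G) :=
  mem_normalizer_inf hg (mem_normalizer_centralizer hg)

/-- The class of subgroups under consideration. -/
structure ESC (p h : ℕ) (g : G) (Z₀ P : Subgroup G) : Prop where
  Z0_le : Z₀ ≤ Zc P
  norm : g ∈ normalizer (P : Set G)
  comm : ∀ x ∈ P, ∀ y ∈ P, ⁅x, y⁆ ∈ Z₀
  pow : ∀ x ∈ P, x ^ p ∈ Zc P
  fix : ∀ i : ℕ, ¬ h ∣ i → ∀ x ∈ P, g ^ i * x = x * g ^ i → x ∈ Zc P
  isP : IsPGroup p P

variable {p h : ℕ} {g : G} {Z₀ P : Subgroup G}

theorem ESC.sub (hP : ESC p h g Z₀ P) {C : Subgroup G} (hCP : C ≤ P)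
    (hgC : g ∈ normalizer (C : Set G)) (hZ : Zc P ≤ Zc C) : ESC p h g Z₀ C where
  Z0_le := hP.Z0_le.trans hZ
  norm := hgC
  comm := fun x hx y hy => hP.comm x (hCP hx) y (hCP hy)
  pow := fun x hx => hZ (hP.pow x (hCP hx))
  fix := fun i hi x hx hc => hZ (hP.fix i hi x (hCP hx) hc)
  isP := hP.isP.to_le hCP

/-- The pairing (dimension) formula. -/
theorem ESC.card_mul [Finite G] [Fact p.Prime] (hP : ESC p h g Z₀ P) (hZ0 : Nat.card Z₀ = p)
    {W : Subgroup G} (hZW : Zc P ≤ W) (hWP : W ≤ P) :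
    Nat.card P * Nat.card (Zc P) = Nat.card (P ⊓ centralizer (W : Set G) : Subgroup G) * Nat.card W := by
  have hPc : P ≤ centralizer (Z₀ : Set G) := by
    intro x hx
    rw [mem_centralizer_iff]
    intro z hz
    exact ((mem_Zc.mp (hP.Z0_le hz)).2 x hx).symm
  have key := Cfsg.Agent.Helper9.relIndex_centralizer_eq Z₀ P W hZ0 hPc (hWP.trans hPc)
    (fun a ha b hb => hP.comm a ha b (hWP hb))
  have h1 := Cfsg.Agent.Helper17.relIndex_mul_card_inf (centralizer (W : Set G)) P
  have h2 := Cfsg.Agent.Helper17.relIndex_mul_card_inf (centralizer (P : Set G)) W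
  have h3 : centralizer (P : Set G) ⊓ W = Zc P := by
    apply le_antisymm
    · intro x hx
      exact ⟨hWP hx.2, hx.1⟩
    · intro x hx
      exact ⟨hx.2, hZW hx⟩
  rw [h3] at h2
  rw [inf_comm] at h1
  rw [← h1, ← h2, key]
  ring

end Cfsg.Agent.Helper19.ESCyc
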