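import Mathlib
import Cfsg.Agent.Helper19.ESCycC

/-!
Group-level toolkit for S3767, part 2: the two reductions and the coprime-action lemmas.
-/

set_option autoImplicit false

namespace Cfsg.Agent.Helper19.ESCyc

open Subgroup
open scoped commutatorElement

variable {G : Type*} [Group G] {p h : ℕ} {g : G} {Z₀ P : Subgroup G}

theorem le_normalizer_Zc (P : Subgroup G) : P ≤ normalizer (Zc P : Set G) :=
  fun _ hx => mem_normalizer_Zc (le_normalizer hx)

theorem Zc_le_centralizer_of_le {P W : Subgroup G} (hWP : W ≤ P) :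
    Zc P ≤ centralizer (W : Set G) := by
  intro x hx
  rw [mem_centralizer_iff]
  intro w hw
  exact (mem_Zc.mp hx).2 w (hWP hw)

/-- Case II: `W` abelian. -/
theorem ESC.caseII [Finite G] [Fact p.Prime] (hP : ESC p h g Z₀ P) (hZ0 : Nat.card Z₀ = p)
    {W : Subgroup G} (hZW : Zc P ≤ W) (hWP : W ≤ P) (hgW : g ∈ normalizer (W : Set G))
    (hab : W ≤ centralizer (W : Set G)) :
    ESC p h g Z₀ (P ⊓ centralizer (W : Set G)) ∧ Zc (P ⊓ centralizer (W : Set G)) = W ∧
      Nat.card P * Nat.card (Zc P) =
        Nat.card (P ⊓ centralizer (W : Set G) : Subgroup G) * Nat.card W := by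
  set C : Subgroup G := P ⊓ centralizer (W : Set G) with hC
  have hCP : C ≤ P := inf_le_left
  have hWC : W ≤ C := le_inf hWP hab
  have hZC : Zc P ≤ C := hZW.trans hWC
  have hcard := hP.card_mul hZ0 hZW hWP
  have hcard2 := hP.card_mul hZ0 hZC hCP
  have hWD : W ≤ P ⊓ centralizer (C : Set G) := by
    refine le_inf hWP ?_
    rw [le_centralizer_iff]
    exact inf_le_right
  have hDW : P ⊓ centralizer (C : Set G) = W := by
    symm
    apply eq_of_le_of_card_ge hWD
    have hCpos : 0 < Nat.card C := Nat.card_pos
    have : Nat.card (P ⊓ centralizer (C : Set G) : Subgroup G) * Nat.card C =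
        Nat.card C * Nat.card W := by rw [← hcard2, hcard]
    rw [mul_comm] at this
    exact le_of_eq (Nat.eq_of_mul_eq_mul_left hCpos this)
  have hZcC : Zc C = W := by
    apply le_antisymm
    · rw [← hDW]
      intro x hx
      exact ⟨hCP hx.1, hx.2⟩
    · intro x hx
      refine ⟨hWC hx, ?_⟩
      have := hWD hx
      exact this.2
  have hgC : g ∈ normalizer (C : Set G) :=
    mem_normalizer_inf hP.norm (mem_normalizer_centralizer hgW)
  refine ⟨hP.sub hCP hgC ?_, hZcC, hcard⟩
  rw [hZcC]
  exact hZW

/-- Case I: `Z(W) = Z(P)`. -/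
theorem ESC.caseI [Finite G] [Fact p.Prime] (hP : ESC p h g Z₀ P) (hZ0 : Nat.card Z₀ = p)
    {W : Subgroup G} (hZW : Zc P ≤ W) (hWP : W ≤ P) (hgW : g ∈ normalizer (W : Set G))
    (hZcW : Zc W = Zc P) :
    ESC p h g Z₀ (P ⊓ centralizer (W : Set G)) ∧ Zc (P ⊓ centralizer (W : Set G)) = Zc P ∧
      Nat.card P * Nat.card (Zc P) =
        Nat.card (P ⊓ centralizer (W : Set G) : Subgroup G) * Nat.card W := by
  set C : Subgroup G := P ⊓ centralizer (W : Set G) with hC
  have hCP : C ≤ P := inf_le_left
  have hZC : Zc P ≤ C := le_inf (Zc_le P) (Zc_le_centralizer_of_le hWP)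
  have hcard := hP.card_mul hZ0 hZW hWP
  -- W ⊓ C = Z
  have hinf : W ⊓ C = Zc P := by
    rw [← hZcW]
    apply le_antisymm
    · intro x hx
      exact ⟨hx.1, hx.2.2⟩
    · intro x hx
      exact ⟨hx.1, hWP hx.1, hx.2⟩
  -- C normalizes W
  have hCW : C ≤ normalizer (W : Set G) := by
    intro c hc
    have hcc : c ∈ centralizer (W : Set G) := hc.2
    rw [mem_centralizer_iff] at hcc
    rw [mem_normalizer_iff]
    intro w
    constructor
    · intro hw
      have : c * w * c⁻¹ = w := by rw [← hcc w hw]; group
      rw [this]; exact hw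
    · intro hw
      have h1 := hcc _ hw
      have : w = c * w * c⁻¹ := by
        have h2 : c * w * c⁻¹ * c = c * (c * w * c⁻¹) := h1
        have h3 : c * w = c * (c * w * c⁻¹) := by rw [← h2]; group
        exact mul_left_cancel h3
      rw [this]; exact hw
  have hprod := Cfsg.Agent.Helper17.card_sup_mul_card_inf W C hCW
  rw [hinf] at hprod
  have hsup : W ⊔ C = P := by
    apply eq_of_le_of_card_ge (sup_le hWP hCP)
    have hZpos : 0 < Nat.card (Zc P) := Nat.card_pos
    have : Nat.card P * Nat.card (Zc P) = Nat.card (W ⊔ C : Subgroup G) * Nat.card (Zc P) := by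
      rw [hprod, hcard, mul_comm]
    exact le_of_eq (Nat.eq_of_mul_eq_mul_right hZpos this)
  have hZcC : Zc C = Zc P := by
    apply le_antisymm
    · intro x hx
      refine ⟨hCP hx.1, ?_⟩
      have h1 : W ≤ centralizer ({x} : Set G) := by
        intro w hw
        rw [mem_centralizer_iff]
        intro y hy
        rw [Set.mem_singleton_iff.mp hy]
        have : x ∈ centralizer (W : Set G) := hx.1.2
        rw [mem_centralizer_iff] at this
        exact (this w hw).symm
      have h2 : C ≤ centralizer ({x} : Set G) := by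
        intro c hc
        rw [mem_centralizer_iff]
        intro y hy
        rw [Set.mem_singleton_iff.mp hy]
        have : x ∈ centralizer (C : Set G) := hx.2
        rw [mem_centralizer_iff] at this
        exact (this c hc).symm
      have h3 : P ≤ centralizer ({x} : Set G) := by
        rw [← hsup]; exact sup_le h1 h2
      show x ∈ centralizer (P : Set G)
      rw [mem_centralizer_iff]
      intro y hy
      have := h3 hy
      rw [mem_centralizer_iff] at this
      exact (this x rfl).symm
    · intro x hx
      refine ⟨hZC hx, ?_⟩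
      show x ∈ centralizer (C : Set G)
      rw [mem_centralizer_iff]
      intro c hc
      exact (mem_Zc.mp hx).2 c (hCP hc)
  have hgC : g ∈ normalizer (C : Set G) :=
    mem_normalizer_inf hP.norm (mem_normalizer_centralizer hgW)
  refine ⟨hP.sub hCP hgC ?_, hZcC, hcard⟩
  rw [hZcC]

end Cfsg.Agent.Helper19.ESCyc
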