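import Mathlib
import Cfsg.Agent.Helper19.ESCycD

/-!
Group-level toolkit for S3767, part 3: coprime action consequences.
-/

set_option autoImplicit false

namespace Cfsg.Agent.Helper19.ESCyc

open Subgroup
open scoped commutatorElement

variable {G : Type*} [Group G] {p h : ℕ} {g : G} {Z₀ P : Subgroup G}

/-- the subgroup of elements normalizing `W`, `Z` and acting trivially on `W / Z` -/
def trivOn (W Z : Subgroup G) : Subgroup G where
  carrier := {a | a ∈ normalizer (W : Set G) ∧ a ∈ normalizer (Z : Set G) ∧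
    ∀ k ∈ W, a * k * a⁻¹ * k⁻¹ ∈ Z}
  one_mem' := ⟨one_mem _, one_mem _, fun k _ => by simp⟩
  mul_mem' := by
    rintro a b ⟨haW, haZ, ha⟩ ⟨hbW, hbZ, hb⟩
    refine ⟨mul_mem haW hbW, mul_mem haZ hbZ, fun k hk => ?_⟩
    have h1 : b * k * b⁻¹ ∈ W := (mem_normalizer_iff.mp hbW k).mp hk
    have h2 := ha _ h1
    have h3 := hb k hk
    have e : a * b * k * (a * b)⁻¹ * k⁻¹ =
        (a * (b * k * b⁻¹) * a⁻¹ * (b * k * b⁻¹)⁻¹) * (b * k * b⁻¹ * k⁻¹) := by group
    rw [e]
    exact Z.mul_mem h2 h3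
  inv_mem' := by
    rintro a ⟨haW, haZ, ha⟩
    refine ⟨inv_mem haW, inv_mem haZ, fun k hk => ?_⟩
    have h1 : a⁻¹ * k * a ∈ W := by
      have := (mem_normalizer_iff.mp (inv_mem haW) k).mp hk
      simpa using this
    have h2 := ha _ h1
    have e : a⁻¹ * k * a⁻¹⁻¹ * k⁻¹ = (a * (a⁻¹ * k * a) * a⁻¹ * (a⁻¹ * k * a)⁻¹)⁻¹ := by group
    rw [e]
    exact Z.inv_mem h2

theorem ESC.dvd_of_trivial [Finite G] [Fact p.Prime] (hP : ESC p h g Z₀ P)
    (hcop : (orderOf g).Coprime p)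
    {W : Subgroup G} (hZW : Zc P < W) (hWP : W ≤ P) (hgW : g ∈ normalizer (W : Set G)) (i : ℕ)
    (htriv : ∀ x ∈ W, g ^ i * x * (g ^ i)⁻¹ * x⁻¹ ∈ Zc P) : h ∣ i := by
  by_contra hi
  set a : G := g ^ i with ha
  set A : Subgroup G := zpowers a with hA
  have haT : a ∈ trivOn W (Zc P) :=
    ⟨pow_mem hgW i, pow_mem (mem_normalizer_Zc hP.norm) i, htriv⟩
  have hAT : A ≤ trivOn W (Zc P) := (zpowers_le).mpr haT
  have hWp : IsPGroup p W := hP.isP.to_le hWP
  obtain ⟨k, hk⟩ := hWp.exists_card_eq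
  have hcopA : (Nat.card A).Coprime (Nat.card W) := by
    rw [hk, hA, Nat.card_zpowers]
    apply Nat.Coprime.pow_right
    exact Nat.Coprime.coprime_dvd_left (orderOf_pow_dvd i) hcop
  have hWle : W ≤ Zc P := by
    intro x hx
    obtain ⟨c, hc, hxc⟩ := Cfsg.Agent.Lead.coprime_fixed_points_quotient A W
      (fun b hb => (hAT hb).1) hcopA (Or.inl inferInstance) (Zc P) hZW.le
      (hWP.trans (le_normalizer_Zc P)) (fun b hb => (hAT hb).2.1) x hx
      (fun b hb => (hAT hb).2.2 x hx)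
    have hcA : c ∈ centralizer (A : Set G) := hc.2
    rw [mem_centralizer_iff] at hcA
    have hca : a * c = c * a := hcA a (mem_zpowers a)
    have hcZ : c ∈ Zc P := hP.fix i hi c (hWP hc.1) hca
    have e : x = c * (x⁻¹ * c)⁻¹ := by group
    rw [e]
    exact (Zc P).mul_mem hcZ ((Zc P).inv_mem hxc)
  exact (not_le_of_gt hZW) hWle

/-- `⟨g⟩` acts freely on `W ∖ Z(P)`. -/
theorem ESC.dvd_card_sub [Finite G] (hP : ESC p h g Z₀ P) (hord : orderOf g = h)
    {W : Subgroup G} (hZW : Zc P ≤ W) (hWP : W ≤ P) (hgW : g ∈ normalizer (W : Set G)) :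
    h ∣ Nat.card W - Nat.card (Zc P) := by
  classical
  let T := {x : G // x ∈ W ∧ x ∉ Zc P}
  have hnW : zpowers g ≤ normalizer (W : Set G) := (zpowers_le).mpr hgW
  have hnZ : zpowers g ≤ normalizer (Zc P : Set G) := (zpowers_le).mpr (mem_normalizer_Zc hP.norm)
  letI : MulAction (zpowers g) T :=
    { smul := fun a x => ⟨a.1 * x.1 * a.1⁻¹,
        (mem_normalizer_iff.mp (hnW a.2) x.1).mp x.2.1,
        fun hx => x.2.2 ((mem_normalizer_iff.mp (hnZ a.2) x.1).mpr hx)⟩
      one_smul := by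
        intro x
        apply Subtype.ext
        show ((1 : zpowers g) : G) * x.1 * ((1 : zpowers g) : G)⁻¹ = x.1
        simp
      mul_smul := by
        intro a b x
        apply Subtype.ext
        show ((a * b : zpowers g) : G) * x.1 * ((a * b : zpowers g) : G)⁻¹ =
          a.1 * (b.1 * x.1 * b.1⁻¹) * a.1⁻¹
        simp only [Subgroup.coe_mul, mul_inv_rev]
        group }
  have hsmul : ∀ (a : zpowers g) (x : T), ((a • x : T) : G) = a.1 * x.1 * a.1⁻¹ := fun _ _ => rfl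
  have hfree : ∀ x : T, MulAction.stabilizer (zpowers g) x = ⊥ := by
    intro x
    rw [eq_bot_iff]
    intro a ha
    rw [MulAction.mem_stabilizer_iff] at ha
    have h1 : a.1 * x.1 * a.1⁻¹ = x.1 := by rw [← hsmul, ha]
    have h2 : a.1 * x.1 = x.1 * a.1 := by
      calc a.1 * x.1 = a.1 * x.1 * a.1⁻¹ * a.1 := by group
        _ = x.1 * a.1 := by rw [h1]
    obtain ⟨i, hi⟩ := (mem_powers_iff_mem_zpowers (x := g)).mpr a.2
    rw [Subgroup.mem_bot]
    apply Subtype.ext
    show a.1 = 1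
    by_cases hdvd : h ∣ i
    · rw [← hi]
      have : orderOf g ∣ i := by rw [hord]; exact hdvd
      exact orderOf_dvd_iff_pow_eq_one.mp this
    · exfalso
      apply x.2.2
      apply hP.fix i hdvd x.1 (hWP x.2.1)
      have hi' : g ^ i = a.1 := hi
      rw [hi']
      exact h2
  have e := MulAction.selfEquivOrbitsQuotientProd hfree
  have hcardT : Nat.card T = Nat.card (Quotient (MulAction.orbitRel (zpowers g) T)) * h := by
    rw [Nat.card_congr e, Nat.card_prod, Nat.card_zpowers, hord]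
  have hT : Nat.card T = Nat.card W - Nat.card (Zc P) := by
    have h1 : Nat.card T = ((W : Set G) \ (Zc P : Set G)).ncard := by
      rw [← Nat.card_coe_set_eq]
      rfl
    have h2 : (Zc P : Set G) ⊆ (W : Set G) := hZW
    rw [h1, Set.ncard_sdiff h2, ← Nat.card_coe_set_eq, ← Nat.card_coe_set_eq]
    rfl
  rw [← hT, hcardT]
  exact dvd_mul_left _ _

end Cfsg.Agent.Helper19.ESCyc
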