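import Mathlib
import Cfsg.Agent.Helper19.ESCycB
import Cfsg.Agent.Helper19.ESCycE

/-!
S3767 toolkit, part 4: applying the heart lemma to a minimal invariant nonabelian section.
-/

set_option autoImplicit false

namespace Cfsg.Agent.Helper19.ESCyc

open Subgroup
open scoped commutatorElement

variable {G : Type*} [Group G] {p h : ℕ} {g : G} {Z₀ P : Subgroup G}

theorem comm_mul_left_of_commute {x y z : G} (hzy : z * y = y * z) : ⁅x * z, y⁆ = ⁅x, y⁆ := by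
  rw [commutatorElement_def, commutatorElement_def]
  have : x * z * y * (x * z)⁻¹ * y⁻¹ = x * (z * y) * z⁻¹ * x⁻¹ * y⁻¹ := by group
  rw [this, hzy]
  group

theorem comm_mul_right_of_commute {x y z : G} (hzx : z * x = x * z) : ⁅x, y * z⁆ = ⁅x, y⁆ := by
  rw [commutatorElement_def, commutatorElement_def]
  have h1 : z * x⁻¹ = x⁻¹ * z := (show Commute z x from hzx).inv_right.eq
  have : x * (y * z) * x⁻¹ * (y * z)⁻¹ = x * y * (z * x⁻¹) * z⁻¹ * y⁻¹ := by group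
  rw [this, h1]
  group

theorem comm_mul_left_of_central {x x' y : G} (hc : x * ⁅x', y⁆ = ⁅x', y⁆ * x) :
    ⁅x * x', y⁆ = ⁅x', y⁆ * ⁅x, y⁆ := by
  have h1 : ⁅x * x', y⁆ = x * ⁅x', y⁆ * x⁻¹ * ⁅x, y⁆ := by
    simp only [commutatorElement_def]; group
  rw [h1, hc]
  group

theorem comm_mul_right_of_central {x y y' : G} (hc : y * ⁅x, y'⁆ = ⁅x, y'⁆ * y) :
    ⁅x, y * y'⁆ = ⁅x, y⁆ * ⁅x, y'⁆ := by
  have h1 : ⁅x, y * y'⁆ = ⁅x, y⁆ * (y * ⁅x, y'⁆ * y⁻¹) := by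
    simp only [commutatorElement_def]; group
  rw [h1, hc]
  group

theorem comm_conj (a x y : G) : ⁅a * x * a⁻¹, a * y * a⁻¹⁆ = a * ⁅x, y⁆ * a⁻¹ := by
  simp only [commutatorElement_def]; group

/-- Applying the heart lemma to a minimal invariant section with `Z(W) = Z(P)`. -/
theorem ESC.heart_apply [Finite G] [Fact p.Prime] (hP : ESC p h g Z₀ P)
    (hcop : (orderOf g).Coprime p) (h3 : 3 ≤ h) (hgZ0 : ∀ z ∈ Z₀, g * z = z * g)
    {W : Subgroup G} (hZW : Zc P < W) (hWP : W ≤ P) (hgW : g ∈ normalizer (W : Set G))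
    (hZcW : Zc W = Zc P)
    (hmin : ∀ U : Subgroup G, Zc P ≤ U → U ≤ W → g ∈ normalizer (U : Set G) →
      U = Zc P ∨ U = W) :
    ∃ m : ℕ, Nat.card W = p ^ (2 * m) * Nat.card (Zc P) ∧ h ∣ p ^ m + 1 := by
  classical
  have hpp : p.Prime := Fact.out
  set Z : Subgroup G := Zc P with hZdef
  have hZ0Z : Z₀ ≤ Z := hP.Z0_le
  -- Z₀ is central in P
  have hZ0c : ∀ z ∈ Z₀, ∀ x ∈ P, x * z = z * x := fun z hz x hx =>
    (mem_Zc.mp (hZ0Z hz)).2 x hx
  have hgZ : g ∈ normalizer (Z : Set G) := mem_normalizer_Zc hP.norm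
  let Zs : Subgroup W := Z.subgroupOf W
  haveI hZsN : Zs.Normal :=
    normal_subgroupOf_of_le_normalizer (hWP.trans (le_normalizer_Zc P))
  have hQcomm : ∀ a b : W ⧸ Zs, a * b = b * a := by
    intro a b
    induction a using QuotientGroup.induction_on with
    | H x =>
      induction b using QuotientGroup.induction_on with
      | H y =>
        rw [← QuotientGroup.mk_mul, ← QuotientGroup.mk_mul, QuotientGroup.eq]
        show (((x * y)⁻¹ * (y * x) : W) : G) ∈ Z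
        have h1 := hP.comm (y.1⁻¹) (P.inv_mem (hWP y.2)) (x.1⁻¹) (P.inv_mem (hWP x.2))
        have e : (((x * y)⁻¹ * (y * x) : W) : G) = ⁅y.1⁻¹, x.1⁻¹⁆ := by
          rw [commutatorElement_def]
          simp only [Subgroup.coe_mul, Subgroup.coe_inv, mul_inv_rev, inv_inv]
          group
        rw [e]
        exact hZ0Z h1
  letI : CommGroup (W ⧸ Zs) := { (inferInstance : Group (W ⧸ Zs)) with mul_comm := hQcomm }
  letI : CommGroup Z₀ :=
    { (inferInstance : Group Z₀) with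
      mul_comm := fun a b => Subtype.ext (hZ0c b.1 b.2 a.1 ((Zc_le P) (hZ0Z a.2))) }
  let mkV : W → Additive (W ⧸ Zs) := fun x => Additive.ofMul (QuotientGroup.mk x)
  have mkV_surj : ∀ v : Additive (W ⧸ Zs), ∃ x : W, mkV x = v := by
    intro v
    obtain ⟨x, hx⟩ := QuotientGroup.mk_surjective (Additive.toMul v)
    exact ⟨x, by show Additive.ofMul (QuotientGroup.mk x) = v; rw [hx]; rfl⟩
  have mkV_mul : ∀ x y : W, mkV (x * y) = mkV x + mkV y := fun x y => rfl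
  have mkV_zero_iff : ∀ x : W, mkV x = 0 ↔ x.1 ∈ Z := by
    intro x
    show (QuotientGroup.mk x : W ⧸ Zs) = 1 ↔ x.1 ∈ Z
    rw [QuotientGroup.eq_one_iff]
    rfl
  have mkV_eq_iff : ∀ x y : W, mkV x = mkV y ↔ x.1⁻¹ * y.1 ∈ Z := by
    intro x y
    show (QuotientGroup.mk x : W ⧸ Zs) = QuotientGroup.mk y ↔ x.1⁻¹ * y.1 ∈ Z
    rw [QuotientGroup.eq]
    rfl
  -- the form
  let Bf : W → W → Additive Z₀ := fun x y =>
    Additive.ofMul ⟨⁅x.1, y.1⁆, hP.comm x.1 (hWP x.2) y.1 (hWP y.2)⟩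
  have hBf_congr : ∀ x x' y y' : W, mkV x = mkV x' → mkV y = mkV y' → Bf x y = Bf x' y' := by
    intro x x' y y' hx hy
    rw [mkV_eq_iff] at hx hy
    have hzc : ∀ z ∈ Z, ∀ w ∈ W, z * w = w * z := fun z hz w hw =>
      ((mem_Zc.mp hz).2 w (hWP hw)).symm
    show Additive.ofMul (⟨⁅x.1, y.1⁆, _⟩ : Z₀) = Additive.ofMul (⟨⁅x'.1, y'.1⁆, _⟩ : Z₀)
    congr 2
    calc ⁅x.1, y.1⁆ = ⁅x.1, y.1 * (y.1⁻¹ * y'.1)⁆ :=
          (comm_mul_right_of_commute (hzc _ hy _ x.2)).symm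
      _ = ⁅x.1, y'.1⁆ := by congr 1; group
      _ = ⁅x.1 * (x.1⁻¹ * x'.1), y'.1⁆ := (comm_mul_left_of_commute (hzc _ hx _ y'.2)).symm
      _ = ⁅x'.1, y'.1⁆ := by congr 1; group
  -- choose representatives
  have hrep : ∀ v : Additive (W ⧸ Zs), mkV (Classical.choose (mkV_surj v)) = v :=
    fun v => Classical.choose_spec (mkV_surj v)
  let rep : Additive (W ⧸ Zs) → W := fun v => Classical.choose (mkV_surj v)
  let B : Additive (W ⧸ Zs) → Additive (W ⧸ Zs) → Additive Z₀ := fun v w => Bf (rep v) (rep w)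
  have hB_mk : ∀ x y : W, B (mkV x) (mkV y) = Bf x y := by
    intro x y
    exact hBf_congr _ _ _ _ (hrep (mkV x)) (hrep (mkV y))
  -- commutators are central in P
  have hcc : ∀ x y w : W, w.1 * ⁅x.1, y.1⁆ = ⁅x.1, y.1⁆ * w.1 := fun x y w =>
    hZ0c _ (hP.comm x.1 (hWP x.2) y.1 (hWP y.2)) w.1 (hWP w.2)
  have hBl : ∀ u v w, B (u + v) w = B u w + B v w := by
    intro u v w
    obtain ⟨x, rfl⟩ := mkV_surj u
    obtain ⟨x', rfl⟩ := mkV_surj v
    obtain ⟨y, rfl⟩ := mkV_surj w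
    rw [← mkV_mul, hB_mk, hB_mk, hB_mk]
    show Additive.ofMul (⟨⁅(x * x' : W).1, y.1⁆, _⟩ : Z₀) =
      Additive.ofMul ((⟨⁅x.1, y.1⁆, _⟩ : Z₀) * ⟨⁅x'.1, y.1⁆, _⟩)
    congr 1
    apply Subtype.ext
    show ⁅x.1 * x'.1, y.1⁆ = ⁅x.1, y.1⁆ * ⁅x'.1, y.1⁆
    rw [comm_mul_left_of_central (hcc x' y x)]
    exact (hcc x' y ⟨⁅x.1, y.1⁆, W.mul_mem (W.mul_mem (W.mul_mem x.2 y.2) (W.inv_mem x.2))
      (W.inv_mem y.2)⟩).symm
  have hBr : ∀ u v w, B u (v + w) = B u v + B u w := by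
    intro u v w
    obtain ⟨x, rfl⟩ := mkV_surj u
    obtain ⟨y, rfl⟩ := mkV_surj v
    obtain ⟨y', rfl⟩ := mkV_surj w
    rw [← mkV_mul, hB_mk, hB_mk, hB_mk]
    show Additive.ofMul (⟨⁅x.1, (y * y' : W).1⁆, _⟩ : Z₀) =
      Additive.ofMul ((⟨⁅x.1, y.1⁆, _⟩ : Z₀) * ⟨⁅x.1, y'.1⁆, _⟩)
    congr 1
    apply Subtype.ext
    show ⁅x.1, y.1 * y'.1⁆ = ⁅x.1, y.1⁆ * ⁅x.1, y'.1⁆
    exact comm_mul_right_of_central (hcc x y' y)
  have hskew : ∀ u v, B u v = - B v u := by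
    intro u v
    obtain ⟨x, rfl⟩ := mkV_surj u
    obtain ⟨y, rfl⟩ := mkV_surj v
    rw [hB_mk, hB_mk]
    show Additive.ofMul (⟨⁅x.1, y.1⁆, _⟩ : Z₀) = Additive.ofMul ((⟨⁅y.1, x.1⁆, _⟩ : Z₀)⁻¹)
    congr 1
    apply Subtype.ext
    show ⁅x.1, y.1⁆ = ⁅y.1, x.1⁆⁻¹
    rw [commutatorElement_inv]
  have hnd : ∀ u, (∀ v, B u v = 0) → u = 0 := by
    intro u hu
    obtain ⟨x, rfl⟩ := mkV_surj u
    rw [mkV_zero_iff]
    have hgoal : x.1 ∈ Zc W := by
      rw [mem_Zc]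
      refine ⟨x.2, fun y hy => ?_⟩
      have h1 := hu (mkV ⟨y, hy⟩)
      rw [hB_mk] at h1
      have h2 : ⁅x.1, y⁆ = 1 := by
        have h3 : (⟨⁅x.1, y⁆, hP.comm x.1 (hWP x.2) y (hWP hy)⟩ : Z₀) = 1 := h1
        exact congrArg Subtype.val h3
      rw [commutatorElement_eq_one_iff_mul_comm] at h2
      exact h2.symm
    rw [hZcW] at hgoal
    exact hgoal
  -- the action
  have hconjW : ∀ (a : G), a ∈ normalizer (W : Set G) → ∀ x : W, a * x.1 * a⁻¹ ∈ W :=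
    fun a ha x => (mem_normalizer_iff.mp ha x.1).mp x.2
  let N : Subgroup G := normalizer (W : Set G) ⊓ normalizer (Z : Set G)
  have hgN : g ∈ N := ⟨hgW, hgZ⟩
  let cW : N → (W →* W) := fun a =>
    MonoidHom.mk' (fun x => ⟨a.1 * x.1 * a.1⁻¹, hconjW a.1 a.2.1 x⟩)
      (by intro x y; apply Subtype.ext; simp [mul_assoc])
  have hcle : ∀ a : N, Zs ≤ Zs.comap (cW a) := by
    intro a z hz
    show a.1 * z.1 * a.1⁻¹ ∈ Z
    exact (mem_normalizer_iff.mp a.2.2 z.1).mp hz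
  let S : N → AddMonoid.End (Additive (W ⧸ Zs)) := fun a =>
    MonoidHom.toAdditive (QuotientGroup.map Zs Zs (cW a) (hcle a))
  have hS_mk : ∀ (a : N) (x : W),
      S a (mkV x) = mkV ⟨a.1 * x.1 * a.1⁻¹, hconjW a.1 a.2.1 x⟩ := fun a x => rfl
  have hS_mul : ∀ a b : N, S (a * b) = S a * S b := by
    intro a b
    apply AddMonoidHom.ext
    intro v
    obtain ⟨x, rfl⟩ := mkV_surj v
    show S (a * b) (mkV x) = S a (S b (mkV x))
    rw [hS_mk, hS_mk, hS_mk]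
    congr 1
    apply Subtype.ext
    simp [mul_assoc]
  have hS_one : S 1 = 1 := by
    apply AddMonoidHom.ext
    intro v
    obtain ⟨x, rfl⟩ := mkV_surj v
    show S 1 (mkV x) = mkV x
    rw [hS_mk]
    congr 1
    apply Subtype.ext
    simp
  have hS_pow : ∀ (a : N) (n : ℕ), S (a ^ n) = (S a) ^ n := by
    intro a n
    induction n with
    | zero => rw [pow_zero, pow_zero, hS_one]
    | succ n ih => rw [pow_succ, pow_succ, hS_mul, ih]
  set gN : N := ⟨g, hgN⟩ with hgNdef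
  have hswap : ∀ x : W, ∀ y : G, x.1⁻¹ * y ∈ Z → y * x.1⁻¹ ∈ Z := by
    intro x y hy
    have hxn : x.1 ∈ normalizer (Z : Set G) := le_normalizer_Zc P (hWP x.2)
    have := (mem_normalizer_iff.mp hxn _).mp hy
    have e : x.1 * (x.1⁻¹ * y) * x.1⁻¹ = y * x.1⁻¹ := by group
    rw [e] at this
    exact this
  have htriv_of : ∀ n : ℕ, (S gN) ^ n = 1 → h ∣ n := by
    intro n hn
    apply hP.dvd_of_trivial hcop hZW hWP hgW n
    intro x hx
    have h1 : S (gN ^ n) (mkV ⟨x, hx⟩) = mkV ⟨x, hx⟩ := by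
      rw [hS_pow, hn]; rfl
    rw [hS_mk] at h1
    have h2 := (mkV_eq_iff _ _).mp h1.symm
    have h3 := hswap ⟨x, hx⟩ _ h2
    have e : ((gN ^ n : N) : G) = g ^ n := by
      rw [hgNdef]; simp
    simpa [e] using h3
  have hσσ' : S gN * S gN⁻¹ = 1 := by rw [← hS_mul, mul_inv_cancel, hS_one]
  have hσ'σ : S gN⁻¹ * S gN = 1 := by rw [← hS_mul, inv_mul_cancel, hS_one]
  have hV : ∀ v : Additive (W ⧸ Zs), p • v = 0 := by
    intro v
    obtain ⟨x, rfl⟩ := mkV_surj v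
    have h1 : p • mkV x = mkV (x ^ p) := by
      show p • Additive.ofMul (QuotientGroup.mk x : W ⧸ Zs) = Additive.ofMul (QuotientGroup.mk (x ^ p))
      rw [QuotientGroup.mk_pow, ofMul_pow]
    rw [h1, mkV_zero_iff]
    have := hP.pow x.1 (hWP x.2)
    simpa using this
  have hinv : ∀ u v, B (S gN u) (S gN v) = B u v := by
    intro u v
    obtain ⟨x, rfl⟩ := mkV_surj u
    obtain ⟨y, rfl⟩ := mkV_surj v
    rw [hS_mk, hS_mk, hB_mk, hB_mk]
    show Additive.ofMul (⟨⁅g * x.1 * g⁻¹, g * y.1 * g⁻¹⁆, _⟩ : Z₀) =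
      Additive.ofMul (⟨⁅x.1, y.1⁆, _⟩ : Z₀)
    congr 1
    apply Subtype.ext
    show ⁅g * x.1 * g⁻¹, g * y.1 * g⁻¹⁆ = ⁅x.1, y.1⁆
    rw [comm_conj, hgZ0 _ (hP.comm x.1 (hWP x.2) y.1 (hWP y.2))]
    group
  have hnt : Nontrivial (Additive (W ⧸ Zs)) := by
    obtain ⟨x, hxW, hxZ⟩ := SetLike.exists_of_lt hZW
    refine ⟨⟨mkV ⟨x, hxW⟩, 0, fun h0 => hxZ ((mkV_zero_iff _).mp h0)⟩⟩
  have hσ2 : S gN ≠ S gN⁻¹ := by
    intro heq
    have h1 : (S gN) ^ 2 = 1 := by rw [pow_two]; nth_rewrite 2 [heq]; exact hσσ'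
    have := htriv_of 2 h1
    have := Nat.le_of_dvd (by norm_num) this
    omega
  have hirr : ∀ U : AddSubgroup (Additive (W ⧸ Zs)), (∀ w ∈ U, S gN w ∈ U) → U = ⊥ ∨ U = ⊤ := by
    intro U hU
    let Ut : Subgroup G :=
      { carrier := {x | ∃ hx : x ∈ W, mkV ⟨x, hx⟩ ∈ U}
        one_mem' := ⟨W.one_mem, by
          have : mkV ⟨1, W.one_mem⟩ = 0 := (mkV_zero_iff _).mpr Z.one_mem
          rw [this]; exact U.zero_mem⟩
        mul_mem' := by
          rintro a b ⟨ha, haU⟩ ⟨hb, hbU⟩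
          refine ⟨W.mul_mem ha hb, ?_⟩
          have : mkV ⟨a * b, W.mul_mem ha hb⟩ = mkV ⟨a, ha⟩ + mkV ⟨b, hb⟩ := mkV_mul ⟨a, ha⟩ ⟨b, hb⟩
          rw [this]
          exact U.add_mem haU hbU
        inv_mem' := by
          rintro a ⟨ha, haU⟩
          refine ⟨W.inv_mem ha, ?_⟩
          have : mkV ⟨a⁻¹, W.inv_mem ha⟩ = - mkV ⟨a, ha⟩ := rfl
          rw [this]
          exact U.neg_mem haU }
    have hUtW : Ut ≤ W := fun x hx => hx.1
    have hZUt : Z ≤ Ut := by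
      intro x hx
      refine ⟨hZW.le hx, ?_⟩
      have : mkV ⟨x, hZW.le hx⟩ = 0 := (mkV_zero_iff _).mpr hx
      rw [this]; exact U.zero_mem
    have hgUt : g ∈ normalizer (Ut : Set G) := by
      apply mem_normalizer_fintype
      rintro x ⟨hx, hxU⟩
      refine ⟨hconjW g hgW ⟨x, hx⟩, ?_⟩
      have := hU _ hxU
      rw [hS_mk] at this
      exact this
    rcases hmin Ut hZUt hUtW hgUt with h1 | h1
    · left
      rw [eq_bot_iff]
      intro v hv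
      obtain ⟨x, rfl⟩ := mkV_surj v
      have : x.1 ∈ Ut := ⟨x.2, hv⟩
      rw [h1] at this
      rw [AddSubgroup.mem_bot]
      exact (mkV_zero_iff x).mpr this
    · right
      rw [eq_top_iff]
      intro v _
      obtain ⟨x, rfl⟩ := mkV_surj v
      have : x.1 ∈ Ut := by rw [h1]; exact x.2
      obtain ⟨_, hxU⟩ := this
      exact hxU
  obtain ⟨m, hm, hpow⟩ := heart (p := p) hV B hBl hBr hskew hnd (S gN) (S gN⁻¹) hσσ' hσ'σ hinv
    hirr hnt hσ2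
  refine ⟨m, ?_, htriv_of _ hpow⟩
  have h1 := Subgroup.card_eq_card_quotient_mul_card_subgroup Zs
  have h2 : Nat.card Zs = Nat.card Z := Cfsg.Agent.Helper17.card_subgroupOf_of_le hZW.le
  have h3 : Nat.card (Additive (W ⧸ Zs)) = Nat.card (W ⧸ Zs) := rfl
  rw [h1, h2, ← h3, hm]

end Cfsg.Agent.Helper19.ESCyc
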