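import Mathlib
import Cfsg.Agent.Helper19.ESCycF

/-!
S3767 toolkit, part 5: the main induction.
-/

set_option autoImplicit false

namespace Cfsg.Agent.Helper19.ESCyc

open Subgroup
open scoped commutatorElement

variable {G : Type*} [Group G] {p h : ℕ} {g : G} {Z₀ : Subgroup G}

theorem main [Finite G] [Fact p.Prime] (hord : orderOf g = h) (hcop : h.Coprime p) (h3 : 3 ≤ h)
    (hZ0 : Nat.card Z₀ = p) (hgZ0 : ∀ z ∈ Z₀, g * z = z * g) :
    ∀ (n : ℕ) (P : Subgroup G), ESC p h g Z₀ P →
      Nat.card P = p ^ (2 * n) * Nat.card (Zc P) →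
      (p : ZMod h) ^ n = 1 ∨ (p : ZMod h) ^ n = -1 := by
  classical
  have hpp : p.Prime := Fact.out
  have hp2 : 2 ≤ p := hpp.two_le
  have hcop' : (orderOf g).Coprime p := by rw [hord]; exact hcop
  intro n
  induction n using Nat.strong_induction_on with
  | _ n ih =>
    intro P hP hcard
    by_cases hn : n = 0
    · left; rw [hn, pow_zero]
    have hn1 : 1 ≤ n := Nat.one_le_iff_ne_zero.mpr hn
    obtain ⟨a, ha⟩ := (hP.isP.to_le (Zc_le P)).exists_card_eq
    have hcardP : Nat.card P = p ^ (2 * n + a) := by rw [hcard, ha, pow_add]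
    have hZP : (Zc P) < P := by
      refine lt_of_le_of_ne (Zc_le P) ?_
      intro heq
      have h1 : Nat.card (Zc P) = Nat.card P := by rw [heq]
      rw [ha, hcardP] at h1
      have := Nat.pow_right_injective hp2 h1
      omega
    -- minimal invariant subgroup
    let 𝒲 : Set (Subgroup G) := {W | (Zc P) < W ∧ W ≤ P ∧ g ∈ normalizer (W : Set G)}
    have h𝒲ne : 𝒲.Nonempty := ⟨P, hZP, le_rfl, hP.norm⟩
    obtain ⟨W, ⟨hZW, hWP, hgW⟩, hWmin⟩ :=
      Set.exists_min_image 𝒲 (fun W => Nat.card W) (Set.toFinite _) h𝒲ne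
    have hmin : ∀ U : Subgroup G, (Zc P) ≤ U → U ≤ W → g ∈ normalizer (U : Set G) →
        U = (Zc P) ∨ U = W := by
      intro U hZU hUW hgU
      by_cases hUZ : U = (Zc P)
      · exact Or.inl hUZ
      right
      have hlt : (Zc P) < U := lt_of_le_of_ne hZU (Ne.symm hUZ)
      have := hWmin U ⟨hlt, hUW.trans hWP, hgU⟩
      exact eq_of_le_of_card_ge hUW this
    obtain ⟨b, hb⟩ := (hP.isP.to_le hWP).exists_card_eq
    have hab : a < b := by
      have h1 : Nat.card (Zc P) < Nat.card W := by
        have hle := card_le_of_le hZW.le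
        refine lt_of_le_of_ne hle ?_
        intro heq
        exact (ne_of_lt hZW) (eq_of_le_of_card_ge hZW.le (le_of_eq heq.symm))
      rw [ha, hb] at h1
      exact (Nat.pow_lt_pow_iff_right hp2).mp h1
    -- the centre of W
    have hZZW : (Zc P) ≤ Zc W := by
      intro x hx
      rw [mem_Zc]
      exact ⟨hZW.le hx, fun y hy => (mem_Zc.mp hx).2 y (hWP hy)⟩
    obtain ⟨e, he⟩ := (hP.isP.to_le (inf_le_left : (P ⊓ centralizer (W : Set G) : Subgroup G) ≤ P)).exists_card_eq
    rcases hmin (Zc W) hZZW (Zc_le W) (mem_normalizer_Zc hgW) with hcase | hcase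
    · -- Case I
      obtain ⟨m, hm, hdvd⟩ := hP.heart_apply hcop' h3 hgZ0 hZW hWP hgW hcase hmin
      obtain ⟨hC, hZcC, hform⟩ := hP.caseI hZ0 hZW.le hWP hgW hcase
      have hb' : b = 2 * m + a := by
        have : p ^ b = p ^ (2 * m + a) := by rw [← hb, hm, ha, pow_add]
        exact Nat.pow_right_injective hp2 this
      have hexp : 2 * n + a + a = e + b := by
        have : p ^ (2 * n + a + a) = p ^ (e + b) := by
          rw [pow_add (p) (2 * n + a) a, pow_add p e b, ← hcardP, ← ha, ← he, ← hb]
          exact hform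
        exact Nat.pow_right_injective hp2 this
      have hZC : (Zc P) ≤ (P ⊓ centralizer (W : Set G) : Subgroup G) := by rw [← hZcC]; exact Zc_le (P ⊓ centralizer (W : Set G) : Subgroup G)
      have hae : a ≤ e := by
        have := card_le_of_le hZC
        rw [ha, he] at this
        exact (Nat.pow_le_pow_iff_right hp2).mp this
      have hm1 : 1 ≤ m := by omega
      have hmn : m ≤ n := by omega
      have hcardC : Nat.card (P ⊓ centralizer (W : Set G) : Subgroup G) = p ^ (2 * (n - m)) * Nat.card (Zc (P ⊓ centralizer (W : Set G) : Subgroup G)) := by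
        rw [hZcC, ha, he, ← pow_add]
        congr 1
        omega
      have hIH := ih (n - m) (by omega) (P ⊓ centralizer (W : Set G) : Subgroup G) hC hcardC
      have hpm : (p : ZMod h) ^ m = -1 := by
        have h1 : ((p ^ m + 1 : ℕ) : ZMod h) = 0 := (ZMod.natCast_eq_zero_iff _ _).mpr hdvd
        push_cast at h1
        exact eq_neg_of_add_eq_zero_left h1
      have hsplit : (p : ZMod h) ^ n = (p : ZMod h) ^ (n - m) * (p : ZMod h) ^ m := by
        rw [← pow_add]; congr 1; omega
      rcases hIH with h1 | h1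
      · right; rw [hsplit, h1, hpm, one_mul]
      · left; rw [hsplit, h1, hpm]; simp
    · -- Case II
      have habW : W ≤ centralizer (W : Set G) := by
        have : W ≤ Zc W := le_of_eq hcase.symm
        exact this.trans inf_le_right
      obtain ⟨hC, hZcC, hform⟩ := hP.caseII hZ0 hZW.le hWP hgW habW
      have hexp : 2 * n + a + a = e + b := by
        have : p ^ (2 * n + a + a) = p ^ (e + b) := by
          rw [pow_add (p) (2 * n + a) a, pow_add p e b, ← hcardP, ← ha, ← he, ← hb]
          exact hform
        exact Nat.pow_right_injective hp2 this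
      have hWC : W ≤ (P ⊓ centralizer (W : Set G) : Subgroup G) := le_inf hWP habW
      have hbe : b ≤ e := by
        have := card_le_of_le hWC
        rw [hb, he] at this
        exact (Nat.pow_le_pow_iff_right hp2).mp this
      set d := b - a with hd
      have hd1 : 1 ≤ d := by omega
      have hdn : d ≤ n := by omega
      have hcardC : Nat.card (P ⊓ centralizer (W : Set G) : Subgroup G) = p ^ (2 * (n - d)) * Nat.card (Zc (P ⊓ centralizer (W : Set G) : Subgroup G)) := by
        rw [hZcC, hb, he, ← pow_add]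
        congr 1
        omega
      have hIH := ih (n - d) (by omega) (P ⊓ centralizer (W : Set G) : Subgroup G) hC hcardC
      have hdvd := hP.dvd_card_sub hord hZW.le hWP hgW
      rw [hb, ha] at hdvd
      have hpd : (p : ZMod h) ^ d = 1 := by
        have h1 : p ^ b - p ^ a = p ^ a * (p ^ d - 1) := by
          have : b = a + d := by omega
          rw [this, pow_add, Nat.mul_sub, mul_one]
        rw [h1] at hdvd
        have h2 : h ∣ p ^ d - 1 :=
          (Nat.Coprime.pow_right a hcop).dvd_of_dvd_mul_left hdvd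
        have h3' : ((p ^ d - 1 : ℕ) : ZMod h) = 0 := (ZMod.natCast_eq_zero_iff _ _).mpr h2
        rw [Nat.cast_sub (Nat.one_le_pow _ _ hpp.pos)] at h3'
        push_cast at h3'
        exact sub_eq_zero.mp h3'
      have hsplit : (p : ZMod h) ^ n = (p : ZMod h) ^ (n - d) * (p : ZMod h) ^ d := by
        rw [← pow_add]; congr 1; omega
      rcases hIH with h1 | h1
      · left; rw [hsplit, h1, hpd, one_mul]
      · right; rw [hsplit, h1, hpd, mul_one]

end Cfsg.Agent.Helper19.ESCyc
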