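import Mathlib
import Cfsg.Agent.Helper16.F3Basic

set_option autoImplicit false
set_option linter.unusedVariables false
set_option linter.unusedSectionVars false

/-!
# Fischer rank-3 package, piece MAXC: maximal commuting subsets of `D`

A commuting subset `E` of `D` of largest size is normalized by a Sylow 2-subgroup, and its
normalizer is 2-transitive on it.
-/

namespace Cfsg.Agent.Helper16.F3

variable {G : Type*} [Group G] [Finite G] {D : Set G}

namespace MAXC

open scoped Pointwise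

/-- Two members of `D` inside a 2-subgroup commute. -/
theorem commute_of_mem_pgroup (hD : Cfsg.IsThreeTranspositionGroup D) {Q : Subgroup G}
    (hQ : IsPGroup 2 Q) {x y : G} (hx : x ∈ D) (hy : y ∈ D) (hxQ : x ∈ Q) (hyQ : y ∈ Q) :
    Commute x y := by
  by_contra hnc
  have h3 := cube hD hx hy hnc
  obtain ⟨k, hk⟩ := hQ ⟨x * y, Q.mul_mem hxQ hyQ⟩
  have hk' : (x * y) ^ (2 ^ k) = 1 := by
    have := congrArg Subtype.val hk
    simpa using this
  have h1 : x * y = 1 := by
    have hcop : Nat.Coprime (2 ^ k) 3 := Nat.Coprime.pow_left k (by decide)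
    have hd1 : orderOf (x * y) ∣ 2 ^ k := orderOf_dvd_of_pow_eq_one hk'
    have hd2 : orderOf (x * y) ∣ 3 := orderOf_dvd_of_pow_eq_one h3
    have h := (hcop.coprime_dvd_left hd1).eq_one_of_dvd hd2
    exact orderOf_eq_one_iff.mp h
  apply hnc
  have hxy : x = y := by
    have := eq_inv_of_mul_eq_one_left h1
    rw [inv_eq hD hy] at this
    exact this
  rw [hxy]

/-- The subgroup generated by a commuting subset of `D` is a 2-group. -/
theorem isPGroup_closure (hD : Cfsg.IsThreeTranspositionGroup D) {E : Set G} (hE : E ⊆ D)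
    (hc : ∀ a ∈ E, ∀ b ∈ E, Commute a b) : IsPGroup 2 (Subgroup.closure E) := by
  have h1 : ∀ y ∈ Subgroup.closure E, ∀ x ∈ E, Commute x y := by
    intro y hy
    induction hy using Subgroup.closure_induction with
    | mem y hy => exact fun x hx => hc x hx y hy
    | one => exact fun x _ => Commute.one_right x
    | mul y z _ _ ihy ihz => exact fun x hx => (ihy x hx).mul_right (ihz x hx)
    | inv y _ ihy => exact fun x hx => (ihy x hx).inv_right
  have h2 : ∀ z ∈ Subgroup.closure E, ∀ y ∈ Subgroup.closure E, Commute z y := by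
    intro z hz
    induction hz using Subgroup.closure_induction with
    | mem z hz => exact fun y hy => h1 y hy z hz
    | one => exact fun y _ => Commute.one_left y
    | mul z w _ _ ihz ihw => exact fun y hy => (ihz y hy).mul_left (ihw y hy)
    | inv z _ ihz => exact fun y hy => (ihz y hy).inv_left
  have h3 : ∀ z ∈ Subgroup.closure E, z ^ 2 = 1 := by
    intro z hz
    induction hz using Subgroup.closure_induction with
    | mem z hz => rw [pow_two]; exact sq hD (hE hz)
    | one => exact one_pow 2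
    | mul z w hz hw ihz ihw => rw [(h2 z hz w hw).mul_pow, ihz, ihw, one_mul]
    | inv z _ ihz => rw [inv_pow, ihz, inv_one]
  rintro ⟨z, hz⟩
  refine ⟨1, ?_⟩
  apply Subtype.ext
  simpa using h3 z hz

/-- Inside a 2-subgroup containing a largest commuting subset `E` of `D`, the members of `D`
are exactly those of `E`. -/
theorem inter_eq (hD : Cfsg.IsThreeTranspositionGroup D) {E : Set G} (hE : E ⊆ D)
    (hmax : ∀ E' : Set G, E' ⊆ D → (∀ a ∈ E', ∀ b ∈ E', Commute a b) → E'.ncard ≤ E.ncard)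
    {Q : Subgroup G} (hQ : IsPGroup 2 Q) (hEQ : ∀ x ∈ E, x ∈ Q) :
    ∀ x, x ∈ D → x ∈ Q → x ∈ E := by
  set E' : Set G := {x | x ∈ D ∧ x ∈ Q} with hE'
  have hsub : E ⊆ E' := fun x hx => ⟨hE hx, hEQ x hx⟩
  have hle : E'.ncard ≤ E.ncard :=
    hmax E' (fun x hx => hx.1) (fun a ha b hb => commute_of_mem_pgroup hD hQ ha.1 hb.1 ha.2 hb.2)
  have heq : E = E' := Set.eq_of_subset_of_ncard_le hsub hle (Set.toFinite E')
  intro x hxD hxQ
  rw [heq]
  exact ⟨hxD, hxQ⟩

/-- Key conjugation lemma: if `E` and `g E g⁻¹` both lie in a subgroup `K`, some `k ∈ K` has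
`k * g` in the normalizer of `E`. -/
theorem exists_mem_normalizer (hD : Cfsg.IsThreeTranspositionGroup D) {E : Set G} (hE : E ⊆ D)
    (hc : ∀ a ∈ E, ∀ b ∈ E, Commute a b)
    (hmax : ∀ E' : Set G, E' ⊆ D → (∀ a ∈ E', ∀ b ∈ E', Commute a b) → E'.ncard ≤ E.ncard)
    (K : Subgroup G) (g : G) (hEK : ∀ x ∈ E, x ∈ K) (hgK : ∀ x ∈ E, g * x * g⁻¹ ∈ K) :
    ∃ k ∈ K, k * g ∈ Subgroup.normalizer E := by
  classical
  haveI : Fact (Nat.Prime 2) := ⟨Nat.prime_two⟩
  set E2 : Set G := (fun x => g * x * g⁻¹) '' E with hE2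
  have hE2D : E2 ⊆ D := by
    rintro _ ⟨x, hx, rfl⟩
    exact conj_mem hD g (hE hx)
  have hc2 : ∀ a ∈ E2, ∀ b ∈ E2, Commute a b := by
    rintro _ ⟨x, hx, rfl⟩ _ ⟨y, hy, rfl⟩
    have := (hc x hx y hy).map (MulAut.conj g)
    simpa [MulAut.conj_apply] using this
  have hP1 := isPGroup_closure hD hE hc
  have hP2 := isPGroup_closure hD hE2D hc2
  have hQ1 : IsPGroup 2 ((Subgroup.closure E).subgroupOf K) := hP1.comap_subtype
  have hQ2 : IsPGroup 2 ((Subgroup.closure E2).subgroupOf K) := hP2.comap_subtype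
  obtain ⟨T, hT⟩ := hQ1.exists_le_sylow
  obtain ⟨T', hT'⟩ := hQ2.exists_le_sylow
  obtain ⟨k, hk⟩ := MulAction.exists_smul_eq K T' T
  -- the 2-subgroup of `G` given by `T`
  set Q : Subgroup G := (T : Subgroup K).map K.subtype with hQdef
  have hQ : IsPGroup 2 Q := T.2.map K.subtype
  have hEQ : ∀ x ∈ E, x ∈ Q := by
    intro x hx
    refine ⟨⟨x, hEK x hx⟩, hT ?_, rfl⟩
    rw [Subgroup.mem_subgroupOf]
    exact Subgroup.subset_closure hx
  have hint := inter_eq hD hE hmax hQ hEQ
  refine ⟨k, k.2, ?_⟩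
  rw [Subgroup.mem_normalizer_iff_conj_image_eq]
  have himg : MulAut.conj ((k : G) * g) '' E ⊆ E := by
    rintro _ ⟨x, hx, rfl⟩
    rw [MulAut.conj_apply]
    apply hint
    · exact conj_mem hD _ (hE hx)
    · -- `k (g x g⁻¹) k⁻¹ ∈ T`
      have hz : (⟨g * x * g⁻¹, hgK x hx⟩ : K) ∈ (T' : Subgroup K) := by
        apply hT'
        rw [Subgroup.mem_subgroupOf]
        exact Subgroup.subset_closure ⟨x, hx, rfl⟩
      have hz2 : MulAut.conj k • (⟨g * x * g⁻¹, hgK x hx⟩ : K) ∈
          MulAut.conj k • (T' : Subgroup K) := Subgroup.smul_mem_pointwise_smul _ _ _ hz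
      rw [← Sylow.pointwise_smul_def, ← Sylow.smul_def, hk] at hz2
      refine ⟨_, hz2, ?_⟩
      simp [MulAut.smul_def, MulAut.conj_apply, mul_assoc]
  have hinj : Function.Injective (MulAut.conj ((k : G) * g)) := (MulAut.conj ((k : G) * g)).injective
  have hcard : E.ncard ≤ (MulAut.conj ((k : G) * g) '' E).ncard := by
    rw [Set.ncard_image_of_injective _ hinj]
  exact Set.eq_of_subset_of_ncard_le himg hcard (Set.toFinite E)


/-- MAXC, with the transitivity of `C(d)` on `D_d` (piece TRANSC) as a hypothesis. -/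
theorem maxcomm_of (h : Prim D)
    (htc : ∀ {d e f : G}, d ∈ D → e ∈ D → f ∈ D → e ≠ d → f ≠ d → Commute d e → Commute d f →
      ∃ g : G, Commute g d ∧ g * e * g⁻¹ = f)
    {E : Set G} (hE : E ⊆ D) (hc : ∀ a ∈ E, ∀ b ∈ E, Commute a b)
    (hmax : ∀ E' : Set G, E' ⊆ D → (∀ a ∈ E', ∀ b ∈ E', Commute a b) → E'.ncard ≤ E.ncard) :
    (∃ P : Sylow 2 G, (P : Subgroup G) ≤ Subgroup.normalizer E) ∧
      ∀ a ∈ E, ∀ b ∈ E, ∀ c ∈ E, ∀ d ∈ E, a ≠ b → c ≠ d →
        ∃ g ∈ Subgroup.normalizer E, g * a * g⁻¹ = c ∧ g * b * g⁻¹ = d := by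
  classical
  haveI : Fact (Nat.Prime 2) := ⟨Nat.prime_two⟩
  have hD := h.tt
  constructor
  · obtain ⟨P, hP⟩ := (isPGroup_closure hD hE hc).exists_le_sylow
    have hint := inter_eq hD hE hmax P.2 (fun x hx => hP (Subgroup.subset_closure hx))
    refine ⟨P, ?_⟩
    intro g hg
    rw [Subgroup.mem_set_normalizer_iff]
    intro x
    constructor
    · intro hx
      exact hint _ (conj_mem hD g (hE hx))
        (P.1.mul_mem (P.1.mul_mem hg (hP (Subgroup.subset_closure hx))) (P.1.inv_mem hg))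
    · intro hx
      have hxe : x = g⁻¹ * (g * x * g⁻¹) * g⁻¹⁻¹ := by group
      rw [hxe]
      exact hint _ (conj_mem hD g⁻¹ (hE hx))
        (P.1.mul_mem (P.1.mul_mem (P.1.inv_mem hg) (hP (Subgroup.subset_closure hx)))
          (P.1.inv_mem (P.1.inv_mem hg)))
  · intro a ha b hb c hc' d hd hab hcd
    -- step 1: move `a` to `c` inside the normalizer
    obtain ⟨g, hg⟩ := exists_conj h (hE ha) (hE hc')
    have hK1 : ∀ x ∈ E, x ∈ Subgroup.centralizer ({c} : Set G) := by
      intro x hx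
      rw [Subgroup.mem_centralizer_singleton_iff]
      exact (hc x hx c hc').eq
    have hK1' : ∀ x ∈ E, g * x * g⁻¹ ∈ Subgroup.centralizer ({c} : Set G) := by
      intro x hx
      rw [Subgroup.mem_centralizer_singleton_iff, ← hg]
      have := (hc x hx a ha).map (MulAut.conj g)
      simpa [MulAut.conj_apply] using this.eq
    obtain ⟨k1, hk1, hn1⟩ := exists_mem_normalizer hD hE hc hmax _ g hK1 hK1'
    rw [Subgroup.mem_centralizer_singleton_iff] at hk1
    set n1 := k1 * g with hn1def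
    have hn1a : n1 * a * n1⁻¹ = c := by
      have : n1 * a * n1⁻¹ = k1 * (g * a * g⁻¹) * k1⁻¹ := by rw [hn1def]; group
      rw [this, hg, hk1, mul_inv_cancel_right]
    -- the image of `b`
    set b' := n1 * b * n1⁻¹ with hb'def
    have hb'E : b' ∈ E := (Subgroup.mem_set_normalizer_iff.mp hn1 b).mp hb
    have hb'c : b' ≠ c := by
      intro hbc
      apply hab
      have : n1 * a * n1⁻¹ = n1 * b * n1⁻¹ := by rw [hn1a, ← hbc]
      exact (mul_left_cancel (mul_right_cancel this))
    -- step 2: move `b'` to `d` fixing `c`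
    obtain ⟨g2, hg2c, hg2⟩ := htc (hE hc') (hE hb'E) (hE hd) hb'c (Ne.symm hcd)
      (hc c hc' b' hb'E) (hc c hc' d hd)
    have hg2c' : g2 * c * g2⁻¹ = c := by rw [hg2c.eq, mul_inv_cancel_right]
    have hK2 : ∀ x ∈ E, x ∈ Subgroup.centralizer ({c} : Set G) ⊓ Subgroup.centralizer ({d} : Set G) := by
      intro x hx
      rw [Subgroup.mem_inf, Subgroup.mem_centralizer_singleton_iff,
        Subgroup.mem_centralizer_singleton_iff]
      exact ⟨(hc x hx c hc').eq, (hc x hx d hd).eq⟩
    have hK2' : ∀ x ∈ E, g2 * x * g2⁻¹ ∈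
        Subgroup.centralizer ({c} : Set G) ⊓ Subgroup.centralizer ({d} : Set G) := by
      intro x hx
      rw [Subgroup.mem_inf, Subgroup.mem_centralizer_singleton_iff,
        Subgroup.mem_centralizer_singleton_iff]
      constructor
      · have := (hc x hx c hc').map (MulAut.conj g2)
        simp only [MulAut.conj_apply] at this
        rw [hg2c'] at this
        exact this.eq
      · have := (hc x hx b' hb'E).map (MulAut.conj g2)
        simp only [MulAut.conj_apply] at this
        rw [hg2] at this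
        exact this.eq
    obtain ⟨k2, hk2, hn2⟩ := exists_mem_normalizer hD hE hc hmax _ g2 hK2 hK2'
    rw [Subgroup.mem_inf, Subgroup.mem_centralizer_singleton_iff,
      Subgroup.mem_centralizer_singleton_iff] at hk2
    set n2 := k2 * g2 with hn2def
    have hn2c : n2 * c * n2⁻¹ = c := by
      have : n2 * c * n2⁻¹ = k2 * (g2 * c * g2⁻¹) * k2⁻¹ := by rw [hn2def]; group
      rw [this, hg2c', hk2.1, mul_inv_cancel_right]
    have hn2b : n2 * b' * n2⁻¹ = d := by
      have : n2 * b' * n2⁻¹ = k2 * (g2 * b' * g2⁻¹) * k2⁻¹ := by rw [hn2def]; group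
      rw [this, hg2, hk2.2, mul_inv_cancel_right]
    refine ⟨n2 * n1, Subgroup.mul_mem _ hn2 hn1, ?_, ?_⟩
    · have : n2 * n1 * a * (n2 * n1)⁻¹ = n2 * (n1 * a * n1⁻¹) * n2⁻¹ := by group
      rw [this, hn1a, hn2c]
    · have : n2 * n1 * b * (n2 * n1)⁻¹ = n2 * (n1 * b * n1⁻¹) * n2⁻¹ := by group
      rw [this, ← hb'def, hn2b]

end MAXC

end Cfsg.Agent.Helper16.F3
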