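import Mathlib
import Cfsg.Agent.Helper25.HT3371Defs

/-! S3371 piece DIH: the dihedral/semidihedral data for a dihedral 2-group. -/

set_option autoImplicit false

namespace Cfsg.Agent.HT3371

namespace DIH

open DihedralGroup

theorem mem_zpowers_r_one {n : ℕ} (g : DihedralGroup n) :
    g ∈ Subgroup.zpowers (r 1 : DihedralGroup n) ↔ ∃ j : ZMod n, g = r j := by
  constructor
  · rintro ⟨z, rfl⟩
    exact ⟨(z : ZMod n), r_one_zpow z⟩
  · rintro ⟨j, rfl⟩
    refine ⟨(ZMod.cast j : ℤ), ?_⟩
    show (r 1 : DihedralGroup n) ^ (ZMod.cast j : ℤ) = r j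
    rw [r_one_zpow, ZMod.intCast_cast, ZMod.cast_id', id]

theorem not_mem_iff {n : ℕ} (g : DihedralGroup n) :
    g ∉ Subgroup.zpowers (r 1 : DihedralGroup n) ↔ ∃ i : ZMod n, g = sr i := by
  rw [mem_zpowers_r_one]
  cases g with
  | r j => simp
  | sr i => simp

end DIH

open DihedralGroup DIH

theorem dq_of_dihedral {G : Type*} [Group G] [Finite G] (n : ℕ) (hn : 8 ≤ n)
    (e : G ≃* DihedralGroup n) (hG : IsPGroup 2 G) :
    ∃ (k : ℕ) (x : G), n = 2 ^ k ∧ DQ G x k ∧ Nat.card (outInv x) = 2 ^ k := by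
  have hcard : Nat.card G = 2 * n := by
    rw [Nat.card_congr e.toEquiv, DihedralGroup.nat_card]
  obtain ⟨j, hj⟩ := IsPGroup.iff_card.mp hG
  have hj0 : j ≠ 0 := by
    rintro rfl
    rw [hcard] at hj
    omega
  obtain ⟨k, rfl⟩ : ∃ k, j = k + 1 := ⟨j - 1, by omega⟩
  have hnk : n = 2 ^ k := by
    rw [hcard, pow_succ] at hj
    omega
  have hk3 : 3 ≤ k := by
    by_contra h
    have hk : k ≤ 2 := by omega
    have : 2 ^ k ≤ 2 ^ 2 := Nat.pow_le_pow_right (by norm_num) hk
    omega
  have hn0 : NeZero n := ⟨by omega⟩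
  set x : G := e.symm (r 1) with hx
  have hex : e x = r 1 := by rw [hx, MulEquiv.apply_symm_apply]
  -- membership in `⟨x⟩` transported
  have hmem : ∀ t : G, t ∈ Subgroup.zpowers x ↔ e t ∈ Subgroup.zpowers (r 1 : DihedralGroup n) := by
    intro t
    constructor
    · rintro ⟨z, rfl⟩
      exact ⟨z, by rw [map_zpow, hex]⟩
    · rintro ⟨z, hz⟩
      refine ⟨z, ?_⟩
      apply e.injective
      show e (x ^ z) = e t
      rw [map_zpow, hex]
      exact hz
  refine ⟨k, x, hnk, ⟨by omega, ?_, ?_, ?_⟩, ?_⟩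
  · rw [hx, MulEquiv.orderOf_eq, DihedralGroup.orderOf_r_one, hnk]
  · rw [hcard, hnk, pow_succ, mul_comm]
  · intro t ht
    rw [hmem, not_mem_iff] at ht
    obtain ⟨i, hi⟩ := ht
    apply e.injective
    rw [map_mul, map_mul, map_inv, map_inv, map_pow, hex, hi, r_one_pow, inv_sr, sr_mul_r,
      sr_mul_sr, inv_r]
    congr 1
    ring
  · -- the involutions outside `⟨x⟩` are the preimages of the reflections
    have hset : outInv x = Set.range (fun i : ZMod n => e.symm (sr i)) := by
      ext t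
      constructor
      · rintro ⟨ht, -⟩
        rw [hmem, not_mem_iff] at ht
        obtain ⟨i, hi⟩ := ht
        exact ⟨i, by show e.symm (sr i) = t; rw [← hi, MulEquiv.symm_apply_apply]⟩
      · rintro ⟨i, rfl⟩
        refine ⟨?_, ?_⟩
        · rw [hmem, not_mem_iff]
          exact ⟨i, by rw [MulEquiv.apply_symm_apply]⟩
        · show e.symm (sr i) * e.symm (sr i) = 1
          rw [← map_mul, sr_mul_self, map_one]
    have hinj : Function.Injective (fun i : ZMod n => e.symm (sr i)) := by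
      intro i i' h
      have := e.symm.injective h
      exact DihedralGroup.sr.inj this
    rw [hset, Nat.card_congr (Equiv.ofInjective _ hinj).symm, Nat.card_zmod, hnk]

end Cfsg.Agent.HT3371
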