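import Mathlib
import Cfsg.Agent.Lead.Fpf3

set_option autoImplicit false
set_option linter.style.haveILetI false
set_option linter.unusedSectionVars false

/-!
# Splitting automorphisms of prime order (Kegel): basic facts
-/

namespace Cfsg.Agent.Helper19.Split

open Subgroup Cfsg.Agent.Lead.Fpf

variable {G : Type*} [Group G]

/-- the partial norm `x * φ x * ... * φ^(k-1) x` -/
def nrm (φ : G ≃* G) (k : ℕ) (x : G) : G := ((List.range k).map (fun j => φ^[j] x)).prod

theorem nrm_zero (φ : G ≃* G) (x : G) : nrm φ 0 x = 1 := by simp [nrm]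

theorem nrm_succ (φ : G ≃* G) (k : ℕ) (x : G) : nrm φ (k + 1) x = nrm φ k x * φ^[k] x := by
  simp [nrm, List.range_succ]

theorem nrm_succ' (φ : G ≃* G) (k : ℕ) (x : G) : nrm φ (k + 1) x = x * φ (nrm φ k x) := by
  induction k with
  | zero => simp [nrm]
  | succ k ih =>
    calc nrm φ (k + 1 + 1) x = nrm φ (k + 1) x * φ^[k + 1] x := nrm_succ φ (k + 1) x
      _ = x * φ (nrm φ k x) * φ (φ^[k] x) := by rw [ih, Function.iterate_succ_apply']
      _ = x * φ (nrm φ k x * φ^[k] x) := by rw [map_mul, mul_assoc]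
      _ = x * φ (nrm φ (k + 1) x) := by rw [← nrm_succ]

/-- `φ` is a splitting automorphism with `φ^r = 1` -/
structure SplitAut (r : ℕ) (φ : G ≃* G) : Prop where
  prod : ∀ x, nrm φ r x = 1
  pow : ∀ g, φ^[r] g = g

/-- `x ↦ g * φ x * g⁻¹` -/
noncomputable def twist (φ : G ≃* G) (g : G) : G ≃* G := φ.trans (MulAut.conj g)

theorem twist_apply (φ : G ≃* G) (g x : G) : twist φ g x = g * φ x * g⁻¹ := rfl

theorem nrm_twist (φ : G ≃* G) (g : G) (k : ℕ) (x : G) :
    nrm (twist φ g) k x * nrm φ k g = nrm φ k (x * g) := by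
  induction k with
  | zero => simp [nrm_zero]
  | succ k ih =>
    rw [nrm_succ', nrm_succ', nrm_succ', ← ih, twist_apply, map_mul]
    group

theorem twist_iterate (φ : G ≃* G) (g : G) (k : ℕ) (x : G) :
    (twist φ g)^[k] x = nrm φ k g * φ^[k] x * (nrm φ k g)⁻¹ := by
  induction k with
  | zero => simp [nrm_zero]
  | succ k ih =>
    rw [Function.iterate_succ_apply', ih, twist_apply, nrm_succ', Function.iterate_succ_apply',
      map_mul, map_mul, map_inv]
    group

theorem SplitAut.twist {r : ℕ} {φ : G ≃* G} (h : SplitAut r φ) (g : G) :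
    SplitAut r (twist φ g) := by
  refine ⟨fun x => ?_, fun x => ?_⟩
  · have h1 := nrm_twist φ g r x
    rw [h.prod, h.prod, mul_one] at h1
    exact h1
  · rw [twist_iterate, h.prod, h.pow]
    group

theorem SplitAut.pow_eq_one_of_fixed {r : ℕ} {φ : G ≃* G} (h : SplitAut r φ) {x : G}
    (hx : φ x = x) : x ^ r = 1 := by
  have h1 : ∀ k, nrm φ k x = x ^ k := by
    intro k
    induction k with
    | zero => simp [nrm_zero]
    | succ k ih => rw [nrm_succ, ih, Function.iterate_fixed hx, pow_succ]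
  rw [← h1, h.prod]

theorem coe_nrm_restrict (φ : G ≃* G) (H : Subgroup G) (hH : H.map φ.toMonoidHom = H)
    (k : ℕ) (x : H) : ((nrm (restrict φ H hH) k x : H) : G) = nrm φ k (x : G) := by
  induction k with
  | zero => simp [nrm_zero]
  | succ k ih => rw [nrm_succ, nrm_succ, Subgroup.coe_mul, ih, coe_restrict_iterate]

theorem SplitAut.restrict {r : ℕ} {φ : G ≃* G} (h : SplitAut r φ) (H : Subgroup G)
    (hH : H.map φ.toMonoidHom = H) : SplitAut r (restrict φ H hH) := by
  refine ⟨fun x => ?_, fun x => ?_⟩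
  · apply Subtype.ext
    rw [coe_nrm_restrict, h.prod]
    rfl
  · apply Subtype.ext
    rw [coe_restrict_iterate]
    exact h.pow x

theorem nrm_quot (φ : G ≃* G) (N : Subgroup G) [N.Normal] (hN : N.map φ.toMonoidHom = N)
    (k : ℕ) (x : G) :
    nrm (quot φ N hN) k (QuotientGroup.mk x) = QuotientGroup.mk (nrm φ k x) := by
  induction k with
  | zero => simp [nrm_zero]
  | succ k ih => rw [nrm_succ, nrm_succ, ih, quotient_iterate, QuotientGroup.mk_mul]

theorem SplitAut.quotient {r : ℕ} {φ : G ≃* G} (h : SplitAut r φ) (N : Subgroup G)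
    [N.Normal] (hN : N.map φ.toMonoidHom = N) : SplitAut r (quot φ N hN) := by
  refine ⟨fun y => ?_, fun y => ?_⟩
  · obtain ⟨g, rfl⟩ := QuotientGroup.mk_surjective y
    rw [nrm_quot, h.prod]
    rfl
  · obtain ⟨g, rfl⟩ := QuotientGroup.mk_surjective y
    rw [quotient_iterate, h.pow]

/-- after twisting by an inner automorphism, a given Sylow subgroup becomes invariant -/
theorem exists_twist_invariant_sylow [Finite G] (φ : G ≃* G) (q : ℕ) [Fact q.Prime]
    (P : Sylow q G) : ∃ g : G, (P : Subgroup G).map (twist φ g).toMonoidHom = P := by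
  obtain ⟨x, hx⟩ := MulAction.exists_smul_eq G (φ • P) P
  refine ⟨x, ?_⟩
  have h1 : ((x • (φ • P) : Sylow q G) : Subgroup G) =
      ((φ • P : Sylow q G) : Subgroup G).map (MulAut.conj x).toMonoidHom := rfl
  have h2 : ((φ • P : Sylow q G) : Subgroup G) = (P : Subgroup G).map φ.toMonoidHom := rfl
  have h3 : (P : Subgroup G).map (twist φ x).toMonoidHom =
      ((P : Subgroup G).map φ.toMonoidHom).map (MulAut.conj x).toMonoidHom := by
    rw [Subgroup.map_map]
    rfl
  rw [h3, ← h2, ← h1, hx]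

end Cfsg.Agent.Helper19.Split
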