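import Mathlib
import Cfsg.Agent.Helper19.Split1

set_option autoImplicit false
set_option linter.style.haveILetI false
set_option linter.unusedSectionVars false

/-!
# Splitting automorphisms of prime order: the key lemma of the solvable case
(adapted from `Cfsg.Agent.Lead.Fpf.fpf_centralizes`)
-/

namespace Cfsg.Agent.Helper19.Split

open Subgroup Cfsg.Agent.Lead.Fpf
open scoped IsMulCommutative

variable {G : Type*} [Group G]

/-- the key lemma of the solvable case -/
theorem split_centralizes [Finite G] {r : ℕ} (hr : r.Prime) {φ : G ≃* G} (h : SplitAut r φ)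
    (V A : Subgroup G) [hVn : V.Normal] [hVab : IsMulCommutative V] [hAab : IsMulCommutative A]
    (hVφ : V.map φ.toMonoidHom = V) (hAφ : A.map φ.toMonoidHom = A)
    (hcop : (Nat.card A).Coprime (Nat.card V)) :
    ∀ a ∈ A, ∀ v ∈ V, a * v = v * a := by
  classical
  have : Fintype A := Fintype.ofFinite A
  set φV := restrict φ V hVφ with hφV
  set φA := restrict φ A hAφ with hφA
  have hfA : SplitAut r φA := h.restrict A hAφ
  -- the conjugation action of `G` on `V`
  let cj : G → V →* V := fun f =>
    { toFun := fun v => ⟨f * v * f⁻¹, hVn.conj_mem v v.2 f⟩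
      map_one' := by apply Subtype.ext; simp
      map_mul' := by intro a b; apply Subtype.ext; simp }
  have cj_val : ∀ (f : G) (v : V), ((cj f v : V) : G) = f * v * f⁻¹ := fun f v => rfl
  have cj_mul : ∀ (f g : G) (v : V), cj (f * g) v = cj f (cj g v) := by
    intro f g v; apply Subtype.ext; simp [cj_val, mul_assoc]
  have cj_one : ∀ v : V, cj 1 v = v := by
    intro v; apply Subtype.ext; simp [cj_val]
  -- partial products
  let YA : ℕ → A → A := fun k y => ∏ j ∈ Finset.range k, φA^[j] y
  have YA_coe : ∀ (k : ℕ) (y : A), ((YA k y : A) : G) =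
      ((List.range k).map (fun j => φ^[j] (y : G))).prod := by
    intro k y
    rw [coe_prod_range]
    congr 1
    apply List.map_congr_left
    intro j _
    exact coe_restrict_iterate φ A hAφ j y
  -- the basic identity
  have ident : ∀ (v : V) (y : A),
      ∏ k ∈ Finset.range r, cj ((YA k y : A) : G) (φV^[k] v) = 1 := by
    intro v y
    apply Subtype.ext
    rw [coe_prod_range, Subgroup.coe_one]
    have h1 := list_prod_mul_eq (fun k => φ^[k] (v : G)) (fun k => φ^[k] (y : G)) r
    have h2 : ((List.range r).map (fun k => φ^[k] (v : G) * φ^[k] (y : G))).prod = 1 := by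
      have h4 : nrm φ r ((v : G) * y) = 1 := h.prod ((v : G) * y)
      rw [← h4]
      unfold nrm
      congr 1
      apply List.map_congr_left
      intro k _
      exact (iterate_map_mul φ k _ _).symm
    have h3 : ((List.range r).map (fun k => φ^[k] (y : G))).prod = 1 := h.prod y
    rw [h2, h3, mul_one] at h1
    rw [h1]
    congr 1
    apply List.map_congr_left
    intro k _
    rw [cj_val, YA_coe, coe_restrict_iterate]
  -- products over `A` are fixed by `A`
  have fixA : ∀ (b : A) (w : V),
      cj (b : G) (∏ a : A, cj (a : G) w) = ∏ a : A, cj (a : G) w := by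
    intro b w
    rw [map_prod]
    apply Fintype.prod_equiv (Equiv.mulLeft b)
    intro m
    rw [← cj_mul]; rfl
  -- the partial product maps are bijective
  have YA_bij : ∀ k : ℕ, 0 < k → k < r → Function.Bijective (YA k) := by
    intro k hk0 hkr
    apply Finite.injective_iff_bijective.mp
    let YAhom : A →* A :=
      { toFun := YA k
        map_one' := by simp [YA, iterate_map_one]
        map_mul' := by intro a b; simp [YA, iterate_map_mul, Finset.prod_mul_distrib] }
    show Function.Injective YAhom
    rw [injective_iff_map_eq_one]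
    intro y hy
    have hy' : YA k y = 1 := hy
    have h1 : φA (YA k y) * y = YA k y * φA^[k] y := by
      show φA (∏ j ∈ Finset.range k, φA^[j] y) * y = (∏ j ∈ Finset.range k, φA^[j] y) * φA^[k] y
      rw [map_prod]
      have h2 : ∀ j ∈ Finset.range k, φA (φA^[j] y) = φA^[j + 1] y := by
        intro j _
        rw [Function.iterate_succ_apply']
      rw [Finset.prod_congr rfl h2]
      have h3 := Finset.prod_range_succ' (fun j => φA^[j] y) k
      have h4 := Finset.prod_range_succ (fun j => φA^[j] y) k
      rw [h3] at h4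
      exact h4
    rw [hy', map_one, one_mul, one_mul] at h1
    have hper1 : Function.IsPeriodicPt φA k y := h1.symm
    have hper2 : Function.IsPeriodicPt φA r y := hfA.pow y
    have hg := hper1.gcd hper2
    have hgcd : Nat.gcd k r = 1 := by
      have := Nat.coprime_of_lt_prime hk0.ne' hkr hr
      exact this.symm
    rw [hgcd] at hg
    -- `y` is fixed, so `y ^ k = 1` and `y ^ r = 1`
    have hfix : φA y = y := hg
    have hyr : y ^ r = 1 := hfA.pow_eq_one_of_fixed hfix
    have hyk : y ^ k = 1 := by
      have h5 : YA k y = y ^ k := by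
        show ∏ j ∈ Finset.range k, φA^[j] y = y ^ k
        rw [Finset.prod_congr rfl (fun j _ => Function.iterate_fixed hfix j), Finset.prod_const,
          Finset.card_range]
      rw [← h5, hy']
    have := pow_gcd_eq_one.mpr ⟨hyk, hyr⟩
    rwa [hgcd, pow_one] at this
  -- the main computation
  have key : ∀ (b : A) (v : V), cj (b : G) (v ^ Nat.card A) = v ^ Nat.card A := by
    intro b v
    have h1 : ∏ y : A, ∏ k ∈ Finset.range r, cj ((YA k y : A) : G) (φV^[k] v) = 1 :=
      Finset.prod_eq_one (fun y _ => ident v y)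
    rw [Finset.prod_comm] at h1
    obtain ⟨r', rfl⟩ : ∃ r', r = r' + 1 := ⟨r - 1, by have := hr.two_le; omega⟩
    rw [Finset.prod_range_succ'] at h1
    have h0 : ∏ y : A, cj ((YA 0 y : A) : G) (φV^[0] v) = v ^ Nat.card A := by
      have h5 : ∀ y : A, cj ((YA 0 y : A) : G) (φV^[0] v) = v := by
        intro y
        have : YA 0 y = 1 := by simp [YA]
        rw [this, Subgroup.coe_one, cj_one]
        rfl
      rw [Finset.prod_congr rfl (fun y _ => h5 y), Finset.prod_const, Finset.card_univ,
        Nat.card_eq_fintype_card]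
    have hk : ∀ k ∈ Finset.range r', ∏ y : A, cj ((YA (k + 1) y : A) : G) (φV^[k + 1] v) =
        ∏ a : A, cj (a : G) (φV^[k + 1] v) := by
      intro k hk
      apply Fintype.prod_bijective (YA (k + 1))
        (YA_bij (k + 1) (Nat.succ_pos k) (by have := Finset.mem_range.mp hk; omega))
      intro y; rfl
    rw [h0, Finset.prod_congr rfl hk] at h1
    have h2 : v ^ Nat.card A =
        (∏ k ∈ Finset.range r', ∏ a : A, cj (a : G) (φV^[k + 1] v))⁻¹ :=
      eq_inv_of_mul_eq_one_right h1
    rw [h2, map_inv, map_prod]
    congr 1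
    apply Finset.prod_congr rfl
    intro k _
    exact fixA b _
  -- conclusion
  intro a ha v hv
  have h1 := key ⟨a, ha⟩ ⟨v, hv⟩
  set w : V := cj a ⟨v, hv⟩ * (⟨v, hv⟩ : V)⁻¹ with hw
  have hw1 : w ^ Nat.card A = 1 := by
    rw [hw, mul_pow, inv_pow, ← map_pow, h1, mul_inv_cancel]
  have h2 : orderOf w ∣ Nat.card A := orderOf_dvd_of_pow_eq_one hw1
  have h3 : orderOf w ∣ Nat.card V := orderOf_dvd_natCard w
  have h4 : orderOf w = 1 := Nat.eq_one_of_dvd_coprimes hcop h2 h3
  have h5 : w = 1 := orderOf_eq_one_iff.mp h4
  have h6 : cj a ⟨v, hv⟩ = ⟨v, hv⟩ := mul_inv_eq_one.mp h5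
  have h7 : a * v * a⁻¹ = v := congrArg Subtype.val h6
  calc a * v = (a * v * a⁻¹) * a := by group
    _ = v * a := by rw [h7]

end Cfsg.Agent.Helper19.Split
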