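import Mathlib
import Cfsg.Agent.Helper19.Split2
import Cfsg.Agent.Lead.Fpf5

set_option autoImplicit false
set_option linter.style.haveILetI false
set_option linter.unusedSectionVars false

/-!
# Kegel's theorem: a finite group with a splitting automorphism of prime order is nilpotent
(adapted from the proof of Thompson's theorem in `Cfsg.Agent.Lead.Fpf4/5`)
-/

namespace Cfsg.Agent.Helper19.Split

open Subgroup Cfsg.Agent.Lead.Fpf
open scoped IsMulCommutative commutatorElement

universe u

theorem nilpotent_of_solvable_step {r : ℕ} (hr : r.Prime) {G : Type u} [Group G] [Finite G]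
    (φ : G ≃* G) (h : SplitAut r φ)
    (IH : ∀ (H : Type u) [Group H] [Finite H] (ψ : H ≃* H), Nat.card H < Nat.card G →
      SplitAut r ψ → Group.IsNilpotent H)
    (hsolv : Group.IsSolvable G) : Group.IsNilpotent G := by
  by_cases hG : Subsingleton G
  · infer_instance
  haveI : Nontrivial G := not_subsingleton_iff_nontrivial.mp hG
  obtain ⟨q, hqf, V, hVchar, hVne, hVq, hVab⟩ := exists_char_abelian_qgroup hsolv
  haveI := hqf
  haveI := hVchar
  haveI := hVab
  have hVn : V.Normal := inferInstance
  have hVφ : V.map φ.toMonoidHom = V := map_of_characteristic φ V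
  have hGV : Group.IsNilpotent (G ⧸ V) :=
    IH (G ⧸ V) (quot φ V hVφ) (card_quotient_lt hVne) (h.quotient V hVφ)
  apply isNilpotent_of_forall_sylow_normal
  intro p hp
  by_cases hpq : p = q
  · subst hpq
    obtain ⟨P⟩ : Nonempty (Sylow p G) := inferInstance
    refine ⟨P, sylow_normal_of_quotient_nilpotent P V ?_ hGV⟩
    exact (Cfsg.Agent.Helper14.le_pCore p hVn hVq).trans (Cfsg.Agent.Helper14.pCore_le_sylow p P)
  · obtain ⟨P⟩ : Nonempty (Sylow p G) := inferInstance
    obtain ⟨g, hPψ⟩ := exists_twist_invariant_sylow φ p P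
    set ψ := twist φ g with hψdef
    have hψ : SplitAut r ψ := h.twist g
    have hVψ : V.map ψ.toMonoidHom = V := map_of_characteristic ψ V
    refine ⟨P, ?_⟩
    set M := V ⊔ (P : Subgroup G) with hM
    have hMn : M.Normal := by
      have hsurj := QuotientGroup.mk'_surjective V
      have h1 : ((P.mapSurjective hsurj : Sylow p (G ⧸ V)) : Subgroup (G ⧸ V)).Normal :=
        Sylow.normal_of_normalizerCondition Group.normalizerCondition_of_isNilpotent _
      rw [Sylow.coe_mapSurjective] at h1
      have h2 := h1.comap (QuotientGroup.mk' V)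
      rw [Subgroup.comap_map_eq, QuotientGroup.ker_mk', sup_comm] at h2
      exact h2
    have hMψ : M.map ψ.toMonoidHom = M := by rw [hM, Subgroup.map_sup, hVψ, hPψ]
    by_cases hMtop : M = ⊤
    · -- `G = V P`
      set C := (P : Subgroup G) ⊓ centralizer (V : Set G) with hC
      have hCn : C.Normal := by
        constructor
        intro c hc g
        have hg : g ∈ ((V ⊔ (P : Subgroup G) : Subgroup G) : Set G) := by
          rw [← hM, hMtop]; exact mem_top g
        rw [Subgroup.normal_mul] at hg
        obtain ⟨v, hv, x, hx, rfl⟩ := hg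
        rw [hC, Subgroup.mem_inf] at hc
        have h1 : x * c * x⁻¹ ∈ C := by
          rw [hC, Subgroup.mem_inf]
          refine ⟨mul_mem (mul_mem hx hc.1) (inv_mem hx), ?_⟩
          exact (Subgroup.normal_centralizer (H := V)).conj_mem c hc.2 x
        have h2 : v * (x * c * x⁻¹) = (x * c * x⁻¹) * v := by
          rw [hC, Subgroup.mem_inf] at h1
          exact (mem_centralizer_iff.mp h1.2 v hv)
        have h3 : v * x * c * (v * x)⁻¹ = x * c * x⁻¹ := by
          calc v * x * c * (v * x)⁻¹ = (v * (x * c * x⁻¹)) * v⁻¹ := by group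
            _ = x * c * x⁻¹ := by rw [h2]; group
        rw [h3]
        exact h1
      have hCψ : C.map ψ.toMonoidHom = C := by
        apply map_eq_of_map_le
        rw [hC]
        refine (Subgroup.map_inf_le _ _ _).trans ?_
        rw [hPψ, map_centralizer_eq ψ V hVψ]
      by_cases hCbot : C = ⊥
      · by_cases hPbot : (P : Subgroup G) = ⊥
        · rw [hPbot]; infer_instance
        exfalso
        set A := (P : Subgroup G) ⊓ centralizer ((P : Subgroup G) : Set G) with hA
        have hAne : A ≠ ⊥ := (Cfsg.Agent.Lead.TNC.zFunctor p).ne_bot (P : Subgroup G) P.2 hPbot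
        have hAψ : A.map ψ.toMonoidHom = A := by
          have h1 := (Cfsg.Agent.Lead.TNC.zFunctor p).map ψ.toMonoidHom (P : Subgroup G)
            ψ.injective.injOn
          rw [hPψ] at h1
          exact h1.symm
        haveI hAab : IsMulCommutative A := by
          refine ⟨⟨fun x y => Subtype.ext ?_⟩⟩
          have hx : (x : G) ∈ (P : Subgroup G) ⊓ centralizer ((P : Subgroup G) : Set G) := x.2
          have hy : (y : G) ∈ (P : Subgroup G) ⊓ centralizer ((P : Subgroup G) : Set G) := y.2
          rw [Subgroup.mem_inf] at hx hy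
          rw [Subgroup.coe_mul, Subgroup.coe_mul]
          exact mem_centralizer_iff.mp hy.2 x hx.1
        have hcop : (Nat.card A).Coprime (Nat.card V) := by
          obtain ⟨a, ha⟩ := IsPGroup.iff_card.mp (P.2.to_le (inf_le_left : A ≤ P))
          obtain ⟨b, hb⟩ := IsPGroup.iff_card.mp hVq
          rw [ha, hb]
          apply Nat.Coprime.pow
          exact (Nat.coprime_primes hp.out hqf.out).mpr hpq
        have hcent := split_centralizes hr hψ V A hVψ hAψ hcop
        apply hAne
        rw [eq_bot_iff, ← hCbot]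
        intro a ha
        rw [hC, Subgroup.mem_inf]
        have ha' := ha
        rw [hA, Subgroup.mem_inf] at ha'
        refine ⟨ha'.1, ?_⟩
        rw [mem_centralizer_iff]
        intro v hv
        exact (hcent a ha v hv).symm
      · have hGC := IH (G ⧸ C) (quot ψ C hCψ) (card_quotient_lt hCbot) (hψ.quotient C hCψ)
        exact sylow_normal_of_quotient_nilpotent P C inf_le_left hGC
    · -- `M` is proper
      have hMnil : Group.IsNilpotent M :=
        IH M (restrict ψ M hMψ) (card_subgroup_lt hMtop) (hψ.restrict M hMψ)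
      have hPM : (P : Subgroup G) ≤ M := le_sup_right
      have h1 : ((P.subtype hPM : Sylow p M) : Subgroup M).Normal :=
        Sylow.normal_of_normalizerCondition Group.normalizerCondition_of_isNilpotent _
      haveI h2 : ((P.subtype hPM : Sylow p M) : Subgroup M).Characteristic :=
        Sylow.characteristic_of_normal _ h1
      have h3 : (((P.subtype hPM : Sylow p M) : Subgroup M).map M.subtype).Normal :=
        inferInstance
      rw [Sylow.coe_subtype, Subgroup.subgroupOf_map_subtype, inf_eq_left.mpr hPM] at h3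
      exact h3

theorem solvable_step {r : ℕ} {G : Type u} [Group G] [Finite G]
    (φ₀ : G ≃* G) (h₀ : SplitAut r φ₀)
    (IH : ∀ (H : Type u) [Group H] [Finite H] (ψ : H ≃* H), Nat.card H < Nat.card G →
      SplitAut r ψ → Group.IsNilpotent H) : Group.IsSolvable G := by
  by_cases h2 : IsPGroup 2 G
  · haveI := h2.isNilpotent
    infer_instance
  obtain ⟨p, hp, hpdvd, hp2⟩ : ∃ p : ℕ, p.Prime ∧ p ∣ Nat.card G ∧ p ≠ 2 := by
    by_contra hcon
    push Not at hcon
    apply h2
    have hpos : Nat.card G ≠ 0 := Nat.card_pos.ne'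
    have := Nat.eq_prime_pow_of_unique_prime_dvd hpos (fun {d} hd hdvd => hcon d hd hdvd)
    exact IsPGroup.of_card this
  haveI : Fact p.Prime := ⟨hp⟩
  obtain ⟨P⟩ : Nonempty (Sylow p G) := inferInstance
  obtain ⟨g, hPφ⟩ := exists_twist_invariant_sylow φ₀ p P
  set φ := twist φ₀ g with hφdef
  have h : SplitAut r φ := h₀.twist g
  have hPne : (P : Subgroup G) ≠ ⊥ := P.ne_bot_of_dvd_card hpdvd
  set J := Cfsg.thompsonSubgroupOf p (P : Subgroup G) with hJ
  have hJφ : J.map φ.toMonoidHom = J := by
    have h1 := Cfsg.Agent.Lead.TNC.thompsonSubgroupOf_map_of_injOn (p := p) φ.toMonoidHom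
      (P : Subgroup G) φ.injective.injOn
    rw [hPφ] at h1
    exact h1.symm
  set Z := (P : Subgroup G) ⊓ centralizer ((P : Subgroup G) : Set G) with hZ
  have hZφ : Z.map φ.toMonoidHom = Z := by
    have h1 := (Cfsg.Agent.Lead.TNC.zFunctor p).map φ.toMonoidHom (P : Subgroup G)
      φ.injective.injOn
    rw [hPφ] at h1
    exact h1.symm
  have hJne : J ≠ ⊥ := (Cfsg.Agent.Lead.TNC.jFunctor p).ne_bot (P : Subgroup G) P.2 hPne
  have hZne : Z ≠ ⊥ := (Cfsg.Agent.Lead.TNC.zFunctor p).ne_bot (P : Subgroup G) P.2 hPne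
  set N1 := normalizer (J : Set G) with hN1d
  set N2 := centralizer (Z : Set G) with hN2d
  have hN1φ : N1.map φ.toMonoidHom = N1 := map_normalizer_eq φ J hJφ
  have hN2φ : N2.map φ.toMonoidHom = N2 := map_centralizer_eq φ Z hZφ
  by_cases hN1 : N1 = ⊤
  · have hJn : J.Normal := Subgroup.normalizer_eq_top_iff.mp hN1
    have hGJ := IH (G ⧸ J) (quot φ J hJφ) (card_quotient_lt hJne) (h.quotient J hJφ)
    have hJp : IsPGroup p J := P.2.to_le (Cfsg.Agent.Helper26.thompsonSubgroupOf_le p _)
    haveI := hJp.isNilpotent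
    exact Cfsg.Agent.Lead.NilpMax.solvable_of_normal_of_quotient J inferInstance inferInstance
  by_cases hN2 : N2 = ⊤
  · have hZn : Z.Normal := by
      constructor
      intro z hz g
      have hg : g ∈ N2 := hN2 ▸ mem_top g
      have h1 := mem_centralizer_iff.mp hg z hz
      have h3 : g * z * g⁻¹ = z := by rw [← h1]; group
      rw [h3]
      exact hz
    have hGZ := IH (G ⧸ Z) (quot φ Z hZφ) (card_quotient_lt hZne) (h.quotient Z hZφ)
    have hZp : IsPGroup p Z := P.2.to_le inf_le_left
    haveI := hZp.isNilpotent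
    exact Cfsg.Agent.Lead.NilpMax.solvable_of_normal_of_quotient Z inferInstance inferInstance
  haveI hN1nil : Group.IsNilpotent N1 :=
    IH N1 (restrict φ N1 hN1φ) (card_subgroup_lt hN1) (h.restrict N1 hN1φ)
  haveI hN2nil : Group.IsNilpotent N2 :=
    IH N2 (restrict φ N2 hN2φ) (card_subgroup_lt hN2) (h.restrict N2 hN2φ)
  have hnpc : Cfsg.HasNormalPComplement p G :=
    Cfsg.Agent.Lead.TNC.thompson_npc hp2 G P (Cfsg.Agent.Lead.NilpMax.npc_of_isNilpotent p)
      (Cfsg.Agent.Lead.NilpMax.npc_of_isNilpotent p)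
  obtain ⟨K, hKn, hKc⟩ := (Cfsg.Agent.Helper9.hasNormalPComplement_iff P).mp hnpc
  haveI := hKn
  have hKeq : K = Cfsg.pResidual p G := Cfsg.Agent.Helper9.normal_complement_eq_pResidual P K hKc
  have hKφ : K.map φ.toMonoidHom = K := by
    rw [hKeq]
    exact map_of_characteristic φ _
  have hKtop : K ≠ ⊤ := by
    intro h0
    have h1 := hKc.disjoint.eq_bot
    rw [h0, top_inf_eq] at h1
    exact hPne h1
  haveI hKnil : Group.IsNilpotent K :=
    IH K (restrict φ K hKφ) (card_subgroup_lt hKtop) (h.restrict K hKφ)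
  have hGK : IsPGroup p (G ⧸ K) := by
    obtain ⟨k, hk⟩ := IsPGroup.iff_card.mp P.2
    apply IsPGroup.of_card (n := k)
    rw [← Subgroup.index_eq_card, hKc.symm.index_eq_card, hk]
  haveI := hGK.isNilpotent
  exact Cfsg.Agent.Lead.NilpMax.solvable_of_normal_of_quotient K inferInstance inferInstance

/-- **Kegel's theorem** on splitting automorphisms of prime order. -/
theorem nilpotent_of_splitAut {r : ℕ} (hr : r.Prime) : ∀ (n : ℕ) (G : Type u) [Group G] [Finite G]
    (φ : G ≃* G), Nat.card G = n → SplitAut r φ → Group.IsNilpotent G := by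
  intro n
  induction n using Nat.strong_induction_on with
  | _ n ih =>
    intro G _ _ φ hn h
    have IH : ∀ (H : Type u) [Group H] [Finite H] (ψ : H ≃* H), Nat.card H < Nat.card G →
        SplitAut r ψ → Group.IsNilpotent H :=
      fun H _ _ ψ hlt hψ => ih _ (hn ▸ hlt) H ψ rfl hψ
    exact nilpotent_of_solvable_step hr φ h IH (solvable_step φ h IH)

end Cfsg.Agent.Helper19.Split
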