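import Mathlib
import Cfsg.Agent.Helper19.Split3

set_option autoImplicit false
set_option linter.style.haveILetI false
set_option linter.unusedSectionVars false

namespace Cfsg.Agent.Helper19.Hughes

open Subgroup Cfsg.Agent.Lead.Fpf Cfsg.Agent.Helper19.Split Finset
open scoped IsMulCommutative

theorem nrm_conj_mul_pow {G : Type*} [Group G] (x h : G) (k : ℕ) :
    nrm (MulAut.conj x) k h * x ^ k = (h * x) ^ k := by
  induction k with
  | zero => simp [nrm_zero]
  | succ k ih =>
    rw [nrm_succ', MulAut.conj_apply, pow_succ' (h * x), ← ih, pow_succ' x]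
    group

theorem prod_reindex {M : Type*} [CommMonoid M] (p i : ℕ) (hp : p.Prime) (hi0 : 0 < i)
    (hip : i < p) (f : ℕ → M) (hf : ∀ n, f (n % p) = f n) :
    ∏ j ∈ range p, f (j * i) = ∏ k ∈ range p, f k := by
  have hcop : Nat.Coprime p i := Nat.coprime_of_lt_prime hi0.ne' hip hp
  have hinj : Set.InjOn (fun j => j * i % p) (range p : Set ℕ) := by
    intro j hj j' hj' hjj
    simp only [coe_range, Set.mem_Iio] at hj hj'
    have h1 : j * i ≡ j' * i [MOD p] := hjj
    have h2 : j ≡ j' [MOD p] := Nat.ModEq.cancel_right_of_coprime hcop h1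
    exact Nat.ModEq.eq_of_lt_of_lt h2 hj hj'
  have himg : (range p).image (fun j => j * i % p) = range p := by
    apply Finset.eq_of_subset_of_card_le
    · intro k hk
      rw [Finset.mem_image] at hk
      obtain ⟨j, _, rfl⟩ := hk
      rw [Finset.mem_range]
      exact Nat.mod_lt _ hp.pos
    · rw [Finset.card_image_of_injOn hinj]
  calc ∏ j ∈ range p, f (j * i) = ∏ j ∈ range p, f (j * i % p) := by
        apply Finset.prod_congr rfl
        intro j _
        rw [hf]
    _ = ∏ k ∈ (range p).image (fun j => j * i % p), f k := by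
        rw [Finset.prod_image hinj]
    _ = ∏ k ∈ range p, f k := by rw [himg]

theorem core {V : Type*} [CommGroup V] (p : ℕ) (hp : p.Prime) (α β : Monoid.End V)
    (hαβ : Commute α β) (hβ : β ^ p = 1)
    (h1 : ∀ (j : ℕ) (v : V), ∏ i ∈ range p, ((α * β ^ j) ^ i) v = 1)
    (h2 : ∀ v : V, ∏ k ∈ range p, (β ^ k) v = 1) (v : V) : v ^ p = 1 := by
  have hβmod : ∀ n, β ^ (n % p) = β ^ n := by
    intro n
    conv_rhs => rw [← Nat.div_add_mod n p, pow_add, pow_mul, hβ, one_pow, one_mul]
  have h3 : ∏ j ∈ range p, ∏ i ∈ range p, ((α * β ^ j) ^ i) v = 1 :=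
    Finset.prod_eq_one (fun j _ => h1 j v)
  rw [Finset.prod_comm] at h3
  obtain ⟨p', rfl⟩ : ∃ p', p = p' + 1 := ⟨p - 1, by have := hp.two_le; omega⟩
  rw [Finset.prod_range_succ'] at h3
  have h4 : ∀ i ∈ range p', ∏ j ∈ range (p' + 1), ((α * β ^ j) ^ (i + 1)) v = 1 := by
    intro i hi
    have hi' : i + 1 < p' + 1 := by have := Finset.mem_range.mp hi; omega
    have h5 : ∀ j ∈ range (p' + 1), ((α * β ^ j) ^ (i + 1)) v =
        (α ^ (i + 1)) ((β ^ (j * (i + 1))) v) := by
      intro j _
      rw [(hαβ.pow_right j).mul_pow, ← pow_mul]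
      rfl
    rw [Finset.prod_congr rfl h5, ← map_prod]
    have h6 := prod_reindex (p' + 1) (i + 1) hp (Nat.succ_pos i) hi' (fun n => (β ^ n) v)
      (fun n => by simp only [hβmod])
    rw [h6, h2, map_one]
  rw [Finset.prod_eq_one h4, one_mul] at h3
  simpa using h3

theorem conj_iterate {G : Type*} [Group G] (g v : G) (i : ℕ) :
    (MulAut.conj g)^[i] v = g ^ i * v * (g ^ i)⁻¹ := by
  rw [← mulAut_pow_apply, ← map_pow, MulAut.conj_apply]

theorem hughes_key {G : Type*} [Group G] [Finite G] (p : ℕ) (hp : p.Prime) (H : Subgroup G)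
    [hHn : H.Normal] (hout : ∀ g : G, g ∉ H → g ^ p = 1) (a b : G) (hb : b ∉ H)
    (hab : ∀ j : ℕ, a * b ^ j ∉ H) (hc : a * b * a⁻¹ * b⁻¹ ∈ H) :
    ∀ v ∈ H ⊓ centralizer (H : Set G), v ^ p = 1 := by
  set V := H ⊓ centralizer (H : Set G) with hV
  have hVn : V.Normal := inferInstance
  haveI hVab : IsMulCommutative V := by
    refine ⟨⟨fun x y => Subtype.ext ?_⟩⟩
    have hx : (x : G) ∈ H ⊓ centralizer (H : Set G) := x.2
    have hy : (y : G) ∈ H ⊓ centralizer (H : Set G) := y.2
    rw [Subgroup.mem_inf] at hx hy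
    rw [Subgroup.coe_mul, Subgroup.coe_mul]
    exact mem_centralizer_iff.mp hy.2 x hx.1
  -- the conjugation action
  let ρ : G →* Monoid.End V :=
    { toFun := fun g =>
        { toFun := fun v => ⟨g * v * g⁻¹, hVn.conj_mem v v.2 g⟩
          map_one' := by apply Subtype.ext; simp
          map_mul' := by intro x y; apply Subtype.ext; simp }
      map_one' := by
        ext v
        show (1 : G) * v * (1 : G)⁻¹ = v
        simp
      map_mul' := by
        intro g h
        ext v
        show g * h * v * (g * h)⁻¹ = g * (h * v * h⁻¹) * g⁻¹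
        group }
  have ρ_val : ∀ (g : G) (v : V), ((ρ g v : V) : G) = g * v * g⁻¹ := fun g v => rfl
  -- `H` acts trivially
  have ρ_H : ∀ h ∈ H, ρ h = 1 := by
    intro h hh
    ext v
    rw [ρ_val]
    have hv : (v : G) ∈ H ⊓ centralizer (H : Set G) := v.2
    rw [Subgroup.mem_inf] at hv
    have := mem_centralizer_iff.mp hv.2 h hh
    simp only [Monoid.End.coe_one, id_eq]
    rw [this]; group
  -- elements outside `H` act as splitting automorphisms
  have hsplit : ∀ g : G, g ∉ H → ∀ v : V, ∏ i ∈ range p, ((ρ g) ^ i) v = 1 := by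
    intro g hg v
    apply Subtype.ext
    rw [coe_prod_range, Subgroup.coe_one]
    have hv : (v : G) ∈ H := (Subgroup.mem_inf.mp v.2).1
    have h1 := nrm_conj_mul_pow g (v : G) p
    have h2 : (v : G) * g ∉ H := by
      intro h3
      apply hg
      have := H.mul_mem (H.inv_mem hv) h3
      simpa using this
    rw [hout g hg, hout _ h2, mul_one] at h1
    rw [← h1]
    unfold nrm
    congr 1
    apply List.map_congr_left
    intro i _
    rw [← map_pow, ρ_val, conj_iterate]
  have hcomm : Commute (ρ a) (ρ b) := by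
    show ρ a * ρ b = ρ b * ρ a
    rw [← map_mul, ← map_mul]
    have : a * b = (a * b * a⁻¹ * b⁻¹) * (b * a) := by group
    rw [this, map_mul, ρ_H _ hc, one_mul]
  have hbp : (ρ b) ^ p = 1 := by
    rw [← map_pow, hout b hb, map_one]
  intro v hv
  have h1 : ∀ (j : ℕ) (w : V), ∏ i ∈ range p, ((ρ a * ρ b ^ j) ^ i) w = 1 := by
    intro j w
    have := hsplit (a * b ^ j) (hab j) w
    rwa [map_mul, map_pow] at this
  have h2 := core p hp (ρ a) (ρ b) hcomm hbp h1 (hsplit b hb) ⟨v, hv⟩
  have := congrArg Subtype.val h2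
  simpa using this

end Cfsg.Agent.Helper19.Hughes
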