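import Mathlib

/-!
The order of an irreducible module for a cyclic group of prime order `p` over the field with
`q` elements is `q ^ e`, `e` the multiplicative order of `q` modulo `p` (nontrivial action).
-/

set_option autoImplicit false

namespace Cfsg.Agent.Helper19

open Polynomial
open scoped IsMulCommutative

/-- A finite commutative domain all of whose elements satisfy `r ^ n = r` has at most `n`
elements. -/
theorem card_le_of_forall_pow_eq {K : Type*} [CommRing K] [IsDomain K] [Fintype K] (n : ℕ)
    (hn : 1 < n) (h : ∀ r : K, r ^ n = r) : Fintype.card K ≤ n := by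
  classical
  have hdeg0 : (X ^ n - X : K[X]).natDegree = n := by
    have h1 : (X : K[X]).degree < (X ^ n : K[X]).degree := by
      rw [degree_X_pow, degree_X]
      exact mod_cast hn
    rw [natDegree_eq_of_degree_eq (degree_sub_eq_left_of_degree_lt h1), natDegree_X_pow]
  have hP00 : (X ^ n - X : K[X]) ≠ 0 := by
    apply ne_zero_of_natDegree_gt (n := 1)
    rw [hdeg0]; exact hn
  set P : K[X] := X ^ n - X with hP
  have hdeg : P.natDegree = n := hdeg0
  have hP0 : P ≠ 0 := hP00
  have hroots : ∀ r : K, r ∈ P.roots.toFinset := by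
    intro r
    rw [Multiset.mem_toFinset, mem_roots hP0, IsRoot.def, hP]
    simp only [eval_sub, eval_pow, eval_X]
    rw [sub_eq_zero]
    exact h r
  calc Fintype.card K = (Finset.univ : Finset K).card := rfl
    _ ≤ P.roots.toFinset.card := Finset.card_le_card (fun r _ => hroots r)
    _ ≤ Multiset.card P.roots := Multiset.toFinset_card_le _
    _ ≤ P.natDegree := card_roots' P
    _ = n := hdeg

section Core

variable {V : Type*} [AddCommGroup V] [Finite V]

/-- upper bound: `|V| ≤ q ^ e` when `q ^ e ≡ 1 mod p`. -/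
theorem card_le_of_irreducible {p q : ℕ} [Fact p.Prime] [Fact q.Prime] (hq : ∀ v : V, q • v = 0)
    (σ : AddMonoid.End V) (hσp : σ ^ p = 1)
    (hirr : ∀ W : AddSubgroup V, (∀ w ∈ W, σ w ∈ W) → W = ⊥ ∨ W = ⊤)
    (hnt : Nontrivial V) (e : ℕ) (he : 1 ≤ e) (hqe : q ^ e % p = 1 % p) :
    Nat.card V ≤ q ^ e := by
  classical
  have hqp : q.Prime := Fact.out
  set R : Subring (AddMonoid.End V) := Subring.closure ({σ} : Set (AddMonoid.End V)) with hR
  have hcommS : ∀ x ∈ ({σ} : Set (AddMonoid.End V)), ∀ y ∈ ({σ} : Set (AddMonoid.End V)),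
      x * y = y * x := by
    intro x hx y hy
    rw [Set.mem_singleton_iff.mp hx, Set.mem_singleton_iff.mp hy]
  haveI hRc : IsMulCommutative R := Subring.isMulCommutative_closure hcommS
  have hcomm : ∀ x ∈ R, ∀ y ∈ R, x * y = y * x := by
    intro x hx y hy
    have := hRc.is_comm.comm (⟨x, hx⟩ : R) ⟨y, hy⟩
    simpa using congrArg Subtype.val this
  have hσR : σ ∈ R := Subring.subset_closure rfl
  -- characteristic
  haveI hchar : CharP (AddMonoid.End V) q := by
    constructor
    intro n
    constructor
    · intro h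
      obtain ⟨v, hv⟩ := exists_ne (0 : V)
      have h1 : n • v = 0 := by
        have := congrArg (fun f : AddMonoid.End V => f v) h
        simpa using this
      have h2 : addOrderOf v ∣ q := addOrderOf_dvd_of_nsmul_eq_zero (hq v)
      have h3 : addOrderOf v ∣ n := addOrderOf_dvd_of_nsmul_eq_zero h1
      rcases (Nat.dvd_prime hqp).mp h2 with h4 | h4
      · exact absurd (AddMonoid.addOrderOf_eq_one_iff.mp h4) hv
      · rwa [h4] at h3
    · rintro ⟨k, rfl⟩
      ext v
      simp [hq]
  -- Frobenius fixes R
  have hfrob : ∀ s ∈ R, s ^ (q ^ e) = s := by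
    intro s hs
    induction hs using Subring.closure_induction with
    | mem x hx =>
      rw [Set.mem_singleton_iff.mp hx]
      -- σ ^ (q^e) = σ
      have h1 : q ^ e = p * (q ^ e / p) + q ^ e % p := (Nat.div_add_mod _ _).symm
      have hp2 : 2 ≤ p := (Fact.out : p.Prime).two_le
      have h2 : 1 % p = 1 := Nat.mod_eq_of_lt (by omega)
      rw [h1, hqe, h2, pow_add, pow_mul, hσp, one_pow, one_mul, pow_one]
    | zero => exact zero_pow (pow_ne_zero _ hqp.ne_zero)
    | one => exact one_pow _
    | add x y hx hy hpx hpy =>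
      have hc : Commute x y := hcomm x hx y hy
      rw [add_pow_char_pow_of_commute q e hc, hpx, hpy]
    | neg x hx hpx =>
      have hc : Commute (0 : AddMonoid.End V) x := Commute.zero_left x
      have : (-x) ^ (q ^ e) + x ^ (q ^ e) = 0 := by
        have hc2 : Commute (-x) x := (Commute.refl x).neg_left
        rw [← add_pow_char_pow_of_commute q e hc2, neg_add_cancel,
          zero_pow (pow_ne_zero _ hqp.ne_zero)]
      rw [hpx] at this
      exact eq_neg_of_add_eq_zero_left this
    | mul x y hx hy hpx hpy =>
      have hc : Commute x y := hcomm x hx y hy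
      rw [hc.mul_pow, hpx, hpy]
  -- nonzero elements of R are injective
  have hinj : ∀ s ∈ R, s ≠ 0 → Function.Injective s := by
    intro s hs hs0
    let Ks : AddSubgroup V :=
      { carrier := {w | s w = 0}
        zero_mem' := map_zero s
        add_mem' := by
          intro a b ha hb
          show s (a + b) = 0
          rw [map_add, ha, hb, add_zero]
        neg_mem' := by
          intro a ha
          show s (-a) = 0
          rw [map_neg, ha, neg_zero] }
    have hker : ∀ w ∈ Ks, σ w ∈ Ks := by
      intro w hw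
      have hw' : s w = 0 := hw
      show s (σ w) = 0
      have h1 : s * σ = σ * s := hcomm s hs σ hσR
      have h2 : s (σ w) = σ (s w) := by
        have := congrArg (fun f : AddMonoid.End V => f w) h1
        simpa using this
      rw [h2, hw', map_zero]
    rcases hirr _ hker with h | h
    · intro a b hab
      have : a - b ∈ Ks := by
        show s (a - b) = 0
        rw [map_sub, hab, sub_self]
      rw [h, AddSubgroup.mem_bot] at this
      exact sub_eq_zero.mp this
    · exfalso
      apply hs0
      ext v
      have : v ∈ Ks := by rw [h]; trivial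
      exact this
  -- R is a domain
  haveI : Nontrivial R := by
    refine ⟨⟨0, 1, ?_⟩⟩
    intro h
    obtain ⟨v, hv⟩ := exists_ne (0 : V)
    have h1 : (0 : AddMonoid.End V) = 1 := congrArg Subtype.val h
    have := congrArg (fun f : AddMonoid.End V => f v) h1
    simp at this
    exact hv this.symm
  haveI : NoZeroDivisors R := by
    constructor
    intro a b hab
    by_cases ha : a = 0
    · exact Or.inl ha
    right
    have ha' : (a : AddMonoid.End V) ≠ 0 := fun h => ha (Subtype.ext h)
    have hai := hinj a a.2 ha'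
    apply Subtype.ext
    ext v
    have h1 : (a : AddMonoid.End V) * (b : AddMonoid.End V) = 0 := by
      have := congrArg Subtype.val hab
      simpa using this
    have h2 : (a : AddMonoid.End V) ((b : AddMonoid.End V) v) = 0 := by
      have := congrArg (fun f : AddMonoid.End V => f v) h1
      simpa using this
    have h3 : (a : AddMonoid.End V) ((b : AddMonoid.End V) v) = (a : AddMonoid.End V) 0 := by
      rw [h2, map_zero]
    exact hai h3
  haveI : IsDomain R := NoZeroDivisors.to_isDomain R
  haveI : Finite (AddMonoid.End V) := DFunLike.finite (V →+ V)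
  haveI : Fintype R := Fintype.ofFinite R
  -- count roots
  have hcardR : Fintype.card R ≤ q ^ e := by
    have hq1 : 1 < q ^ e := Nat.one_lt_pow (by omega) hqp.one_lt
    apply card_le_of_forall_pow_eq (q ^ e) hq1
    intro r
    exact Subtype.ext (by simpa using hfrob r r.2)
  -- V is a cyclic R-module
  obtain ⟨a, ha⟩ := exists_ne (0 : V)
  let W : AddSubgroup V :=
    { carrier := {v | ∃ s ∈ R, s a = v}
      zero_mem' := ⟨0, R.zero_mem, rfl⟩
      add_mem' := by
        rintro _ _ ⟨s, hs, rfl⟩ ⟨t, ht, rfl⟩
        exact ⟨s + t, R.add_mem hs ht, rfl⟩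
      neg_mem' := by
        rintro _ ⟨s, hs, rfl⟩
        exact ⟨-s, R.neg_mem hs, rfl⟩ }
  have hWinv : ∀ w ∈ W, σ w ∈ W := by
    rintro _ ⟨s, hs, rfl⟩
    exact ⟨σ * s, R.mul_mem hσR hs, rfl⟩
  have hWtop : W = ⊤ := by
    rcases hirr W hWinv with h | h
    · exfalso
      have : a ∈ W := ⟨1, R.one_mem, rfl⟩
      rw [h, AddSubgroup.mem_bot] at this
      exact ha this
    · exact h
  have hsurj : Function.Surjective (fun s : R => (s : AddMonoid.End V) a) := by
    intro v
    have : v ∈ W := by rw [hWtop]; trivial
    obtain ⟨s, hs, rfl⟩ := this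
    exact ⟨⟨s, hs⟩, rfl⟩
  calc Nat.card V ≤ Nat.card R := Nat.card_le_card_of_surjective _ hsurj
    _ = Fintype.card R := Nat.card_eq_fintype_card
    _ ≤ q ^ e := hcardR

/-- The order of a nontrivial irreducible module for a cyclic group of prime order. -/
theorem card_eq_of_irreducible {p q : ℕ} [Fact p.Prime] [Fact q.Prime] (hpq : q ≠ p)
    (hq : ∀ v : V, q • v = 0) (σ : AddMonoid.End V) (hσp : σ ^ p = 1) (hσ1 : σ ≠ 1)
    (hirr : ∀ W : AddSubgroup V, (∀ w ∈ W, σ w ∈ W) → W = ⊥ ∨ W = ⊤)
    (d : ℕ) (hd : Nat.card V = q ^ d) :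
    Nat.card V = q ^ orderOf (q : ZMod p) := by
  classical
  have hpp : p.Prime := Fact.out
  have hqp : q.Prime := Fact.out
  have hnt : Nontrivial V := by
    by_contra h
    rw [not_nontrivial_iff_subsingleton] at h
    apply hσ1
    ext v
    exact Subsingleton.elim _ _
  have hq0 : (q : ZMod p) ≠ 0 := by
    intro h
    rw [ZMod.natCast_eq_zero_iff] at h
    exact hpq ((Nat.prime_dvd_prime_iff_eq hpp hqp).mp h).symm
  set e := orderOf (q : ZMod p) with he
  have hfermat : (q : ZMod p) ^ (p - 1) = 1 := ZMod.pow_card_sub_one_eq_one hq0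
  have he1 : 1 ≤ e := by
    have : 0 < p - 1 := by have := hpp.two_le; omega
    exact orderOf_pos_iff.mpr (isOfFinOrder_iff_pow_eq_one.mpr ⟨p - 1, this, hfermat⟩)
  have hqe : q ^ e % p = 1 % p := by
    have h1 : (q : ZMod p) ^ e = 1 := pow_orderOf_eq_one _
    have h2 : ((q ^ e : ℕ) : ZMod p) = ((1 : ℕ) : ZMod p) := by
      rw [Nat.cast_pow, h1, Nat.cast_one]
    exact (ZMod.natCast_eq_natCast_iff' _ _ _).mp h2
  have hle : Nat.card V ≤ q ^ e := card_le_of_irreducible hq σ hσp hirr hnt e he1 hqe
  -- lower bound via fixed points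
  have hσinv : σ ^ (p - 1) * σ = 1 := by
    rw [← pow_succ, show p - 1 + 1 = p by have := hpp.two_le; omega, hσp]
  have hσinv' : σ * σ ^ (p - 1) = 1 := by
    rw [← pow_succ', show p - 1 + 1 = p by have := hpp.two_le; omega, hσp]
  let τ : Equiv.Perm V :=
    { toFun := σ
      invFun := (σ ^ (p - 1) : AddMonoid.End V)
      left_inv := fun v => by
        have := congrArg (fun f : AddMonoid.End V => f v) hσinv
        simpa using this
      right_inv := fun v => by
        have := congrArg (fun f : AddMonoid.End V => f v) hσinv'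
        simpa using this }
  have hτpow : ∀ n : ℕ, ∀ v : V, (τ ^ n) v = (σ ^ n : AddMonoid.End V) v := by
    intro n
    induction n with
    | zero => intro v; simp
    | succ n ih =>
      intro v
      rw [pow_succ, pow_succ, Equiv.Perm.mul_apply, ih]
      rfl
  have hτp : τ ^ p = 1 := by
    ext v
    rw [hτpow, hσp]; rfl
  have hPG : IsPGroup p (Subgroup.zpowers τ) := by
    apply IsPGroup.of_card (n := if orderOf τ = 1 then 0 else 1)
    rw [Nat.card_zpowers]
    have := orderOf_dvd_of_pow_eq_one hτp
    rcases (Nat.dvd_prime hpp).mp this with h | h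
    · simp [h]
    · have : p ≠ 1 := hpp.one_lt.ne'
      simp [h, this]
  have hfix : MulAction.fixedPoints (Subgroup.zpowers τ) V = {0} := by
    ext v
    rw [MulAction.mem_fixedPoints, Set.mem_singleton_iff]
    constructor
    · intro h
      have hv : σ v = v := h ⟨τ, Subgroup.mem_zpowers τ⟩
      let F : AddSubgroup V :=
        { carrier := {w | σ w = w}
          zero_mem' := map_zero σ
          add_mem' := by
            intro a b ha hb
            show σ (a + b) = a + b
            rw [map_add, ha, hb]
          neg_mem' := by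
            intro a ha
            show σ (-a) = -a
            rw [map_neg, ha] }
      have hF : ∀ w ∈ F, σ w ∈ F := by
        intro w hw
        have hw' : σ w = w := hw
        show σ (σ w) = σ w
        rw [hw']
        exact hw'
      rcases hirr F hF with h1 | h1
      · have : v ∈ F := hv
        rw [h1, AddSubgroup.mem_bot] at this
        exact this
      · exfalso
        apply hσ1
        ext w
        have : w ∈ F := by rw [h1]; trivial
        exact this
    · rintro rfl g
      obtain ⟨g, hg⟩ := g
      obtain ⟨k, rfl⟩ := Subgroup.mem_zpowers_iff.mp hg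
      show (τ ^ k) 0 = 0
      have h0 : τ 0 = 0 := map_zero σ
      have h0' : τ⁻¹ 0 = 0 := by
        rw [Equiv.Perm.inv_eq_iff_eq]; exact h0.symm
      induction k using Int.induction_on with
      | zero => simp
      | succ n ih =>
        have ih' : (τ ^ (n : ℤ)) 0 = 0 := ih ((Subgroup.zpowers τ).zpow_mem (Subgroup.mem_zpowers τ) _)
        rw [zpow_add_one, Equiv.Perm.mul_apply, h0, ih']
      | pred n ih =>
        have ih' : (τ ^ (-(n : ℤ))) 0 = 0 := ih ((Subgroup.zpowers τ).zpow_mem (Subgroup.mem_zpowers τ) _)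
        rw [zpow_sub_one, Equiv.Perm.mul_apply, h0', ih']
  have hmod := hPG.card_modEq_card_fixedPoints V
  rw [hfix, hd] at hmod
  have h1 : Nat.card ({0} : Set V) = 1 := by simp
  rw [h1] at hmod
  have h2 : (q : ZMod p) ^ d = 1 := by
    have := (ZMod.natCast_eq_natCast_iff _ _ _).mpr hmod
    rwa [Nat.cast_pow, Nat.cast_one] at this
  have hed : e ∣ d := orderOf_dvd_of_pow_eq_one h2
  have hd1 : 1 ≤ d := by
    by_contra h
    have : d = 0 := by omega
    rw [this, pow_zero] at hd
    have := (Nat.card_eq_one_iff_unique.mp hd).1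
    exact not_subsingleton V this
  have hde : d ≤ e := by
    rw [hd] at hle
    exact (Nat.pow_le_pow_iff_right hqp.one_lt).mp hle
  have : d = e := le_antisymm hde (Nat.le_of_dvd (by omega) hed)
  rw [hd, this]

end Core

section GroupForm

variable {G : Type*} [Group G]

/-- Group form: an element `x` with `x ^ p = 1` acting irreducibly and nontrivially by conjugation
on an elementary abelian `q`-subgroup `A`, forces `|A| = q ^ e`, `e` the order of `q` mod `p`. -/
theorem card_eq_of_irreducible_conj [Finite G] {p q : ℕ} [Fact p.Prime] [Fact q.Prime]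
    (hpq : q ≠ p) (A : Subgroup G) (hA : ∀ a ∈ A, ∀ b ∈ A, a * b = b * a)
    (hAq : ∀ a ∈ A, a ^ q = 1) (x : G) (hxA : x ∈ Subgroup.normalizer (A : Set G))
    (hxp : x ^ p = 1) (hxc : ∃ a ∈ A, x * a ≠ a * x)
    (hirr : ∀ B : Subgroup G, B ≤ A → x ∈ Subgroup.normalizer (B : Set G) → B = ⊥ ∨ B = A) :
    Nat.card A = q ^ orderOf (q : ZMod p) := by
  classical
  letI : CommGroup ↥A :=
    { (inferInstance : Group ↥A) with
      mul_comm := fun a b => Subtype.ext (hA a a.2 b b.2) }
  have hconj : ∀ a : ↥A, x * (a : G) * x⁻¹ ∈ A := fun a =>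
    (Subgroup.mem_normalizer_iff.mp hxA a).mp a.2
  let f : ↥A →* ↥A :=
    { toFun := fun a => ⟨x * (a : G) * x⁻¹, hconj a⟩
      map_one' := by ext; simp
      map_mul' := fun a b => by ext; simp }
  let σ : AddMonoid.End (Additive ↥A) := MonoidHom.toAdditive f
  have hσapply : ∀ a : ↥A, σ (Additive.ofMul a) = Additive.ofMul (f a) := fun a => rfl
  have hσpow : ∀ (n : ℕ) (a : ↥A), ((σ ^ n : AddMonoid.End (Additive ↥A)) (Additive.ofMul a)).toMul.1
      = x ^ n * (a : G) * (x ^ n)⁻¹ := by
    intro n
    induction n with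
    | zero => intro a; simp
    | succ n ih =>
      intro a
      rw [pow_succ', AddMonoid.End.coe_mul, Function.comp_apply]
      have h1 : ((σ ^ n : AddMonoid.End (Additive ↥A)) (Additive.ofMul a)) =
          Additive.ofMul ((σ ^ n : AddMonoid.End (Additive ↥A)) (Additive.ofMul a)).toMul := rfl
      rw [h1, hσapply]
      show x * (((σ ^ n : AddMonoid.End (Additive ↥A)) (Additive.ofMul a)).toMul : G) * x⁻¹ = _
      rw [ih a, pow_succ']
      group
  have hd0 : ∃ d : ℕ, Nat.card ↥A = q ^ d := by
    have hPG : IsPGroup q ↥A := fun a => ⟨1, by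
      rw [pow_one]; exact Subtype.ext (by simpa using hAq a a.2)⟩
    exact IsPGroup.iff_card.mp hPG
  obtain ⟨d, hd0⟩ := hd0
  have hd : Nat.card (Additive ↥A) = q ^ d := hd0
  have key := card_eq_of_irreducible (V := Additive ↥A) (p := p) (q := q) hpq ?_ σ ?_ ?_ ?_ d hd
  · exact key
  · intro v
    have : q • v = Additive.ofMul (v.toMul ^ q) := rfl
    rw [this]
    have h1 : v.toMul ^ q = 1 := Subtype.ext (by simpa using hAq v.toMul v.toMul.2)
    rw [h1]; rfl
  · ext v
    have h1 := hσpow p v.toMul
    rw [hxp] at h1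
    simp only [one_mul, inv_one, mul_one] at h1
    exact h1
  · intro h
    obtain ⟨a, ha, hxa⟩ := hxc
    apply hxa
    have h1 : σ (Additive.ofMul ⟨a, ha⟩) = Additive.ofMul ⟨a, ha⟩ := by rw [h]; rfl
    have h2 : x * a * x⁻¹ = a := congrArg (fun v : Additive ↥A => (v.toMul : G)) h1
    calc x * a = x * a * x⁻¹ * x := by group
      _ = a * x := by rw [h2]
  · intro W hW
    let B : Subgroup G := (AddSubgroup.toSubgroup' W).map A.subtype
    have hBA : B ≤ A := Subgroup.map_subtype_le _
    have hmemB : ∀ a : ↥A, (a : G) ∈ B ↔ Additive.ofMul a ∈ W := by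
      intro a
      constructor
      · rintro ⟨a', ha', heq⟩
        have : a' = a := Subtype.ext heq
        rw [← this]; exact ha'
      · intro h; exact ⟨a, h, rfl⟩
    have hxB : x ∈ Subgroup.normalizer (B : Set G) := by
      apply Subgroup.mem_normalizer_fintype
      intro b hb
      have hbA : b ∈ A := hBA hb
      have h1 : Additive.ofMul (⟨b, hbA⟩ : ↥A) ∈ W := (hmemB ⟨b, hbA⟩).mp hb
      have h2 := hW _ h1
      rw [hσapply] at h2
      exact (hmemB (f ⟨b, hbA⟩)).mpr h2
    rcases hirr B hBA hxB with h | h
    · left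
      rw [eq_bot_iff]
      intro v hv
      have : (v.toMul : G) ∈ B := (hmemB v.toMul).mpr hv
      rw [h, Subgroup.mem_bot] at this
      rw [AddSubgroup.mem_bot]
      apply Additive.toMul.injective
      exact Subtype.ext this
    · right
      rw [eq_top_iff]
      intro v _
      have : (v.toMul : G) ∈ B := by rw [h]; exact v.toMul.2
      exact (hmemB v.toMul).mp this

end GroupForm

end Cfsg.Agent.Helper19
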