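import Mathlib
import Cfsg.Agent.Helper18.K2P.Defs
import Cfsg.Agent.Helper18.K2P.Defs2
import Cfsg.Agent.Helper18.K2P.QB
import Cfsg.Agent.Helper18.K2P.RACT
import Cfsg.Agent.Helper18.K2P.STAB
import Cfsg.Agent.Helper18.K2P.OMEGA
import Cfsg.Agent.Helper18.K2P.PERM
import Cfsg.Agent.Helper18.K2P.BASIS
import Cfsg.Agent.Helper8.K2PG
import Cfsg.Agent.Helper8.K2PROT
import Cfsg.Agent.Helper6.K2PSCHANGEB

set_option autoImplicit false
set_option linter.unusedSectionVars false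
set_option linter.unusedVariables false

/-! # K2P (S5692), chapter B (driver helper2), piece B-CONJ (helper19): `InA` is transported by every `x ∈ M`
mapping some block into a block. -/

namespace Cfsg.Agent.K2P

open Matrix Cfsg.Agent.OC2P Cfsg.Agent.Helper28.Sg Cfsg.Agent.Helper28.Spin
  Cfsg.Agent.Helper12.OrthGen Cfsg.Agent.K2M

variable {F : Type*} [Field F] [Fintype F] {t : ℕ} {Q : QuadraticForm F (Fin t × Fin 2 → F)}
  {q : QuadraticForm F (Fin 2 → F)} {e f : Fin 2 → F} {M : Subgroup (OG Q)}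

/-- B-CONJ (S-M) -/
theorem B.CONJ (bp : BP Q q e f) (ht : 3 ≤ t) (hM : HasMO M) {a : Fin t × Fin 2 → F}
    (ha : InA M a) {x : OG Q} (hx : x ∈ M) {k₀ k₁ : Fin t}
    (hk : ∀ y : Fin 2 → F, ∃ y' : Fin 2 → F, mt Q x *ᵥ binj k₀ y = binj k₁ y') :
    InA M (mt Q x *ᵥ a) := by
  obtain ⟨y, ha', hb, hqy, hmem⟩ := SCHANGEB.main bp ht hM ha k₀
  obtain ⟨y', hy'⟩ := hk y
  have hQa : Q (mt Q x *ᵥ a) = Q a := Q_isom x a
  have hQb : Q (mt Q x *ᵥ binj k₀ y) = Q (binj k₀ y) := Q_isom x (binj k₀ y)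
  have ha2 : Q (mt Q x *ᵥ a) ≠ 0 := by rw [hQa]; exact ha'
  have hb2 : Q (mt Q x *ᵥ binj k₀ y) ≠ 0 := by rw [hQb]; exact hb
  refine ⟨mt Q x *ᵥ binj k₀ y, ha2, hb2, ⟨k₁, ?_⟩, ?_, ?_⟩
  · rw [hy']; exact binj_mem k₁ y'
  · rw [hQa, hQb, QB.Q_binj bp.toBM0, hqy]
  · have e1 : reflO Q (mt Q x *ᵥ a) ha2 = x * reflO Q a ha' * x⁻¹ := reflO_conj Q x a ha' ha2
    have e2 : reflO Q (mt Q x *ᵥ binj k₀ y) hb2 = x * reflO Q (binj k₀ y) hb * x⁻¹ :=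
      reflO_conj Q x (binj k₀ y) hb hb2
    rw [e1, e2]
    have e3 : x * reflO Q a ha' * x⁻¹ * (x * reflO Q (binj k₀ y) hb * x⁻¹)
        = x * (reflO Q a ha' * reflO Q (binj k₀ y) hb) * x⁻¹ := by group
    rw [e3]
    exact M.mul_mem (M.mul_mem hx hmem) (M.inv_mem hx)

end Cfsg.Agent.K2P
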