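import Mathlib
import Cfsg.Agent.Helper4.LSDefs

/-! S2334 piece DUAL: the characters of the group of anti-Hermitian matrices are the functions
`T ↦ ψ (tr (S T))`. -/

set_option autoImplicit false

namespace Cfsg.Agent.Helper19.LS34DUAL

open Matrix Cfsg.Agent.S2334P Cfsg.Agent.Helper2.SUGen

variable {K : Type*} [Field K] {q : ℕ}

theorem ct_single (σ : K →+* K) {m : ℕ} (a b : Fin m) (x : K) :
    ct σ (Matrix.single a b x) = Matrix.single b a (σ x) := by
  ext u v
  rw [ct_apply, Matrix.single_apply, Matrix.single_apply]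
  by_cases h : a = v ∧ b = u
  · rw [if_pos h, if_pos ⟨h.2, h.1⟩]
  · rw [if_neg h, if_neg (fun h' => h ⟨h'.2, h'.1⟩), map_zero]

/-- the anti-Hermitian matrix `c E_ji - σ(c) E_ij` -/
def tmat (D : Frob K q) {m : ℕ} (i j : Fin m) (c : K) : AH D.σ m :=
  ⟨Matrix.single j i c - Matrix.single i j (D.σ c), by
    rw [mem_AH, ct_sub, ct_single, ct_single, D.invol, neg_sub]⟩

theorem trace_mul_tmat (D : Frob K q) {m : ℕ} (R : AH D.σ m) (i j : Fin m) (c : K) :
    Matrix.trace (R.1 * (tmat D i j c).1) = c * R.1 i j + D.σ (c * R.1 i j) := by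
  have hR : D.σ (R.1 i j) = -R.1 j i := by
    have h := (mem_AH D.σ m R.1).mp R.2
    have := congrFun (congrFun h j) i
    rw [ct_apply, Matrix.neg_apply] at this
    exact this
  show Matrix.trace (R.1 * (Matrix.single j i c - Matrix.single i j (D.σ c))) = _
  rw [Matrix.mul_sub, Matrix.trace_sub, Matrix.trace_mul_single, Matrix.trace_mul_single, map_mul,
    hR]
  simp only [MulOpposite.smul_eq_mul_unop, MulOpposite.unop_op]
  ring

/-- a nonzero anti-Hermitian matrix has trace pairing `1` with some anti-Hermitian matrix -/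
theorem exists_trace_one (D : Frob K q) {m : ℕ} (R : AH D.σ m) (hR : R ≠ 0) :
    ∃ T : AH D.σ m, Matrix.trace (R.1 * T.1) = 1 := by
  have hne : R.1 ≠ 0 := fun h => hR (Subtype.ext h)
  obtain ⟨i, j, hij⟩ : ∃ i j, R.1 i j ≠ 0 := by
    by_contra hcon
    push Not at hcon
    apply hne
    ext i j
    exact hcon i j
  obtain ⟨w, hw⟩ := exists_trace D 1 (map_one _)
  refine ⟨tmat D i j (w / R.1 i j), ?_⟩
  rw [trace_mul_tmat, div_mul_cancel₀ _ hij, hw]

/-- the pairing, as a character -/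
noncomputable def pair (D : Frob K q) {m : ℕ} (ψ : AddChar K ℂ) (S : AH D.σ m) :
    AddChar (AH D.σ m) ℂ where
  toFun T := ψ (Matrix.trace (S.1 * T.1))
  map_zero_eq_one' := by
    show ψ (Matrix.trace (S.1 * (0 : AH D.σ m).1)) = 1
    rw [AddSubgroup.coe_zero, Matrix.mul_zero, Matrix.trace_zero, AddChar.map_zero_eq_one]
  map_add_eq_mul' := by
    intro T T'
    show ψ (Matrix.trace (S.1 * (T + T').1)) = ψ (Matrix.trace (S.1 * T.1)) *
      ψ (Matrix.trace (S.1 * T'.1))
    rw [AddSubgroup.coe_add, Matrix.mul_add, Matrix.trace_add, AddChar.map_add_eq_mul]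

theorem pair_apply (D : Frob K q) {m : ℕ} (ψ : AddChar K ℂ) (S T : AH D.σ m) :
    pair D ψ S T = ψ (Matrix.trace (S.1 * T.1)) := rfl

theorem pair_injective (D : Frob K q) {m : ℕ} (ψ : AddChar K ℂ) (hψ : ψ 1 ≠ 1) :
    Function.Injective (pair D ψ : AH D.σ m → AddChar (AH D.σ m) ℂ) := by
  intro S S' h
  by_contra hne
  have hR : S - S' ≠ 0 := sub_ne_zero.mpr hne
  obtain ⟨T, hT⟩ := exists_trace_one D (S - S') hR
  have h1 := DFunLike.congr_fun h T
  rw [pair_apply, pair_apply] at h1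
  apply hψ
  rw [← hT, AddSubgroup.coe_sub, Matrix.sub_mul, Matrix.trace_sub, sub_eq_add_neg,
    AddChar.map_add_eq_mul, AddChar.map_neg_eq_inv, h1]
  exact mul_inv_cancel₀ (AddChar.val_isUnit _ _).ne_zero

end Cfsg.Agent.Helper19.LS34DUAL

namespace Cfsg.Agent.S2334P

open Matrix Cfsg.Agent.Helper2.SUGen Cfsg.Agent.Helper19.LS34DUAL

variable {K : Type*} [Field K] {q : ℕ}

theorem exists_dual [Fintype K] (D : Frob K q) (hK : Fintype.card K = q ^ 2) (m : ℕ) :
    ∃ Ψ : AH D.σ m → (AH D.σ m → ℂ),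
      (∀ S T T', Ψ S (T + T') = Ψ S T * Ψ S T') ∧
      (∀ T, Ψ 0 T = 1) ∧
      Function.Injective Ψ ∧
      (∀ χ : AH D.σ m → ℂ, (∀ T T', χ (T + T') = χ T * χ T') → χ 0 = 1 → ∃ S, χ = Ψ S) ∧
      (∀ S (g : Matrix (Fin m) (Fin m) K) T,
        Ψ S (cong D.invol g T) = Ψ (congT D.invol g S) T) := by
  classical
  obtain ⟨ψ, hψ⟩ := (AddChar.exists_apply_ne_zero (α := K) (a := 1)).mpr one_ne_zero
  have hinj := pair_injective D (m := m) ψ hψ
  have : Fintype (AH D.σ m) := Fintype.ofFinite _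
  have hbij : Function.Bijective (pair D ψ : AH D.σ m → AddChar (AH D.σ m) ℂ) := by
    rw [Fintype.bijective_iff_injective_and_card]
    exact ⟨hinj, (AddChar.card_eq (α := AH D.σ m)).symm⟩
  refine ⟨fun S T => pair D ψ S T, ?_, ?_, ?_, ?_, ?_⟩
  · intro S T T'
    exact AddChar.map_add_eq_mul _ _ _
  · intro T
    show ψ (Matrix.trace ((0 : AH D.σ m).1 * T.1)) = 1
    rw [AddSubgroup.coe_zero, Matrix.zero_mul, Matrix.trace_zero, AddChar.map_zero_eq_one]
  · intro S S' h
    apply hinj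
    ext T
    exact congrFun h T
  · intro χ hadd h0
    let χ' : AddChar (AH D.σ m) ℂ :=
      { toFun := χ, map_zero_eq_one' := h0, map_add_eq_mul' := hadd }
    obtain ⟨S, hS⟩ := hbij.2 χ'
    refine ⟨S, ?_⟩
    funext T
    have := DFunLike.congr_fun hS T
    exact this.symm
  · intro S g T
    show ψ (Matrix.trace (S.1 * (g * T.1 * ct D.σ g))) = ψ (Matrix.trace (ct D.σ g * S.1 * g * T.1))
    congr 1
    rw [← Matrix.mul_assoc, ← Matrix.mul_assoc, Matrix.trace_mul_comm, ← Matrix.mul_assoc,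
      ← Matrix.mul_assoc]

end Cfsg.Agent.S2334P
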