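import Mathlib
import Cfsg.Agent.Helper4.LSDefs

/-! S2334 piece ELZ: the model matrices `z(S)`. -/

set_option autoImplicit false

namespace Cfsg.Agent.S2334P

open Matrix

variable {K : Type*} [Field K]

theorem zM_add {m : ℕ} (S T : Matrix (Fin m) (Fin m) K) : zM (S + T) = zM S * zM T := by
  unfold zM
  rw [Matrix.fromBlocks_multiply, Matrix.fromBlocks_multiply]
  simp [add_comm]

theorem zM_zero {m : ℕ} : zM (0 : Matrix (Fin m) (Fin m) K) = 1 := by
  unfold zM
  rw [Matrix.fromBlocks_one, Matrix.fromBlocks_one]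

theorem zM_det {m : ℕ} (S : Matrix (Fin m) (Fin m) K) : (zM S).det = 1 := by
  unfold zM
  rw [Matrix.det_fromBlocks_zero₂₁, Matrix.det_fromBlocks_zero₂₁]
  simp

theorem zM_pres (σ : K →+* K) {m : ℕ} (S : Matrix (Fin m) (Fin m) K) (hS : S ∈ AH σ m) :
    PresJ σ m (zM S) := by
  have h1 : S.map σ = -Sᵀ := by
    have h := (mem_AH σ m S).mp hS
    unfold ct at h
    have h2 := congrArg Matrix.transpose h
    rw [Matrix.transpose_transpose, Matrix.transpose_neg] at h2
    exact h2
  unfold PresJ zM JJ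
  simp [Matrix.fromBlocks_transpose, Matrix.fromBlocks_map, Matrix.fromBlocks_multiply, h1]

theorem zM_scalar {m : ℕ} (S : Matrix (Fin m) (Fin m) K) (c : K)
    (h : zM S = c • (1 : Matrix (Idx m) (Idx m) K)) : S = 0 := by
  ext i j
  have := congrFun (congrFun h (Sum.inl (Sum.inl i))) (Sum.inl (Sum.inr j))
  simpa [zM] using this

end Cfsg.Agent.S2334P
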