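import Mathlib

/-! S2334 piece HEISA: operators with pairwise distinct twisted commutation characters are
linearly independent (adapted from `Cfsg.Agent.Helper11.SzRep.card_le_sq_of_twisted_commute`; the
operators `Ps s` need not come from a homomorphism). -/

set_option autoImplicit false

namespace Cfsg.Agent.S2334P

open Matrix Module

theorem card_le_sq_of_twisted {U : Type*} [AddCommGroup U] [Module ℂ U] [FiniteDimensional ℂ U]
    [Nontrivial U] {Q : Type*} [Monoid Q] {I : Type*} [Fintype I] (T : I → Module.End ℂ U)
    (Ps Psi : Q → Module.End ℂ U) (hPs : ∀ s, Ps s * Psi s = 1)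
    (hT : ∀ i, Function.Injective (T i)) (χ : I → Q →* ℂ) (hχ : Function.Injective χ)
    (h : ∀ i s, Ps s * T i = χ i s • (T i * Ps s)) :
    Fintype.card I ≤ (finrank ℂ U) ^ 2 := by
  classical
  have hli : LinearIndependent ℂ (fun i => T i) := by
    rw [Fintype.linearIndependent_iff]
    intro g hg i₀
    -- conjugating the relation
    have h1 : ∀ s : Q, ∑ i, (g i * χ i s) • T i = 0 := by
      intro s
      have e1 : Ps s * (∑ i, g i • T i) * Psi s = 0 := by rw [hg, mul_zero, zero_mul]
      rw [Finset.mul_sum, Finset.sum_mul] at e1
      rw [← e1]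
      apply Finset.sum_congr rfl
      intro i _
      rw [mul_smul_comm, h i s, smul_mul_assoc, smul_mul_assoc, mul_assoc, hPs, mul_one, smul_smul]
    -- Dedekind
    have hded := (linearIndependent_monoidHom Q ℂ).comp χ hχ
    rw [Fintype.linearIndependent_iff] at hded
    obtain ⟨u, hu⟩ := exists_ne (0 : U)
    have hne : T i₀ u ≠ 0 := by
      intro h0
      apply hu
      apply hT i₀
      rw [h0, map_zero]
    let bs := Module.finBasis ℂ U
    obtain ⟨j, hj⟩ : ∃ j, bs.repr (T i₀ u) j ≠ 0 := by
      by_contra hcon
      push Not at hcon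
      apply hne
      apply bs.repr.injective
      ext j
      rw [hcon j]
      simp
    have h2 := hded (fun i => g i * bs.repr (T i u) j) (by
      ext s
      have e2 := congrArg (fun A : Module.End ℂ U => bs.repr (A u) j) (h1 s)
      simp only [LinearMap.sum_apply, LinearMap.smul_apply, map_sum, map_smul,
        Finsupp.coe_finsetSum, Finsupp.coe_smul, Finset.sum_apply, Pi.smul_apply, smul_eq_mul,
        LinearMap.zero_apply, map_zero, Finsupp.coe_zero, Pi.zero_apply] at e2
      simp only [Function.comp_apply, Finset.sum_apply, Pi.smul_apply, smul_eq_mul, Pi.zero_apply]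
      rw [← e2]
      apply Finset.sum_congr rfl
      intro i _
      ring) i₀
    rcases mul_eq_zero.mp h2 with h3 | h3
    · exact h3
    · exact absurd h3 hj
  have := hli.fintype_card_le_finrank
  rw [Module.finrank_linearMap, ← sq] at this
  exact this

end Cfsg.Agent.S2334P
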