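import Mathlib
import Cfsg.Prelude.Def_Solvable
import Cfsg.Agent.Helper4.McLDefs
import Cfsg.Agent.Helper20.McLDDPART
import Cfsg.Agent.Helper16.McLCLAIMA

set_option autoImplicit false

/-! S5075, piece CLAIMB1: `range π ⊔ DD` is invariant under every transvection of `G`. -/

namespace Cfsg.Agent.S5075P

variable {p : ℕ} [Fact p.Prime] {V : Type*} [AddCommGroup V] [Module (ZMod p) V]
variable {G : Subgroup (V ≃ₗ[ZMod p] V)}

/-! ### CLAIMB1 (uses CLAIMA1, DDPART) -/
theorem claimB_left [Finite V] {π : V →ₗ[ZMod p] V} (h : SLfull G π)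
    (h3 : 3 ≤ Module.finrank (ZMod p) ↥(LinearMap.range π)) {u : V}
    {χ : Module.Dual (ZMod p) V} (hu : InI0 G u χ) :
    ∀ x ∈ LinearMap.range π ⊔ DD G π, tv u χ x ∈ LinearMap.range π ⊔ DD G π := by
  classical
  intro x hx
  rw [tv_apply hu.1.1]
  have hππ : ∀ y, π (π y) = π y := fun y => by
    have := congrArg (fun f : V →ₗ[ZMod p] V => f y) h.idem
    simpa using this
  -- it suffices that `u` lies in the subspace or that `χ x = 0`
  have hsuff : u - π u ∈ DD G π → x + χ x • u ∈ LinearMap.range π ⊔ DD G π := by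
    intro hd
    have hu' : u ∈ LinearMap.range π ⊔ DD G π := by
      have : u = π u + (u - π u) := by abel
      rw [this]
      exact Submodule.add_mem _ (Submodule.mem_sup_left (LinearMap.mem_range_self π u))
        (Submodule.mem_sup_right hd)
    exact Submodule.add_mem _ hx (Submodule.smul_mem _ _ hu')
  by_cases hχ : χ ∘ₗ π ≠ 0
  · exact hsuff (claimA_left h h3 hu.1 hχ)
  push Not at hχ
  by_cases hd₀ : ∃ d₀ ∈ DD G π, χ d₀ ≠ 0
  · obtain ⟨d₀, hd₀, hχd₀⟩ := hd₀
    apply hsuff
    refine dd_of_partial h h3 (d := u - π u) (m₀ := π u) ?_ (hππ u) ?_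
    · rw [map_sub, hππ, sub_self]
    · intro μ hμ hμ0
      have hμu : μ u = 0 := by
        have := congrArg (fun f : Module.Dual (ZMod p) V => f u) hμ
        simp only [LinearMap.comp_apply] at this
        rw [← this]; exact hμ0
      have h1 : InI G u μ := hu.1.lemma1 ((mem_DD.mp hd₀).2 μ hμ) hμu hχd₀
      have h2 : InI G (π u) μ := h.full (π u) μ (hππ u) hμ hμ0
      exact h1.sub_left h2
  · push Not at hd₀
    have hχx : χ x = 0 := by
      obtain ⟨m, hm, d, hd, rfl⟩ := Submodule.mem_sup.mp hx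
      obtain ⟨y, rfl⟩ := hm
      have h1 : χ (π y) = 0 := by
        have := congrArg (fun f : Module.Dual (ZMod p) V => f y) hχ
        simpa using this
      rw [map_add, h1, hd₀ d hd, add_zero]
    rw [hχx, zero_smul, add_zero]
    exact hx

end Cfsg.Agent.S5075P
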