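import Mathlib
import Cfsg.Prelude.Def_Solvable
import Cfsg.Agent.Helper4.McLDefs
import Cfsg.Agent.Helper8.McLSPORBIT

set_option autoImplicit false

/-! S5075, piece EXTSPREAD: two orthogonal full symplectic pieces plus one mixed symplectic
transvection give the full symplectic piece on the sum. -/

namespace Cfsg.Agent.S5075P

variable {p : ℕ} [Fact p.Prime] {V : Type*} [AddCommGroup V] [Module (ZMod p) V]
variable {G : Subgroup (V ≃ₗ[ZMod p] V)}

namespace EXTSPREAD

/-- `B x (π y) = B x y` for an alternating form factoring through `π` -/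
theorem B_right {π : V →ₗ[ZMod p] V} {B : LinearMap.BilinForm (ZMod p) V} (halt : B.IsAlt)
    (hBπ : ∀ x y, B (π x) y = B x y) (x y : V) : B x (π y) = B x y := by
  rw [← halt.neg_eq (π y) x, hBπ, halt.neg_eq]

/-- the form of one piece kills the range of the other projection (left) -/
theorem B_left_zero {π π' : V →ₗ[ZMod p] V} {B : LinearMap.BilinForm (ZMod p) V}
    (hBπ : ∀ x y, B (π x) y = B x y) (h1 : π ∘ₗ π' = 0) (x y : V) : B (π' x) y = 0 := by
  rw [← hBπ (π' x) y]
  have : π (π' x) = 0 := by
    have := congrArg (fun f : V →ₗ[ZMod p] V => f x) h1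
    simpa using this
  rw [this, map_zero, LinearMap.zero_apply]

theorem B_right_zero {π π' : V →ₗ[ZMod p] V} {B : LinearMap.BilinForm (ZMod p) V}
    (halt : B.IsAlt) (hBπ : ∀ x y, B (π x) y = B x y) (h1 : π ∘ₗ π' = 0) (x y : V) :
    B x (π' y) = 0 := by
  rw [← halt.neg_eq (π' y) x, B_left_zero hBπ h1, neg_zero]

/-- closure of `S = {x | InI G x ((B + B') x)}` under the moves of the first piece -/
theorem move {π π' : V →ₗ[ZMod p] V} {B B' : LinearMap.BilinForm (ZMod p) V}
    (hS : SPfull G π B) (hS' : SPfull G π' B') (h2 : π' ∘ₗ π = 0) {x : V}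
    (hx : InI G x ((B + B') x)) {m : V} (hm : π m = m) (c : ZMod p) :
    InI G (x + (c * B m x) • m) ((B + B') (x + (c * B m x) • m)) := by
  have hB'm : ∀ y, B' m y = 0 := fun y => by
    rw [← hm]; exact B_left_zero hS'.Bπ h2 m y
  have hB'xm : B' x m = 0 := by
    rw [← hS'.alt.neg_eq m x, hB'm, neg_zero]
  have h3 : InI G m (c • B m) := (hS.full m hm).smul_right c
  have h4 := hx.conj_tv h3
  have e1 : x + (c • B m) x • m = x + (c * B m x) • m := by
    rw [LinearMap.smul_apply, smul_eq_mul]
  have e2 : (B + B') x - ((B + B') x) m • (c • B m) = (B + B') (x + (c * B m x) • m) := by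
    apply LinearMap.ext
    intro y
    simp only [LinearMap.sub_apply, LinearMap.add_apply, LinearMap.smul_apply, smul_eq_mul,
      map_add, map_smul, hB'm y, hB'xm]
    rw [← hS.alt.neg_eq m x]
    ring
  rwa [e1, e2] at h4

end EXTSPREAD

/-! ### EXTSPREAD  (uses SPORBIT) -/
theorem ext_spread [Finite V] (hp : p ≠ 2) {π π' : V →ₗ[ZMod p] V}
    {B B' : LinearMap.BilinForm (ZMod p) V} (hS : SPfull G π B) (hS' : SPfull G π' B')
    (h1 : π ∘ₗ π' = 0) (h2 : π' ∘ₗ π = 0) {m₀ e₀ : V} (hm : π m₀ = m₀) (hm0 : m₀ ≠ 0)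
    (he : π' e₀ = e₀) (he0 : e₀ ≠ 0) (hmix : InI G (m₀ + e₀) (B m₀ + B' e₀)) :
    SPfull G (π + π') (B + B') ∧
      Module.finrank (ZMod p) ↥(LinearMap.range (π + π')) =
        Module.finrank (ZMod p) ↥(LinearMap.range π) +
          Module.finrank (ZMod p) ↥(LinearMap.range π') := by
  classical
  haveI : Module.Finite (ZMod p) V := Module.Finite.of_finite
  have hππ : ∀ y, π (π y) = π y := fun y => by
    have := congrArg (fun f : V →ₗ[ZMod p] V => f y) hS.idem
    simpa using this
  have hπ'π' : ∀ y, π' (π' y) = π' y := fun y => by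
    have := congrArg (fun f : V →ₗ[ZMod p] V => f y) hS'.idem
    simpa using this
  have hππ' : ∀ y, π (π' y) = 0 := fun y => by
    have := congrArg (fun f : V →ₗ[ZMod p] V => f y) h1
    simpa using this
  have hπ'π : ∀ y, π' (π y) = 0 := fun y => by
    have := congrArg (fun f : V →ₗ[ZMod p] V => f y) h2
    simpa using this
  -- the set `S`
  set S : Set V := {x | InI G x ((B + B') x)} with hSdef
  have hmove : ∀ x ∈ S, ∀ m, π m = m → ∀ c : ZMod p, x + (c * B m x) • m ∈ S :=
    fun x hx m hm c => EXTSPREAD.move hS hS' h2 hx hm c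
  have hmove' : ∀ x ∈ S, ∀ m, π' m = m → ∀ c : ZMod p, x + (c * B' m x) • m ∈ S := by
    intro x hx m hm c
    have hx' : InI G x ((B' + B) x) := by rw [add_comm]; exact hx
    have := EXTSPREAD.move hS' hS h1 hx' hm c
    show InI G _ ((B + B') _)
    rw [add_comm B B']
    exact this
  have hstart : m₀ + e₀ ∈ S := by
    show InI G (m₀ + e₀) ((B + B') (m₀ + e₀))
    have e : (B + B') (m₀ + e₀) = B m₀ + B' e₀ := by
      apply LinearMap.ext
      intro y
      have a1 : B e₀ y = 0 := by rw [← he]; exact EXTSPREAD.B_left_zero hS.Bπ h1 e₀ y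
      have a2 : B' m₀ y = 0 := by rw [← hm]; exact EXTSPREAD.B_left_zero hS'.Bπ h2 m₀ y
      simp only [LinearMap.add_apply, map_add, a1, a2]
      ring
    rw [e]; exact hmix
  have hfull : ∀ m, (π + π') m = m → InI G m ((B + B') m) := by
    intro m hmm
    rw [LinearMap.add_apply] at hmm
    by_cases hm1 : π m = 0
    · -- `m = π' m`
      rw [hm1, zero_add] at hmm
      have e : (B + B') m = B' m := by
        apply LinearMap.ext
        intro y
        have a1 : B m y = 0 := by rw [← hmm]; exact EXTSPREAD.B_left_zero hS.Bπ h1 m y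
        simp only [LinearMap.add_apply, a1, zero_add]
      rw [e]; exact hS'.full m hmm
    by_cases hm2 : π' m = 0
    · rw [hm2, add_zero] at hmm
      have e : (B + B') m = B m := by
        apply LinearMap.ext
        intro y
        have a1 : B' m y = 0 := by rw [← hmm]; exact EXTSPREAD.B_left_zero hS'.Bπ h2 m y
        simp only [LinearMap.add_apply, a1, add_zero]
      rw [e]; exact hS.full m hmm
    -- both components nonzero
    have hπx0 : π (m₀ + e₀) = m₀ := by rw [map_add, hm, ← he, hππ', add_zero]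
    have s1 : (m₀ + e₀) - π (m₀ + e₀) + π m ∈ S :=
      sp_orbit hS.idem hS.alt hS.Bπ hS.nondeg S hmove hstart (by rw [hπx0]; exact hm0)
        (hππ m) hm1
    rw [hπx0, add_sub_cancel_left] at s1
    have hπ'x1 : π' (e₀ + π m) = e₀ := by rw [map_add, he, hπ'π, add_zero]
    have s2 : (e₀ + π m) - π' (e₀ + π m) + π' m ∈ S :=
      sp_orbit hS'.idem hS'.alt hS'.Bπ hS'.nondeg S hmove' s1 (by rw [hπ'x1]; exact he0)
        (hπ'π' m) hm2
    rw [hπ'x1, add_sub_cancel_left, hmm] at s2
    exact s2
  refine ⟨⟨?_, ?_, ?_, ?_, hfull, ?_⟩, ?_⟩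
  · -- idempotent
    apply LinearMap.ext
    intro x
    simp only [LinearMap.comp_apply, LinearMap.add_apply, map_add, hππ, hπ'π', hππ', hπ'π]
    abel
  · -- alternating
    intro x
    rw [LinearMap.add_apply, LinearMap.add_apply, hS.alt x, hS'.alt x, add_zero]
  · -- factors through the projection
    intro x y
    simp only [LinearMap.add_apply, map_add, EXTSPREAD.B_left_zero hS.Bπ h1 x y,
      EXTSPREAD.B_left_zero hS'.Bπ h2 x y, hS.Bπ, hS'.Bπ]
    abel
  · -- nondegenerate
    intro m hmm hall
    rw [LinearMap.add_apply] at hmm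
    have k1 : π m = 0 := by
      apply hS.nondeg (π m) (hππ m)
      intro y
      have := hall (π y)
      simp only [LinearMap.add_apply] at this
      rw [EXTSPREAD.B_right hS.alt hS.Bπ, EXTSPREAD.B_right_zero hS'.alt hS'.Bπ h2, add_zero]
        at this
      rw [hS.Bπ]; exact this
    have k2 : π' m = 0 := by
      apply hS'.nondeg (π' m) (hπ'π' m)
      intro y
      have := hall (π' y)
      simp only [LinearMap.add_apply] at this
      rw [EXTSPREAD.B_right hS'.alt hS'.Bπ, EXTSPREAD.B_right_zero hS.alt hS.Bπ h1, zero_add]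
        at this
      rw [hS'.Bπ]; exact this
    rw [← hmm, k1, k2, add_zero]
  · -- the involution
    obtain ⟨z, hz, hzx⟩ := hS.z
    obtain ⟨z', hz', hzx'⟩ := hS'.z
    refine ⟨z * z', G.mul_mem hz hz', ?_⟩
    intro x
    rw [LinearEquiv.mul_apply, hzx, hzx', map_sub, map_smul, hππ', smul_zero, sub_zero,
      LinearMap.add_apply, smul_add]
    abel
  · -- dimensions
    have hrange : LinearMap.range (π + π') = LinearMap.range π ⊔ LinearMap.range π' := by
      apply le_antisymm
      · rintro _ ⟨x, rfl⟩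
        rw [LinearMap.add_apply]
        exact Submodule.add_mem _ (Submodule.mem_sup_left (LinearMap.mem_range_self π x))
          (Submodule.mem_sup_right (LinearMap.mem_range_self π' x))
      · apply sup_le
        · rintro _ ⟨x, rfl⟩
          exact ⟨π x, by rw [LinearMap.add_apply, hππ, hπ'π, add_zero]⟩
        · rintro _ ⟨x, rfl⟩
          exact ⟨π' x, by rw [LinearMap.add_apply, hππ', hπ'π', zero_add]⟩
    have hdisj : LinearMap.range π ⊓ LinearMap.range π' = ⊥ := by
      rw [Submodule.eq_bot_iff]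
      rintro v ⟨⟨a, rfl⟩, ⟨b, hb⟩⟩
      rw [← hππ a, ← hb, hππ']
    have := Submodule.finrank_sup_add_finrank_inf_eq (LinearMap.range π) (LinearMap.range π')
    rw [hdisj, finrank_bot, add_zero] at this
    rw [hrange, this]

end Cfsg.Agent.S5075P
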