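import Mathlib
import Cfsg.Prelude.Def_Solvable
import Cfsg.Agent.Helper4.McLDefs
import Cfsg.Agent.Helper16.BaerSuzuki
import Cfsg.Agent.Helper24.McLPGRP

set_option autoImplicit false

/-! S5075, piece OPP: if `O_p(H) = 1` then every transvection of `H` has an opposite one
(Baer–Suzuki). -/

namespace Cfsg.Agent.S5075P

variable {p : ℕ} [Fact p.Prime] {V : Type*} [AddCommGroup V] [Module (ZMod p) V]
variable {G : Subgroup (V ≃ₗ[ZMod p] V)}

/-! ### OPP  (uses PGRP) -/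
theorem exists_opp [Finite V] (hp : p ≠ 2) (H : Subgroup (V ≃ₗ[ZMod p] V))
    (hOp : Cfsg.pCore p ↥H = ⊥) (v : V) (φ : Module.Dual (ZMod p) V) (h : InI0 H v φ) :
    ∃ w ψ, InI H w ψ ∧ φ w ≠ 0 ∧ ψ v ≠ 0 := by
  classical
  by_contra hcon
  have hno : ∀ w ψ, InI H w ψ → φ w = 0 ∨ ψ v = 0 := by
    intro w ψ hI
    by_contra h2
    push Not at h2
    exact hcon ⟨w, ψ, hI, h2.1, h2.2⟩
  haveI : Finite (V ≃ₗ[ZMod p] V) :=
    Finite.of_injective (fun e : V ≃ₗ[ZMod p] V => (e : V → V)) DFunLike.coe_injective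
  obtain ⟨hI, hv0, hφ0⟩ := h
  set x : ↥H := ⟨tv v φ, hI.2⟩ with hx
  have hx1 : x ≠ 1 := by
    intro h1
    have h2 : tv v φ = 1 := congrArg Subtype.val h1
    rcases (tv_eq_one_iff hI.1).mp h2 with h3 | h3
    · exact hv0 h3
    · exact hφ0 h3
  have hBS : ∀ g : ↥H, IsPGroup p (Subgroup.closure ({x, g * x * g⁻¹} : Set ↥H)) := by
    intro g
    have hconj : InI H ((g : V ≃ₗ[ZMod p] V) v)
        (φ ∘ₗ ((g : V ≃ₗ[ZMod p] V).symm : V →ₗ[ZMod p] V)) := hI.conj g.2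
    have hK := isPGroup_closure_pair hp hI.1 hconj.1 (hno _ _ hconj)
    have hK' := hK.comap_of_injective H.subtype H.subtype_injective
    refine hK'.to_le ?_
    rw [Subgroup.closure_le]
    intro k hk
    rw [Set.mem_insert_iff, Set.mem_singleton_iff] at hk
    rw [SetLike.mem_coe, Subgroup.mem_comap]
    apply Subgroup.subset_closure
    rcases hk with rfl | rfl
    · left; rfl
    · right
      rw [Set.mem_singleton_iff, ← tv_conj]
      rfl
  have hmem := Cfsg.Agent.Helper16.baer_suzuki_elt p x hBS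
  have hle : (⨅ P : Sylow p ↥H, (P : Subgroup ↥H)) ≤ Cfsg.pCore p ↥H :=
    le_sSup ⟨Cfsg.Agent.Helper16.iInf_sylow_normal p, Cfsg.Agent.Helper16.iInf_sylow_isPGroup p⟩
  rw [hOp] at hle
  exact hx1 ((Subgroup.mem_bot).mp (hle hmem))

end Cfsg.Agent.S5075P
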