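import Mathlib
import Cfsg.Prelude.Def_Solvable
import Cfsg.Agent.Helper4.McLDefs

set_option autoImplicit false

/-! S5075, piece TVFORM: an element of order `p` of `GL(V)` (over `ZMod p`) fixing a hyperplane
pointwise is a transvection `tv v φ`. -/

namespace Cfsg.Agent.S5075P

variable {p : ℕ} [Fact p.Prime] {V : Type*} [AddCommGroup V] [Module (ZMod p) V]
variable {G : Subgroup (V ≃ₗ[ZMod p] V)}

/-! ### TVFORM -/
theorem tv_form [Finite V] (t : V ≃ₗ[ZMod p] V) (ho : orderOf t = p)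
    (hr : Module.finrank (ZMod p) ↥(LinearMap.ker ((t : V →ₗ[ZMod p] V) - LinearMap.id)) + 1 =
      Module.finrank (ZMod p) V) :
    ∃ (v : V) (φ : Module.Dual (ZMod p) V), v ≠ 0 ∧ φ ≠ 0 ∧ φ v = 0 ∧ t = tv v φ := by
  classical
  haveI : Module.Finite (ZMod p) V := Module.Finite.of_finite
  set f : V →ₗ[ZMod p] V := (t : V →ₗ[ZMod p] V) - LinearMap.id with hf
  have hfx : ∀ x, t x = x + f x := by
    intro x
    rw [hf, LinearMap.sub_apply, LinearMap.id_apply, LinearEquiv.coe_coe]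
    abel
  -- the range of `f` is a line
  have hrank : Module.finrank (ZMod p) ↥(LinearMap.range f) = 1 := by
    have := LinearMap.finrank_range_add_finrank_ker f
    omega
  obtain ⟨v0, hv0, hspan⟩ := finrank_eq_one_iff'.mp hrank
  have hv : (v0 : V) ≠ 0 := fun h => hv0 (Subtype.ext h)
  obtain ⟨x0, hx0⟩ : ∃ x0, f x0 = (v0 : V) := v0.2
  have hcoef : ∀ x, ∃ c : ZMod p, f x = c • (v0 : V) := by
    intro x
    obtain ⟨c, hc⟩ := hspan ⟨f x, LinearMap.mem_range_self f x⟩
    exact ⟨c, by rw [← Submodule.coe_smul, hc]⟩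
  -- a functional with `ℓ v ≠ 0`
  obtain ⟨ℓ, hℓ⟩ : ∃ ℓ : Module.Dual (ZMod p) V, ℓ (v0 : V) ≠ 0 := by
    by_contra hcon
    push Not at hcon
    exact hv ((Module.forall_dual_apply_eq_zero_iff (ZMod p) (v0 : V)).mp hcon)
  set φ : Module.Dual (ZMod p) V := (ℓ (v0 : V))⁻¹ • (ℓ ∘ₗ f) with hφ
  have hfφ : ∀ x, f x = φ x • (v0 : V) := by
    intro x
    obtain ⟨c, hc⟩ := hcoef x
    rw [hφ, LinearMap.smul_apply, LinearMap.comp_apply, hc, map_smul, smul_eq_mul, smul_eq_mul,
      mul_comm c, ← mul_assoc, inv_mul_cancel₀ hℓ, one_mul]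
  have hφ0 : φ ≠ 0 := by
    intro h
    apply hv
    rw [← hx0, hfφ x0, h, LinearMap.zero_apply, zero_smul]
  have htp : t ^ p = 1 := by
    have := pow_orderOf_eq_one t
    rwa [ho] at this
  have hφv : φ (v0 : V) = 0 := by
    have h1 : t (v0 : V) = (1 + φ (v0 : V)) • (v0 : V) := by
      rw [hfx, hfφ, add_smul, one_smul]
    have h2 : ∀ n : ℕ, (t ^ n) (v0 : V) = (1 + φ (v0 : V)) ^ n • (v0 : V) := by
      intro n
      induction n with
      | zero => simp
      | succ n ih =>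
        rw [pow_succ', LinearEquiv.mul_apply, ih, map_smul, h1, smul_smul, pow_succ]
    have h3 := h2 p
    rw [htp, ZMod.pow_card, LinearEquiv.coe_one, id_eq] at h3
    have h4 : φ (v0 : V) • (v0 : V) = 0 := by
      rw [add_smul, one_smul] at h3
      exact left_eq_add.mp h3
    rcases smul_eq_zero.mp h4 with h5 | h5
    · exact h5
    · exact absurd h5 hv
  refine ⟨(v0 : V), φ, hv, hφ0, hφv, ?_⟩
  apply LinearEquiv.ext
  intro x
  rw [tv_apply hφv, hfx, hfφ]

end Cfsg.Agent.S5075P
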