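import Mathlib
import Cfsg.Prelude.Def_OddOrderLocal

/-! Metacyclic `p`-groups, `p` odd: generators `a, b` with `⟨a⟩` normal, `b a b⁻¹ = a ^ u`,
the centralizer `C = C_G(a)`, the commutator map `C → G'`, and `|G : Z(G)| = |G'|²`. -/

namespace Cfsg.Agent.Helper19.Metacyclic

open Subgroup

/-- LTE for `p` odd: `p^m ∣ u^(p^s) - 1 ↔ p^(m-s) ∣ u - 1` when `p ∣ u - 1`. -/
theorem lte_pow_prime_pow (p : ℕ) (hp : p.Prime) (hp2 : p ≠ 2) (u : ℤ) (hu : (p : ℤ) ∣ u - 1)
    (m s : ℕ) : (p : ℤ) ^ m ∣ u ^ (p ^ s) - 1 ↔ (p : ℤ) ^ (m - s) ∣ u - 1 := by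
  have hodd : Odd p := hp.eq_two_or_odd'.resolve_left hp2
  have hpu : ¬ (p : ℤ) ∣ u := by
    intro h
    have h1 : (p : ℤ) ∣ 1 := by
      have := dvd_sub h hu
      simpa using this
    have := Int.eq_one_of_dvd_one (by positivity) h1
    have hp1 := hp.one_lt
    omega
  have hlte := Int.emultiplicity_pow_sub_pow hp hodd (x := u) (y := 1) (by simpa using hu) hpu
    (p ^ s)
  rw [one_pow, Nat.Prime.emultiplicity_pow_self hp] at hlte
  rw [pow_dvd_iff_le_emultiplicity, pow_dvd_iff_le_emultiplicity, hlte]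
  by_cases htop : emultiplicity (p : ℤ) (u - 1) = ⊤
  · rw [htop]; simp
  · obtain ⟨k, hk⟩ := ENat.ne_top_iff_exists.mp htop
    rw [← hk]
    norm_cast
    omega

variable {G : Type*} [Group G]

/-- Generators of a metacyclic group. -/
theorem exists_gens (hmc : Cfsg.IsMetacyclic G) :
    ∃ a b : G, (zpowers a).Normal ∧ ∀ g : G, ∃ i j : ℤ, g = a ^ i * b ^ j := by
  obtain ⟨N, hNn, hNc, hQc⟩ := hmc
  obtain ⟨a, ha⟩ := (Subgroup.isCyclic_iff_exists_zpowers_eq_top N).mp hNc
  obtain ⟨q, hq⟩ := hQc.exists_generator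
  obtain ⟨b, rfl⟩ := QuotientGroup.mk_surjective q
  refine ⟨a, b, ha ▸ hNn, fun g => ?_⟩
  obtain ⟨j, hj⟩ := mem_zpowers_iff.mp (hq (g : G ⧸ N))
  have h1 : g * (b ^ j)⁻¹ ∈ N := by
    rw [← QuotientGroup.eq_one_iff, QuotientGroup.mk_mul, QuotientGroup.mk_inv,
      QuotientGroup.mk_zpow, hj, mul_inv_cancel]
  rw [← ha] at h1
  obtain ⟨i, hi⟩ := mem_zpowers_iff.mp h1
  exact ⟨i, j, by rw [hi]; group⟩

section Setup

variable (a b : G) (u : ℤ) (hconj : b * a * b⁻¹ = a ^ u)
  (hgen : ∀ g : G, ∃ i j : ℤ, g = a ^ i * b ^ j)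

include hconj in
theorem conj_npow (k : ℕ) : b ^ k * a * (b ^ k)⁻¹ = a ^ (u ^ k) := by
  induction k with
  | zero => simp
  | succ k ih =>
    calc b ^ (k + 1) * a * (b ^ (k + 1))⁻¹ = b * (b ^ k * a * (b ^ k)⁻¹) * b⁻¹ := by
          rw [pow_succ']; group
      _ = b * a ^ (u ^ k) * b⁻¹ := by rw [ih]
      _ = (b * a * b⁻¹) ^ (u ^ k) := by rw [conj_zpow]
      _ = a ^ (u ^ (k + 1)) := by rw [hconj, ← zpow_mul, pow_succ']

include hconj in
theorem conj_zpow_a (i : ℤ) : b * a ^ i * b⁻¹ = a ^ (u * i) := by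
  rw [← conj_zpow, hconj, ← zpow_mul]

/-- membership in `C = C_G(⟨a⟩)`. -/
theorem mem_cent_iff (c : G) : c ∈ centralizer (zpowers a : Set G) ↔ c * a = a * c := by
  rw [mem_centralizer_iff]
  constructor
  · intro h
    exact (h a (mem_zpowers a)).symm
  · intro h x hx
    obtain ⟨i, rfl⟩ := mem_zpowers_iff.mp hx
    have : Commute c a := h
    exact (this.zpow_right i).eq.symm

theorem zpow_a_mem_cent (i : ℤ) : a ^ i ∈ centralizer (zpowers a : Set G) := by
  rw [mem_cent_iff]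
  exact ((Commute.refl a).zpow_left i).eq

include hgen in
/-- `C` is abelian. -/
theorem cent_comm (c c' : G) (hc : c ∈ centralizer (zpowers a : Set G))
    (hc' : c' ∈ centralizer (zpowers a : Set G)) : c * c' = c' * c := by
  obtain ⟨i, j, rfl⟩ := hgen c
  obtain ⟨k, l, rfl⟩ := hgen c'
  have hbj : b ^ j ∈ centralizer (zpowers a : Set G) := by
    have : b ^ j = (a ^ i)⁻¹ * (a ^ i * b ^ j) := by group
    rw [this]
    exact mul_mem (inv_mem (zpow_a_mem_cent a i)) hc
  have hbl : b ^ l ∈ centralizer (zpowers a : Set G) := by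
    have : b ^ l = (a ^ k)⁻¹ * (a ^ k * b ^ l) := by group
    rw [this]
    exact mul_mem (inv_mem (zpow_a_mem_cent a k)) hc'
  have h1 : Commute (a ^ i) (a ^ k) := (Commute.refl a).zpow_zpow i k
  have h2 : Commute (b ^ j) (b ^ l) := (Commute.refl b).zpow_zpow j l
  have h3 : Commute (b ^ j) (a ^ k) := by
    have : Commute (b ^ j) a := (mem_cent_iff a _).mp hbj
    exact this.zpow_right k
  have h4 : Commute (a ^ i) (b ^ l) := by
    have : Commute (b ^ l) a := (mem_cent_iff a _).mp hbl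
    exact (this.zpow_right i).symm
  exact ((h1.mul_right h4).mul_left (h3.mul_right h2)).eq

include hgen in
/-- `Z(G) = C ∩ C_G(b)`. -/
theorem mem_center_iff' (z : G) :
    z ∈ center G ↔ z ∈ centralizer (zpowers a : Set G) ∧ z * b = b * z := by
  constructor
  · intro hz
    rw [mem_center_iff] at hz
    exact ⟨(mem_cent_iff a z).mpr (hz a).symm, (hz b).symm⟩
  · rintro ⟨h1, h2⟩
    rw [mem_center_iff]
    intro g
    obtain ⟨i, j, rfl⟩ := hgen g
    have h3 : Commute z a := (mem_cent_iff a z).mp h1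
    have h4 : Commute z b := h2
    exact ((h3.zpow_right i).mul_right (h4.zpow_right j)).eq.symm

end Setup

section Main

variable (a b : G) (u : ℤ) (hconj : b * a * b⁻¹ = a ^ u)
  (hgen : ∀ g : G, ∃ i j : ℤ, g = a ^ i * b ^ j)

include hconj in
/-- `a ^ (1 - u) = [a, b]`. -/
theorem zpow_one_sub_eq : a ^ (1 - u) = a * b * a⁻¹ * b⁻¹ := by
  have h1 : a * b * a⁻¹ * b⁻¹ = a * (b * a * b⁻¹)⁻¹ := by group
  rw [h1, hconj, zpow_sub, zpow_one]

/-- subgroups of `⟨a⟩` generated by a power are normal when `⟨a⟩` is. -/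
theorem zpowers_zpow_normal [hn : (zpowers a).Normal] (w : ℤ) : (zpowers (a ^ w)).Normal := by
  constructor
  intro t ht g
  obtain ⟨k, rfl⟩ := mem_zpowers_iff.mp ht
  have h1 : g * a * g⁻¹ ∈ zpowers a := hn.conj_mem a (mem_zpowers a) g
  obtain ⟨v, hv⟩ := mem_zpowers_iff.mp h1
  rw [mem_zpowers_iff]
  refine ⟨v * k, ?_⟩
  calc (a ^ w) ^ (v * k) = (a ^ v) ^ (w * k) := by
        rw [← zpow_mul, ← zpow_mul]; congr 1; ring
    _ = (g * a * g⁻¹) ^ (w * k) := by rw [hv]
    _ = g * a ^ (w * k) * g⁻¹ := by rw [conj_zpow]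
    _ = g * (a ^ w) ^ k * g⁻¹ := by rw [zpow_mul]

include hconj hgen in
/-- `G' = ⟨a ^ (1 - u)⟩`. -/
theorem commutator_eq [hn : (zpowers a).Normal] : commutator G = zpowers (a ^ (1 - u)) := by
  apply le_antisymm
  · haveI hT : (zpowers (a ^ (1 - u))).Normal := zpowers_zpow_normal a (1 - u)
    have hab : Commute ((a : G) : G ⧸ zpowers (a ^ (1 - u))) ((b : G) : G ⧸ zpowers (a ^ (1 - u))) := by
      show ((a : G) : G ⧸ zpowers (a ^ (1 - u))) * (b : G) = (b : G) * (a : G)
      rw [← QuotientGroup.mk_mul, ← QuotientGroup.mk_mul, QuotientGroup.eq]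
      have : (a * b)⁻¹ * (b * a) = (b * a)⁻¹ * (a * b * a⁻¹ * b⁻¹)⁻¹ * ((b * a)⁻¹)⁻¹ := by group
      rw [this, ← zpow_one_sub_eq a b u hconj]
      exact hT.conj_mem _ (inv_mem (mem_zpowers (a ^ (1 - u)))) (b * a)⁻¹
    letI : CommGroup (G ⧸ zpowers (a ^ (1 - u))) :=
      { (inferInstance : Group (G ⧸ zpowers (a ^ (1 - u)))) with
        mul_comm := by
          intro x y
          obtain ⟨g, rfl⟩ := QuotientGroup.mk_surjective x
          obtain ⟨h, rfl⟩ := QuotientGroup.mk_surjective y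
          obtain ⟨i, j, rfl⟩ := hgen g
          obtain ⟨k, l, rfl⟩ := hgen h
          simp only [QuotientGroup.mk_mul, QuotientGroup.mk_zpow]
          have h1 := (Commute.refl ((a : G) : G ⧸ zpowers (a ^ (1 - u)))).zpow_zpow i k
          have h2 := (Commute.refl ((b : G) : G ⧸ zpowers (a ^ (1 - u)))).zpow_zpow j l
          have h3 := hab.symm.zpow_zpow j k
          have h4 := hab.zpow_zpow i l
          exact ((h1.mul_right h4).mul_left (h3.mul_right h2)).eq }
    have := Abelianization.commutator_subset_ker (QuotientGroup.mk' (zpowers (a ^ (1 - u))))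
    rwa [QuotientGroup.ker_mk'] at this
  · rw [zpowers_le, zpow_one_sub_eq a b u hconj, _root_.commutator_def]
    exact Subgroup.commutator_mem_commutator (mem_top a) (mem_top b)

include hconj hgen in
/-- `|C : Z(G)| = |G'|` where `C = C_G(a)`. -/
theorem relIndex_center [hn : (zpowers a).Normal] :
    (center G).relIndex (centralizer (zpowers a : Set G)) = Nat.card (zpowers (a ^ (1 - u))) := by
  have hCn : (centralizer (zpowers a : Set G)).Normal := normal_centralizer
  letI : CommGroup ↥(centralizer (zpowers a : Set G)) :=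
    { (inferInstance : Group ↥(centralizer (zpowers a : Set G))) with
      mul_comm := fun c c' => Subtype.ext (cent_comm a b hgen c c' c.2 c'.2) }
  let ι : ↥(centralizer (zpowers a : Set G)) →* ↥(centralizer (zpowers a : Set G)) :=
    { toFun := fun c => ⟨b * c * b⁻¹, hCn.conj_mem c c.2 b⟩
      map_one' := by ext; simp
      map_mul' := fun c c' => by ext; simp }
  let κ : ↥(centralizer (zpowers a : Set G)) →* ↥(centralizer (zpowers a : Set G)) :=
    MonoidHom.id _ / ι
  have hκ : ∀ c : ↥(centralizer (zpowers a : Set G)),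
      ((κ c : ↥(centralizer (zpowers a : Set G))) : G) = c * b * (c : G)⁻¹ * b⁻¹ := by
    intro c
    have : κ c = c / ι c := rfl
    rw [this, div_eq_mul_inv]
    show (c : G) * (b * (c : G) * b⁻¹)⁻¹ = _
    group
  have hker : κ.ker = (center G).subgroupOf (centralizer (zpowers a : Set G)) := by
    ext c
    rw [MonoidHom.mem_ker, mem_subgroupOf, mem_center_iff' a b hgen]
    constructor
    · intro h
      refine ⟨c.2, ?_⟩
      have h1 := congrArg Subtype.val h
      rw [hκ] at h1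
      have h2 : (c : G) * b * (c : G)⁻¹ * b⁻¹ = 1 := h1
      rw [mul_inv_eq_one, mul_inv_eq_iff_eq_mul] at h2
      exact h2
    · rintro ⟨-, h⟩
      apply Subtype.ext
      rw [hκ]
      show (c : G) * b * (c : G)⁻¹ * b⁻¹ = 1
      rw [mul_inv_eq_one, mul_inv_eq_iff_eq_mul]
      exact h
  have hrange : κ.range.map (centralizer (zpowers a : Set G)).subtype = zpowers (a ^ (1 - u)) := by
    apply le_antisymm
    · rintro x ⟨y, ⟨c, rfl⟩, rfl⟩
      rw [← commutator_eq a b u hconj hgen, _root_.commutator_def]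
      show ((κ c : ↥(centralizer (zpowers a : Set G))) : G) ∈ _
      rw [hκ]
      exact Subgroup.commutator_mem_commutator (mem_top (c : G)) (mem_top b)
    · rw [zpowers_le]
      refine ⟨κ ⟨a, (mem_cent_iff a a).mpr rfl⟩, ⟨_, rfl⟩, ?_⟩
      show ((κ ⟨a, _⟩ : ↥(centralizer (zpowers a : Set G))) : G) = _
      rw [hκ, zpow_one_sub_eq a b u hconj]
  have h1 : κ.ker.index = Nat.card κ.range := Subgroup.index_ker κ
  rw [hker] at h1
  rw [Subgroup.relIndex, h1, ← hrange,
    Subgroup.card_map_of_injective (centralizer (zpowers a : Set G)).subtype_injective]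

omit [Group G] in
/-- `p^m ∣ x * p^s ↔ p^(m-s) ∣ x`. -/
theorem pow_dvd_mul_pow_iff (p : ℕ) (hp : p.Prime) (m s : ℕ) (x : ℤ) :
    (p : ℤ) ^ m ∣ x * (p : ℤ) ^ s ↔ (p : ℤ) ^ (m - s) ∣ x := by
  by_cases h : s ≤ m
  · have : (p : ℤ) ^ m = (p : ℤ) ^ (m - s) * (p : ℤ) ^ s := by
      rw [← pow_add]; congr 1; omega
    rw [this]
    exact mul_dvd_mul_iff_right (pow_ne_zero _ (by exact_mod_cast hp.ne_zero))
  · push Not at h
    have h0 : m - s = 0 := by omega
    rw [h0, pow_zero]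
    constructor
    · intro _; exact one_dvd _
    · intro _
      exact Dvd.dvd.mul_left (pow_dvd_pow _ h.le) x

include hconj hgen in
/-- `|G : C_G(a)| = |G'|` for `p` odd. -/
theorem index_cent [Finite G] {p : ℕ} [Fact p.Prime] (hp2 : p ≠ 2) (hG : IsPGroup p G)
    [hn : (zpowers a).Normal] :
    (centralizer (zpowers a : Set G)).index = Nat.card (zpowers (a ^ (1 - u))) := by
  have hp : p.Prime := Fact.out
  have hCn : (centralizer (zpowers a : Set G)).Normal := normal_centralizer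
  have hgenQ : ∀ x : G ⧸ centralizer (zpowers a : Set G),
      x ∈ zpowers ((b : G) : G ⧸ centralizer (zpowers a : Set G)) := by
    intro x
    obtain ⟨g, rfl⟩ := QuotientGroup.mk_surjective x
    obtain ⟨i, j, rfl⟩ := hgen g
    rw [mem_zpowers_iff]
    refine ⟨j, ?_⟩
    rw [QuotientGroup.mk_mul, (QuotientGroup.eq_one_iff (a ^ i)).mpr (zpow_a_mem_cent a i),
      one_mul, QuotientGroup.mk_zpow]
  rw [index_eq_card, ← orderOf_eq_card_of_forall_mem_zpowers hgenQ, Nat.card_zpowers]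
  by_cases ha1 : a = 1
  · subst ha1
    have hb : ((b : G) : G ⧸ centralizer (zpowers (1 : G) : Set G)) = 1 := by
      rw [QuotientGroup.eq_one_iff, mem_cent_iff]
      simp
    rw [hb, orderOf_one, one_zpow, orderOf_one]
  obtain ⟨m, hm⟩ := (IsPGroup.iff_orderOf.mp hG) a
  obtain ⟨N, hN⟩ := (IsPGroup.iff_orderOf.mp hG) b
  have hm1 : 1 ≤ m := by
    by_contra h
    have : m = 0 := by omega
    rw [this, pow_zero, orderOf_eq_one_iff] at hm
    exact ha1 hm
  have hpow : ∀ k : ℕ, ((b : G) : G ⧸ centralizer (zpowers a : Set G)) ^ k = 1 ↔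
      (p : ℤ) ^ m ∣ u ^ k - 1 := by
    intro k
    rw [← QuotientGroup.mk_pow, QuotientGroup.eq_one_iff, mem_cent_iff, ← mul_inv_eq_iff_eq_mul,
      conj_npow a b u hconj k]
    nth_rewrite 2 [← zpow_one a]
    rw [zpow_eq_zpow_iff_modEq, hm, Int.modEq_iff_dvd]
    push_cast
    rw [← dvd_neg, neg_sub]
  have hu1 : (p : ℤ) ∣ u - 1 := by
    have h1 : ((b : G) : G ⧸ centralizer (zpowers a : Set G)) ^ (p ^ N) = 1 := by
      rw [← QuotientGroup.mk_pow, ← hN, pow_orderOf_eq_one, QuotientGroup.mk_one]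
    rw [hpow] at h1
    have h2 : (p : ℤ) ∣ u ^ (p ^ N) - 1 := dvd_trans (dvd_pow_self _ (by omega)) h1
    rw [← ZMod.intCast_zmod_eq_zero_iff_dvd] at h2 ⊢
    push_cast at h2 ⊢
    rw [ZMod.pow_card_pow] at h2
    exact h2
  have htpow : ∀ s : ℕ, (a ^ (1 - u)) ^ (p ^ s) = 1 ↔ (p : ℤ) ^ (m - s) ∣ u - 1 := by
    intro s
    rw [← zpow_natCast, ← zpow_mul, ← orderOf_dvd_iff_zpow_eq_one, hm]
    push_cast
    rw [pow_dvd_mul_pow_iff p hp, ← dvd_neg, neg_sub]
  have hbpow : ∀ s : ℕ, ((b : G) : G ⧸ centralizer (zpowers a : Set G)) ^ (p ^ s) = 1 ↔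
      (p : ℤ) ^ (m - s) ∣ u - 1 := by
    intro s
    rw [hpow, lte_pow_prime_pow p hp hp2 u hu1]
  obtain ⟨e, he⟩ := (IsPGroup.iff_orderOf.mp hG) (a ^ (1 - u))
  have hQ : IsPGroup p (G ⧸ centralizer (zpowers a : Set G)) := hG.to_quotient _
  obtain ⟨e', he'⟩ := (IsPGroup.iff_orderOf.mp hQ)
    ((b : G) : G ⧸ centralizer (zpowers a : Set G))
  rw [he, he']
  congr 1
  apply le_antisymm
  · have h1 : (a ^ (1 - u)) ^ (p ^ e) = 1 := by rw [← he]; exact pow_orderOf_eq_one _
    have h2 := (hbpow e).mpr ((htpow e).mp h1)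
    have h3 := orderOf_dvd_of_pow_eq_one h2
    rw [he'] at h3
    exact (Nat.pow_dvd_pow_iff_le_right hp.one_lt).mp h3
  · have h1 : ((b : G) : G ⧸ centralizer (zpowers a : Set G)) ^ (p ^ e') = 1 := by
      rw [← he']; exact pow_orderOf_eq_one _
    have h2 := (htpow e').mpr ((hbpow e').mp h1)
    have h3 := orderOf_dvd_of_pow_eq_one h2
    rw [he] at h3
    exact (Nat.pow_dvd_pow_iff_le_right hp.one_lt).mp h3

include hconj hgen in
/-- `|G : Z(G)| = |G'|²` for a metacyclic `p`-group, `p` odd. -/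
theorem index_center_eq [Finite G] {p : ℕ} [Fact p.Prime] (hp2 : p ≠ 2) (hG : IsPGroup p G)
    [hn : (zpowers a).Normal] :
    (center G).index = Nat.card (commutator G) ^ 2 := by
  have hle : center G ≤ centralizer (zpowers a : Set G) := center_le_centralizer _
  rw [← relIndex_mul_index hle, relIndex_center a b u hconj hgen,
    index_cent a b u hconj hgen hp2 hG, commutator_eq a b u hconj hgen, pow_two]

end Main

end Cfsg.Agent.Helper19.Metacyclic
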