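import Mathlib
import Cfsg.Agent.Helper19.Metacyclic

/-! Metacyclic `p`-groups, `p` odd: coordinates, the commutator formula, and the derived subgroup
of a maximal subgroup. -/

namespace Cfsg.Agent.Helper19.Metacyclic

open Subgroup
open scoped commutatorElement

variable {G : Type*} [Group G]

/-- geometric sums are congruent to the number of terms. -/
theorem geom_sum_modEq (p : ℕ) (u : ℤ) (hu : (p : ℤ) ∣ u - 1) (l : ℕ) :
    (∑ t ∈ Finset.range l, u ^ t) ≡ (l : ℤ) [ZMOD (p : ℤ)] := by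
  have hu' : u ≡ 1 [ZMOD (p : ℤ)] := (Int.modEq_iff_dvd.mpr hu).symm
  induction l with
  | zero => simp
  | succ l ih =>
    rw [Finset.sum_range_succ]
    push_cast
    have := (hu'.pow l)
    rw [one_pow] at this
    exact ih.add this

section Coord

variable (a b : G) (u : ℤ) (hconj : b * a * b⁻¹ = a ^ u)

include hconj in
theorem npow_b_mul_zpow_a (j : ℕ) (k : ℤ) : b ^ j * a ^ k = a ^ (k * u ^ j) * b ^ j := by
  have h := conj_npow a b u hconj j
  have h2 : b ^ j * a ^ k * (b ^ j)⁻¹ = a ^ (k * u ^ j) := by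
    rw [← conj_zpow, h, ← zpow_mul, mul_comm]
  rw [← h2]
  group

include hconj in
/-- the commutator formula in coordinates. -/
theorem comm_formula (i k : ℤ) (j l : ℕ) :
    ⁅a ^ i * b ^ j, a ^ k * b ^ l⁆ = a ^ (i * (1 - u ^ l) - k * (1 - u ^ j)) := by
  have hgh : (a ^ i * b ^ j) * (a ^ k * b ^ l) = a ^ (i + k * u ^ j) * b ^ (j + l) := by
    rw [mul_assoc (a ^ i), ← mul_assoc (b ^ j), npow_b_mul_zpow_a a b u hconj, mul_assoc,
      ← pow_add, ← mul_assoc, ← zpow_add]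
  have hhg : (a ^ k * b ^ l) * (a ^ i * b ^ j) = a ^ (k + i * u ^ l) * b ^ (j + l) := by
    rw [mul_assoc (a ^ k), ← mul_assoc (b ^ l), npow_b_mul_zpow_a a b u hconj, mul_assoc,
      ← pow_add, ← mul_assoc, ← zpow_add, add_comm l j]
  have h1 : ⁅a ^ i * b ^ j, a ^ k * b ^ l⁆ =
      ((a ^ i * b ^ j) * (a ^ k * b ^ l)) * ((a ^ k * b ^ l) * (a ^ i * b ^ j))⁻¹ := by
    rw [commutatorElement_def]; group
  rw [h1, hgh, hhg]
  have h2 : a ^ (i + k * u ^ j) * b ^ (j + l) * (a ^ (k + i * u ^ l) * b ^ (j + l))⁻¹ =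
      a ^ (i + k * u ^ j) * (a ^ (k + i * u ^ l))⁻¹ := by group
  rw [h2, ← zpow_neg, ← zpow_add]
  congr 1
  ring

include hconj in
/-- the commutator formula via geometric sums. -/
theorem comm_formula' (i k : ℤ) (j l : ℕ) :
    ⁅a ^ i * b ^ j, a ^ k * b ^ l⁆ =
      (a ^ (1 - u)) ^ (i * (∑ t ∈ Finset.range l, u ^ t) - k * (∑ t ∈ Finset.range j, u ^ t)) := by
  rw [comm_formula a b u hconj, ← zpow_mul]
  congr 1
  have h1 := mul_neg_geom_sum u l
  have h2 := mul_neg_geom_sum u j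
  rw [← h1, ← h2]
  ring

/-- natural-number exponents for `b`. -/
theorem hgen_nat [Finite G] (hgen : ∀ g : G, ∃ i j : ℤ, g = a ^ i * b ^ j) (g : G) :
    ∃ (i : ℤ) (j : ℕ), g = a ^ i * b ^ j := by
  obtain ⟨i, j, rfl⟩ := hgen g
  refine ⟨i, (j % (orderOf b : ℤ)).toNat, ?_⟩
  have hpos : (0 : ℤ) < orderOf b := by exact_mod_cast orderOf_pos b
  have h1 : ((j % (orderOf b : ℤ)).toNat : ℤ) = j % (orderOf b : ℤ) :=
    Int.toNat_of_nonneg (Int.emod_nonneg _ hpos.ne')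
  rw [← zpow_natCast b, h1, zpow_mod_orderOf]

include hconj in
/-- `p ∣ u - 1` in a `p`-group. -/
theorem dvd_sub_one [Finite G] {p : ℕ} [Fact p.Prime] (hG : IsPGroup p G) (ha1 : a ≠ 1) :
    (p : ℤ) ∣ u - 1 := by
  obtain ⟨m, hm⟩ := (IsPGroup.iff_orderOf.mp hG) a
  obtain ⟨N, hN⟩ := (IsPGroup.iff_orderOf.mp hG) b
  have hm1 : m ≠ 0 := by
    rintro rfl
    rw [pow_zero, orderOf_eq_one_iff] at hm
    exact ha1 hm
  have h1 := conj_npow a b u hconj (p ^ N)
  rw [← hN, pow_orderOf_eq_one] at h1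
  have h2 : a ^ (u ^ orderOf b) = a ^ (1 : ℤ) := by
    rw [← h1]; simp
  rw [zpow_eq_zpow_iff_modEq, hm, hN, Int.modEq_iff_dvd] at h2
  push_cast at h2
  have h3 : (p : ℤ) ∣ 1 - u ^ p ^ N := dvd_trans (dvd_pow_self _ hm1) h2
  rw [← ZMod.intCast_zmod_eq_zero_iff_dvd] at h3 ⊢
  push_cast at h3 ⊢
  rw [ZMod.pow_card_pow] at h3
  rw [← neg_eq_zero, neg_sub]
  exact h3

end Coord

section Maximal

variable (a b : G) (u : ℤ) (hconj : b * a * b⁻¹ = a ^ u)
  (hgen : ∀ g : G, ∃ i j : ℤ, g = a ^ i * b ^ j)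

include hconj in
/-- orders of `a ^ (1 - u ^ p)` vs `a ^ (1 - u)`. -/
theorem orderOf_zpow_one_sub_pow [Finite G] {p : ℕ} [Fact p.Prime] (hp2 : p ≠ 2)
    (hG : IsPGroup p G) (e : ℕ) (he : orderOf (a ^ (1 - u)) = p ^ (e + 1)) :
    orderOf (a ^ (1 - u ^ p)) = p ^ e := by
  have hp : p.Prime := Fact.out
  have ha1 : a ≠ 1 := by
    rintro rfl
    rw [one_zpow, orderOf_one] at he
    have := Nat.one_lt_pow (Nat.succ_ne_zero e) hp.one_lt
    rw [← he] at this
    exact lt_irrefl _ this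
  have hu1 := dvd_sub_one a b u hconj hG ha1
  obtain ⟨m, hm⟩ := (IsPGroup.iff_orderOf.mp hG) a
  have h1 : ∀ s : ℕ, (a ^ (1 - u)) ^ (p ^ s) = 1 ↔ (p : ℤ) ^ (m - s) ∣ u - 1 := by
    intro s
    rw [← zpow_natCast, ← zpow_mul, ← orderOf_dvd_iff_zpow_eq_one, hm]
    push_cast
    rw [pow_dvd_mul_pow_iff p hp, ← dvd_neg, neg_sub]
  have h2 : ∀ s : ℕ, (a ^ (1 - u ^ p)) ^ (p ^ s) = 1 ↔ (p : ℤ) ^ (m - s - 1) ∣ u - 1 := by
    intro s
    rw [← zpow_natCast, ← zpow_mul, ← orderOf_dvd_iff_zpow_eq_one, hm]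
    push_cast
    rw [pow_dvd_mul_pow_iff p hp, ← dvd_neg, neg_sub]
    have := lte_pow_prime_pow p hp hp2 u hu1 (m - s) 1
    rw [pow_one] at this
    exact this
  obtain ⟨f, hf⟩ := (IsPGroup.iff_orderOf.mp hG) (a ^ (1 - u ^ p))
  rw [hf]
  congr 1
  apply le_antisymm
  · have h3 : (a ^ (1 - u)) ^ (p ^ (e + 1)) = 1 := by rw [← he]; exact pow_orderOf_eq_one _
    have h4 : (a ^ (1 - u ^ p)) ^ (p ^ e) = 1 := by
      rw [h2]
      have := (h1 (e + 1)).mp h3
      have h5 : m - e - 1 = m - (e + 1) := by omega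
      rw [h5]; exact this
    have h6 := orderOf_dvd_of_pow_eq_one h4
    rw [hf] at h6
    exact (Nat.pow_dvd_pow_iff_le_right hp.one_lt).mp h6
  · have h3 : (a ^ (1 - u ^ p)) ^ (p ^ f) = 1 := by rw [← hf]; exact pow_orderOf_eq_one _
    have h4 : (a ^ (1 - u)) ^ (p ^ (f + 1)) = 1 := by
      rw [h1]
      have := (h2 f).mp h3
      have h5 : m - f - 1 = m - (f + 1) := by omega
      rw [← h5]; exact this
    have h6 := orderOf_dvd_of_pow_eq_one h4
    rw [he] at h6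
    have := (Nat.pow_dvd_pow_iff_le_right hp.one_lt).mp h6
    omega

include hconj hgen in
/-- The derived subgroup of a maximal subgroup has index `p` in `G'`. -/
theorem card_commutator_maximal [Finite G] {p : ℕ} [Fact p.Prime] (hp2 : p ≠ 2)
    (hG : IsPGroup p G) [hn : (zpowers a).Normal] (hna : a ^ (1 - u) ≠ 1)
    (M : Subgroup G) (hM : M.index = p) :
    Nat.card (commutator ↥M) * p = Nat.card (commutator G) := by
  classical
  have hp : p.Prime := Fact.out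
  have ha1 : a ≠ 1 := by
    rintro rfl
    exact hna (one_zpow _)
  have hu1 := dvd_sub_one a b u hconj hG ha1
  -- M is normal
  haveI hMn : M.Normal := by
    apply normal_of_index_eq_minFac_card
    obtain ⟨k, hk⟩ := IsPGroup.iff_card.mp hG
    have hk0 : k ≠ 0 := by
      rintro rfl
      rw [pow_zero] at hk
      have h1 := M.index_dvd_card
      rw [hk, hM] at h1
      exact hp.one_lt.ne' (Nat.dvd_one.mp h1)
    rw [hM, hk, hp.pow_minFac hk0]
  -- the quotient is cyclic of order p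
  have hQcard : Nat.card (G ⧸ M) = p := by rw [← index_eq_card, hM]
  haveI hQc : IsCyclic (G ⧸ M) := isCyclic_of_prime_card hQcard
  obtain ⟨q, hq⟩ := hQc.exists_generator
  have hqord : orderOf q = p := by
    rw [orderOf_eq_card_of_forall_mem_zpowers hq, hQcard]
  obtain ⟨α, hα⟩ := mem_zpowers_iff.mp (hq ((a : G) : G ⧸ M))
  obtain ⟨β, hβ⟩ := mem_zpowers_iff.mp (hq ((b : G) : G ⧸ M))
  have hmem : ∀ (i : ℤ) (j : ℕ), a ^ i * b ^ j ∈ M ↔ (p : ℤ) ∣ α * i + β * j := by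
    intro i j
    rw [← QuotientGroup.eq_one_iff, QuotientGroup.mk_mul, QuotientGroup.mk_zpow,
      QuotientGroup.mk_pow, ← hα, ← hβ, ← zpow_mul, ← zpow_natCast, ← zpow_mul, ← zpow_add,
      ← orderOf_dvd_iff_zpow_eq_one, hqord]
  have hαβ : ¬ ((p : ℤ) ∣ α ∧ (p : ℤ) ∣ β) := by
    rintro ⟨h1, h2⟩
    have htop : M = ⊤ := by
      rw [eq_top_iff]
      intro g _
      obtain ⟨i, j, rfl⟩ := hgen_nat a b hgen g
      rw [hmem]
      exact dvd_add (Dvd.dvd.mul_right h1 _) (Dvd.dvd.mul_right h2 _)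
    rw [htop, index_top] at hM
    exact hp.one_lt.ne hM
  obtain ⟨e', he'⟩ := (IsPGroup.iff_orderOf.mp hG) (a ^ (1 - u))
  have he0 : e' ≠ 0 := by
    rintro rfl
    rw [pow_zero, orderOf_eq_one_iff] at he'
    exact hna he'
  obtain ⟨e, rfl⟩ := Nat.exists_eq_succ_of_ne_zero he0
  have hTcard : Nat.card (zpowers ((a ^ (1 - u)) ^ p)) = p ^ e := by
    rw [Nat.card_zpowers, orderOf_pow_of_dvd hp.ne_zero (by rw [he']; exact dvd_pow_self p he0),
      he', Nat.succ_eq_add_one, pow_succ, Nat.mul_div_cancel _ hp.pos]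
  -- upper bound
  have hU : ⁅M, M⁆ ≤ zpowers ((a ^ (1 - u)) ^ p) := by
    rw [commutator_le]
    intro g₁ hg₁ g₂ hg₂
    obtain ⟨i, j, rfl⟩ := hgen_nat a b hgen g₁
    obtain ⟨k, l, rfl⟩ := hgen_nat a b hgen g₂
    rw [hmem] at hg₁ hg₂
    rw [comm_formula' a b u hconj]
    have h1 : (p : ℤ) ∣ i * (l : ℤ) - k * (j : ℤ) := by
      have h2 : (p : ℤ) ∣ α * (i * (l : ℤ) - k * (j : ℤ)) := by
        have : α * (i * (l : ℤ) - k * (j : ℤ)) = (l : ℤ) * (α * i + β * j) - (j : ℤ) * (α * k + β * l) := by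
          ring
        rw [this]
        exact dvd_sub (Dvd.dvd.mul_left hg₁ _) (Dvd.dvd.mul_left hg₂ _)
      have h3 : (p : ℤ) ∣ β * (i * (l : ℤ) - k * (j : ℤ)) := by
        have : β * (i * (l : ℤ) - k * (j : ℤ)) = i * (α * k + β * l) - k * (α * i + β * j) := by
          ring
        rw [this]
        exact dvd_sub (Dvd.dvd.mul_left hg₂ _) (Dvd.dvd.mul_left hg₁ _)
      have hpp : Prime (p : ℤ) := Nat.prime_iff_prime_int.mp hp
      rcases hpp.dvd_or_dvd h2 with h | h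
      · rcases hpp.dvd_or_dvd h3 with h' | h'
        · exact absurd ⟨h, h'⟩ hαβ
        · exact h'
      · exact h
    have h4 : (p : ℤ) ∣ i * (∑ t ∈ Finset.range l, u ^ t) - k * (∑ t ∈ Finset.range j, u ^ t) := by
      have hl := geom_sum_modEq p u hu1 l
      have hj := geom_sum_modEq p u hu1 j
      have h5 : i * (∑ t ∈ Finset.range l, u ^ t) - k * (∑ t ∈ Finset.range j, u ^ t) ≡
          i * (l : ℤ) - k * (j : ℤ) [ZMOD (p : ℤ)] :=
        ((Int.ModEq.refl i).mul hl).sub ((Int.ModEq.refl k).mul hj)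
      exact (Int.ModEq.dvd_iff h5).mpr h1
    obtain ⟨w, hw⟩ := h4
    rw [hw, zpow_mul, zpow_natCast]
    exact zpow_mem (mem_zpowers _) w
  -- lower bound: an element of order p^e in ⁅M, M⁆
  have hL : ∃ x ∈ ⁅M, M⁆, orderOf x = p ^ e := by
    by_cases hα0 : (p : ℤ) ∣ α
    · -- a ∈ M, b^p ∈ M
      have haM : a ^ (1 : ℤ) * b ^ 0 ∈ M := by
        rw [hmem]; simpa using hα0
      have hbM : a ^ (0 : ℤ) * b ^ p ∈ M := by
        rw [hmem]; simp
      refine ⟨⁅a ^ (1 : ℤ) * b ^ 0, a ^ (0 : ℤ) * b ^ p⁆,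
        Subgroup.commutator_mem_commutator haM hbM, ?_⟩
      rw [comm_formula a b u hconj]
      have : (1 : ℤ) * (1 - u ^ p) - 0 * (1 - u ^ 0) = 1 - u ^ p := by ring
      rw [this]
      exact orderOf_zpow_one_sub_pow a b u hconj hp2 hG e he'
    · -- a ∉ M
      have hcop : IsCoprime α (p : ℤ) := by
        rw [isCoprime_comm]
        exact (Nat.prime_iff_prime_int.mp hp).coprime_iff_not_dvd.mpr hα0
      obtain ⟨x, y, hxy⟩ := hcop
      -- x * α + y * p = 1
      have hxM : a ^ (-(x * β)) * b ^ 1 ∈ M := by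
        rw [hmem]
        have : α * -(x * β) + β * ((1 : ℕ) : ℤ) = β * (y * p) := by
          have : β = β * (x * α + y * p) := by rw [hxy, mul_one]
          nth_rewrite 2 [this]
          push_cast
          ring
        rw [this]
        exact Dvd.dvd.mul_left (Dvd.intro_left y rfl) β
      have hapM : a ^ (p : ℤ) * b ^ 0 ∈ M := by
        rw [hmem]; simp
      refine ⟨⁅a ^ (p : ℤ) * b ^ 0, a ^ (-(x * β)) * b ^ 1⁆,
        Subgroup.commutator_mem_commutator hapM hxM, ?_⟩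
      rw [comm_formula a b u hconj]
      have : (p : ℤ) * (1 - u ^ 1) - -(x * β) * (1 - u ^ 0) = (1 - u) * p := by ring
      rw [this, zpow_mul, zpow_natCast, ← Nat.card_zpowers, hTcard]
  obtain ⟨x, hxM, hxord⟩ := hL
  have hcardMM : Nat.card (⁅M, M⁆ : Subgroup G) = p ^ e := by
    apply le_antisymm
    · rw [← hTcard]
      exact Subgroup.card_le_of_le hU
    · rw [← hxord, ← Nat.card_zpowers]
      exact Subgroup.card_le_of_le (zpowers_le.mpr hxM)
  have h1 : Nat.card (commutator ↥M) = Nat.card (⁅M, M⁆ : Subgroup G) := by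
    rw [← map_subtype_commutator, Subgroup.card_map_of_injective M.subtype_injective]
  rw [h1, hcardMM, commutator_eq a b u hconj hgen, Nat.card_zpowers, he', Nat.succ_eq_add_one,
    pow_succ]

end Maximal

end Cfsg.Agent.Helper19.Metacyclic
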