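import Mathlib
import Cfsg.Agent.Helper19.Metacyclic2
import Cfsg.Agent.Helper1.Metacyclic

/-! Metacyclic `p`-groups, `p` odd: `|L'| = max(1, |G'| / |G : L|)` for every subgroup `L`. -/

namespace Cfsg.Agent.Helper19.Metacyclic

open Subgroup

universe u

/-- In a finite `p`-group every proper subgroup lies in a subgroup of index `p`. -/
theorem exists_index_p_ge {G : Type*} [Group G] [Finite G] {p : ℕ} [Fact p.Prime]
    (hG : IsPGroup p G) (L : Subgroup G) (hL : L ≠ ⊤) : ∃ M : Subgroup G, L ≤ M ∧ M.index = p := by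
  have hp : p.Prime := Fact.out
  obtain ⟨k, hk⟩ := IsPGroup.iff_card.mp hG
  obtain ⟨s, hs⟩ := IsPGroup.iff_card.mp (hG.to_subgroup L)
  have hsk : s < k := by
    have h1 : Nat.card L ∣ Nat.card G := L.card_subgroup_dvd_card
    rw [hs, hk] at h1
    have h2 := (Nat.pow_dvd_pow_iff_le_right hp.one_lt).mp h1
    rcases lt_or_eq_of_le h2 with h | h
    · exact h
    · exfalso
      apply hL
      apply Subgroup.eq_top_of_card_eq
      rw [hs, hk, h]
  obtain ⟨M, hMcard, hLM⟩ := Sylow.exists_subgroup_card_pow_prime_le p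
    (show p ^ (k - 1) ∣ Nat.card G by rw [hk]; exact pow_dvd_pow p (by omega)) L hs (by omega)
  refine ⟨M, hLM, ?_⟩
  have h3 := M.card_mul_index
  rw [hMcard, hk] at h3
  have h4 : p ^ k = p ^ (k - 1) * p := by
    rw [← pow_succ]; congr 1; omega
  rw [h4] at h3
  exact Nat.eq_of_mul_eq_mul_left (pow_pos hp.pos _) h3

/-- The derived subgroup of a subgroup of a metacyclic `p`-group, `p` odd. -/
theorem card_commutator_subgroup_aux {p : ℕ} [Fact p.Prime] (hp2 : p ≠ 2) :
    ∀ (n : ℕ) (G : Type u) [Group G] [Finite G], Nat.card G = n → IsPGroup p G →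
      Cfsg.IsMetacyclic G → ∀ L : Subgroup G,
        (Nat.card (⁅L, L⁆ : Subgroup G) * L.index = Nat.card (⁅(⊤ : Subgroup G), ⊤⁆ : Subgroup G)) ∨
        (Nat.card (⁅L, L⁆ : Subgroup G) = 1 ∧
          Nat.card (⁅(⊤ : Subgroup G), ⊤⁆ : Subgroup G) ≤ L.index) := by
  intro n
  induction n using Nat.strong_induction_on with
  | _ n ih =>
    intro G _ _ hcard hG hmc L
    have hp : p.Prime := Fact.out
    by_cases hLtop : L = ⊤
    · left
      rw [hLtop, index_top, mul_one]
    obtain ⟨M, hLM, hMidx⟩ := exists_index_p_ge hG L hLtop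
    obtain ⟨a, b, hn, hgen⟩ := exists_gens hmc
    obtain ⟨u, hu⟩ := mem_zpowers_iff.mp (hn.conj_mem a (mem_zpowers a) b)
    have hconj : b * a * b⁻¹ = a ^ u := hu.symm
    have hGcomm : (⁅(⊤ : Subgroup G), ⊤⁆ : Subgroup G) = zpowers (a ^ (1 - u)) := by
      rw [← _root_.commutator_def, commutator_eq a b u hconj hgen]
    by_cases hab : a ^ (1 - u) = 1
    · right
      have h1 : (⁅(⊤ : Subgroup G), ⊤⁆ : Subgroup G) = ⊥ := by
        rw [hGcomm, hab, zpowers_one_eq_bot]
      have h2 : (⁅L, L⁆ : Subgroup G) = ⊥ := by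
        rw [eq_bot_iff, ← h1]
        exact commutator_mono le_top le_top
      rw [h1, h2]
      simp only [Subgroup.card_bot, true_and]
      exact Nat.pos_of_ne_zero (by
        intro h
        have := L.card_mul_index
        rw [h, mul_zero] at this
        exact Nat.card_pos.ne this)
    -- nonabelian case
    have hM := card_commutator_maximal a b u hconj hgen hp2 hG hab M hMidx
    have hMcard : Nat.card ↥M < n := by
      have h3 := M.card_mul_index
      rw [hMidx, hcard] at h3
      have : 0 < Nat.card ↥M := Nat.card_pos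
      have hp1 := hp.one_lt
      nlinarith
    have ihM := ih (Nat.card ↥M) hMcard ↥M rfl (hG.to_subgroup M)
      (Cfsg.Agent.Helper1.Metacyclic.isMetacyclic_subgroup hmc M) (L.subgroupOf M)
    -- translate
    have e1 : Nat.card (⁅L.subgroupOf M, L.subgroupOf M⁆ : Subgroup ↥M) =
        Nat.card (⁅L, L⁆ : Subgroup G) := by
      rw [← Subgroup.card_map_of_injective M.subtype_injective, map_commutator,
        map_subgroupOf_eq_of_le hLM]
    have e2 : Nat.card (⁅(⊤ : Subgroup ↥M), ⊤⁆ : Subgroup ↥M) = Nat.card (commutator ↥M) := by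
      rw [← _root_.commutator_def]
    have e3 : (L.subgroupOf M).index * p = L.index := by
      rw [← hMidx]
      exact relIndex_mul_index hLM
    have e4 : Nat.card (⁅(⊤ : Subgroup G), ⊤⁆ : Subgroup G) = Nat.card (commutator G) := by
      rw [← _root_.commutator_def]
    rw [e1, e2] at ihM
    rw [e4, ← hM, ← e3]
    rcases ihM with h | ⟨h1, h2⟩
    · left
      rw [← h]; ring
    · right
      exact ⟨h1, Nat.mul_le_mul_right p h2⟩

/-- The derived subgroup of a subgroup of a metacyclic `p`-group, `p` odd. -/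
theorem card_commutator_subgroup {p : ℕ} [Fact p.Prime] (hp2 : p ≠ 2) {G : Type u} [Group G]
    [Finite G] (hG : IsPGroup p G) (hmc : Cfsg.IsMetacyclic G) (L : Subgroup G) :
    (Nat.card (commutator ↥L) * L.index = Nat.card (commutator G)) ∨
      (Nat.card (commutator ↥L) = 1 ∧ Nat.card (commutator G) ≤ L.index) := by
  have h := card_commutator_subgroup_aux hp2 _ G rfl hG hmc L
  have e1 : Nat.card (commutator ↥L) = Nat.card (⁅L, L⁆ : Subgroup G) := by
    rw [← map_subtype_commutator, Subgroup.card_map_of_injective L.subtype_injective]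
  have e4 : Nat.card (⁅(⊤ : Subgroup G), ⊤⁆ : Subgroup G) = Nat.card (commutator G) := by
    rw [← _root_.commutator_def]
  rw [e1, ← e4]
  exact h

end Cfsg.Agent.Helper19.Metacyclic
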