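import Mathlib
import Cfsg.Agent.Helper19.Metacyclic3

/-! Metacyclic `p`-groups, `p` odd: abelian subgroups are those of order at most `|G : G'|`. -/

namespace Cfsg.Agent.Helper19.Metacyclic

open Subgroup

universe u

/-- A finite group is commutative iff its commutator subgroup has one element. -/
theorem isMulCommutative_iff_card_commutator (H : Type*) [Group H] :
    IsMulCommutative H ↔ Nat.card (commutator H) = 1 := by
  constructor
  · intro h
    have : commutator H = ⊥ := by
      rw [_root_.commutator_def, commutator_eq_bot_iff_le_centralizer]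
      intro g _
      rw [mem_centralizer_iff]
      intro y _
      exact h.is_comm.comm y g
    rw [this]
    exact Subgroup.card_bot
  · intro h
    have h1 : commutator H = ⊥ := Subgroup.eq_bot_of_card_eq _ h
    rw [_root_.commutator_def, commutator_eq_bot_iff_le_centralizer] at h1
    refine ⟨⟨fun x y => ?_⟩⟩
    have := h1 (mem_top y)
    rw [mem_centralizer_iff] at this
    exact this x (mem_top x)

variable {p : ℕ} [Fact p.Prime] {G : Type u} [Group G] [Finite G]

/-- `L` is abelian iff `|L| ≤ |G : G'|`. -/
theorem isMulCommutative_iff_card_le (hp2 : p ≠ 2) (hG : IsPGroup p G)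
    (hmc : Cfsg.IsMetacyclic G) (L : Subgroup G) :
    IsMulCommutative ↥L ↔ Nat.card ↥L ≤ (commutator G).index := by
  have hP := card_commutator_subgroup hp2 hG hmc L
  have h1 := L.card_mul_index
  have h2 := (commutator G).card_mul_index
  have hpos1 : 0 < Nat.card ↥L := Nat.card_pos
  have hpos2 : 0 < Nat.card ↥(commutator G) := Nat.card_pos
  have hpos3 : 0 < Nat.card ↥(commutator ↥L) := Nat.card_pos
  have hpos4 : 0 < L.index := Nat.pos_of_ne_zero (by
    intro h; rw [h, mul_zero] at h1; exact Nat.card_pos.ne h1)
  rw [isMulCommutative_iff_card_commutator]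
  constructor
  · intro hc
    have h3 : Nat.card ↥(commutator G) ≤ L.index := by
      rcases hP with h | ⟨_, h⟩
      · rw [hc, one_mul] at h; exact h.ge
      · exact h
    by_contra hlt
    push Not at hlt
    have : Nat.card ↥(commutator G) * (commutator G).index < Nat.card ↥L * L.index := by
      calc Nat.card ↥(commutator G) * (commutator G).index
          ≤ L.index * (commutator G).index := Nat.mul_le_mul_right _ h3
        _ < L.index * Nat.card ↥L := Nat.mul_lt_mul_of_pos_left hlt hpos4
        _ = Nat.card ↥L * L.index := mul_comm _ _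
    rw [h1, h2] at this
    exact lt_irrefl _ this
  · intro hle
    by_contra hne
    have h3 : 2 ≤ Nat.card ↥(commutator ↥L) := by omega
    rcases hP with h | ⟨h, _⟩
    · have h4 : 2 * L.index ≤ Nat.card ↥(commutator G) := by
        rw [← h]; exact Nat.mul_le_mul_right _ h3
      have : 2 * (Nat.card ↥L * L.index) ≤ Nat.card ↥(commutator G) * (commutator G).index := by
        calc 2 * (Nat.card ↥L * L.index) = (2 * L.index) * Nat.card ↥L := by ring
          _ ≤ Nat.card ↥(commutator G) * Nat.card ↥L := Nat.mul_le_mul_right _ h4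
          _ ≤ Nat.card ↥(commutator G) * (commutator G).index := Nat.mul_le_mul_left _ hle
      rw [h1, h2] at this
      have hGpos : 0 < Nat.card G := Nat.card_pos
      omega
    · exact hne h

/-- `L` is a maximal abelian subgroup iff `|L| = |G : G'|`. -/
theorem maximal_abelian_iff_card_eq (hp2 : p ≠ 2) (hG : IsPGroup p G)
    (hmc : Cfsg.IsMetacyclic G) (L : Subgroup G) :
    Maximal (fun K : Subgroup G => IsMulCommutative ↥K) L ↔
      Nat.card ↥L = (commutator G).index := by
  have hp : p.Prime := Fact.out
  constructor
  · rintro ⟨hLc, hmax⟩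
    have hle := (isMulCommutative_iff_card_le hp2 hG hmc L).mp hLc
    by_contra hne
    have hlt : Nat.card ↥L < (commutator G).index := lt_of_le_of_ne hle hne
    obtain ⟨s, hs⟩ := IsPGroup.iff_card.mp (hG.to_subgroup L)
    obtain ⟨k, hk⟩ := IsPGroup.iff_card.mp hG
    have hidx : (commutator G).index ∣ p ^ k := hk ▸ (commutator G).index_dvd_card
    obtain ⟨t, htk, ht⟩ := (Nat.dvd_prime_pow hp).mp hidx
    rw [hs, ht] at hlt
    have hst : s < t := (Nat.pow_lt_pow_iff_right hp.one_lt).mp hlt
    have hdvd : p ^ (s + 1) ∣ Nat.card G := by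
      rw [hk]; exact pow_dvd_pow p (by omega)
    obtain ⟨K, hKcard, hLK⟩ := Sylow.exists_subgroup_card_pow_succ hdvd hs
    have hKc : IsMulCommutative ↥K := by
      rw [isMulCommutative_iff_card_le hp2 hG hmc K, hKcard, ht]
      exact Nat.pow_le_pow_right hp.pos (by omega)
    have hKL := hmax hKc hLK
    have := Subgroup.card_le_of_le hKL
    rw [hKcard, hs] at this
    have := (Nat.pow_le_pow_iff_right hp.one_lt).mp this
    omega
  · intro hcard
    refine ⟨(isMulCommutative_iff_card_le hp2 hG hmc L).mpr hcard.le, ?_⟩
    intro K hKc hLK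
    have hle := (isMulCommutative_iff_card_le hp2 hG hmc K).mp hKc
    have : L = K := Subgroup.eq_of_le_of_card_ge hLK (by rw [hcard]; exact hle)
    rw [this]

end Cfsg.Agent.Helper19.Metacyclic
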