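import Mathlib
import Cfsg.Agent.Helper19.Metacyclic4
import Cfsg.Agent.Helper24.Classes
import Cfsg.Agent.S3879

/-! Class sizes in metacyclic `p`-groups, `p` odd: the generating pair trick. -/

namespace Cfsg.Agent.Helper19.Metacyclic

open Subgroup
open scoped commutatorElement

universe u

section General

variable {G : Type u} [Group G]

/-- The conjugacy class of `g` embeds in any subgroup containing all `[y, g]`. -/
theorem index_centralizer_le (g : G) (T : Subgroup G) [Finite T] (h : ∀ y : G, ⁅y, g⁆ ∈ T) :
    (centralizer ({g} : Set G)).index ≤ Nat.card T ∧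
      ((centralizer ({g} : Set G)).index = Nat.card T → ∀ t ∈ T, ∃ y : G, ⁅y, g⁆ = t) := by
  rw [Cfsg.Agent.Helper24.index_centralizer_eq_card_conj]
  have hx : ∀ x : {x : G // IsConj g x}, (x : G) * g⁻¹ ∈ T := by
    rintro ⟨x, hx⟩
    obtain ⟨c, rfl⟩ := isConj_iff.mp hx
    have := h c
    rwa [commutatorElement_def] at this
  let f : {x : G // IsConj g x} → T := fun x => ⟨(x : G) * g⁻¹, hx x⟩
  have hf : Function.Injective f := by
    intro x y hxy
    have h1 : (x : G) * g⁻¹ = (y : G) * g⁻¹ := congrArg Subtype.val hxy
    exact Subtype.ext (mul_right_cancel h1)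
  refine ⟨Nat.card_le_card_of_injective f hf, fun heq t ht => ?_⟩
  have hb := hf.bijective_of_nat_card_le heq.ge
  obtain ⟨⟨x, hx'⟩, hxt⟩ := hb.2 ⟨t, ht⟩
  obtain ⟨c, rfl⟩ := isConj_iff.mp hx'
  refine ⟨c, ?_⟩
  have := congrArg Subtype.val hxt
  rw [commutatorElement_def]
  exact this

/-- all commutators lie in the commutator subgroup. -/
theorem commutatorElement_mem_commutator (y g : G) : ⁅y, g⁆ ∈ commutator G := by
  rw [_root_.commutator_def]
  exact Subgroup.commutator_mem_commutator (mem_top y) (mem_top g)

/-- The centre is the intersection of the centralizers of a generating pair. -/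
theorem center_eq_inf_of_closure_eq_top (g h : G) (hgh : closure ({g, h} : Set G) = ⊤) :
    center G = centralizer ({g} : Set G) ⊓ centralizer ({h} : Set G) := by
  apply le_antisymm
  · exact le_inf (center_le_centralizer _) (center_le_centralizer _)
  · intro z hz
    rw [mem_inf, mem_centralizer_singleton_iff, mem_centralizer_singleton_iff] at hz
    have h1 : closure ({g, h} : Set G) ≤ centralizer ({z} : Set G) := by
      rw [closure_le]
      intro x hx
      rcases hx with rfl | rfl
      · exact mem_centralizer_singleton_iff.mpr hz.1.symm
      · exact mem_centralizer_singleton_iff.mpr hz.2.symm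
    rw [hgh] at h1
    rw [mem_center_iff]
    intro y
    exact mem_centralizer_singleton_iff.mp (h1 (mem_top y))

end General

variable {p : ℕ} [Fact p.Prime] {G : Type u} [Group G] [Finite G]

/-- **Pair trick**: a member of a generating pair has class size `|G'|`. -/
theorem index_centralizer_of_closure_eq_top (hp2 : p ≠ 2) (hG : IsPGroup p G)
    (hmc : Cfsg.IsMetacyclic G) (g h : G) (hgh : closure ({g, h} : Set G) = ⊤) :
    (centralizer ({g} : Set G)).index = Nat.card (commutator G) := by
  have h1 := Cfsg.Agent.S3879.result hp2 hG hmc
  rw [center_eq_inf_of_closure_eq_top g h hgh] at h1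
  have h2 := (index_centralizer_le g (commutator G)
    (fun y => commutatorElement_mem_commutator y g)).1
  have h3 := (index_centralizer_le h (commutator G)
    (fun y => commutatorElement_mem_commutator y h)).1
  have h4 := Subgroup.index_inf_le (H := centralizer ({g} : Set G)) (K := centralizer ({h} : Set G))
  rw [h1] at h4
  have hpos : 0 < Nat.card (commutator G) := Nat.card_pos
  by_contra hne
  have hlt : (centralizer ({g} : Set G)).index < Nat.card (commutator G) := lt_of_le_of_ne h2 hne
  have : (centralizer ({g} : Set G)).index * (centralizer ({h} : Set G)).index <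
      Nat.card (commutator G) ^ 2 := by
    rw [pow_two]
    calc (centralizer ({g} : Set G)).index * (centralizer ({h} : Set G)).index
        ≤ (centralizer ({g} : Set G)).index * Nat.card (commutator G) := Nat.mul_le_mul_left _ h3
      _ < Nat.card (commutator G) * Nat.card (commutator G) := Nat.mul_lt_mul_of_pos_right hlt hpos
  omega

end Cfsg.Agent.Helper19.Metacyclic
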