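import Mathlib
import Cfsg.Agent.Helper19.Metacyclic5

/-! Metacyclic `p`-groups, `p` odd: power formula, `[c, x^p] = [c, x]^S` with `v_p(S) = 1`, and
the Chermak–Delgado measure `|R| · |C_G(R)|`. -/

namespace Cfsg.Agent.Helper19.Metacyclic

open Subgroup
open scoped commutatorElement

universe u

/-- For `p` odd and `y ≡ 1 mod p`, `p²` does not divide `1 + y + ⋯ + y^(p-1)`. -/
theorem not_sq_dvd_geom_sum (p : ℕ) (hp : p.Prime) (hp2 : p ≠ 2) (y : ℤ) (hy : (p : ℤ) ∣ y - 1) :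
    ¬ (p : ℤ) ^ 2 ∣ ∑ r ∈ Finset.range p, y ^ r := by
  have hodd : Odd p := hp.eq_two_or_odd'.resolve_left hp2
  have hpp : Prime (p : ℤ) := Nat.prime_iff_prime_int.mp hp
  by_cases hy1 : y = 1
  · subst hy1
    simp only [one_pow, Finset.sum_const, Finset.card_range, nsmul_eq_mul, mul_one]
    intro h
    have h1 : (p : ℤ) ^ 2 ∣ (p : ℤ) ^ 1 := by simpa using h
    have := (pow_dvd_pow_iff (by exact_mod_cast hp.ne_zero) hpp.not_isUnit).mp h1
    omega
  intro h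
  have hpy : ¬ (p : ℤ) ∣ y := by
    intro h'
    have h1 : (p : ℤ) ∣ 1 := by
      have := dvd_sub h' hy
      simpa using this
    exact hpp.not_isUnit (isUnit_of_dvd_one h1)
  have hlte := Int.emultiplicity_pow_sub_pow hp hodd (x := y) (y := 1) (by simpa using hy) hpy p
  rw [one_pow, Nat.Prime.emultiplicity_self hp] at hlte
  have hgeo : (∑ r ∈ Finset.range p, y ^ r) * (y - 1) = y ^ p - 1 := geom_sum_mul y p
  rw [← hgeo, emultiplicity_mul hpp] at hlte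
  have hfin : FiniteMultiplicity (p : ℤ) (y - 1) := by
    rw [Int.finiteMultiplicity_iff]
    refine ⟨?_, sub_ne_zero.mpr hy1⟩
    simpa using hp.one_lt.ne'
  have hne : emultiplicity (p : ℤ) (y - 1) ≠ ⊤ := (emultiplicity_lt_top.mpr hfin).ne
  have h2 : (2 : ℕ∞) ≤ emultiplicity (p : ℤ) (∑ r ∈ Finset.range p, y ^ r) := by
    have := pow_dvd_iff_le_emultiplicity.mp h
    simpa using this
  obtain ⟨k, hk⟩ := ENat.ne_top_iff_exists.mp hne
  rw [← hk] at hlte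
  have h3 : (2 : ℕ∞) + k ≤ (k : ℕ∞) + 1 := by
    rw [← hlte]
    gcongr
  norm_cast at h3
  omega

section PC

variable {G : Type u} [Group G] (a b : G) (u : ℤ) (hconj : b * a * b⁻¹ = a ^ u)

include hconj in
/-- power formula -/
theorem pow_formula (i : ℤ) (j r : ℕ) :
    (a ^ i * b ^ j) ^ r = a ^ (i * ∑ s ∈ Finset.range r, (u ^ j) ^ s) * b ^ (j * r) := by
  induction r with
  | zero => simp
  | succ r ih =>
    rw [pow_succ, ih, mul_assoc (a ^ _), ← mul_assoc (b ^ _) (a ^ i),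
      npow_b_mul_zpow_a a b u hconj, mul_assoc (a ^ _) (b ^ _), ← pow_add, ← mul_assoc,
      ← zpow_add, Finset.sum_range_succ, ← pow_mul, Nat.mul_succ]
    congr 2
    ring

include hconj in
/-- `[c, x^p] = [c, x]^S` -/
theorem comm_pow_formula (i k : ℤ) (j l p : ℕ) :
    ⁅a ^ k * b ^ l, (a ^ i * b ^ j) ^ p⁆ =
      ⁅a ^ k * b ^ l, a ^ i * b ^ j⁆ ^ (∑ s ∈ Finset.range p, (u ^ j) ^ s) := by
  rw [pow_formula a b u hconj, comm_formula a b u hconj, comm_formula a b u hconj, ← zpow_mul]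
  congr 1
  have h1 := mul_neg_geom_sum (u ^ j) p
  rw [pow_mul, ← h1]
  ring

include hconj in
/-- If `c` commutes with `x^p` then `[c, x]^p = 1`. -/
theorem comm_pow_eq_one [Finite G] {p : ℕ} [Fact p.Prime] (hp2 : p ≠ 2) (hG : IsPGroup p G)
    (hgen : ∀ g : G, ∃ i j : ℤ, g = a ^ i * b ^ j) (c x : G) (h : ⁅c, x ^ p⁆ = 1) :
    ⁅c, x⁆ ^ p = 1 := by
  have hp : p.Prime := Fact.out
  obtain ⟨k, l, rfl⟩ := hgen_nat a b hgen c
  obtain ⟨i, j, rfl⟩ := hgen_nat a b hgen x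
  by_cases ha1 : a = 1
  · subst ha1
    rw [comm_formula (1 : G) b u hconj, one_zpow, one_pow]
  have hu1 := dvd_sub_one a b u hconj hG ha1
  have hy : (p : ℤ) ∣ u ^ j - 1 := dvd_trans hu1 (sub_one_dvd_pow_sub_one u j)
  rw [comm_pow_formula a b u hconj] at h
  obtain ⟨f, hf⟩ := (IsPGroup.iff_orderOf.mp hG) ⁅a ^ k * b ^ l, a ^ i * b ^ j⁆
  have hdvd : ((orderOf ⁅a ^ k * b ^ l, a ^ i * b ^ j⁆ : ℕ) : ℤ) ∣
      ∑ s ∈ Finset.range p, (u ^ j) ^ s := orderOf_dvd_iff_zpow_eq_one.mpr h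
  rw [hf] at hdvd
  push_cast at hdvd
  have hf1 : f ≤ 1 := by
    by_contra hlt
    push Not at hlt
    apply not_sq_dvd_geom_sum p hp hp2 (u ^ j) hy
    exact dvd_trans (pow_dvd_pow _ hlt) hdvd
  apply orderOf_dvd_iff_pow_eq_one.mp
  rw [hf]
  calc p ^ f ∣ p ^ 1 := pow_dvd_pow p hf1
    _ = p := pow_one p

end PC

end Cfsg.Agent.Helper19.Metacyclic
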