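import Mathlib
import Cfsg.Agent.Helper19.Metacyclic6
import Cfsg.Agent.Helper17.Basic
import Cfsg.Agent.S3886
import Cfsg.Agent.S3803

/-! The Chermak–Delgado measure `|R| · |C_G(R)|` in metacyclic `p`-groups, `p` odd. -/

namespace Cfsg.Agent.Helper19.Metacyclic

open Subgroup
open scoped commutatorElement

universe u

section General

variable {G : Type u} [Group G]

/-- The index of `K ∩ C_G(x)` in `K` is bounded by any subgroup containing all `[c, x]`, `c ∈ K`. -/
theorem relIndex_centralizer_le (K T : Subgroup G) [Finite T] (x : G)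
    (h : ∀ c ∈ K, ⁅c, x⁆ ∈ T) :
    (K ⊓ centralizer ({x} : Set G)).relIndex K ≤ Nat.card T := by
  rw [Subgroup.relIndex, index_eq_card]
  let f : ↥K ⧸ (K ⊓ centralizer ({x} : Set G)).subgroupOf K → T :=
    fun q => Quotient.liftOn' q (fun c => (⟨⁅(c : G), x⁆, h c c.2⟩ : T)) (by
      intro c c' hcc'
      rw [QuotientGroup.leftRel_apply, mem_subgroupOf] at hcc'
      have h1 := mem_centralizer_singleton_iff.mp hcc'.2
      apply Subtype.ext
      show ⁅(c : G), x⁆ = ⁅(c' : G), x⁆
      have h2 : (c' : G) = c * ((c : G)⁻¹ * c') := by group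
      rw [h2, commutatorElement_def, commutatorElement_def]
      have h3 : ((c : G)⁻¹ * c') * x * ((c : G)⁻¹ * c')⁻¹ = x := by
        simp only [Subgroup.coe_mul, Subgroup.coe_inv] at h1
        rw [h1, mul_inv_cancel_right]
      calc (c : G) * x * (c : G)⁻¹ * x⁻¹
          = c * (((c : G)⁻¹ * c') * x * ((c : G)⁻¹ * c')⁻¹) * (c : G)⁻¹ * x⁻¹ := by rw [h3]
        _ = c * ((c : G)⁻¹ * c') * x * ((c : G) * ((c : G)⁻¹ * c'))⁻¹ * x⁻¹ := by group)
  have hf : Function.Injective f := by
    intro q q'
    induction q using Quotient.inductionOn' with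
    | h c =>
    induction q' using Quotient.inductionOn' with
    | h c' =>
    intro hqq
    have h1 : ⁅(c : G), x⁆ = ⁅(c' : G), x⁆ := congrArg Subtype.val hqq
    apply Quotient.sound'
    rw [QuotientGroup.leftRel_apply, mem_subgroupOf]
    refine ⟨(K.mul_mem (K.inv_mem c.2) c'.2), ?_⟩
    show ((c⁻¹ * c' : ↥K) : G) ∈ centralizer ({x} : Set G)
    rw [mem_centralizer_singleton_iff]
    rw [commutatorElement_def, commutatorElement_def] at h1
    have h2 : (c : G) * x * (c : G)⁻¹ = c' * x * (c' : G)⁻¹ := mul_right_cancel h1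
    simp only [Subgroup.coe_mul, Subgroup.coe_inv]
    calc (c : G)⁻¹ * c' * x = (c : G)⁻¹ * (c' * x * (c' : G)⁻¹) * c' := by group
      _ = (c : G)⁻¹ * (c * x * (c : G)⁻¹) * c' := by rw [h2]
      _ = x * ((c : G)⁻¹ * c') := by group
  exact Nat.card_le_card_of_injective f hf

/-- `|Z(R)| = |R ∩ C_G(R)|`. -/
theorem card_center_subgroup (R : Subgroup G) :
    Nat.card (center ↥R) = Nat.card (R ⊓ centralizer (R : Set G) : Subgroup G) := by
  have : (center ↥R).map R.subtype = R ⊓ centralizer (R : Set G) := by
    ext g
    constructor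
    · rintro ⟨z, hz, rfl⟩
      refine ⟨z.2, ?_⟩
      show (z : G) ∈ centralizer (R : Set G)
      rw [mem_centralizer_iff]
      intro r hr
      have := mem_center_iff.mp hz ⟨r, hr⟩
      exact congrArg Subtype.val this
    · rintro ⟨hgR, hgC⟩
      have hgC' : g ∈ centralizer (R : Set G) := hgC
      refine ⟨⟨g, hgR⟩, ?_, rfl⟩
      show (⟨g, hgR⟩ : ↥R) ∈ center ↥R
      rw [mem_center_iff]
      intro r
      apply Subtype.ext
      exact (mem_centralizer_iff.mp hgC') r r.2
  rw [← this, Subgroup.card_map_of_injective R.subtype_injective]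

/-- `R` normalizes `C_G(R)`. -/
theorem le_normalizer_centralizer (R : Subgroup G) :
    R ≤ normalizer (centralizer (R : Set G) : Set G) := by
  intro r hr
  rw [mem_normalizer_iff]
  intro c
  constructor
  · intro hc
    rw [mem_centralizer_iff] at hc ⊢
    intro r' hr'
    have h1 := hc (r⁻¹ * r' * r) (R.mul_mem (R.mul_mem (R.inv_mem hr) hr') hr)
    calc r' * (r * c * r⁻¹) = r * ((r⁻¹ * r' * r) * c) * r⁻¹ := by group
      _ = r * (c * (r⁻¹ * r' * r)) * r⁻¹ := by rw [h1]
      _ = r * c * r⁻¹ * r' := by group
  · intro hc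
    rw [mem_centralizer_iff] at hc ⊢
    intro r' hr'
    have h1 := hc (r * r' * r⁻¹) (R.mul_mem (R.mul_mem hr hr') (R.inv_mem hr))
    calc r' * c = r⁻¹ * ((r * r' * r⁻¹) * (r * c * r⁻¹)) * r := by group
      _ = r⁻¹ * ((r * c * r⁻¹) * (r * r' * r⁻¹)) * r := by rw [h1]
      _ = c * r' := by group

/-- `Z(R C_G(R)) = Z(C_G(R))`. -/
theorem sup_inf_centralizer (R : Subgroup G) :
    (centralizer (R : Set G) ⊔ R) ⊓ centralizer ((centralizer (R : Set G) ⊔ R : Subgroup G) : Set G) =
      centralizer (R : Set G) ⊓ centralizer (centralizer (R : Set G) : Set G) := by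
  apply le_antisymm
  · intro g hg
    have h1 : g ∈ centralizer ((centralizer (R : Set G) ⊔ R : Subgroup G) : Set G) := hg.2
    refine ⟨centralizer_le (show (R : Set G) ⊆ (centralizer (R : Set G) ⊔ R : Subgroup G) from
      (le_sup_right : R ≤ _)) h1, ?_⟩
    exact centralizer_le (show ((centralizer (R : Set G) : Subgroup G) : Set G) ⊆
      (centralizer (R : Set G) ⊔ R : Subgroup G) from (le_sup_left : centralizer (R : Set G) ≤ _)) h1
  · intro g hg
    have h1 : g ∈ centralizer (R : Set G) := hg.1
    have h2 : g ∈ centralizer (centralizer (R : Set G) : Set G) := hg.2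
    refine ⟨(le_sup_left : centralizer (R : Set G) ≤ _) h1, ?_⟩
    have h3 : centralizer (R : Set G) ⊔ R ≤ centralizer ({g} : Set G) := by
      apply sup_le
      · intro c hc
        rw [mem_centralizer_singleton_iff]
        exact ((mem_centralizer_iff.mp h2) c hc)
      · intro r hr
        rw [mem_centralizer_singleton_iff]
        exact ((mem_centralizer_iff.mp h1) r hr)
    show g ∈ centralizer ((centralizer (R : Set G) ⊔ R : Subgroup G) : Set G)
    rw [mem_centralizer_iff]
    intro y hy
    exact (mem_centralizer_singleton_iff.mp (h3 hy))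

end General

section CD

variable {p : ℕ} [Fact p.Prime] {G : Type u} [Group G] [Finite G]

/-- The Chermak–Delgado measure is at most `|G : G'|²`, with equality for nonabelian `R`. -/
theorem cd_measure_le (hp2 : p ≠ 2) (hG : IsPGroup p G) (hmc : Cfsg.IsMetacyclic G)
    (R : Subgroup G) :
    Nat.card R * Nat.card (centralizer (R : Set G)) ≤ (commutator G).index ^ 2 ∧
      (¬ IsMulCommutative R →
        Nat.card R * Nat.card (centralizer (R : Set G)) = (commutator G).index ^ 2) := by
  rcases Cfsg.Agent.S3886.central_product hp2 hG hmc R with ⟨hnc, hR⟩ | ⟨hc, -, hRle⟩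
  · -- nonabelian
    rw [card_center_subgroup] at hR
    have hcard := Cfsg.Agent.Helper17.card_sup_mul_card_inf (centralizer (R : Set G)) R
      (le_normalizer_centralizer R)
    have hHnc : ¬ IsMulCommutative ↥(centralizer (R : Set G) ⊔ R : Subgroup G) := by
      intro h
      apply hnc
      refine ⟨⟨fun x y => ?_⟩⟩
      have := h.is_comm.comm ⟨x, (le_sup_right : R ≤ _) x.2⟩ ⟨y, (le_sup_right : R ≤ _) y.2⟩
      have h2 : (x : G) * y = y * x := congrArg Subtype.val this
      exact Subtype.ext h2
    rcases Cfsg.Agent.S3886.central_product hp2 hG hmc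
        (centralizer (R : Set G) ⊔ R : Subgroup G) with ⟨-, hH⟩ | ⟨h, -, -⟩
    · rw [card_center_subgroup, sup_inf_centralizer] at hH
      rcases Cfsg.Agent.S3886.central_product hp2 hG hmc (centralizer (R : Set G)) with
        ⟨hCnc, hC⟩ | ⟨hCc, -, -⟩
      · exfalso
        rw [card_center_subgroup] at hC
        have hpos : 0 < Nat.card (centralizer (R : Set G) ⊓
            centralizer (centralizer (R : Set G) : Set G) : Subgroup G) := Nat.card_pos
        have h1 : Nat.card (centralizer (R : Set G) ⊔ R : Subgroup G) =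
            Nat.card (centralizer (R : Set G)) :=
          Nat.eq_of_mul_eq_mul_right hpos (hH.trans hC.symm)
        have h2 : centralizer (R : Set G) = centralizer (R : Set G) ⊔ R :=
          Subgroup.eq_of_le_of_card_ge le_sup_left h1.le
        apply hnc
        rw [← le_centralizer_iff_isMulCommutative, h2]
        exact le_sup_right
      · have hCC : centralizer (R : Set G) ⊓ centralizer (centralizer (R : Set G) : Set G) =
            centralizer (R : Set G) :=
          inf_eq_left.mpr (le_centralizer_iff_isMulCommutative.mpr hCc)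
        rw [hCC] at hH
        rw [inf_comm] at hcard
        have key : (Nat.card R * Nat.card (centralizer (R : Set G))) ^ 2 =
            ((commutator G).index ^ 2) ^ 2 := by
          calc (Nat.card R * Nat.card (centralizer (R : Set G))) ^ 2
              = (Nat.card (centralizer (R : Set G)) * Nat.card R) *
                  (Nat.card R * Nat.card (centralizer (R : Set G))) := by ring
            _ = (Nat.card (centralizer (R : Set G) ⊔ R : Subgroup G) *
                  Nat.card (R ⊓ centralizer (R : Set G) : Subgroup G)) *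
                  (Nat.card R * Nat.card (centralizer (R : Set G))) := by rw [hcard]
            _ = (Nat.card (centralizer (R : Set G) ⊔ R : Subgroup G) *
                  Nat.card (centralizer (R : Set G))) *
                  (Nat.card R * Nat.card (R ⊓ centralizer (R : Set G) : Subgroup G)) := by ring
            _ = ((commutator G).index ^ 2) ^ 2 := by rw [hH, hR]; ring
        have heq := Nat.pow_left_injective (by norm_num : 2 ≠ 0) key
        exact ⟨heq.le, fun _ => heq⟩
    · exact absurd h hHnc
  · -- abelian
    refine ⟨?_, fun h => absurd hc h⟩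
    have hRC : R ≤ centralizer (R : Set G) := le_centralizer_iff_isMulCommutative.mpr hc
    rcases Cfsg.Agent.S3886.central_product hp2 hG hmc (centralizer (R : Set G)) with
      ⟨-, hC⟩ | ⟨-, -, hCle⟩
    · rw [card_center_subgroup] at hC
      have h1 : R ≤ centralizer (R : Set G) ⊓ centralizer (centralizer (R : Set G) : Set G) :=
        le_inf hRC (le_centralizer_iff.mp le_rfl)
      calc Nat.card R * Nat.card (centralizer (R : Set G))
          ≤ Nat.card (centralizer (R : Set G) ⊓
              centralizer (centralizer (R : Set G) : Set G) : Subgroup G) *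
              Nat.card (centralizer (R : Set G)) :=
            Nat.mul_le_mul_right _ (Subgroup.card_le_of_le h1)
        _ = (commutator G).index ^ 2 := by rw [mul_comm, hC]
    · calc Nat.card R * Nat.card (centralizer (R : Set G))
          ≤ (commutator G).index * (commutator G).index := Nat.mul_le_mul hRle hCle
        _ = (commutator G).index ^ 2 := (pow_two _).symm

/-- `|Z(G)| · |G| = |G : G'|²`. -/
theorem card_center_mul_card (hp2 : p ≠ 2) (hG : IsPGroup p G) (hmc : Cfsg.IsMetacyclic G) :
    Nat.card (center G) * Nat.card G = (commutator G).index ^ 2 := by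
  have h1 := Cfsg.Agent.S3879.result hp2 hG hmc
  have h2 := (center G).card_mul_index
  have h3 := (commutator G).card_mul_index
  have hD : 0 < Nat.card (commutator G) := Nat.card_pos
  rw [h1] at h2
  have h4 : Nat.card (center G) * Nat.card (commutator G) = (commutator G).index := by
    apply Nat.eq_of_mul_eq_mul_right hD
    calc Nat.card (center G) * Nat.card (commutator G) * Nat.card (commutator G)
        = Nat.card (center G) * Nat.card (commutator G) ^ 2 := by ring
      _ = Nat.card G := h2
      _ = (commutator G).index * Nat.card (commutator G) := by rw [← h3]; ring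
  calc Nat.card (center G) * Nat.card G
      = Nat.card (center G) * (Nat.card (commutator G) * (commutator G).index) := by rw [h3]
    _ = (Nat.card (center G) * Nat.card (commutator G)) * (commutator G).index := by ring
    _ = (commutator G).index ^ 2 := by rw [h4, pow_two]

/-- Subgroups containing the centre have maximal Chermak–Delgado measure. -/
theorem cd_measure_of_center_le_aux (hp2 : p ≠ 2) (hG : IsPGroup p G)
    (hmc : Cfsg.IsMetacyclic G) : ∀ (n : ℕ) (R : Subgroup G), Nat.card R = n → center G ≤ R →
      Nat.card R * Nat.card (centralizer (R : Set G)) = (commutator G).index ^ 2 := by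
  have hp : p.Prime := Fact.out
  intro n
  induction n using Nat.strong_induction_on with
  | _ n ih =>
    intro R hRn hZR
    by_cases hc : IsMulCommutative R
    swap
    · exact (cd_measure_le hp2 hG hmc R).2 hc
    by_cases hRZ : R = center G
    · rw [hRZ, centralizer_center, Subgroup.card_top]
      exact card_center_mul_card hp2 hG hmc
    have hlt : center G < R := lt_of_le_of_ne hZR (Ne.symm hRZ)
    -- G is nonabelian
    have hGna : ¬ IsMulCommutative G := by
      intro h
      have : center G = ⊤ := by
        rw [eq_top_iff]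
        intro g _
        rw [mem_center_iff]
        intro y
        exact h.is_comm.comm y g
      rw [this] at hlt
      exact (not_top_lt hlt)
    obtain ⟨a, b, hn, hgen⟩ := exists_gens hmc
    obtain ⟨u, hu⟩ := mem_zpowers_iff.mp (hn.conj_mem a (mem_zpowers a) b)
    have hconj : b * a * b⁻¹ = a ^ u := hu.symm
    have hcomm := commutator_eq a b u hconj hgen
    have ht1 : a ^ (1 - u) ≠ 1 := by
      intro h
      apply hGna
      rw [isMulCommutative_iff_card_commutator, hcomm, h, zpowers_one_eq_bot, Subgroup.card_bot]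
    obtain ⟨e', he'⟩ := (IsPGroup.iff_orderOf.mp hG) (a ^ (1 - u))
    have he0 : e' ≠ 0 := by
      rintro rfl
      rw [pow_zero, orderOf_eq_one_iff] at he'
      exact ht1 he'
    obtain ⟨e, rfl⟩ := Nat.exists_eq_succ_of_ne_zero he0
    -- cardinalities
    obtain ⟨s₀, hs₀⟩ := IsPGroup.iff_card.mp (hG.to_subgroup (center G))
    obtain ⟨s, hs⟩ := IsPGroup.iff_card.mp (hG.to_subgroup R)
    have hs₀s : s₀ < s := by
      have h1 : Nat.card (center G) ≤ Nat.card R := Subgroup.card_le_of_le hZR
      rw [hs₀, hs] at h1
      have h2 := (Nat.pow_le_pow_iff_right hp.one_lt).mp h1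
      rcases lt_or_eq_of_le h2 with h | h
      · exact h
      · exfalso
        apply hRZ
        exact (Subgroup.eq_of_le_of_card_ge hZR (by rw [hs₀, hs, h])).symm
    obtain ⟨R₀, hZR₀, hR₀R, hR₀card⟩ := Cfsg.Agent.S3803.exists_subgroup_card_between hZR hs₀
      (show s₀ ≤ s - 1 by omega) (show p ^ (s - 1) ∣ Nat.card R by
        rw [hs]; exact pow_dvd_pow p (by omega))
    have hps : p ^ s = p * p ^ (s - 1) := by
      rw [← pow_succ']; congr 1; omega
    have ihR₀ := ih (p ^ (s - 1)) (by
      rw [← hRn, hs]
      exact Nat.pow_lt_pow_right hp.one_lt (by omega)) R₀ hR₀card hZR₀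
    -- an element x of R outside R₀
    have hR₀lt : R₀ < R := by
      apply lt_of_le_of_ne hR₀R
      intro h
      rw [h, hs] at hR₀card
      have := Nat.pow_right_injective hp.two_le hR₀card
      omega
    obtain ⟨x, hxR, hxR₀⟩ := SetLike.exists_of_lt hR₀lt
    -- x^p ∈ R₀
    have hxp : x ^ p ∈ R₀ := by
      haveI : (R₀.subgroupOf R).Normal := by
        constructor
        intro m hm g
        have := hc.is_comm.comm g m
        rw [this, mul_inv_cancel_right]
        exact hm
      have hidx : (R₀.subgroupOf R).index = p := by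
        have h1 := Cfsg.Agent.Helper17.relIndex_mul_card_inf R₀ R
        rw [inf_eq_left.mpr hR₀R, hR₀card, hs, hps] at h1
        exact Nat.eq_of_mul_eq_mul_right (pow_pos hp.pos _) h1
      have h2 := Subgroup.pow_index_mem (R₀.subgroupOf R) (⟨x, hxR⟩ : ↥R)
      rw [hidx, mem_subgroupOf] at h2
      exact h2
    -- R = R₀ ⊔ ⟨x⟩
    have hRsup : R = R₀ ⊔ zpowers x := by
      symm
      apply Subgroup.eq_of_le_of_card_ge (sup_le hR₀R (zpowers_le.mpr hxR))
      obtain ⟨j, hj⟩ := IsPGroup.iff_card.mp (hG.to_subgroup (R₀ ⊔ zpowers x))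
      rw [hs, hj]
      apply Nat.pow_le_pow_right hp.pos
      by_contra hlt'
      push Not at hlt'
      have h1 : Nat.card (R₀ ⊔ zpowers x : Subgroup G) ≤ Nat.card R₀ := by
        rw [hj, hR₀card]
        exact Nat.pow_le_pow_right hp.pos (by omega)
      have h2 : R₀ = R₀ ⊔ zpowers x := Subgroup.eq_of_le_of_card_ge le_sup_left h1
      apply hxR₀
      rw [h2]
      exact (le_sup_right : zpowers x ≤ _) (mem_zpowers x)
    -- the subgroup T of order p
    have hTcard : Nat.card (zpowers ((a ^ (1 - u)) ^ (p ^ e))) = p := by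
      rw [Nat.card_zpowers, orderOf_pow_of_dvd (pow_pos hp.pos e).ne'
        (by rw [he']; exact pow_dvd_pow p (Nat.le_succ e)), he', Nat.succ_eq_add_one, pow_succ,
        Nat.mul_div_cancel_left _ (pow_pos hp.pos e)]
    have hT : ∀ c ∈ centralizer (R₀ : Set G), ⁅c, x⁆ ∈ zpowers ((a ^ (1 - u)) ^ (p ^ e)) := by
      intro c hcC
      have h1 : ⁅c, x ^ p⁆ = 1 := by
        rw [commutatorElement_def, mul_inv_eq_one, mul_inv_eq_iff_eq_mul]
        exact ((mem_centralizer_iff.mp hcC) _ hxp).symm
      have h2 := comm_pow_eq_one a b u hconj hp2 hG hgen c x h1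
      have h3 : ⁅c, x⁆ ∈ zpowers (a ^ (1 - u)) := by
        rw [← hcomm]; exact commutatorElement_mem_commutator c x
      obtain ⟨k, hk⟩ := mem_zpowers_iff.mp h3
      rw [← hk, ← zpow_natCast, ← zpow_mul, ← orderOf_dvd_iff_zpow_eq_one, he'] at h2
      push_cast at h2
      have h4 : (p : ℤ) ^ e ∣ k := by
        rw [Nat.succ_eq_add_one, pow_succ] at h2
        exact (mul_dvd_mul_iff_right (by exact_mod_cast hp.ne_zero)).mp h2
      obtain ⟨k', hk'⟩ := h4
      rw [← hk, hk', zpow_mul, ← Nat.cast_pow, zpow_natCast]
      exact zpow_mem (mem_zpowers _) k'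
    have hrel := relIndex_centralizer_le (centralizer (R₀ : Set G))
      (zpowers ((a ^ (1 - u)) ^ (p ^ e))) x hT
    rw [hTcard] at hrel
    have h5 := Cfsg.Agent.Helper17.relIndex_mul_card_inf
      (centralizer (R₀ : Set G) ⊓ centralizer ({x} : Set G)) (centralizer (R₀ : Set G))
    have h5' : centralizer (R₀ : Set G) ⊓ centralizer ({x} : Set G) ⊓ centralizer (R₀ : Set G) =
        centralizer (R₀ : Set G) ⊓ centralizer ({x} : Set G) :=
      inf_eq_left.mpr inf_le_left
    rw [h5'] at h5
    have h6 : centralizer (R₀ : Set G) ⊓ centralizer ({x} : Set G) ≤ centralizer (R : Set G) := by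
      intro g hg
      have h7 : R₀ ⊔ zpowers x ≤ centralizer ({g} : Set G) := by
        apply sup_le
        · intro r hr
          rw [mem_centralizer_singleton_iff]
          exact (mem_centralizer_iff.mp hg.1) r hr
        · rw [zpowers_le, mem_centralizer_singleton_iff]
          exact (mem_centralizer_singleton_iff.mp hg.2).symm
      show g ∈ centralizer (R : Set G)
      rw [mem_centralizer_iff]
      intro r hr
      rw [hRsup] at hr
      exact mem_centralizer_singleton_iff.mp (h7 hr)
    have h8 := Subgroup.card_le_of_le h6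
    apply le_antisymm (cd_measure_le hp2 hG hmc R).1
    rw [← ihR₀, hs, hps, hR₀card]
    calc p ^ (s - 1) * Nat.card (centralizer (R₀ : Set G))
        = p ^ (s - 1) * ((centralizer (R₀ : Set G) ⊓ centralizer ({x} : Set G)).relIndex
            (centralizer (R₀ : Set G)) *
            Nat.card (centralizer (R₀ : Set G) ⊓ centralizer ({x} : Set G) : Subgroup G)) := by
          rw [h5]
      _ ≤ p ^ (s - 1) * (p * Nat.card (centralizer (R : Set G))) :=
          Nat.mul_le_mul_left _ (Nat.mul_le_mul hrel h8)
      _ = p * p ^ (s - 1) * Nat.card (centralizer (R : Set G)) := by ring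

/-- Subgroups containing the centre have maximal Chermak–Delgado measure. -/
theorem cd_measure_of_center_le (hp2 : p ≠ 2) (hG : IsPGroup p G)
    (hmc : Cfsg.IsMetacyclic G) (R : Subgroup G) (hZR : center G ≤ R) :
    Nat.card R * Nat.card (centralizer (R : Set G)) = (commutator G).index ^ 2 :=
  cd_measure_of_center_le_aux hp2 hG hmc _ R rfl hZR

end CD

end Cfsg.Agent.Helper19.Metacyclic
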