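import Mathlib
import Cfsg.Agent.Helper19.Metacyclic7

/-! Class sizes and power subgroups in metacyclic `p`-groups, `p` odd. -/

namespace Cfsg.Agent.Helper19.Metacyclic

open Subgroup
open scoped commutatorElement

universe u

/-- For `p` odd and `y ≡ 1 mod p`, the `p`-adic valuation of `1 + y + ⋯ + y^(p^k - 1)` is `k`. -/
theorem emultiplicity_geom_sum (p : ℕ) (hp : p.Prime) (hp2 : p ≠ 2) (y : ℤ)
    (hy : (p : ℤ) ∣ y - 1) (k : ℕ) :
    emultiplicity (p : ℤ) (∑ r ∈ Finset.range (p ^ k), y ^ r) = k := by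
  have hodd : Odd p := hp.eq_two_or_odd'.resolve_left hp2
  have hpp : Prime (p : ℤ) := Nat.prime_iff_prime_int.mp hp
  by_cases hy1 : y = 1
  · subst hy1
    simp only [one_pow, Finset.sum_const, Finset.card_range, nsmul_eq_mul, mul_one]
    push_cast
    exact emultiplicity_pow_self_of_prime hpp k
  have hpy : ¬ (p : ℤ) ∣ y := by
    intro h'
    have h1 : (p : ℤ) ∣ 1 := by
      have := dvd_sub h' hy
      simpa using this
    exact hpp.not_isUnit (isUnit_of_dvd_one h1)
  have hlte := Int.emultiplicity_pow_sub_pow hp hodd (x := y) (y := 1) (by simpa using hy) hpy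
    (p ^ k)
  rw [one_pow, Nat.Prime.emultiplicity_pow_self hp] at hlte
  have hgeo : (∑ r ∈ Finset.range (p ^ k), y ^ r) * (y - 1) = y ^ (p ^ k) - 1 :=
    geom_sum_mul y (p ^ k)
  rw [← hgeo, emultiplicity_mul hpp] at hlte
  have hfin : FiniteMultiplicity (p : ℤ) (y - 1) := by
    rw [Int.finiteMultiplicity_iff]
    refine ⟨?_, sub_ne_zero.mpr hy1⟩
    simpa using hp.one_lt.ne'
  have hne : emultiplicity (p : ℤ) (y - 1) ≠ ⊤ := (emultiplicity_lt_top.mpr hfin).ne
  obtain ⟨c, hc⟩ := ENat.ne_top_iff_exists.mp hne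
  rw [← hc] at hlte
  rw [add_comm] at hlte
  exact (ENat.add_right_injective_of_ne_top (ENat.natCast_ne_top c)) hlte

/-- divisibility consequences of the valuation of a geometric sum. -/
theorem pow_dvd_mul_geom_sum_iff (p : ℕ) (hp : p.Prime) (hp2 : p ≠ 2) (y : ℤ)
    (hy : (p : ℤ) ∣ y - 1) (k n : ℕ) (x : ℤ) :
    (p : ℤ) ^ n ∣ x * (∑ r ∈ Finset.range (p ^ k), y ^ r) ↔ (p : ℤ) ^ (n - k) ∣ x := by
  have hpp : Prime (p : ℤ) := Nat.prime_iff_prime_int.mp hp
  rw [pow_dvd_iff_le_emultiplicity, pow_dvd_iff_le_emultiplicity, emultiplicity_mul hpp,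
    emultiplicity_geom_sum p hp hp2 y hy k]
  by_cases htop : emultiplicity (p : ℤ) x = ⊤
  · rw [htop]; simp
  · obtain ⟨c, hc⟩ := ENat.ne_top_iff_exists.mp htop
    rw [← hc]
    norm_cast
    omega

section PowerSubgroups

variable {G : Type u} [Group G] (a b : G) (u : ℤ) (hconj : b * a * b⁻¹ = a ^ u)
  (hgen : ∀ g : G, ∃ i j : ℤ, g = a ^ i * b ^ j)

include hconj hgen in
theorem orderOf_zpow_one_sub [Finite G] [hn : (zpowers a).Normal] :
    orderOf (a ^ (1 - u)) = Nat.card (commutator G) := by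
  rw [commutator_eq a b u hconj hgen, Nat.card_zpowers]

include hconj hgen in
/-- `a ^ e` is central iff `|G'|` divides `e`. -/
theorem zpow_a_mem_center_iff [Finite G] [hn : (zpowers a).Normal] (e : ℤ) :
    a ^ e ∈ center G ↔ (Nat.card (commutator G) : ℤ) ∣ e := by
  rw [mem_center_iff' a b hgen, ← orderOf_zpow_one_sub a b u hconj hgen,
    orderOf_dvd_iff_zpow_eq_one, ← zpow_mul]
  constructor
  · rintro ⟨-, h⟩
    have h1 : b * a ^ e * b⁻¹ = a ^ e := by rw [← h]; group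
    rw [conj_zpow_a a b u hconj] at h1
    rw [sub_mul, one_mul, zpow_sub, h1, mul_inv_cancel]
  · intro h
    refine ⟨zpow_a_mem_cent a e, ?_⟩
    have h1 : b * a ^ e * b⁻¹ = a ^ e := by
      rw [conj_zpow_a a b u hconj]
      rw [sub_mul, one_mul, zpow_sub, mul_inv_eq_one] at h
      exact h.symm
    calc a ^ e * b = (b * a ^ e * b⁻¹) * b := by rw [h1]
      _ = b * a ^ e := by group

include hconj hgen in
/-- `b ^ f` centralizes `a` iff `|G'|` divides `f`. -/
theorem zpow_b_mem_cent_iff [Finite G] {p : ℕ} [Fact p.Prime] (hp2 : p ≠ 2) (hG : IsPGroup p G)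
    [hn : (zpowers a).Normal] (f : ℤ) :
    b ^ f ∈ centralizer (zpowers a : Set G) ↔ (Nat.card (commutator G) : ℤ) ∣ f := by
  have hgenQ : ∀ x : G ⧸ centralizer (zpowers a : Set G),
      x ∈ zpowers ((b : G) : G ⧸ centralizer (zpowers a : Set G)) := by
    intro x
    obtain ⟨g, rfl⟩ := QuotientGroup.mk_surjective x
    obtain ⟨i, j, rfl⟩ := hgen g
    rw [mem_zpowers_iff]
    refine ⟨j, ?_⟩
    rw [QuotientGroup.mk_mul, (QuotientGroup.eq_one_iff (a ^ i)).mpr (zpow_a_mem_cent a i),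
      one_mul, QuotientGroup.mk_zpow]
  have hord : orderOf ((b : G) : G ⧸ centralizer (zpowers a : Set G)) =
      Nat.card (commutator G) := by
    rw [orderOf_eq_card_of_forall_mem_zpowers hgenQ, ← index_eq_card,
      index_cent a b u hconj hgen hp2 hG, commutator_eq a b u hconj hgen]
  rw [← hord, orderOf_dvd_iff_zpow_eq_one, ← QuotientGroup.mk_zpow, QuotientGroup.eq_one_iff]

include hconj hgen in
/-- `a ^ e * b ^ f` is central iff `|G'|` divides both `e` and `f`. -/
theorem mul_mem_center_iff [Finite G] {p : ℕ} [Fact p.Prime] (hp2 : p ≠ 2) (hG : IsPGroup p G)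
    [hn : (zpowers a).Normal] (e f : ℤ) :
    a ^ e * b ^ f ∈ center G ↔
      (Nat.card (commutator G) : ℤ) ∣ e ∧ (Nat.card (commutator G) : ℤ) ∣ f := by
  have hbf : ∀ f : ℤ, (Nat.card (commutator G) : ℤ) ∣ f → b ^ f ∈ center G := by
    intro f hf
    rw [mem_center_iff' a b hgen]
    exact ⟨(zpow_b_mem_cent_iff a b u hconj hgen hp2 hG f).mpr hf,
      ((Commute.refl b).zpow_left f).eq⟩
  constructor
  · intro h
    have h1 : a ^ e * b ^ f ∈ centralizer (zpowers a : Set G) := center_le_centralizer _ h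
    have h2 : b ^ f ∈ centralizer (zpowers a : Set G) := by
      have : b ^ f = (a ^ e)⁻¹ * (a ^ e * b ^ f) := by group
      rw [this]; exact mul_mem (inv_mem (zpow_a_mem_cent a e)) h1
    have h3 := (zpow_b_mem_cent_iff a b u hconj hgen hp2 hG f).mp h2
    have h4 : a ^ e ∈ center G := by
      have : a ^ e = (a ^ e * b ^ f) * (b ^ f)⁻¹ := by group
      rw [this]; exact mul_mem h (inv_mem (hbf f h3))
    exact ⟨(zpow_a_mem_center_iff a b u hconj hgen e).mp h4, h3⟩
  · rintro ⟨h1, h2⟩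
    exact mul_mem ((zpow_a_mem_center_iff a b u hconj hgen e).mpr h1) (hbf f h2)

include hconj hgen in
/-- `(a ^ i * b ^ j) ^ (p ^ k)` is central iff `p ^ (n - k)` divides both `i` and `j`. -/
theorem pow_prime_pow_mem_center_iff [Finite G] {p : ℕ} [Fact p.Prime] (hp2 : p ≠ 2)
    (hG : IsPGroup p G) [hn : (zpowers a).Normal] (hu1 : (p : ℤ) ∣ u - 1) (n : ℕ)
    (hGn : Nat.card (commutator G) = p ^ n) (i : ℤ) (j k : ℕ) :
    (a ^ i * b ^ j) ^ (p ^ k) ∈ center G ↔
      (p : ℤ) ^ (n - k) ∣ i ∧ (p : ℤ) ^ (n - k) ∣ (j : ℤ) := by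
  have hp : p.Prime := Fact.out
  have hy : (p : ℤ) ∣ u ^ j - 1 := dvd_trans hu1 (sub_one_dvd_pow_sub_one u j)
  rw [pow_formula a b u hconj, ← zpow_natCast b, mul_mem_center_iff a b u hconj hgen hp2 hG, hGn]
  push_cast
  rw [pow_dvd_mul_geom_sum_iff p hp hp2 (u ^ j) hy k n i, pow_dvd_mul_pow_iff p hp n k j]

/-- The subgroup `⟨a^(p^s)⟩⟨b^(p^s)⟩`. -/
def powSub (p s : ℕ) : Subgroup G := zpowers (a ^ (p ^ s)) ⊔ zpowers (b ^ (p ^ s))

theorem mem_powSub_iff [Finite G] [hn : (zpowers a).Normal] (p s : ℕ) (g : G) :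
    g ∈ powSub a b p s ↔ ∃ (k : ℤ) (l : ℕ), g = a ^ ((p : ℤ) ^ s * k) * b ^ (p ^ s * l) := by
  haveI : (zpowers (a ^ (p ^ s))).Normal := by
    rw [← zpow_natCast]; exact zpowers_zpow_normal a _
  have hps : a ^ ((p : ℤ) ^ s) = a ^ (p ^ s) := by
    rw [← zpow_natCast]; push_cast; rfl
  rw [powSub, ← SetLike.mem_coe, normal_mul, Set.mem_mul]
  constructor
  · rintro ⟨x, hx, y, hy, rfl⟩
    obtain ⟨k, rfl⟩ := mem_zpowers_iff.mp hx
    obtain ⟨l, rfl⟩ := mem_zpowers_iff.mp hy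
    refine ⟨k, (l % (orderOf (b ^ (p ^ s)) : ℤ)).toNat, ?_⟩
    have hpos : (0 : ℤ) < orderOf (b ^ (p ^ s)) := by exact_mod_cast orderOf_pos _
    have h1 : ((l % (orderOf (b ^ (p ^ s)) : ℤ)).toNat : ℤ) = l % (orderOf (b ^ (p ^ s)) : ℤ) :=
      Int.toNat_of_nonneg (Int.emod_nonneg _ hpos.ne')
    rw [pow_mul b, ← zpow_natCast (b ^ p ^ s), h1, zpow_mod_orderOf, zpow_mul, hps]
  · rintro ⟨k, l, rfl⟩
    refine ⟨a ^ ((p : ℤ) ^ s * k), ?_, b ^ (p ^ s * l), ?_, rfl⟩
    · rw [SetLike.mem_coe, mem_zpowers_iff]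
      exact ⟨k, by rw [zpow_mul, hps]⟩
    · rw [SetLike.mem_coe, mem_zpowers_iff]
      exact ⟨l, by rw [zpow_natCast, pow_mul]⟩

include hconj hgen in
/-- The subgroup generated by the `p^s`-th powers is `⟨a^(p^s)⟩⟨b^(p^s)⟩`. -/
theorem closure_pow_eq_powSub [Finite G] {p : ℕ} [Fact p.Prime] (hp2 : p ≠ 2)
    [hn : (zpowers a).Normal] (hu1 : (p : ℤ) ∣ u - 1) (s : ℕ) :
    closure {x : G | ∃ y : G, y ^ p ^ s = x} = powSub a b p s := by
  have hp : p.Prime := Fact.out
  apply le_antisymm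
  · rw [closure_le]
    rintro x ⟨y, rfl⟩
    obtain ⟨i, j, rfl⟩ := hgen_nat a b hgen y
    rw [pow_formula a b u hconj]
    have hy : (p : ℤ) ∣ u ^ j - 1 := dvd_trans hu1 (sub_one_dvd_pow_sub_one u j)
    have hS : (p : ℤ) ^ s ∣ ∑ r ∈ Finset.range (p ^ s), (u ^ j) ^ r :=
      pow_dvd_of_le_emultiplicity (emultiplicity_geom_sum p hp hp2 (u ^ j) hy s).ge
    obtain ⟨S', hS'⟩ := hS
    rw [SetLike.mem_coe, mem_powSub_iff]
    exact ⟨i * S', j, by rw [hS', mul_comm j]; congr 2; ring⟩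
  · rw [powSub]
    exact sup_le (zpowers_le.mpr (subset_closure ⟨a, rfl⟩))
      (zpowers_le.mpr (subset_closure ⟨b, rfl⟩))

include hconj hgen in
/-- `g` lies in the subgroup generated by `p^s`-th powers iff `g^(p^(n-s))` is central. -/
theorem mem_closure_pow_iff [Finite G] {p : ℕ} [Fact p.Prime] (hp2 : p ≠ 2)
    (hG : IsPGroup p G) [hn : (zpowers a).Normal] (hu1 : (p : ℤ) ∣ u - 1) (n : ℕ)
    (hGn : Nat.card (commutator G) = p ^ n) (s : ℕ) (hs : s ≤ n) (g : G) :
    g ∈ closure {x : G | ∃ y : G, y ^ p ^ s = x} ↔ g ^ (p ^ (n - s)) ∈ center G := by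
  have hns : n - (n - s) = s := by omega
  rw [closure_pow_eq_powSub a b u hconj hgen hp2 hu1 s, mem_powSub_iff]
  constructor
  · rintro ⟨k, l, rfl⟩
    rw [pow_prime_pow_mem_center_iff a b u hconj hgen hp2 hG hu1 n hGn, hns]
    refine ⟨dvd_mul_right _ _, ?_⟩
    push_cast
    exact dvd_mul_right _ _
  · intro h
    obtain ⟨i, j, rfl⟩ := hgen_nat a b hgen g
    rw [pow_prime_pow_mem_center_iff a b u hconj hgen hp2 hG hu1 n hGn, hns] at h
    obtain ⟨⟨k, rfl⟩, hj⟩ := h
    have hj' : p ^ s ∣ j := by exact_mod_cast hj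
    obtain ⟨l, rfl⟩ := hj'
    exact ⟨k, l, rfl⟩

end PowerSubgroups

section ClassSize

variable {p : ℕ} [Fact p.Prime] {G : Type u} [Group G]

theorem centralizer_sup_center (g : G) :
    centralizer ((zpowers g ⊔ center G : Subgroup G) : Set G) = centralizer ({g} : Set G) := by
  apply le_antisymm
  · intro c hc
    rw [mem_centralizer_iff] at hc
    rw [mem_centralizer_singleton_iff]
    exact (hc g ((le_sup_left : zpowers g ≤ zpowers g ⊔ center G) (mem_zpowers g))).symm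
  · intro c hc
    have h1 : zpowers g ⊔ center G ≤ centralizer ({c} : Set G) := by
      refine sup_le (zpowers_le.mpr ?_) (center_le_centralizer _)
      rw [mem_centralizer_singleton_iff] at hc ⊢
      exact hc.symm
    rw [mem_centralizer_iff]
    intro r hr
    have := h1 hr
    rw [mem_centralizer_singleton_iff] at this
    exact this

variable [Finite G]

/-- In a metacyclic `p`-group, `p` odd, the class size of `g` is the order of `g` mod `Z(G)`. -/
theorem index_centralizer_eq_orderOf (hp2 : p ≠ 2) (hG : IsPGroup p G)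
    (hmc : Cfsg.IsMetacyclic G) (g : G) :
    (centralizer ({g} : Set G)).index = orderOf ((g : G) : G ⧸ center G) := by
  have hZR : center G ≤ zpowers g ⊔ center G := le_sup_right
  have h1 := cd_measure_of_center_le hp2 hG hmc (zpowers g ⊔ center G) hZR
  rw [centralizer_sup_center, ← card_center_mul_card hp2 hG hmc] at h1
  have h2 := (centralizer ({g} : Set G)).card_mul_index
  have h3 : (center G).relIndex (zpowers g ⊔ center G) * Nat.card (center G) =
      Nat.card (zpowers g ⊔ center G : Subgroup G) := by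
    have := relIndex_mul_relIndex ⊥ (center G) (zpowers g ⊔ center G) bot_le hZR
    rw [relIndex_bot_left, relIndex_bot_left] at this
    rw [mul_comm]; exact this
  have h4 : (center G).relIndex (zpowers g ⊔ center G) = orderOf ((g : G) : G ⧸ center G) := by
    have := relIndex_comap (⊥ : Subgroup (G ⧸ center G)) (QuotientGroup.mk' (center G))
      (zpowers g ⊔ center G)
    rw [MonoidHom.comap_bot, QuotientGroup.ker_mk', relIndex_bot_left] at this
    rw [this, Subgroup.map_sup, MonoidHom.map_zpowers, QuotientGroup.map_mk'_self, sup_bot_eq,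
      Nat.card_zpowers]
    rfl
  rw [← h4]
  have hZ : 0 < Nat.card (center G) := Nat.card_pos
  have hC : 0 < Nat.card (centralizer ({g} : Set G)) := Nat.card_pos
  rw [← h3, ← h2] at h1
  have h5 : (center G).relIndex (zpowers g ⊔ center G) *
      (Nat.card (center G) * Nat.card (centralizer ({g} : Set G))) =
      (centralizer ({g} : Set G)).index *
      (Nat.card (center G) * Nat.card (centralizer ({g} : Set G))) := by
    linarith
  exact (Nat.eq_of_mul_eq_mul_right (Nat.mul_pos hZ hC) h5).symm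

/-- class size `≤ p^k` iff `g^(p^k)` central. -/
theorem index_centralizer_le_iff (hp2 : p ≠ 2) (hG : IsPGroup p G)
    (hmc : Cfsg.IsMetacyclic G) (g : G) (k : ℕ) :
    (centralizer ({g} : Set G)).index ≤ p ^ k ↔ g ^ (p ^ k) ∈ center G := by
  have hp : p.Prime := Fact.out
  rw [index_centralizer_eq_orderOf hp2 hG hmc g, ← QuotientGroup.eq_one_iff,
    QuotientGroup.mk_pow, ← orderOf_dvd_iff_pow_eq_one]
  have hQ : IsPGroup p (G ⧸ center G) := hG.to_quotient _
  obtain ⟨e, he⟩ := (IsPGroup.iff_orderOf.mp hQ) ((g : G) : G ⧸ center G)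
  rw [he, Nat.pow_dvd_pow_iff_le_right hp.one_lt]
  exact Nat.pow_le_pow_iff_right hp.one_lt

/-- Generators with `p ∣ u - 1`. -/
theorem exists_gens' (hG : IsPGroup p G) (hmc : Cfsg.IsMetacyclic G) :
    ∃ (a b : G) (u : ℤ), (zpowers a).Normal ∧ (∀ g : G, ∃ i j : ℤ, g = a ^ i * b ^ j) ∧
      b * a * b⁻¹ = a ^ u ∧ (p : ℤ) ∣ u - 1 := by
  obtain ⟨a, b, hn, hgen⟩ := exists_gens hmc
  by_cases ha1 : a = 1
  · subst ha1
    exact ⟨1, b, 1, hn, hgen, by simp, by simp⟩
  · obtain ⟨u, hu⟩ := mem_zpowers_iff.mp (hn.conj_mem a (mem_zpowers a) b)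
    exact ⟨a, b, u, hn, hgen, hu.symm, dvd_sub_one a b u hu.symm hG ha1⟩

/-- power subgroups by class size. -/
theorem mem_closure_pow_iff_index_le (hp2 : p ≠ 2) (hG : IsPGroup p G)
    (hmc : Cfsg.IsMetacyclic G) (n : ℕ) (hGn : Nat.card (commutator G) = p ^ n) (s : ℕ)
    (hs : s ≤ n) (g : G) :
    g ∈ closure {x : G | ∃ y : G, y ^ p ^ s = x} ↔
      (centralizer ({g} : Set G)).index ≤ p ^ (n - s) := by
  obtain ⟨a, b, u, hn, hgen, hconj, hu1⟩ := exists_gens' hG hmc
  rw [mem_closure_pow_iff a b u hconj hgen hp2 hG hu1 n hGn s hs g,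
    index_centralizer_le_iff hp2 hG hmc]

end ClassSize

end Cfsg.Agent.Helper19.Metacyclic
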