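import Mathlib
import Cfsg.Agent.Helper19.Metacyclic8

/-! Counting elements by class size in metacyclic `p`-groups, `p` odd. -/

namespace Cfsg.Agent.Helper19.Metacyclic

open Subgroup
open scoped commutatorElement

universe u

section Count

variable {G : Type u} [Group G] (a b : G) (u : ℤ) (hconj : b * a * b⁻¹ = a ^ u)
  (hgen : ∀ g : G, ∃ i j : ℤ, g = a ^ i * b ^ j)

include hconj hgen in
/-- `⟨a^(p^s)⟩ ∩ ⟨b^(p^s)⟩ = ⟨a⟩ ∩ ⟨b⟩` for `s ≤ n`. -/
theorem inf_zpowers_pow_eq [Finite G] {p : ℕ} [Fact p.Prime] (hp2 : p ≠ 2) (hG : IsPGroup p G)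
    [hn : (zpowers a).Normal] (n : ℕ) (hGn : Nat.card (commutator G) = p ^ n) (s : ℕ)
    (hs : s ≤ n) :
    zpowers (a ^ (p ^ s)) ⊓ zpowers (b ^ (p ^ s)) = zpowers a ⊓ zpowers b := by
  apply le_antisymm
  · exact inf_le_inf (zpowers_le.mpr (pow_mem (mem_zpowers a) _))
      (zpowers_le.mpr (pow_mem (mem_zpowers b) _))
  · rintro x ⟨hxa, hxb⟩
    obtain ⟨e, rfl⟩ := mem_zpowers_iff.mp hxa
    obtain ⟨f, hf⟩ := mem_zpowers_iff.mp hxb
    have hc : a ^ e ∈ center G := by
      rw [mem_center_iff' a b hgen]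
      refine ⟨zpow_a_mem_cent a e, ?_⟩
      rw [← hf]
      exact ((Commute.refl b).zpow_left f).eq
    have h1 := (zpow_a_mem_center_iff a b u hconj hgen e).mp hc
    have h2 : b ^ f ∈ centralizer (zpowers a : Set G) := by
      rw [hf]; exact center_le_centralizer _ hc
    have h3 := (zpow_b_mem_cent_iff a b u hconj hgen hp2 hG f).mp h2
    rw [hGn] at h1 h3
    push_cast at h1 h3
    have hd : (p : ℤ) ^ s ∣ (p : ℤ) ^ n := pow_dvd_pow _ hs
    obtain ⟨e', rfl⟩ := dvd_trans hd h1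
    obtain ⟨f', rfl⟩ := dvd_trans hd h3
    have hpsa : a ^ ((p : ℤ) ^ s) = a ^ (p ^ s) := by
      rw [← zpow_natCast]; push_cast; rfl
    have hpsb : b ^ ((p : ℤ) ^ s) = b ^ (p ^ s) := by
      rw [← zpow_natCast]; push_cast; rfl
    constructor
    · show _ ∈ zpowers (a ^ p ^ s)
      rw [mem_zpowers_iff]
      exact ⟨e', by rw [zpow_mul, hpsa]⟩
    · show _ ∈ zpowers (b ^ p ^ s)
      rw [← hf, mem_zpowers_iff]
      exact ⟨f', by rw [zpow_mul, hpsb]⟩

include hconj hgen in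
/-- `|⟨a^(p^s)⟩⟨b^(p^s)⟩| · p^(2s) = |G|` for `s ≤ n`. -/
theorem card_powSub [Finite G] {p : ℕ} [Fact p.Prime] (hp2 : p ≠ 2) (hG : IsPGroup p G)
    [hn : (zpowers a).Normal] (n : ℕ) (hGn : Nat.card (commutator G) = p ^ n) (s : ℕ)
    (hs : s ≤ n) :
    Nat.card (powSub a b p s) * p ^ (2 * s) = Nat.card G := by
  have hp : p.Prime := Fact.out
  have hpa : p ^ n ∣ orderOf a := by
    rw [← hGn, ← orderOf_zpow_one_sub a b u hconj hgen]
    exact orderOf_dvd_of_mem_zpowers (zpow_mem (mem_zpowers a) _)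
  have hpb : p ^ n ∣ orderOf b := by
    have h1 : b ^ ((orderOf b : ℕ) : ℤ) ∈ centralizer (zpowers a : Set G) := by
      rw [zpow_natCast, pow_orderOf_eq_one]; exact one_mem _
    have h2 := (zpow_b_mem_cent_iff a b u hconj hgen hp2 hG _).mp h1
    rw [hGn] at h2
    exact_mod_cast h2
  have hsn : p ^ s ∣ p ^ n := pow_dvd_pow _ hs
  have hps0 : p ^ s ≠ 0 := pow_ne_zero _ hp.ne_zero
  have hoa : orderOf (a ^ (p ^ s)) * p ^ s = orderOf a := by
    rw [orderOf_pow_of_dvd hps0 (dvd_trans hsn hpa)]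
    exact Nat.div_mul_cancel (dvd_trans hsn hpa)
  have hob : orderOf (b ^ (p ^ s)) * p ^ s = orderOf b := by
    rw [orderOf_pow_of_dvd hps0 (dvd_trans hsn hpb)]
    exact Nat.div_mul_cancel (dvd_trans hsn hpb)
  haveI : (zpowers (a ^ (p ^ s))).Normal := by
    rw [← zpow_natCast]; exact zpowers_zpow_normal a _
  have h1 := Cfsg.Agent.Helper17.card_sup_mul_card_inf_of_normal (zpowers (a ^ (p ^ s)))
    (zpowers (b ^ (p ^ s)))
  have h2 := Cfsg.Agent.Helper17.card_sup_mul_card_inf_of_normal (zpowers a) (zpowers b)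
  rw [inf_zpowers_pow_eq a b u hconj hgen hp2 hG n hGn s hs, Nat.card_zpowers,
    Nat.card_zpowers] at h1
  have htop : zpowers a ⊔ zpowers b = ⊤ := by
    rw [eq_top_iff]
    intro g _
    obtain ⟨i, j, rfl⟩ := hgen g
    exact mul_mem (mem_sup_left (zpow_mem (mem_zpowers a) i))
      (mem_sup_right (zpow_mem (mem_zpowers b) j))
  rw [htop, Nat.card_zpowers, Nat.card_zpowers, card_top] at h2
  have hD : 0 < Nat.card (zpowers a ⊓ zpowers b : Subgroup G) := Nat.card_pos
  apply Nat.eq_of_mul_eq_mul_right hD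
  rw [h2, ← hoa, ← hob]
  have : Nat.card (powSub a b p s) * p ^ (2 * s) * Nat.card (zpowers a ⊓ zpowers b : Subgroup G)
      = (Nat.card (zpowers (a ^ (p ^ s)) ⊔ zpowers (b ^ (p ^ s)) : Subgroup G) *
        Nat.card (zpowers a ⊓ zpowers b : Subgroup G)) * (p ^ s * p ^ s) := by
    rw [powSub, two_mul, pow_add]; ring
  rw [this, h1]
  ring

end Count

section Count2

variable {p : ℕ} [Fact p.Prime] {G : Type u} [Group G] [Finite G]

/-- The number of elements with class size at most `p^k` is `|Z(G)| p^(2k)`, `k ≤ n`. -/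
theorem ncard_index_le (hp2 : p ≠ 2) (hG : IsPGroup p G) (hmc : Cfsg.IsMetacyclic G) (n : ℕ)
    (hGn : Nat.card (commutator G) = p ^ n) (k : ℕ) (hk : k ≤ n) :
    {g : G | (centralizer ({g} : Set G)).index ≤ p ^ k}.ncard =
      Nat.card (center G) * p ^ (2 * k) := by
  have hp : p.Prime := Fact.out
  obtain ⟨a, b, u, hn, hgen, hconj, hu1⟩ := exists_gens' hG hmc
  have hs : n - k ≤ n := Nat.sub_le _ _
  have hnk : n - (n - k) = k := by omega
  have hset : {g : G | (centralizer ({g} : Set G)).index ≤ p ^ k} =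
      (powSub a b p (n - k) : Set G) := by
    ext g
    rw [Set.mem_ofPred_eq, SetLike.mem_coe, ← closure_pow_eq_powSub a b u hconj hgen hp2 hu1,
      mem_closure_pow_iff_index_le hp2 hG hmc n hGn (n - k) hs g, hnk]
  rw [hset]
  have h1 : (powSub a b p (n - k) : Set G).ncard = Nat.card (powSub a b p (n - k)) :=
    (Nat.card_coe_set_eq _).symm
  rw [h1]
  have h2 := card_powSub a b u hconj hgen hp2 hG n hGn (n - k) hs
  have h3 := (center G).card_mul_index
  rw [index_center_eq a b u hconj hgen hp2 hG, hGn] at h3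
  have hpos : 0 < p ^ (2 * (n - k)) := pow_pos hp.pos _
  apply Nat.eq_of_mul_eq_mul_right hpos
  rw [h2, ← h3, mul_assoc, ← pow_add, ← pow_mul]
  congr 2
  omega

/-- The number of elements with class size exactly `p^i` is `|Z(G)| (p^(2i) - p^(2i-2))`. -/
theorem card_index_eq (hp2 : p ≠ 2) (hG : IsPGroup p G) (hmc : Cfsg.IsMetacyclic G) (n : ℕ)
    (hGn : Nat.card (commutator G) = p ^ n) (i : ℕ) (hi : 1 ≤ i) (hin : i ≤ n) :
    Nat.card {g : G // (centralizer ({g} : Set G)).index = p ^ i} =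
      Nat.card (center G) * (p ^ (2 * i) - p ^ (2 * i - 2)) := by
  have hp : p.Prime := Fact.out
  have hset : {g : G | (centralizer ({g} : Set G)).index = p ^ i} =
      {g : G | (centralizer ({g} : Set G)).index ≤ p ^ i} \
        {g : G | (centralizer ({g} : Set G)).index ≤ p ^ (i - 1)} := by
    ext g
    simp only [Set.mem_ofPred_eq, Set.mem_sdiff]
    obtain ⟨e, he⟩ := hG.index (centralizer ({g} : Set G))
    rw [he, Nat.pow_le_pow_iff_right hp.one_lt, Nat.pow_le_pow_iff_right hp.one_lt,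
      Nat.pow_right_injective hp.two_le |>.eq_iff]
    omega
  have hsub : {g : G | (centralizer ({g} : Set G)).index ≤ p ^ (i - 1)} ⊆
      {g : G | (centralizer ({g} : Set G)).index ≤ p ^ i} := by
    intro g hg
    exact le_trans hg (Nat.pow_le_pow_right hp.pos (Nat.sub_le _ _))
  have h0 : Nat.card {g : G // (centralizer ({g} : Set G)).index = p ^ i} =
      {g : G | (centralizer ({g} : Set G)).index = p ^ i}.ncard := Nat.card_coe_set_eq _
  rw [h0, hset, Set.ncard_sdiff hsub (Set.toFinite _),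
    ncard_index_le hp2 hG hmc n hGn i hin,
    ncard_index_le hp2 hG hmc n hGn (i - 1) (le_trans (Nat.sub_le _ _) hin)]
  have h2 : 2 * (i - 1) = 2 * i - 2 := by omega
  rw [h2, Nat.mul_sub]

end Count2

end Cfsg.Agent.Helper19.Metacyclic
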