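import Mathlib
import Cfsg.Agent.Helper19.Metacyclic9
import Cfsg.Agent.Helper23.Cyclic

/-! A metacyclic `p`-group, `p` odd, is a product of two cyclic subgroups with trivial
intersection. -/

namespace Cfsg.Agent.Helper19.Metacyclic

open Subgroup
open scoped commutatorElement

universe u

/-- For `p` odd and `y ≡ 1 mod p`, `v_p(1 + y + ⋯ + y^(w-1)) = v_p(w)`. -/
theorem emultiplicity_geom_sum' (p : ℕ) (hp : p.Prime) (hp2 : p ≠ 2) (y : ℤ)
    (hy : (p : ℤ) ∣ y - 1) (w : ℕ) :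
    emultiplicity (p : ℤ) (∑ r ∈ Finset.range w, y ^ r) = emultiplicity p w := by
  have hodd : Odd p := hp.eq_two_or_odd'.resolve_left hp2
  have hpp : Prime (p : ℤ) := Nat.prime_iff_prime_int.mp hp
  by_cases hy1 : y = 1
  · subst hy1
    simp only [one_pow, Finset.sum_const, Finset.card_range, nsmul_eq_mul, mul_one]
    exact Int.natCast_emultiplicity p w
  have hpy : ¬ (p : ℤ) ∣ y := by
    intro h'
    have h1 : (p : ℤ) ∣ 1 := by
      have := dvd_sub h' hy
      simpa using this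
    exact hpp.not_isUnit (isUnit_of_dvd_one h1)
  have hlte := Int.emultiplicity_pow_sub_pow hp hodd (x := y) (y := 1) (by simpa using hy) hpy w
  rw [one_pow] at hlte
  have hgeo : (∑ r ∈ Finset.range w, y ^ r) * (y - 1) = y ^ w - 1 := geom_sum_mul y w
  rw [← hgeo, emultiplicity_mul hpp] at hlte
  have hfin : FiniteMultiplicity (p : ℤ) (y - 1) := by
    rw [Int.finiteMultiplicity_iff]
    refine ⟨?_, sub_ne_zero.mpr hy1⟩
    simpa using hp.one_lt.ne'
  have hne : emultiplicity (p : ℤ) (y - 1) ≠ ⊤ := (emultiplicity_lt_top.mpr hfin).ne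
  obtain ⟨c, hc⟩ := ENat.ne_top_iff_exists.mp hne
  rw [← hc] at hlte
  rw [add_comm] at hlte
  exact (ENat.add_right_injective_of_ne_top (ENat.natCast_ne_top c)) hlte

theorem pow_dvd_geom_sum_iff (p : ℕ) (hp : p.Prime) (hp2 : p ≠ 2) (y : ℤ)
    (hy : (p : ℤ) ∣ y - 1) (w n : ℕ) :
    (p : ℤ) ^ n ∣ ∑ r ∈ Finset.range w, y ^ r ↔ p ^ n ∣ w := by
  rw [pow_dvd_iff_le_emultiplicity, pow_dvd_iff_le_emultiplicity,
    emultiplicity_geom_sum' p hp hp2 y hy w]

/-- Solve `i * S ≡ -(p^t * c) mod p^m` when `v_p(S) = t ≤ m`. -/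
theorem exists_mul_add_dvd (p : ℕ) (hp : p.Prime) (S : ℤ) (t m : ℕ) (htm : t ≤ m)
    (hS : emultiplicity (p : ℤ) S = t) (c : ℤ) :
    ∃ i : ℤ, ((p : ℤ) ^ m ∣ i * S + (p : ℤ) ^ t * c) ∧
      (t < m → ¬ (p : ℤ) ∣ c → ¬ (p : ℤ) ∣ i) := by
  have hpp : Prime (p : ℤ) := Nat.prime_iff_prime_int.mp hp
  obtain ⟨σ, hσ⟩ : (p : ℤ) ^ t ∣ S := pow_dvd_of_le_emultiplicity hS.ge
  have hpσ : ¬ (p : ℤ) ∣ σ := by
    rintro ⟨σ', rfl⟩
    have h1 : (p : ℤ) ^ (t + 1) ∣ S := ⟨σ', by rw [hσ, pow_succ]; ring⟩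
    rw [pow_dvd_iff_le_emultiplicity, hS] at h1
    have : t + 1 ≤ t := by exact_mod_cast h1
    omega
  have hcop : IsCoprime σ ((p : ℤ) ^ (m - t)) :=
    ((hpp.irreducible.coprime_iff_not_dvd).mpr hpσ).symm.pow_right
  obtain ⟨α, β, hαβ⟩ := hcop
  refine ⟨-(c * α), ?_, ?_⟩
  · refine ⟨c * β, ?_⟩
    have hm : (p : ℤ) ^ m = (p : ℤ) ^ t * (p : ℤ) ^ (m - t) := by
      rw [← pow_add]; congr 1; omega
    rw [hσ, hm]
    have : β * (p : ℤ) ^ (m - t) = 1 - α * σ := by linarith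
    calc -(c * α) * ((p : ℤ) ^ t * σ) + (p : ℤ) ^ t * c
        = (p : ℤ) ^ t * c * (1 - α * σ) := by ring
      _ = (p : ℤ) ^ t * c * (β * (p : ℤ) ^ (m - t)) := by rw [this]
      _ = (p : ℤ) ^ t * (p : ℤ) ^ (m - t) * (c * β) := by ring
  · intro htm' hc hi
    rw [dvd_neg] at hi
    rcases hpp.dvd_or_dvd hi with h | h
    · exact hc h
    · have h1 : (p : ℤ) ∣ (p : ℤ) ^ (m - t) := dvd_pow_self _ (by omega)
      have h2 : (p : ℤ) ∣ α * σ + β * (p : ℤ) ^ (m - t) :=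
        dvd_add (Dvd.dvd.mul_right h σ) (Dvd.dvd.mul_left h1 β)
      rw [hαβ] at h2
      exact hpp.not_isUnit (isUnit_of_dvd_one h2)

section Factor

variable {G : Type u} [Group G]

/-- the unique subgroup of order `p^d` in `⟨x⟩`, `|x| = p^m`. -/
theorem eq_zpowers_pow_of_card [Finite G] {p : ℕ} [Fact p.Prime] (x : G) (m d : ℕ)
    (hx : orderOf x = p ^ m) (hd : d ≤ m) (D : Subgroup G) (hD : D ≤ zpowers x)
    (hDc : Nat.card D = p ^ d) : D = zpowers (x ^ (p ^ (m - d))) := by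
  have hp : p.Prime := Fact.out
  apply Cfsg.Agent.Helper23.eq_of_card_eq_of_isCyclic (zpowers x) inferInstance D _ hD
    (zpowers_le.mpr (pow_mem (mem_zpowers x) _))
  rw [hDc, Nat.card_zpowers, orderOf_pow_of_dvd (pow_ne_zero _ hp.ne_zero)
    (by rw [hx]; exact pow_dvd_pow _ (Nat.sub_le _ _)), hx, Nat.pow_div (Nat.sub_le _ _) hp.pos]
  congr 1
  omega

theorem dvd_of_zpow_mem {p : ℕ} (x : G) (m r : ℕ) (hx : orderOf x = p ^ m)
    (hr : r ≤ m) (z : ℤ) (h : x ^ z ∈ zpowers (x ^ (p ^ r))) : (p : ℤ) ^ r ∣ z := by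
  obtain ⟨c, hc⟩ := mem_zpowers_iff.mp h
  rw [← zpow_natCast, ← zpow_mul, zpow_eq_zpow_iff_modEq, hx] at hc
  have h1 := hc.dvd
  have h2 : (p : ℤ) ^ r ∣ ((p ^ m : ℕ) : ℤ) := by
    push_cast; exact pow_dvd_pow _ hr
  have h3 : (p : ℤ) ^ r ∣ ((p ^ r : ℕ) : ℤ) * c := by
    push_cast; exact dvd_mul_right _ _
  have h4 := dvd_add (dvd_trans h2 h1) h3
  rwa [sub_add_cancel] at h4

variable (a b : G) (u : ℤ) (hconj : b * a * b⁻¹ = a ^ u)
  (hgen : ∀ g : G, ∃ i j : ℤ, g = a ^ i * b ^ j)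

include hconj hgen in
theorem exists_cyclic_factorization [Finite G] {p : ℕ} [Fact p.Prime] (hp2 : p ≠ 2)
    (hG : IsPGroup p G) [hn : (zpowers a).Normal] (hu1 : (p : ℤ) ∣ u - 1) :
    ∃ A B : Subgroup G, IsCyclic A ∧ IsCyclic B ∧ A ⊓ B = ⊥ ∧
      Nat.card A * Nat.card B = Nat.card G := by
  have hp : p.Prime := Fact.out
  have hpp : Prime (p : ℤ) := Nat.prime_iff_prime_int.mp hp
  obtain ⟨m, hm⟩ := (IsPGroup.iff_orderOf.mp hG) a
  obtain ⟨k, hk⟩ := (IsPGroup.iff_orderOf.mp hG) b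
  obtain ⟨d, hd⟩ := IsPGroup.exists_card_eq (hG.to_subgroup (zpowers a ⊓ zpowers b))
  have hdm : d ≤ m := by
    have := Subgroup.card_dvd_of_le (inf_le_left : zpowers a ⊓ zpowers b ≤ zpowers a)
    rw [hd, Nat.card_zpowers, hm] at this
    exact (Nat.pow_dvd_pow_iff_le_right hp.one_lt).mp this
  have hdk : d ≤ k := by
    have := Subgroup.card_dvd_of_le (inf_le_right : zpowers a ⊓ zpowers b ≤ zpowers b)
    rw [hd, Nat.card_zpowers, hk] at this
    exact (Nat.pow_dvd_pow_iff_le_right hp.one_lt).mp this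
  have htop : zpowers a ⊔ zpowers b = ⊤ := by
    rw [eq_top_iff]
    intro g _
    obtain ⟨i, j, rfl⟩ := hgen g
    exact mul_mem (mem_sup_left (zpow_mem (mem_zpowers a) i))
      (mem_sup_right (zpow_mem (mem_zpowers b) j))
  have hcard : Nat.card G * p ^ d = p ^ m * p ^ k := by
    have h2 := Cfsg.Agent.Helper17.card_sup_mul_card_inf_of_normal (zpowers a) (zpowers b)
    rw [htop, Nat.card_zpowers, Nat.card_zpowers, card_top, hd, hm, hk] at h2
    exact h2
  have hDa := eq_zpowers_pow_of_card a m d hm hdm _ inf_le_left hd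
  have hDb := eq_zpowers_pow_of_card b k d hk hdk _ inf_le_right hd
  have hmem : ∀ z : ℤ, a ^ z ∈ zpowers b → (p : ℤ) ^ (m - d) ∣ z := by
    intro z hz
    have h1 : a ^ z ∈ zpowers a ⊓ zpowers b := ⟨zpow_mem (mem_zpowers a) z, hz⟩
    rw [hDa] at h1
    exact dvd_of_zpow_mem a m (m - d) hm (Nat.sub_le _ _) z h1
  obtain ⟨c, hc⟩ : ∃ c : ℤ, b ^ (p ^ (k - d)) = a ^ ((p : ℤ) ^ (m - d) * c) := by
    have h1 : b ^ (p ^ (k - d)) ∈ zpowers a ⊓ zpowers b := by
      rw [hDb]; exact mem_zpowers _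
    rw [hDa] at h1
    obtain ⟨c, hc⟩ := mem_zpowers_iff.mp h1
    refine ⟨c, ?_⟩
    rw [← hc, zpow_mul, ← zpow_natCast a (p ^ (m - d))]
    push_cast
    rfl
  have hzpow_one : ∀ z : ℤ, (p : ℤ) ^ m ∣ z → a ^ z = 1 := by
    intro z hz
    rw [← orderOf_dvd_iff_zpow_eq_one, hm]
    exact_mod_cast hz
  -- Case 0 : trivial intersection
  by_cases hd0 : d = 0
  · subst hd0
    refine ⟨zpowers a, zpowers b, inferInstance, inferInstance, ?_, ?_⟩
    · rw [pow_zero] at hd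
      exact (Subgroup.card_eq_one).mp hd
    · rw [Nat.card_zpowers, Nat.card_zpowers, hm, hk, ← hcard, pow_zero, mul_one]
  by_cases hkm : k ≤ m
  · -- Case 1 : modify `b`
    have hS := emultiplicity_geom_sum p hp hp2 (u ^ 1) (by simpa using hu1) (k - d)
    obtain ⟨i, hi, -⟩ := exists_mul_add_dvd p hp _ (k - d) m (by omega) hS
      ((p : ℤ) ^ (m - k) * c)
    have hpow : (a ^ i * b ^ 1) ^ (p ^ (k - d)) = 1 := by
      rw [pow_formula a b u hconj, one_mul, hc, ← zpow_add]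
      apply hzpow_one
      have : (p : ℤ) ^ (k - d) * ((p : ℤ) ^ (m - k) * c) = (p : ℤ) ^ (m - d) * c := by
        rw [← mul_assoc, ← pow_add]; congr 2; omega
      rw [← this]
      exact hi
    have hord : orderOf (a ^ i * b ^ 1) ≤ p ^ (k - d) :=
      Nat.le_of_dvd (pow_pos hp.pos _) (orderOf_dvd_of_pow_eq_one hpow)
    have htop' : zpowers a ⊔ zpowers (a ^ i * b ^ 1) = ⊤ := by
      rw [eq_top_iff, ← htop]
      refine sup_le le_sup_left (zpowers_le.mpr ?_)
      have h1 : (a ^ i)⁻¹ * (a ^ i * b ^ 1) ∈ zpowers a ⊔ zpowers (a ^ i * b ^ 1) :=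
        mul_mem (mem_sup_left (inv_mem (zpow_mem (mem_zpowers a) i)))
          (mem_sup_right (mem_zpowers _))
      have h2 : (a ^ i)⁻¹ * (a ^ i * b ^ 1) = b := by group
      rwa [h2] at h1
    have h2 := Cfsg.Agent.Helper17.card_sup_mul_card_inf_of_normal (zpowers a)
      (zpowers (a ^ i * b ^ 1))
    rw [htop', card_top, Nat.card_zpowers, Nat.card_zpowers, hm] at h2
    have hG' : Nat.card G = p ^ m * p ^ (k - d) := by
      apply Nat.eq_of_mul_eq_mul_right (pow_pos hp.pos d)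
      rw [hcard, mul_assoc]
      congr 1
      rw [← pow_add]
      congr 1
      omega
    have hone : Nat.card (zpowers a ⊓ zpowers (a ^ i * b ^ 1) : Subgroup G) = 1 := by
      have hpos : 0 < Nat.card (zpowers a ⊓ zpowers (a ^ i * b ^ 1) : Subgroup G) :=
        Nat.card_pos
      have hGpos : 0 < Nat.card G := Nat.card_pos
      have h3 : Nat.card G * Nat.card (zpowers a ⊓ zpowers (a ^ i * b ^ 1) : Subgroup G) ≤
          Nat.card G * 1 := by
        rw [h2, mul_one, hG']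
        exact Nat.mul_le_mul_left _ hord
      have := Nat.le_of_mul_le_mul_left h3 hGpos
      omega
    refine ⟨zpowers a, zpowers (a ^ i * b ^ 1), inferInstance, inferInstance,
      (Subgroup.card_eq_one).mp hone, ?_⟩
    rw [hone, mul_one] at h2
    rw [Nat.card_zpowers, Nat.card_zpowers, hm, h2]
  · -- Case 2 : modify `a`
    push Not at hkm
    have hy : (p : ℤ) ∣ u ^ (p ^ (k - m)) - 1 :=
      dvd_trans hu1 (sub_one_dvd_pow_sub_one u _)
    have hS := emultiplicity_geom_sum p hp hp2 (u ^ (p ^ (k - m))) hy (m - d)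
    have hpc : ¬ (p : ℤ) ∣ c := by
      rintro ⟨c', rfl⟩
      have h1 : (b ^ (p ^ (k - d))) ^ (p ^ (d - 1)) = 1 := by
        rw [hc, ← zpow_natCast, ← zpow_mul]
        apply hzpow_one
        refine ⟨c', ?_⟩
        push_cast
        have : (p : ℤ) ^ m = (p : ℤ) ^ (m - d) * (p : ℤ) * (p : ℤ) ^ (d - 1) := by
          rw [← pow_succ, ← pow_add]; congr 1; omega
        rw [this]; ring
      rw [← pow_mul, ← pow_add] at h1
      have h2 := orderOf_dvd_of_pow_eq_one h1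
      rw [hk, Nat.pow_dvd_pow_iff_le_right hp.one_lt] at h2
      omega
    obtain ⟨i, hi, hpi⟩ := exists_mul_add_dvd p hp _ (m - d) m (by omega) hS c
    have hpi' : ¬ (p : ℤ) ∣ i := hpi (by omega) hpc
    have hpow : (a ^ i * b ^ (p ^ (k - m))) ^ (p ^ (m - d)) = 1 := by
      rw [pow_formula a b u hconj, ← pow_add]
      have : k - m + (m - d) = k - d := by omega
      rw [this, hc, ← zpow_add]
      exact hzpow_one _ hi
    have key : ∀ w : ℕ, (a ^ i * b ^ (p ^ (k - m))) ^ w ∈ zpowers b → p ^ (m - d) ∣ w := by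
      intro w hw
      rw [pow_formula a b u hconj] at hw
      have h1 : a ^ (i * ∑ s ∈ Finset.range w, (u ^ p ^ (k - m)) ^ s) ∈ zpowers b := by
        have := mul_mem hw (inv_mem (pow_mem (mem_zpowers b) (p ^ (k - m) * w)))
        rwa [mul_inv_cancel_right] at this
      have h2 := hmem _ h1
      have hcop : IsCoprime ((p : ℤ) ^ (m - d)) i :=
        ((hpp.irreducible.coprime_iff_not_dvd).mpr hpi').pow_left
      have h3 := hcop.dvd_of_dvd_mul_left h2
      exact (pow_dvd_geom_sum_iff p hp hp2 _ hy w (m - d)).mp h3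
    have hord : orderOf (a ^ i * b ^ (p ^ (k - m))) = p ^ (m - d) := by
      apply Nat.dvd_antisymm (orderOf_dvd_of_pow_eq_one hpow)
      apply key
      rw [pow_orderOf_eq_one]
      exact one_mem _
    refine ⟨zpowers (a ^ i * b ^ (p ^ (k - m))), zpowers b, inferInstance, inferInstance, ?_, ?_⟩
    · rw [eq_bot_iff]
      rintro x ⟨hx1, hx2⟩
      have hx1' : x ∈ Submonoid.powers (a ^ i * b ^ (p ^ (k - m))) :=
        (isOfFinOrder_of_finite _).mem_powers_iff_mem_zpowers.mpr hx1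
      obtain ⟨w, rfl⟩ := (Submonoid.mem_powers_iff _ _).mp hx1'
      have h1 := key w hx2
      rw [← hord] at h1
      rw [mem_bot]
      exact orderOf_dvd_iff_pow_eq_one.mp h1
    · rw [Nat.card_zpowers, Nat.card_zpowers, hord, hk]
      apply Nat.eq_of_mul_eq_mul_right (pow_pos hp.pos d)
      rw [hcard, mul_right_comm, ← pow_add]
      congr 2
      omega

end Factor

end Cfsg.Agent.Helper19.Metacyclic
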