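import Mathlib
import Cfsg.Agent.Helper4.MinIdxDefs
import Cfsg.Agent.Helper4.MinIdxCommon
import Cfsg.Agent.Helper12.CrossCharA
import Cfsg.Agent.Helper12.SLNonzero

set_option autoImplicit false
set_option linter.unusedVariables false
set_option linter.unusedSectionVars false

/-! S2140 piece OVER: a proper subgroup of `SL_(m+1)` containing `Qc e₀` and the block `SL_m`
lies in the line stabilizer of `e₀`. -/

namespace Cfsg.Agent.S2140P

open Matrix Cfsg.Agent.Helper12.TVG Cfsg.Agent.Helper12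

namespace OVER

variable {m : ℕ} {F : Type*} [Field F]

theorem succE_mul_apply_zero (N : Matrix (Fin m) (Fin (m + 1)) F) (j : Fin (m + 1)) :
    (succE m F * N) 0 j = 0 :=
  succE_mulVec_zero (F := F) (fun k => N k j)

theorem succE_mul_apply_succ (N : Matrix (Fin m) (Fin (m + 1)) F) (i : Fin m) (j : Fin (m + 1)) :
    (succE m F * N) i.succ j = N i j :=
  succE_mulVec_succ (F := F) (fun k => N k j) i

theorem mul_succE_transpose_apply_zero (B : Matrix (Fin m) (Fin m) F) (k : Fin m) :
    (B * (succE m F)ᵀ) k 0 = 0 := by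
  have h := succE_mulVec_zero (F := F) (fun l => B k l)
  rw [← h]
  simp only [Matrix.mul_apply, Matrix.transpose_apply, Matrix.mulVec, dotProduct]
  exact Finset.sum_congr rfl (fun l _ => mul_comm _ _)

theorem mul_succE_transpose_apply_succ (B : Matrix (Fin m) (Fin m) F) (k j : Fin m) :
    (B * (succE m F)ᵀ) k j.succ = B k j := by
  have h := succE_mulVec_succ (F := F) (fun l => B k l) j
  rw [← h]
  simp only [Matrix.mul_apply, Matrix.transpose_apply, Matrix.mulVec, dotProduct]
  exact Finset.sum_congr rfl (fun l _ => mul_comm _ _)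

theorem blockSL_coe (A : SLn m F) :
    ((blockSL m F A : SLn (m + 1) F) : Matrix (Fin (m + 1)) (Fin (m + 1)) F) =
      1 + succE m F * (((A : Matrix (Fin m) (Fin m) F) - 1) * (succE m F)ᵀ) := by
  show embMat (succE m F) (succE m F)ᵀ (A : Matrix (Fin m) (Fin m) F) = _
  rw [embMat, Matrix.mul_assoc]

theorem blockSL_apply_zero (A : SLn m F) (j : Fin (m + 1)) :
    ((blockSL m F A : SLn (m + 1) F) : Matrix (Fin (m + 1)) (Fin (m + 1)) F) 0 j =
      (1 : Matrix (Fin (m + 1)) (Fin (m + 1)) F) 0 j := by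
  rw [blockSL_coe, Matrix.add_apply, succE_mul_apply_zero, add_zero]

theorem blockSL_apply_succ_zero (A : SLn m F) (i : Fin m) :
    ((blockSL m F A : SLn (m + 1) F) : Matrix (Fin (m + 1)) (Fin (m + 1)) F) i.succ 0 = 0 := by
  rw [blockSL_coe, Matrix.add_apply, succE_mul_apply_succ, mul_succE_transpose_apply_zero,
    add_zero, Matrix.one_apply_ne (Fin.succ_ne_zero i)]

theorem blockSL_apply_succ_succ (A : SLn m F) (i j : Fin m) :
    ((blockSL m F A : SLn (m + 1) F) : Matrix (Fin (m + 1)) (Fin (m + 1)) F) i.succ j.succ =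
      (A : Matrix (Fin m) (Fin m) F) i j := by
  rw [blockSL_coe, Matrix.add_apply, succE_mul_apply_succ, mul_succE_transpose_apply_succ,
    Matrix.sub_apply]
  by_cases hij : i = j
  · subst hij
    simp
  · rw [Matrix.one_apply_ne hij, Matrix.one_apply_ne (fun h => hij (Fin.succ_injective m h))]
    simp

/-- The first standard basis vector (same as `e0` of the stub file). -/
abbrev e0' (m : ℕ) (F : Type*) [Field F] : Fin (m + 1) → F := Pi.single 0 1

theorem col_zero_of_fix (g : SLn (m + 1) F)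
    (hg : (g : Matrix (Fin (m + 1)) (Fin (m + 1)) F) *ᵥ e0' m F = e0' m F) (i : Fin (m + 1)) :
    (g : Matrix (Fin (m + 1)) (Fin (m + 1)) F) i 0 = (Pi.single 0 1 : Fin (m + 1) → F) i := by
  have := congrFun hg i
  rw [Matrix.mulVec_single_one] at this
  exact this

theorem det_block_of_fix (g : SLn (m + 1) F)
    (hg : (g : Matrix (Fin (m + 1)) (Fin (m + 1)) F) *ᵥ e0' m F = e0' m F) :
    ((g : Matrix (Fin (m + 1)) (Fin (m + 1)) F).submatrix Fin.succ Fin.succ).det = 1 := by
  have h := Matrix.det_succ_column_zero (g : Matrix (Fin (m + 1)) (Fin (m + 1)) F)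
  rw [g.2, Fin.sum_univ_succ] at h
  have h0 : ∀ i : Fin m, (g : Matrix (Fin (m + 1)) (Fin (m + 1)) F) i.succ 0 = 0 := by
    intro i
    rw [col_zero_of_fix g hg, Pi.single_eq_of_ne (Fin.succ_ne_zero i)]
  have h00 : (g : Matrix (Fin (m + 1)) (Fin (m + 1)) F) 0 0 = 1 := by
    rw [col_zero_of_fix g hg, Pi.single_eq_same]
  rw [Finset.sum_eq_zero (fun i _ => by rw [h0 i]; ring), add_zero, h00, Fin.succAbove_zero] at h
  simpa using h.symm

/-- The vector stabilizer of `e₀` lies in every subgroup containing `Qc e₀` and the block `SL_m`. -/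
theorem mem_of_fix (M : Subgroup (SLn (m + 1) F))
    (h1 : ∀ (φ : Fin (m + 1) → F) (h : φ ⬝ᵥ e0' m F = 0), TS (e0' m F) φ h ∈ M)
    (h2 : ∀ g : SLn m F, blockSL m F g ∈ M) (g : SLn (m + 1) F)
    (hg : (g : Matrix (Fin (m + 1)) (Fin (m + 1)) F) *ᵥ e0' m F = e0' m F) : g ∈ M := by
  set A : SLn m F := ⟨(g : Matrix (Fin (m + 1)) (Fin (m + 1)) F).submatrix Fin.succ Fin.succ,
    det_block_of_fix g hg⟩ with hA
  set φ : Fin (m + 1) → F := fun j => (g : Matrix (Fin (m + 1)) (Fin (m + 1)) F) 0 j -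
    (Pi.single 0 1 : Fin (m + 1) → F) j with hφdef
  have h00 : (g : Matrix (Fin (m + 1)) (Fin (m + 1)) F) 0 0 = 1 := by
    rw [col_zero_of_fix g hg, Pi.single_eq_same]
  have hφ : φ ⬝ᵥ e0' m F = 0 := by
    rw [dotProduct_single, mul_one, hφdef]
    simp only [Pi.single_eq_same]
    rw [h00, sub_self]
  have hdec : g = blockSL m F A * TS (e0' m F) φ hφ := by
    apply Subtype.ext
    rw [Matrix.SpecialLinearGroup.coe_mul]
    ext i j
    rw [Matrix.mul_apply, TS_coe]
    unfold TM
    refine Fin.cases ?_ (fun i' => ?_) i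
    · -- row 0
      simp only [blockSL_apply_zero, Matrix.one_apply]
      rw [Finset.sum_eq_single 0]
      · simp only [if_true, one_mul, Matrix.add_apply, vecMulVec_apply, Matrix.one_apply,
          Pi.single_eq_same, hφdef]
        by_cases hj : 0 = j
        · subst hj
          simp [h00]
        · rw [if_neg hj, Pi.single_eq_of_ne (fun h => hj h.symm)]
          ring
      · intro k _ hk
        rw [if_neg (fun h => hk h.symm), zero_mul]
      · intro h
        exact (h (Finset.mem_univ _)).elim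
    · -- row `i'.succ`
      rw [Fin.sum_univ_succ, blockSL_apply_succ_zero, zero_mul, zero_add]
      simp only [blockSL_apply_succ_succ, Matrix.add_apply, vecMulVec_apply,
        Pi.single_eq_of_ne (Fin.succ_ne_zero _), zero_mul, add_zero]
      refine Fin.cases ?_ (fun j' => ?_) j
      · rw [col_zero_of_fix g hg, Pi.single_eq_of_ne (Fin.succ_ne_zero i')]
        apply (Finset.sum_eq_zero _).symm
        intro k _
        rw [Matrix.one_apply_ne (Fin.succ_ne_zero k), mul_zero]
      · rw [Finset.sum_eq_single j']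
        · rw [Matrix.one_apply_eq, mul_one]
          rfl
        · intro k _ hk
          rw [Matrix.one_apply_ne (fun h => hk (Fin.succ_injective m h)), mul_zero]
        · intro h
          exact (h (Finset.mem_univ _)).elim
  rw [hdec]
  exact M.mul_mem (h2 A) (h1 φ hφ)

end OVER

section

variable {m : ℕ} {F : Type*} [Field F] [Fintype F]

local notation "e0" => OVER.e0'

/-- OVER (`e0 m F` of the stub file is the abbreviation `Pi.single 0 1`, here `OVER.e0' m F`). -/
theorem over_le_Gl (hm : 2 ≤ m) (M : Subgroup (SLn (m + 1) F)) (hM : M ≠ ⊤)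
    (h1 : ∀ (φ : Fin (m + 1) → F) (h : φ ⬝ᵥ e0 m F = 0), TS (e0 m F) φ h ∈ M)
    (h2 : ∀ g : SLn m F, blockSL m F g ∈ M) : M ≤ Gl (e0 m F) := by
  classical
  have he0 : e0 m F ≠ 0 := by
    intro h
    have := congrFun h 0
    simp at this
  have hfix : ∀ g : SLn (m + 1) F,
      (g : Matrix (Fin (m + 1)) (Fin (m + 1)) F) *ᵥ e0 m F = e0 m F → g ∈ M :=
    OVER.mem_of_fix M h1 h2
  -- every member of `M` maps `e₀` into the line `F e₀`
  have hline : ∀ g ∈ M, ∃ c : F, (g : Matrix (Fin (m + 1)) (Fin (m + 1)) F) *ᵥ e0 m F = c • e0 m F := by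
    intro g hg
    by_contra hcon
    push Not at hcon
    apply hM
    -- `w = g e₀` is not on the line
    set w : Fin (m + 1) → F := (g : Matrix (Fin (m + 1)) (Fin (m + 1)) F) *ᵥ e0 m F with hw
    have hw0 : w ≠ 0 := sl_mulVec_ne_zero g he0
    -- every vector off the line is in the `M`-orbit of `e₀`
    have horb1 : ∀ x : Fin (m + 1) → F, (∀ a : F, a • e0 m F ≠ x) →
        ∃ k ∈ M, (k : Matrix (Fin (m + 1)) (Fin (m + 1)) F) *ᵥ e0 m F = x := by
      intro x hx
      have hx0 : x ≠ 0 := by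
        intro h
        exact hx 0 (by rw [zero_smul, h])
      obtain ⟨k, hk1, hk2⟩ := nzVec_exists_smul_pair (by omega : 3 ≤ m + 1)
        (⟨e0 m F, he0⟩ : NzVec (m + 1) F) ⟨w, hw0⟩ ⟨e0 m F, he0⟩ ⟨x, hx0⟩
        (fun a h => hcon a h.symm) hx
      have hk1' : (k : Matrix (Fin (m + 1)) (Fin (m + 1)) F) *ᵥ e0 m F = e0 m F :=
        congrArg Subtype.val hk1
      have hk2' : (k : Matrix (Fin (m + 1)) (Fin (m + 1)) F) *ᵥ w = x :=
        congrArg Subtype.val hk2
      refine ⟨k * g, M.mul_mem (hfix k hk1') hg, ?_⟩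
      rw [Matrix.SpecialLinearGroup.coe_mul, ← Matrix.mulVec_mulVec, ← hw, hk2']
    -- every nonzero vector is in the `M`-orbit of `e₀`
    have horb : ∀ x : Fin (m + 1) → F, x ≠ 0 →
        ∃ k ∈ M, (k : Matrix (Fin (m + 1)) (Fin (m + 1)) F) *ᵥ e0 m F = x := by
      intro x hx0
      by_cases hx : ∀ a : F, a • e0 m F ≠ x
      · exact horb1 x hx
      · push Not at hx
        obtain ⟨c, hc⟩ := hx
        have hc0 : c ≠ 0 := by
          intro h
          apply hx0
          rw [← hc, h, zero_smul]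
        -- `c w` is off the line
        have hcw : ∀ a : F, a • e0 m F ≠ c • w := by
          intro a h
          apply hcon (c⁻¹ * a)
          rw [mul_smul, h, smul_smul, inv_mul_cancel₀ hc0, one_smul]
        obtain ⟨k', hk', hk'e⟩ := horb1 (c • w) hcw
        refine ⟨g⁻¹ * k', M.mul_mem (M.inv_mem hg) hk', ?_⟩
        rw [Matrix.SpecialLinearGroup.coe_mul, ← Matrix.mulVec_mulVec, hk'e, Matrix.mulVec_smul,
          hw, sl_inv_mulVec_mulVec, hc]
    rw [eq_top_iff]
    intro y _
    obtain ⟨k, hk, hke⟩ := horb _ (sl_mulVec_ne_zero y he0)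
    have : k⁻¹ * y ∈ M := by
      apply hfix
      rw [Matrix.SpecialLinearGroup.coe_mul, ← Matrix.mulVec_mulVec, ← hke, sl_inv_mulVec_mulVec]
    have hy : y = k * (k⁻¹ * y) := by group
    rw [hy]
    exact M.mul_mem hk this
  intro g hg
  obtain ⟨c, hc⟩ := hline g hg
  have hc0 : c ≠ 0 := by
    intro h
    rw [h, zero_smul] at hc
    exact sl_mulVec_ne_zero g he0 hc
  refine ⟨c, hc, ?_, hc0⟩
  have h3 := sl_inv_mulVec_mulVec g (e0 m F)
  rw [hc, Matrix.mulVec_smul] at h3
  calc ((g⁻¹ : SLn (m + 1) F) : Matrix (Fin (m + 1)) (Fin (m + 1)) F) *ᵥ e0 m F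
      = c⁻¹ • (c • (((g⁻¹ : SLn (m + 1) F) : Matrix (Fin (m + 1)) (Fin (m + 1)) F) *ᵥ e0 m F)) := by
        rw [smul_smul, inv_mul_cancel₀ hc0, one_smul]
    _ = c⁻¹ • e0 m F := by rw [h3]

end

end Cfsg.Agent.S2140P
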