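import Mathlib
import Cfsg.Agent.Helper4.MinIdxDefs
import Cfsg.Agent.Helper18.Dickson31

set_option autoImplicit false
set_option linter.unusedVariables false
set_option linter.unusedSectionVars false

/-! S2140 piece SL2MIN: the minimal index `q + 1` of a proper subgroup, lifted from `PSL_2(q)`
(S0806) to `SL_2(q)`. -/

namespace Cfsg.Agent.S2140P

namespace SL2MIN

open scoped commutatorElement

theorem comm_mul_central_left {G : Type*} [Group G] {z : G} (hz : z ∈ Subgroup.center G)
    (g h : G) : ⁅g * z, h⁆ = ⁅g, h⁆ := by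
  have hc : ∀ x : G, x * z = z * x := fun x => Subgroup.mem_center_iff.mp hz x
  rw [commutatorElement_def, commutatorElement_def, mul_inv_rev]
  have h1 : g * z * h = g * h * z := by rw [mul_assoc, ← hc h, ← mul_assoc]
  rw [h1]
  group

theorem comm_mul_central_right {G : Type*} [Group G] {z : G} (hz : z ∈ Subgroup.center G)
    (g h : G) : ⁅g, h * z⁆ = ⁅g, h⁆ := by
  have hc : ∀ x : G, x * z = z * x := fun x => Subgroup.mem_center_iff.mp hz x
  rw [commutatorElement_def, commutatorElement_def, mul_inv_rev]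
  have h1 : g * (h * z) * g⁻¹ = g * h * g⁻¹ * z := by
    rw [← mul_assoc, mul_assoc (g * h) z, ← hc g⁻¹, ← mul_assoc]
  rw [h1]
  group

/-- A perfect group `G` with `T ⊔ Z(G) = ⊤` has `T = ⊤`. -/
theorem eq_top_of_sup_center {G : Type*} [Group G] (hperf : commutator G = ⊤) (T : Subgroup G)
    (hsup : T ⊔ Subgroup.center G = ⊤) : T = ⊤ := by
  rw [eq_top_iff, ← hperf, commutator_def, Subgroup.commutator_le]
  intro x _ y _
  have hx : x ∈ T ⊔ Subgroup.center G := by rw [hsup]; trivial
  have hy : y ∈ T ⊔ Subgroup.center G := by rw [hsup]; trivial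
  obtain ⟨t1, ht1, z1, hz1, rfl⟩ := Subgroup.mem_sup_of_normal_right.mp hx
  obtain ⟨t2, ht2, z2, hz2, rfl⟩ := Subgroup.mem_sup_of_normal_right.mp hy
  rw [comm_mul_central_left hz1, comm_mul_central_right hz2, commutatorElement_def]
  exact T.mul_mem (T.mul_mem (T.mul_mem ht1 ht2) (T.inv_mem ht1)) (T.inv_mem ht2)

theorem exists_ne_zero_sq_ne_one {F : Type*} [Field F] [Fintype F] (h4 : 4 ≤ Fintype.card F) :
    ∃ a : F, a ≠ 0 ∧ a ^ 2 ≠ 1 := by
  classical
  by_contra hcon
  push Not at hcon
  have hsub : (Finset.univ : Finset F) ⊆ {0, 1, -1} := by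
    intro a _
    by_cases ha : a = 0
    · simp [ha]
    have h := hcon a ha
    have h' : (a - 1) * (a + 1) = 0 := by linear_combination h
    rcases mul_eq_zero.mp h' with h | h
    · have : a = 1 := by linear_combination h
      simp [this]
    · have : a = -1 := by linear_combination h
      simp [this]
  have := Finset.card_le_card hsub
  rw [Finset.card_univ] at this
  have h3 : ({0, 1, -1} : Finset F).card ≤ 3 := Finset.card_le_three
  omega

end SL2MIN

theorem sl2_min {F : Type*} [Field F] [Fintype F]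
    (hq : Fintype.card F ∉ ({2, 3, 5, 7, 9, 11} : Finset ℕ)) (T : Subgroup (SLn 2 F)) (hT : T ≠ ⊤) :
    Fintype.card F + 1 ≤ T.index := by
  classical
  have hq4 : 4 ≤ Fintype.card F := by
    have h1 : 1 < Fintype.card F := Fintype.one_lt_card
    have hq' := hq
    simp only [Finset.mem_insert, Finset.mem_singleton, not_or] at hq'
    omega
  obtain ⟨a, ha, hasq⟩ := SL2MIN.exists_ne_zero_sq_ne_one hq4
  have hperf : commutator (SLn 2 F) = ⊤ := Matrix.SL2.commutator_eq_top ha hasq
  set π := QuotientGroup.mk' (Subgroup.center (SLn 2 F)) with hπ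
  have hsurj : Function.Surjective π := QuotientGroup.mk'_surjective _
  by_cases hTbar : T.map π = ⊤
  · exfalso
    apply hT
    apply SL2MIN.eq_top_of_sup_center hperf
    have := Subgroup.comap_map_eq π T
    rw [hTbar, Subgroup.comap_top, QuotientGroup.ker_mk'] at this
    exact this.symm
  · have h1 := (Cfsg.Agent.Helper18.Dickson.min_index hq).1 (T.map π) hTbar
    have h2 : (T.map π).index ∣ T.index := Subgroup.index_map_dvd T hsurj
    have h3 : T.index ≠ 0 := Subgroup.index_ne_zero_of_finite
    exact le_trans h1 (Nat.le_of_dvd (Nat.pos_of_ne_zero h3) h2)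

end Cfsg.Agent.S2140P
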