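import Mathlib
import Cfsg.Agent.Helper19.IrrCyclic
import Cfsg.Agent.Helper19.Sylow
import Cfsg.Agent.Lead.CoprimeSylow
import Cfsg.Agent.Helper20.Sylow

/-! Common structure lemma for "minimal non-closed" groups: `G = N ⋊ P` with `N` a minimal normal
`p'`-subgroup, `P` a Sylow `p`-subgroup acting faithfully, and every proper `Q M` (`Q ≤ P`,
`M ≤ N`) a direct product.  Then `|P| = p`, `N` is elementary abelian of order `q ^ e`. -/

namespace Cfsg.Agent.Helper19

open Subgroup

variable {G : Type*} [Group G] [Finite G]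

/-- Elements of a `p`-subgroup lying in a subgroup of order prime to `p` are trivial. -/
lemma eq_one_of_mem_pgroup_of_mem_pprime {p : ℕ} [Fact p.Prime] {P N : Subgroup G}
    (hP : IsPGroup p P) (hNp : ¬ p ∣ Nat.card N) {g : G} (hgP : g ∈ P) (hgN : g ∈ N) : g = 1 := by
  have hp : p.Prime := Fact.out
  obtain ⟨k, hk⟩ := IsPGroup.iff_card.mp hP
  have h1 : orderOf g ∣ p ^ k := hk ▸ Subgroup.orderOf_dvd_natCard P hgP
  have h2 : orderOf g ∣ Nat.card N := Subgroup.orderOf_dvd_natCard N hgN
  have hcop : (p ^ k).Coprime (Nat.card N) :=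
    Nat.Coprime.pow_left k ((Nat.Prime.coprime_iff_not_dvd hp).mpr hNp)
  have : orderOf g = 1 := Nat.eq_one_of_dvd_coprimes hcop h1 h2
  exact orderOf_eq_one_iff.mp this

omit [Finite G] in
/-- Everything centralizes the trivial subgroup. -/
lemma le_centralizer_bot' (Q : Subgroup G) : Q ≤ centralizer ((⊥ : Subgroup G) : Set G) := by
  intro g _
  rw [Subgroup.mem_centralizer_iff]
  intro y hy
  have : y = 1 := hy
  subst this
  simp

/-- A minimal normal subgroup which is a `q`-group is elementary abelian. -/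
lemma elemAb_of_minimal_normal_pgroup {q : ℕ} [Fact q.Prime] (N : Subgroup G) [hNn : N.Normal]
    (hNmin : ∀ B : Subgroup G, B.Normal → B ≤ N → B = ⊥ ∨ B = N) (hN : IsPGroup q N) :
    (∀ a ∈ N, ∀ b ∈ N, a * b = b * a) ∧ ∀ a ∈ N, a ^ q = 1 := by
  by_cases hbot : N = ⊥
  · subst hbot
    constructor
    · intro a ha b hb
      rw [Subgroup.mem_bot] at ha hb
      rw [ha, hb]
    · intro a ha
      rw [Subgroup.mem_bot] at ha
      rw [ha, one_pow]
  have hnt : Nontrivial ↥N := (Subgroup.nontrivial_iff_ne_bot N).mpr hbot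
  -- abelian
  have hcomm : ∀ a ∈ N, ∀ b ∈ N, a * b = b * a := by
    have hZnt : Nontrivial ↥(center ↥N) := hN.center_nontrivial
    have hZn : ((center ↥N).map N.subtype).Normal := ConjAct.normal_of_characteristic_of_normal
    have hZle : (center ↥N).map N.subtype ≤ N := Subgroup.map_subtype_le _
    rcases hNmin _ hZn hZle with h | h
    · exfalso
      rw [Subgroup.map_eq_bot_iff_of_injective _ N.subtype_injective] at h
      exact (Subgroup.nontrivial_iff_ne_bot _).mp hZnt h
    · intro a ha b hb
      have ha' : a ∈ (center ↥N).map N.subtype := by rw [h]; exact ha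
      obtain ⟨a', ha'c, rfl⟩ := ha'
      have := Subgroup.mem_center_iff.mp ha'c ⟨b, hb⟩
      have h3 := congrArg Subtype.val this
      simpa using h3.symm
  refine ⟨hcomm, ?_⟩
  -- exponent q
  let B : Subgroup G :=
    { carrier := {x | x ∈ N ∧ x ^ q = 1}
      one_mem' := ⟨N.one_mem, one_pow _⟩
      mul_mem' := by
        rintro a b ⟨ha, ha'⟩ ⟨hb, hb'⟩
        refine ⟨N.mul_mem ha hb, ?_⟩
        have hc : Commute a b := hcomm a ha b hb
        rw [hc.mul_pow, ha', hb', one_mul]
      inv_mem' := by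
        rintro a ⟨ha, ha'⟩
        exact ⟨N.inv_mem ha, by rw [inv_pow, ha', inv_one]⟩ }
  have hBmem : ∀ x, x ∈ B ↔ x ∈ N ∧ x ^ q = 1 := fun x => Iff.rfl
  have hBn : B.Normal := by
    constructor
    intro x hx g
    rw [hBmem] at hx ⊢
    refine ⟨hNn.conj_mem x hx.1 g, ?_⟩
    rw [conj_pow, hx.2, mul_one, mul_inv_cancel]
  have hBle : B ≤ N := fun x hx => ((hBmem x).mp hx).1
  rcases hNmin B hBn hBle with h | h
  · exfalso
    have hq : q ∣ Nat.card ↥N := by
      obtain ⟨k, hk⟩ := IsPGroup.iff_card.mp hN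
      rw [hk]
      have hk0 : k ≠ 0 := by
        rintro rfl
        rw [pow_zero] at hk
        have := (Nat.card_eq_one_iff_unique.mp hk).1
        exact not_subsingleton ↥N this
      exact dvd_pow_self q hk0
    obtain ⟨x, hx⟩ := exists_prime_orderOf_dvd_card' q hq
    have hxB : (x : G) ∈ B := by
      rw [hBmem]
      refine ⟨x.2, ?_⟩
      have := pow_orderOf_eq_one x
      rw [hx] at this
      have h3 := congrArg Subtype.val this
      simpa using h3
    rw [h, Subgroup.mem_bot] at hxB
    have : x = 1 := Subtype.ext hxB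
    rw [this, orderOf_one] at hx
    exact (Fact.out : q.Prime).one_lt.ne hx
  · intro a ha
    have : a ∈ B := h ▸ ha
    exact ((hBmem a).mp this).2

/-- A nontrivial non-simple finite group has a proper minimal normal subgroup. -/
lemma exists_minimal_normal_of_not_simple (hnt : Nontrivial G) (hns : ¬ IsSimpleGroup G) :
    ∃ N : Subgroup G, N.Normal ∧ N ≠ ⊥ ∧ N ≠ ⊤ ∧
      ∀ B : Subgroup G, B.Normal → B ≤ N → B = ⊥ ∨ B = N := by
  have hK : ∃ K : Subgroup G, K.Normal ∧ K ≠ ⊥ ∧ K ≠ ⊤ := by
    by_contra h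
    push Not at h
    apply hns
    exact
      { toNontrivial := hnt
        eq_bot_or_eq_top_of_normal := fun H hH => by
          by_cases hb : H = ⊥
          · left; exact hb
          · right; exact h H hH hb }
  obtain ⟨K, hKn, hKbot, hKtop⟩ := hK
  let S : Set (Subgroup G) := {N | N.Normal ∧ N ≠ ⊥ ∧ N ≤ K}
  have hSfin : S.Finite := Set.toFinite S
  have hSne : S.Nonempty := ⟨K, hKn, hKbot, le_rfl⟩
  obtain ⟨N, hN⟩ := hSfin.exists_minimal hSne
  obtain ⟨⟨hNn, hNbot, hNK⟩, hmin⟩ := hN
  refine ⟨N, hNn, hNbot, ?_, ?_⟩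
  · rintro rfl
    exact hKtop (top_le_iff.mp hNK)
  · intro B hBn hBN
    by_cases hb : B = ⊥
    · left; exact hb
    · right
      exact le_antisymm hBN (hmin ⟨hBn, hb, hBN.trans hNK⟩ hBN)

/-- **Structure lemma.** -/
theorem minNonClosed_structure {p : ℕ} [Fact p.Prime] (N : Subgroup G) [hNn : N.Normal]
    (hNmin : ∀ B : Subgroup G, B.Normal → B ≤ N → B = ⊥ ∨ B = N)
    (hNp : ¬ p ∣ Nat.card N) (P : Sylow p G) (hPN : (P : Subgroup G) ⊔ N = ⊤)
    (hPne : (P : Subgroup G) ≠ ⊥)
    (h1 : ∀ Q M : Subgroup G, Q ≤ P → M ≤ N → Q ≤ normalizer (M : Set G) → Q ⊔ M ≠ ⊤ →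
      Q ≤ centralizer (M : Set G))
    (h2 : (P : Subgroup G) ⊓ centralizer (N : Set G) = ⊥) :
    ∃ q : ℕ, q.Prime ∧ q ≠ p ∧ Nat.card G = p * q ^ orderOf (q : ZMod p) ∧
      Nat.card N = q ^ orderOf (q : ZMod p) ∧ (∀ a ∈ N, ∀ b ∈ N, a * b = b * a) ∧
        ∀ a ∈ N, a ^ q = 1 := by
  have hp : p.Prime := Fact.out
  have hdisj : ∀ g, g ∈ (P : Subgroup G) → g ∈ N → g = 1 := fun g hgP hgN =>
    eq_one_of_mem_pgroup_of_mem_pprime P.2 hNp hgP hgN
  have hNnorm : ∀ Q : Subgroup G, Q ≤ normalizer (N : Set G) := fun Q => by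
    rw [normalizer_eq_top_iff.mpr hNn]; exact le_top
  -- N ≠ ⊥
  have hNbot : N ≠ ⊥ := by
    rintro rfl
    apply hPne
    rw [← h2]
    exact (inf_eq_left.mpr (le_centralizer_bot' _)).symm
  -- (i) N is a q-group
  have hq : ∃ q : ℕ, q.Prime ∧ IsPGroup q N := by
    obtain ⟨k, hk⟩ := IsPGroup.iff_card.mp P.2
    have hcop : (Nat.card (P : Subgroup G)).Coprime (Nat.card N) := by
      rw [hk]
      exact Nat.Coprime.pow_left k ((Nat.Prime.coprime_iff_not_dvd hp).mpr hNp)
    have hPsolv : Group.IsSolvable (P : Subgroup G) := by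
      have : Group.IsNilpotent (P : Subgroup G) := P.2.isNilpotent
      infer_instance
    have key : ∀ (r : ℕ) [Fact r.Prime], ∃ R : Sylow r N,
        ((R : Subgroup N).map N.subtype = N) ∨
          (P : Subgroup G) ≤ centralizer (((R : Subgroup N).map N.subtype : Subgroup G) : Set G) := by
      intro r _
      obtain ⟨R, hR⟩ := Cfsg.Agent.Lead.coprime_exists_invariant_sylow (P : Subgroup G) N
        (hNnorm _) hcop (Or.inl hPsolv) r
      refine ⟨R, ?_⟩
      have hRle : (R : Subgroup N).map N.subtype ≤ N := Subgroup.map_subtype_le _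
      by_cases hT : (P : Subgroup G) ⊔ (R : Subgroup N).map N.subtype = ⊤
      · have hRn : ((R : Subgroup N).map N.subtype).Normal := by
          rw [← normalizer_eq_top_iff, eq_top_iff, ← hT]
          exact sup_le hR le_normalizer
        rcases hNmin _ hRn hRle with h | h
        · right
          rw [h]
          exact le_centralizer_bot' _
        · left; exact h
      · right
        exact h1 _ _ le_rfl hRle hR hT
    by_cases hex : ∃ (r : ℕ) (_ : Fact r.Prime), ∃ R : Sylow r N,
        (R : Subgroup N).map N.subtype = N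
    · obtain ⟨r, hr, R, hR⟩ := hex
      refine ⟨r, hr.out, ?_⟩
      have h3 : IsPGroup r ((R : Subgroup N).map N.subtype) := R.2.map N.subtype
      rw [hR] at h3
      exact h3
    · exfalso
      push Not at hex
      have htop : (centralizer ((P : Subgroup G) : Set G)).subgroupOf N = ⊤ := by
        apply Cfsg.Agent.Helper20.eq_top_of_forall_sylow_le
        intro r hr
        obtain ⟨R, hR⟩ := key r
        rcases hR with hR | hR
        · exact absurd hR (hex r hr R)
        · refine ⟨R, ?_⟩
          rw [le_centralizer_iff] at hR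
          intro x hx
          rw [Subgroup.mem_subgroupOf]
          exact hR (Subgroup.mem_map_of_mem _ hx)
      rw [subgroupOf_eq_top, ← le_centralizer_iff] at htop
      apply hPne
      rw [← h2]
      exact (inf_eq_left.mpr htop).symm
  obtain ⟨q, hqp, hNq⟩ := hq
  haveI : Fact q.Prime := ⟨hqp⟩
  obtain ⟨hcomm, hexp⟩ := elemAb_of_minimal_normal_pgroup N hNmin hNq
  have hnt : Nontrivial ↥N := (Subgroup.nontrivial_iff_ne_bot N).mpr hNbot
  have hqN : q ∣ Nat.card ↥N := by
    obtain ⟨k, hk⟩ := IsPGroup.iff_card.mp hNq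
    rw [hk]
    have hk0 : k ≠ 0 := by
      rintro rfl
      rw [pow_zero] at hk
      have := (Nat.card_eq_one_iff_unique.mp hk).1
      exact not_subsingleton ↥N this
    exact dvd_pow_self q hk0
  have hqnep : q ≠ p := by
    rintro rfl
    exact hNp hqN
  -- (iii) P is generated by an element of order p
  have hPnt : Nontrivial ↥(P : Subgroup G) := (Subgroup.nontrivial_iff_ne_bot _).mpr hPne
  have hpP : p ∣ Nat.card ↥(P : Subgroup G) := by
    obtain ⟨k, hk⟩ := IsPGroup.iff_card.mp P.2
    rw [hk]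
    have hk0 : k ≠ 0 := by
      rintro rfl
      rw [pow_zero] at hk
      have := (Nat.card_eq_one_iff_unique.mp hk).1
      exact not_subsingleton ↥(P : Subgroup G) this
    exact dvd_pow_self p hk0
  obtain ⟨x', hx'⟩ := exists_prime_orderOf_dvd_card' p hpP
  set x : G := (x' : G) with hxdef
  have hxP : x ∈ (P : Subgroup G) := x'.2
  have hxord : orderOf x = p := by
    rw [hxdef, Subgroup.orderOf_coe, hx']
  have hxne : x ≠ 1 := by
    intro h
    rw [h, orderOf_one] at hxord
    exact hp.one_lt.ne hxord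
  have hxnc : x ∉ centralizer (N : Set G) := by
    intro h
    have : x ∈ (P : Subgroup G) ⊓ centralizer (N : Set G) := ⟨hxP, h⟩
    rw [h2, Subgroup.mem_bot] at this
    exact hxne this
  have hzle : zpowers x ≤ (P : Subgroup G) := by
    rw [zpowers_le]; exact hxP
  have hPz : (P : Subgroup G) ≤ zpowers x := by
    by_contra hnle
    have hne : zpowers x ⊔ N ≠ ⊤ := by
      intro htop
      apply hnle
      intro y hy
      have hy' : y ∈ ((zpowers x ⊔ N : Subgroup G) : Set G) := by
        rw [htop]; trivial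
      rw [Subgroup.mul_normal] at hy'
      obtain ⟨a, ha, n, hn, rfl⟩ := hy'
      have hn' : n ∈ (P : Subgroup G) := by
        have : n = a⁻¹ * (a * n) := by group
        rw [this]
        exact (P : Subgroup G).mul_mem ((P : Subgroup G).inv_mem (hzle ha)) hy
      have := hdisj n hn' hn
      show a * n ∈ zpowers x
      rw [this, mul_one]
      exact ha
    have := h1 (zpowers x) N hzle le_rfl (hNnorm _) hne
    exact hxnc (this (mem_zpowers x))
  have hPeq : (P : Subgroup G) = zpowers x := le_antisymm hPz hzle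
  have hPcard : Nat.card (P : Subgroup G) = p := by
    rw [hPeq, Nat.card_zpowers, hxord]
  -- (iv)
  have hcardN : Nat.card N = q ^ orderOf (q : ZMod p) := by
    apply card_eq_of_irreducible_conj hqnep N hcomm hexp x ((hNnorm ⊤) (mem_top x))
    · rw [← hxord]; exact pow_orderOf_eq_one x
    · by_contra hall
      push Not at hall
      apply hxnc
      rw [Subgroup.mem_centralizer_iff]
      intro a ha
      exact (hall a ha).symm
    · intro B hBN hxB
      apply hNmin B _ hBN
      rw [← normalizer_eq_top_iff, eq_top_iff, ← hPN, hPeq]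
      apply sup_le
      · rw [zpowers_le]; exact hxB
      · intro n hn
        apply mem_normalizer_of_forall
        intro b hb
        have : n * b * n⁻¹ = b := by
          rw [hcomm n hn b (hBN hb), mul_inv_cancel_right]
        rw [this]; exact hb
  refine ⟨q, hqp, hqnep, ?_, hcardN, hcomm, hexp⟩
  have hcompl : IsComplement' (P : Subgroup G) N := by
    apply isComplement'_of_disjoint_and_mul_eq_univ
    · rw [disjoint_iff, eq_bot_iff]
      intro g hg
      rw [Subgroup.mem_bot]
      exact hdisj g hg.1 hg.2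
    · rw [← Subgroup.mul_normal, hPN]; rfl
  rw [← hcompl.card_mul_card, hPcard, hcardN]

end Cfsg.Agent.Helper19
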