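import Mathlib
import Cfsg.Prelude.Def_GeometricClasses
import Cfsg.Agent.Helper19.Mono.Defs
import Cfsg.Agent.Helper19.S5634MONOGRP

/-! S5634 monomial half, piece BIG: a non-monomial `A`-supported element with `|A| ≥ 3` is impossible. -/

set_option autoImplicit false

namespace Cfsg.Agent.MonoP

open Matrix

variable {ι : Type} [Fintype ι] [DecidableEq ι] {K : Type*} [Field K] [Fintype K]

namespace BIG

theorem suppOn_mul {A : Finset ι} {g h : Matrix ι ι K} (hg : SuppOn A g) (hh : SuppOn A h) :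
    SuppOn A (g * h) := by
  intro i j hij
  rcases hij with hi | hj
  · calc (g * h) i j = ∑ r, g i r * h r j := Matrix.mul_apply
      _ = ∑ r, (1 : Matrix ι ι K) i r * h r j :=
          Finset.sum_congr rfl (fun r _ => by rw [hg i r (Or.inl hi)])
      _ = ((1 : Matrix ι ι K) * h) i j := Matrix.mul_apply.symm
      _ = h i j := by rw [Matrix.one_mul]
      _ = (1 : Matrix ι ι K) i j := hh i j (Or.inl hi)
  · calc (g * h) i j = ∑ r, g i r * h r j := Matrix.mul_apply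
      _ = ∑ r, g i r * (1 : Matrix ι ι K) r j :=
          Finset.sum_congr rfl (fun r _ => by rw [hh r j (Or.inr hj)])
      _ = (g * (1 : Matrix ι ι K)) i j := Matrix.mul_apply.symm
      _ = g i j := by rw [Matrix.mul_one]
      _ = (1 : Matrix ι ι K) i j := hg i j (Or.inr hj)

theorem suppOn_inv {A : Finset ι} (g : GL ι K) (hg : SuppOn A (g : Matrix ι ι K)) :
    SuppOn A ((g⁻¹ : GL ι K) : Matrix ι ι K) := by
  have h1 : (g : Matrix ι ι K) * ((g⁻¹ : GL ι K) : Matrix ι ι K) = 1 := by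
    rw [← Units.val_mul, mul_inv_cancel, Units.val_one]
  have h2 : ((g⁻¹ : GL ι K) : Matrix ι ι K) * (g : Matrix ι ι K) = 1 := by
    rw [← Units.val_mul, inv_mul_cancel, Units.val_one]
  intro i j hij
  rcases hij with hi | hj
  · calc ((g⁻¹ : GL ι K) : Matrix ι ι K) i j
        = ((1 : Matrix ι ι K) * ((g⁻¹ : GL ι K) : Matrix ι ι K)) i j := by rw [Matrix.one_mul]
      _ = ∑ r, (1 : Matrix ι ι K) i r * ((g⁻¹ : GL ι K) : Matrix ι ι K) r j := Matrix.mul_apply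
      _ = ∑ r, (g : Matrix ι ι K) i r * ((g⁻¹ : GL ι K) : Matrix ι ι K) r j :=
          Finset.sum_congr rfl (fun r _ => by rw [hg i r (Or.inl hi)])
      _ = ((g : Matrix ι ι K) * ((g⁻¹ : GL ι K) : Matrix ι ι K)) i j := Matrix.mul_apply.symm
      _ = (1 : Matrix ι ι K) i j := by rw [h1]
  · calc ((g⁻¹ : GL ι K) : Matrix ι ι K) i j
        = (((g⁻¹ : GL ι K) : Matrix ι ι K) * (1 : Matrix ι ι K)) i j := by rw [Matrix.mul_one]
      _ = ∑ r, ((g⁻¹ : GL ι K) : Matrix ι ι K) i r * (1 : Matrix ι ι K) r j := Matrix.mul_apply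
      _ = ∑ r, ((g⁻¹ : GL ι K) : Matrix ι ι K) i r * (g : Matrix ι ι K) r j :=
          Finset.sum_congr rfl (fun r _ => by rw [hg r j (Or.inr hj)])
      _ = (((g⁻¹ : GL ι K) : Matrix ι ι K) * (g : Matrix ι ι K)) i j := Matrix.mul_apply.symm
      _ = (1 : Matrix ι ι K) i j := by rw [h2]

theorem suppOn_dg {A : Finset ι} (d : ι → Kˣ) (hd : ∀ i, i ∉ A → d i = 1) :
    SuppOn A ((dg d : GL ι K) : Matrix ι ι K) := by
  intro i j hij
  rw [dg_val]
  by_cases h : i = j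
  · subst h
    have hi : i ∉ A := by rcases hij with h | h <;> exact h
    rw [Matrix.diagonal_apply_eq, Matrix.one_apply_eq, hd i hi, Units.val_one]
  · rw [Matrix.diagonal_apply_ne _ h, Matrix.one_apply_ne h]

theorem dg_mem (H : Subgroup (GL ι K)) (hmon : MonoLE H) (d : ι → Kˣ) : dg d ∈ H := by
  apply hmon
  refine ⟨1, fun i j hij => ?_⟩
  rw [dg_val]
  exact Matrix.diagonal_apply_ne _ (by simpa using hij)

/-- entries of `g * dg d * g⁻¹` -/
theorem conj_apply (g : GL ι K) (d : ι → Kˣ) (i k : ι) :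
    ((g * dg d * g⁻¹ : GL ι K) : Matrix ι ι K) i k
      = (1 : Matrix ι ι K) i k + ∑ r, (((d r : Kˣ) : K) - 1) *
          ((g : Matrix ι ι K) i r * ((g⁻¹ : GL ι K) : Matrix ι ι K) r k) := by
  have h1 : (g : Matrix ι ι K) * ((g⁻¹ : GL ι K) : Matrix ι ι K) = 1 := by
    rw [← Units.val_mul, mul_inv_cancel, Units.val_one]
  rw [Units.val_mul, Units.val_mul, dg_val, Matrix.mul_apply]
  have h2 : (1 : Matrix ι ι K) i k = ∑ r, (g : Matrix ι ι K) i r * ((g⁻¹ : GL ι K) : Matrix ι ι K) r k := by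
    rw [← h1, Matrix.mul_apply]
  rw [h2, ← Finset.sum_add_distrib]
  apply Finset.sum_congr rfl
  intro r _
  rw [Matrix.mul_diagonal]
  ring

theorem not_isMono_of_col (x : Matrix ι ι K) (k i₁ i₂ : ι) (h12 : i₁ ≠ i₂) (h1 : x i₁ k ≠ 0)
    (h2 : x i₂ k ≠ 0) : ¬ IsMono x := by
  rintro ⟨σ, hσ⟩
  have e1 : i₁ = σ k := by
    by_contra h; exact h1 (hσ _ _ h)
  have e2 : i₂ = σ k := by
    by_contra h; exact h2 (hσ _ _ h)
  exact h12 (e1.trans e2.symm)

theorem not_isMono_of_row (x : Matrix ι ι K) (i k₁ k₂ : ι) (h12 : k₁ ≠ k₂) (h1 : x i k₁ ≠ 0)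
    (h2 : x i k₂ ≠ 0) : ¬ IsMono x := by
  rintro ⟨σ, hσ⟩
  have e1 : i = σ k₁ := by
    by_contra h; exact h1 (hσ _ _ h)
  have e2 : i = σ k₂ := by
    by_contra h; exact h2 (hσ _ _ h)
  exact h12 (σ.injective (e1.symm.trans e2))

/-- conjugating `d1 r ε` -/
theorem conj_d1_apply (g : GL ι K) (r : ι) (ε : Kˣ) (i k : ι) :
    ((g * d1 r ε * g⁻¹ : GL ι K) : Matrix ι ι K) i k
      = (1 : Matrix ι ι K) i k + ((ε : K) - 1) *
          ((g : Matrix ι ι K) i r * ((g⁻¹ : GL ι K) : Matrix ι ι K) r k) := by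
  unfold d1
  rw [conj_apply]
  congr 1
  rw [Finset.sum_eq_single r]
  · rw [Function.update_self]
  · intro b _ hb
    rw [Function.update_of_ne hb, Units.val_one, sub_self, zero_mul]
  · intro h; exact absurd (Finset.mem_univ _) h

end BIG

/-- BIG (L): `|A| ≥ 3` is impossible. -/
theorem BIG.false (hK : 5 ≤ Fintype.card K) (H : Subgroup (GL ι K)) (hmon : MonoLE H) (A : Finset ι)
    (h3 : 3 ≤ A.card)
    (hNZ : ∀ y : GL ι K, y ∈ H → SuppOn A (y : Matrix ι ι K) → ¬ IsMono (y : Matrix ι ι K) →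
      ∀ i ∈ A, ∀ k ∈ A, (y : Matrix ι ι K) i k ≠ 0)
    (g : GL ι K) (hg : g ∈ H) (hA : SuppOn A (g : Matrix ι ι K)) (hnm : ¬ IsMono (g : Matrix ι ι K)) :
    False := by
  classical
  have hg' : g⁻¹ ∈ H := H.inv_mem hg
  have hA' : SuppOn A ((g⁻¹ : GL ι K) : Matrix ι ι K) := BIG.suppOn_inv g hA
  have hnm' : ¬ IsMono ((g⁻¹ : GL ι K) : Matrix ι ι K) := by
    intro h
    have := MONOGRP.isMono_inv (g⁻¹) h
    rw [inv_inv] at this
    exact hnm this
  have hnz := hNZ g hg hA hnm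
  have hnz' := hNZ g⁻¹ hg' hA' hnm'
  -- conjugates of diagonal matrices supported on `A`
  have hconj : ∀ d : ι → Kˣ, (∀ i, i ∉ A → d i = 1) →
      (g * dg d * g⁻¹ ∈ H) ∧ SuppOn A ((g * dg d * g⁻¹ : GL ι K) : Matrix ι ι K) := by
    intro d hd
    refine ⟨H.mul_mem (H.mul_mem hg (BIG.dg_mem H hmon d)) hg', ?_⟩
    rw [Units.val_mul, Units.val_mul]
    exact BIG.suppOn_mul (BIG.suppOn_mul hA (BIG.suppOn_dg d hd)) hA'
  -- step 3: all `λ_{ir} = 1`
  have hlam : ∀ i ∈ A, ∀ r ∈ A,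
      (g : Matrix ι ι K) i r * ((g⁻¹ : GL ι K) : Matrix ι ι K) r i = 1 := by
    intro i hi r hr
    by_contra hne
    set lam := (g : Matrix ι ι K) i r * ((g⁻¹ : GL ι K) : Matrix ι ι K) r i with hlamdef
    have hlam0 : lam ≠ 0 := mul_ne_zero (hnz i hi r hr) (hnz' r hr i hi)
    have hε0 : (1 : K) - lam⁻¹ ≠ 0 := by
      intro h
      apply hne
      have h' : lam⁻¹ = 1 := by linear_combination -h
      have h'' : lam * lam⁻¹ = 1 := mul_inv_cancel₀ hlam0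
      rw [h', mul_one] at h''
      exact h''
    set ε : Kˣ := Units.mk0 (1 - lam⁻¹) hε0 with hεdef
    have hεv : (ε : K) = 1 - lam⁻¹ := rfl
    have hε1 : (ε : K) - 1 ≠ 0 := by
      rw [hεv]
      intro h
      have : lam⁻¹ = 0 := by linear_combination -h
      exact hlam0 (inv_eq_zero.mp this)
    have hd : ∀ j, j ∉ A → (Function.update (fun _ => (1 : Kˣ)) r ε) j = 1 := by
      intro j hj
      have : j ≠ r := fun h => hj (h ▸ hr)
      rw [Function.update_of_ne this]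
    obtain ⟨hxH, hxA⟩ := hconj _ hd
    have hxA' : SuppOn A ((g * d1 r ε * g⁻¹ : GL ι K) : Matrix ι ι K) := hxA
    have hxH' : g * d1 r ε * g⁻¹ ∈ H := hxH
    -- two other indices
    have hcard : 1 < (A.erase i).card := by
      rw [Finset.card_erase_of_mem hi]; omega
    obtain ⟨i₁, hi₁, i₂, hi₂, h12⟩ := Finset.one_lt_card.mp hcard
    have hi₁' := Finset.mem_erase.mp hi₁
    have hi₂' := Finset.mem_erase.mp hi₂
    have hoff : ∀ j ∈ A, j ≠ i → ((g * d1 r ε * g⁻¹ : GL ι K) : Matrix ι ι K) j i ≠ 0 := by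
      intro j hj hji
      rw [BIG.conj_d1_apply, Matrix.one_apply_ne hji, zero_add]
      exact mul_ne_zero hε1 (mul_ne_zero (hnz j hj r hr) (hnz' r hr i hi))
    have hxnm : ¬ IsMono ((g * d1 r ε * g⁻¹ : GL ι K) : Matrix ι ι K) :=
      BIG.not_isMono_of_col _ i i₁ i₂ h12 (hoff i₁ hi₁'.2 hi₁'.1) (hoff i₂ hi₂'.2 hi₂'.1)
    have hdiag := hNZ _ hxH' hxA' hxnm i hi i hi
    apply hdiag
    rw [BIG.conj_d1_apply, Matrix.one_apply_eq, ← hlamdef, hεv]
    field_simp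
    ring
  -- step 5
  obtain ⟨i, k₁, k₂, hiA, hk₁A, hk₂A, hik₁, hik₂, hk12⟩ := Finset.two_lt_card_iff.mp (by omega : 2 < A.card)
  -- use `r₁ = k₁`, `r₂ = k₂`
  set c₁ : ι → K := fun k => (g : Matrix ι ι K) i k₁ * ((g⁻¹ : GL ι K) : Matrix ι ι K) k₁ k with hc₁
  set c₂ : ι → K := fun k => (g : Matrix ι ι K) i k₂ * ((g⁻¹ : GL ι K) : Matrix ι ι K) k₂ k with hc₂
  have hc₁nz : ∀ k ∈ A, c₁ k ≠ 0 := fun k hk => mul_ne_zero (hnz i hiA k₁ hk₁A) (hnz' k₁ hk₁A k hk)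
  have hc₂nz : ∀ k ∈ A, c₂ k ≠ 0 := fun k hk => mul_ne_zero (hnz i hiA k₂ hk₂A) (hnz' k₂ hk₂A k hk)
  let S : Finset K := {0, 1, c₁ k₁ / (c₁ k₁ - c₂ k₁), c₁ k₂ / (c₁ k₂ - c₂ k₂)}
  have hScard : S.card < Fintype.card K := by
    have : S.card ≤ 4 := Finset.card_le_four
    omega
  obtain ⟨τ, hτ⟩ : ∃ τ : K, τ ∉ S := by
    by_contra hcon
    push Not at hcon
    have : Finset.univ ⊆ S := fun x _ => hcon x
    have := Finset.card_le_card this
    rw [Finset.card_univ] at this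
    omega
  have hτ0 : τ ≠ 0 := fun h => hτ (by simp [S, h])
  have hτ1 : τ ≠ 1 := fun h => hτ (by simp [S, h])
  have hτk₁ : τ ≠ c₁ k₁ / (c₁ k₁ - c₂ k₁) := fun h => hτ (by simp [S, ← h])
  have hτk₂ : τ ≠ c₁ k₂ / (c₁ k₂ - c₂ k₂) := fun h => hτ (by simp [S, ← h])
  have hτ1' : (1 : K) - τ ≠ 0 := fun h => hτ1 (by linear_combination -h)
  set d : ι → Kˣ := Function.update (Function.update (fun _ => (1 : Kˣ)) k₁ (Units.mk0 τ hτ0)) k₂
    (Units.mk0 (1 - τ) hτ1') with hddef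
  have hdk₂ : d k₂ = Units.mk0 (1 - τ) hτ1' := by rw [hddef, Function.update_self]
  have hdk₁ : d k₁ = Units.mk0 τ hτ0 := by
    rw [hddef, Function.update_of_ne hk12, Function.update_self]
  have hdo : ∀ j, j ≠ k₁ → j ≠ k₂ → d j = 1 := by
    intro j h1 h2
    rw [hddef, Function.update_of_ne h2, Function.update_of_ne h1]
  have hd : ∀ j, j ∉ A → d j = 1 := by
    intro j hj
    exact hdo j (fun h => hj (h ▸ hk₁A)) (fun h => hj (h ▸ hk₂A))
  obtain ⟨hxH, hxA⟩ := hconj d hd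
  have hentry : ∀ k, ((g * dg d * g⁻¹ : GL ι K) : Matrix ι ι K) i k
      = (1 : Matrix ι ι K) i k + ((τ - 1) * c₁ k + (-τ) * c₂ k) := by
    intro k
    rw [BIG.conj_apply]
    congr 1
    rw [Finset.sum_eq_add k₁ k₂ hk12]
    · rw [hdk₁, hdk₂]
      simp only [Units.val_mk0, hc₁, hc₂]
      ring
    · intro j _ hj
      rw [hdo j hj.1 hj.2, Units.val_one, sub_self, zero_mul]
    · intro h; exact absurd (Finset.mem_univ _) h
    · intro h; exact absurd (Finset.mem_univ _) h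
  have hoffnz : ∀ k ∈ A, k ≠ i → τ ≠ c₁ k / (c₁ k - c₂ k) →
      ((g * dg d * g⁻¹ : GL ι K) : Matrix ι ι K) i k ≠ 0 := by
    intro k hk hki hτk h0
    rw [hentry, Matrix.one_apply_ne (Ne.symm hki), zero_add] at h0
    have h1 : τ * (c₁ k - c₂ k) = c₁ k := by linear_combination h0
    by_cases hcc : c₁ k - c₂ k = 0
    · rw [hcc, mul_zero] at h1
      exact hc₁nz k hk h1.symm
    · apply hτk
      rw [eq_div_iff hcc]
      exact h1
  have hxnm : ¬ IsMono ((g * dg d * g⁻¹ : GL ι K) : Matrix ι ι K) :=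
    BIG.not_isMono_of_row _ i k₁ k₂ hk12 (hoffnz k₁ hk₁A (Ne.symm hik₁) hτk₁)
      (hoffnz k₂ hk₂A (Ne.symm hik₂) hτk₂)
  have hdiag := hNZ _ hxH hxA hxnm i hiA i hiA
  apply hdiag
  rw [hentry, Matrix.one_apply_eq]
  have e1 : c₁ i = 1 := hlam i hiA k₁ hk₁A
  have e2 : c₂ i = 1 := hlam i hiA k₂ hk₂A
  rw [e1, e2]
  ring

end Cfsg.Agent.MonoP
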