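import Mathlib
import Cfsg.Agent.Helper11.SzCoverA

/-! Nilpotent minimal covers, generic part: the "replacement" trick.
If two non-commuting elements `c c'` of prime order `q` (with `q ^ 2 ∤ |G|`) have their
centralisers inside one proper subgroup `H`, then `G` has no nilpotent minimal cover. -/

set_option autoImplicit false

namespace Cfsg.Agent.Helper19.NilCov

open Subgroup
open scoped commutatorElement
open Cfsg.Agent.Helper11.SzCover

/-- In a nilpotent group, an element of prime order whose cyclic subgroup is normal is central. -/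
theorem central_of_normal_prime' {D : Type*} [Group D] [hD : Group.IsNilpotent D] (z : D) {q : ℕ}
    (hq : q.Prime) (hz : orderOf z = q) (hnorm : ∀ d : D, d * z * d⁻¹ ∈ zpowers z) :
    ∀ d : D, d * z = z * d := by
  have hZn : (zpowers z).Normal := by
    constructor
    intro x hx d
    obtain ⟨k, rfl⟩ := hx
    have : d * z ^ k * d⁻¹ = (d * z * d⁻¹) ^ k := by
      simp [conj_zpow]
    rw [this]
    exact Subgroup.zpow_mem _ (hnorm d) k
  have hcard : Nat.card (zpowers z) = q := by rw [Nat.card_zpowers, hz]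
  have hle : ⁅zpowers z, (⊤ : Subgroup D)⁆ ≤ zpowers z := Subgroup.commutator_le_left _ _
  by_cases hbot : ⁅zpowers z, (⊤ : Subgroup D)⁆ = ⊥
  · intro d
    have h1 : ⁅z, d⁆ ∈ ⁅zpowers z, (⊤ : Subgroup D)⁆ :=
      Subgroup.commutator_mem_commutator (mem_zpowers z) (Subgroup.mem_top d)
    rw [hbot, Subgroup.mem_bot, commutatorElement_def] at h1
    have h2 : z * d = d * z := by
      have := congrArg (fun t => t * d * z) h1
      simpa [mul_assoc] using this
    exact h2.symm
  · exfalso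
    have heq : ⁅zpowers z, (⊤ : Subgroup D)⁆ = zpowers z := by
      have hdvd : Nat.card (⁅zpowers z, (⊤ : Subgroup D)⁆ : Subgroup D) ∣ q := by
        rw [← hcard]; exact Subgroup.card_dvd_of_le hle
      rcases (Nat.dvd_prime hq).mp hdvd with h1 | h1
      · exact absurd (Subgroup.card_eq_one.mp h1) hbot
      · have : Finite (zpowers z) := Nat.finite_of_card_ne_zero (by rw [hcard]; exact hq.ne_zero)
        exact Subgroup.eq_of_le_of_card_ge hle (by rw [h1, hcard])
    have hall : ∀ n : ℕ, zpowers z ≤ (⊤ : Subgroup D).lowerCentralSeries n := by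
      intro n
      induction n with
      | zero => simp
      | succ n ih =>
        rw [Subgroup.lowerCentralSeries_succ]
        calc zpowers z = ⁅zpowers z, (⊤ : Subgroup D)⁆ := heq.symm
          _ ≤ ⁅(⊤ : Subgroup D).lowerCentralSeries n, (⊤ : Subgroup D)⁆ :=
              Subgroup.commutator_mono ih le_rfl
    have h0 := hall (Group.nilpotencyClass D)
    rw [Subgroup.lowerCentralSeries_nilpotencyClass, le_bot_iff] at h0
    rw [h0, Subgroup.card_bot] at hcard
    exact hq.one_lt.ne hcard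

/-- A finite nilpotent group whose order is not divisible by `q ^ 2`: every element of
order `q` is central. -/
theorem central_of_sq_not_dvd {D : Type*} [Group D] [Finite D] [hD : Group.IsNilpotent D]
    {q : ℕ} (hq : q.Prime) (hsq : ¬ q ^ 2 ∣ Nat.card D) (z : D) (hz : orderOf z = q) :
    ∀ d : D, d * z = z * d := by
  have : Fact q.Prime := ⟨hq⟩
  obtain ⟨P⟩ : Nonempty (Sylow q D) := inferInstance
  have hPn : (P : Subgroup D).Normal :=
    Sylow.normal_of_normalizerCondition Group.normalizerCondition_of_isNilpotent P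
  have hzP : zpowers z ≤ (P : Subgroup D) := by
    have hpg : IsPGroup q (zpowers z) := by
      apply IsPGroup.of_card (n := 1)
      rw [Nat.card_zpowers, hz, pow_one]
    have h1 : IsPGroup q (zpowers z ⊔ (P : Subgroup D) : Subgroup D) :=
      hpg.to_sup_of_normal_right P.isPGroup'
    have h2 := P.is_maximal' h1 le_sup_right
    rw [← h2]
    exact le_sup_left
  obtain ⟨k, hk⟩ := P.isPGroup'.exists_card_eq
  have hk1 : k ≤ 1 := by
    by_contra hcon
    push Not at hcon
    apply hsq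
    calc q ^ 2 ∣ q ^ k := pow_dvd_pow q hcon
      _ = Nat.card (P : Subgroup D) := hk.symm
      _ ∣ Nat.card D := Subgroup.card_subgroup_dvd_card _
  have hcardz : Nat.card (zpowers z) = q := by rw [Nat.card_zpowers, hz]
  have heq : zpowers z = (P : Subgroup D) := by
    apply Subgroup.eq_of_le_of_card_ge hzP
    rw [hcardz, hk]
    calc q ^ k ≤ q ^ 1 := Nat.pow_le_pow_right hq.pos hk1
      _ = q := pow_one q
  apply central_of_normal_prime' z hq hz
  intro d
  rw [heq]
  exact hPn.conj_mem z (heq ▸ mem_zpowers z) d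

variable {G : Type*} [Group G]

/-- The replacement trick: two distinct members of a minimal cover cannot lie in a common
proper subgroup. -/
theorem replace_pair {𝓐 : Finset (Subgroup G)}
    (hcov : (∀ A ∈ 𝓐, A ≠ ⊤) ∧ (∀ g : G, ∃ A ∈ 𝓐, g ∈ A))
    (hmin : ∀ 𝓑 : Finset (Subgroup G), (∀ A ∈ 𝓑, A ≠ ⊤) ∧ (∀ g : G, ∃ A ∈ 𝓑, g ∈ A) →
      𝓐.card ≤ 𝓑.card)
    {A A' H : Subgroup G} (hA : A ∈ 𝓐) (hA' : A' ∈ 𝓐) (hne : A ≠ A') (hH : H ≠ ⊤)
    (hAH : A ≤ H) (hA'H : A' ≤ H) : False := by
  classical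
  obtain ⟨𝓑, h𝓑⟩ : ∃ 𝓑, 𝓑 = insert H ((𝓐.erase A).erase A') := ⟨_, rfl⟩
  have hmem : ∀ B, B ∈ 𝓑 ↔ B = H ∨ (B ≠ A' ∧ B ≠ A ∧ B ∈ 𝓐) := by
    intro B
    rw [h𝓑, Finset.mem_insert, Finset.mem_erase, Finset.mem_erase]
  have hcard : 𝓑.card < 𝓐.card := by
    have h1 : ((𝓐.erase A).erase A').card = 𝓐.card - 1 - 1 := by
      rw [Finset.card_erase_of_mem, Finset.card_erase_of_mem hA]
      exact Finset.mem_erase.mpr ⟨hne.symm, hA'⟩
    have h2 : 𝓑.card ≤ ((𝓐.erase A).erase A').card + 1 := by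
      rw [h𝓑]; exact Finset.card_insert_le _ _
    have h3 : 2 ≤ 𝓐.card := by
      have : ({A, A'} : Finset (Subgroup G)) ⊆ 𝓐 := by
        intro x hx
        rw [Finset.mem_insert, Finset.mem_singleton] at hx
        rcases hx with rfl | rfl <;> assumption
      have h4 := Finset.card_le_card this
      rwa [Finset.card_pair hne] at h4
    omega
  have := hmin 𝓑 ⟨?_, ?_⟩
  · omega
  · intro B hB
    rcases (hmem B).mp hB with rfl | ⟨-, -, hB'⟩
    · exact hH
    · exact hcov.1 B hB'
  · intro g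
    obtain ⟨B, hB, hgB⟩ := hcov.2 g
    by_cases h1 : B = A
    · exact ⟨H, (hmem H).mpr (Or.inl rfl), hAH (h1 ▸ hgB)⟩
    by_cases h2 : B = A'
    · exact ⟨H, (hmem H).mpr (Or.inl rfl), hA'H (h2 ▸ hgB)⟩
    exact ⟨B, (hmem B).mpr (Or.inr ⟨h2, h1, hB⟩), hgB⟩

/-- Two non-commuting elements of prime order `q`, `q ^ 2 ∤ |G|`, whose centralisers lie in a
common proper subgroup: no nilpotent minimal cover. -/
theorem no_cover_of_pair [Finite G] {q : ℕ} (hq : q.Prime) (hsq : ¬ q ^ 2 ∣ Nat.card G)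
    (c c' : G) (hc : orderOf c = q) (hc' : orderOf c' = q) (hcc' : c' * c ≠ c * c')
    (H : Subgroup G) (hH : H ≠ ⊤) (h1 : ∀ g : G, g * c = c * g → g ∈ H)
    (h1' : ∀ g : G, g * c' = c' * g → g ∈ H) : ¬ HasNilpMinCover G := by
  rintro ⟨𝓐, hcov, hmin, hnil⟩
  have key : ∀ A ∈ 𝓐, ∀ z : G, orderOf z = q → z ∈ A → ∀ a ∈ A, a * z = z * a := by
    intro A hA z hz hzA a ha
    have := hnil A hA
    have hsq' : ¬ q ^ 2 ∣ Nat.card A := fun h =>
      hsq (h.trans (Subgroup.card_subgroup_dvd_card A))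
    have hz' : orderOf (⟨z, hzA⟩ : A) = q := by
      rw [← hz]; exact (Subgroup.orderOf_mk z hzA)
    have := central_of_sq_not_dvd hq hsq' (⟨z, hzA⟩ : A) hz' ⟨a, ha⟩
    exact congrArg Subtype.val this
  obtain ⟨A, hA, hcA⟩ := hcov.2 c
  obtain ⟨A', hA', hcA'⟩ := hcov.2 c'
  have hne : A ≠ A' := by
    intro h
    apply hcc'
    exact key A hA c hc hcA c' (h ▸ hcA')
  exact replace_pair hcov hmin hA hA' hne hH
    (fun a ha => h1 a (key A hA c hc hcA a ha))
    (fun a ha => h1' a (key A' hA' c' hc' hcA' a ha))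

end Cfsg.Agent.Helper19.NilCov
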