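import Mathlib
import Cfsg.Agent.Helper19.NilCovA

/-! Nilpotent minimal covers of groups between `A_n` and `S_n`: the general case `n ≥ 6`. -/

set_option autoImplicit false

namespace Cfsg.Agent.Helper19.NilCov

open Equiv Equiv.Perm
open scoped Pointwise
open Cfsg.Agent.Helper11.SzCover

/-- the order of a subgroup of `S_n` is not divisible by `q ^ 2` when `n < 2 q` -/
theorem sq_not_dvd_card {n q : ℕ} (hq : q.Prime) (hn : n < 2 * q)
    (K : Subgroup (Perm (Fin n))) : ¬ q ^ 2 ∣ Nat.card K := by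
  intro h
  have h1 : q ^ 2 ∣ n.factorial := by
    have := h.trans (Subgroup.card_subgroup_dvd_card K)
    rwa [Nat.card_perm, Nat.card_eq_fintype_card, Fintype.card_fin] at this
  have hq2 : 2 ≤ q := hq.two_le
  have hlog : Nat.log q n < 2 := by
    apply Nat.log_lt_of_lt_pow'
    · norm_num
    · nlinarith
  rw [hq.pow_dvd_factorial_iff hlog] at h1
  have h2 : n / q ≤ 1 := by
    rw [← Nat.lt_succ_iff]
    apply Nat.div_lt_of_lt_mul
    omega
  simp at h1
  omega

theorem core {n q : ℕ} (hq : q.Prime) (hn : n < 2 * q) (K : Subgroup (Perm (Fin n)))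
    (c c' : Perm (Fin n)) (hcK : c ∈ K) (hcK' : c' ∈ K) (oc : orderOf c = q)
    (oc' : orderOf c' = q) (hcc' : c' * c ≠ c * c') (H : Subgroup (Perm (Fin n)))
    (hH : ¬ K ≤ H) (h1 : ∀ g ∈ K, g * c = c * g → g ∈ H)
    (h1' : ∀ g ∈ K, g * c' = c' * g → g ∈ H) : ¬ HasNilpMinCover ↥K := by
  apply no_cover_of_pair hq (sq_not_dvd_card hq hn K) ⟨c, hcK⟩ ⟨c', hcK'⟩ ?_ ?_ ?_
    (H.subgroupOf K) ?_ ?_ ?_
  · rw [Subgroup.orderOf_mk]; exact oc
  · rw [Subgroup.orderOf_mk]; exact oc'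
  · intro h
    exact hcc' (congrArg Subtype.val h)
  · rw [Ne, Subgroup.subgroupOf_eq_top]; exact hH
  · intro g hg
    rw [Subgroup.mem_subgroupOf]
    exact h1 g g.2 (congrArg Subtype.val hg)
  · intro g hg
    rw [Subgroup.mem_subgroupOf]
    exact h1' g g.2 (congrArg Subtype.val hg)

theorem fix_of_pow_fix {α : Type*} {c : Perm α} {q : ℕ} (hq : q.Prime) (oc : orderOf c = q)
    {k : ℕ} (hk0 : 0 < k) (hkq : k < q) {a : α} (h : (c ^ k) a = a) : c a = a := by
  have hcop : k.Coprime (orderOf c) := by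
    rw [oc]
    exact Nat.Coprime.symm ((Nat.Prime.coprime_iff_not_dvd hq).mpr
      (Nat.not_dvd_of_pos_of_lt hk0 hkq))
  obtain ⟨m, hm⟩ := exists_pow_eq_self_of_coprime hcop
  have := Equiv.Perm.pow_apply_eq_self_of_apply_eq_self h m
  rwa [hm] at this

theorem exists_prime_mid {n : ℕ} (hn : 6 ≤ n) : ∃ q, q.Prime ∧ n < 2 * q ∧ q < n ∧ 5 ≤ q := by
  obtain ⟨q, hq, h1, h2⟩ := Nat.exists_prime_lt_and_le_two_mul (n / 2) (by omega)
  refine ⟨q, hq, by omega, ?_, ?_⟩
  · rcases hq.eq_two_or_odd with h | h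
    · omega
    · omega
  · rcases hq.eq_two_or_odd with h | h
    · omega
    · omega

theorem general {n : ℕ} (hn : 6 ≤ n) (K : Subgroup (Perm (Fin n)))
    (hK : alternatingGroup (Fin n) ≤ K) : ¬ HasNilpMinCover ↥K := by
  obtain ⟨q, hq, hnq, hqn, hq5⟩ := exists_prime_mid hn
  have : Fact q.Prime := ⟨hq⟩
  have : Nontrivial (Fin n) := Fin.nontrivial_iff_two_le.mpr (by omega)
  -- an element of order `q` in `A_n`
  have hdvd : q ∣ Nat.card (alternatingGroup (Fin n)) := by
    have h1 : q ∣ 2 * Nat.card (alternatingGroup (Fin n)) := by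
      rw [two_mul_nat_card_alternatingGroup, Nat.card_perm, Nat.card_eq_fintype_card,
        Fintype.card_fin]
      exact hq.dvd_factorial.mpr hqn.le
    rcases (Nat.Prime.dvd_mul hq).mp h1 with h | h
    · have := Nat.le_of_dvd (by norm_num) h
      omega
    · exact h
  obtain ⟨⟨c, hcA⟩, hc⟩ := exists_prime_orderOf_dvd_card' q hdvd
  rw [Subgroup.orderOf_mk] at hc
  -- a fixed point
  obtain ⟨y, hy⟩ : ∃ y, c y = y := by
    have h1 := card_compl_support_modEq (p := q) (n := 1) (σ := c)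
      (by rw [pow_one, ← hc]; exact pow_orderOf_eq_one c)
    rw [Fintype.card_fin] at h1
    by_contra hcon
    push Not at hcon
    have h2 : c.supportᶜ = ∅ := by
      rw [Finset.eq_empty_iff_forall_notMem]
      intro x hx
      rw [Finset.mem_compl, Equiv.Perm.mem_support, not_not] at hx
      exact hcon x hx
    rw [h2, Finset.card_empty] at h1
    have h3 : q ∣ n := (Nat.modEq_zero_iff_dvd.mp h1.symm)
    obtain ⟨k, rfl⟩ := h3
    have hk1 : 1 < k := by
      by_contra hk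
      push Not at hk
      interval_cases k <;> omega
    nlinarith
  -- a moved point
  obtain ⟨a, ha⟩ : ∃ a, c a ≠ a := by
    by_contra hcon
    push Not at hcon
    have : c = 1 := Equiv.Perm.ext hcon
    rw [this, orderOf_one] at hc
    omega
  obtain ⟨b, hb⟩ : ∃ b, b = c a := ⟨_, rfl⟩
  obtain ⟨d, hd⟩ : ∃ d, d = c b := ⟨_, rfl⟩
  obtain ⟨e, he⟩ : ∃ e, e = c d := ⟨_, rfl⟩
  have hba : b ≠ a := hb ▸ ha
  have hdb : d ≠ b := by
    rw [hd, hb]; intro h; exact ha (c.injective h)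
  have hda : d ≠ a := by
    intro h
    apply ha
    apply fix_of_pow_fix hq hc (k := 2) (by norm_num) (by omega)
    rw [pow_two, Equiv.Perm.mul_apply, ← hb, ← hd, h]
  have heb : e ≠ b := by
    rw [he, hb]; intro h; exact hda (c.injective h)
  have hea : e ≠ a := by
    intro h
    apply ha
    apply fix_of_pow_fix hq hc (k := 3) (by norm_num) (by omega)
    rw [pow_succ, pow_two, Equiv.Perm.mul_apply, Equiv.Perm.mul_apply, ← hb, ← hd, ← he, h]
  have hcb : c b ≠ b := hd ▸ hdb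
  obtain ⟨σ, hσ⟩ : ∃ σ, σ = swap a b := ⟨_, rfl⟩
  have hσa : σ a = b := by rw [hσ]; exact swap_apply_left a b
  have hσb : σ b = a := by rw [hσ]; exact swap_apply_right a b
  have hσo : ∀ x, x ≠ a → x ≠ b → σ x = x := by
    intro x hxa hxb; rw [hσ]; exact swap_apply_of_ne_of_ne hxa hxb
  have hσσ : ∀ x, σ (σ x) = x := by
    intro x; rw [hσ]; exact swap_apply_self a b x
  have hσinv : σ⁻¹ = σ := by rw [hσ]; exact swap_inv a b
  obtain ⟨c', hc'⟩ : ∃ c', c' = σ * c * σ⁻¹ := ⟨_, rfl⟩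
  have hc'app : ∀ x, c' x = σ (c (σ x)) := by
    intro x; rw [hc', hσinv]; rfl
  have hc'A : c' ∈ alternatingGroup (Fin n) := by
    rw [hc']
    exact (inferInstance : (alternatingGroup (Fin n)).Normal).conj_mem c hcA σ
  have oc' : orderOf c' = q := by
    have := (MulAut.conj σ).orderOf_eq c
    rw [MulAut.conj_apply] at this
    rw [hc', this]; exact hc
  have hcc' : c' * c ≠ c * c' := by
    intro h
    have h1 := congrArg (fun f : Perm (Fin n) => f b) h
    simp only [Equiv.Perm.mul_apply] at h1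
    rw [hc'app, hc'app, ← hd, hσo d hda hdb, ← he, hσo e hea heb, hσb, ← hb, hσb, ← hb] at h1
    exact heb h1
  -- the set stabiliser of the support
  obtain ⟨Δ, hΔ⟩ : ∃ Δ : Set (Fin n), Δ = {x | c x ≠ x} := ⟨_, rfl⟩
  have hmemΔ : ∀ x, x ∈ Δ ↔ c x ≠ x := by intro x; rw [hΔ]; rfl
  have hσΔ : ∀ x, σ x ∈ Δ ↔ x ∈ Δ := by
    intro x
    by_cases hxa : x = a
    · rw [hxa, hσa, hmemΔ, hmemΔ]; exact ⟨fun _ => ha, fun _ => hcb⟩
    by_cases hxb : x = b
    · rw [hxb, hσb, hmemΔ, hmemΔ]; exact ⟨fun _ => hcb, fun _ => ha⟩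
    rw [hσo x hxa hxb]
  have hmemΔ' : ∀ x, x ∈ Δ ↔ c' x ≠ x := by
    intro x
    rw [hc'app, ← hσΔ, hmemΔ]
    constructor
    · intro h h'
      apply h
      have := congrArg σ h'
      rwa [hσσ] at this
    · intro h h'
      apply h
      rw [h', hσσ]
  have stab : ∀ (z : Perm (Fin n)), (∀ x, x ∈ Δ ↔ z x ≠ x) → ∀ g : Perm (Fin n),
      g * z = z * g → g ∈ MulAction.stabilizer (Perm (Fin n)) Δ := by
    intro z hz g hg
    rw [MulAction.mem_stabilizer_set]
    intro x
    rw [Equiv.Perm.smul_def, hz, hz]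
    have h1 : z (g x) = g (z x) := by
      have := congrArg (fun f : Perm (Fin n) => f x) hg
      simp only [Equiv.Perm.mul_apply] at this
      exact this.symm
    rw [h1]
    exact ⟨fun h h' => h (by rw [h']), fun h h' => h (g.injective h')⟩
  apply core hq hnq K c c' (hK hcA) (hK hc'A) hc oc' hcc'
    (MulAction.stabilizer (Perm (Fin n)) Δ) ?_ (fun g _ => stab c hmemΔ g)
    (fun g _ => stab c' hmemΔ' g)
  intro hle
  have hyΔ : y ∉ Δ := by rw [hmemΔ]; exact fun h => h hy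
  have hya : y ≠ a := fun h => ha (h ▸ hy)
  have hyb : y ≠ b := fun h => hcb (h ▸ hy)
  have htA : swap a y * swap a b ∈ alternatingGroup (Fin n) := by
    rw [Equiv.Perm.mem_alternatingGroup, map_mul, Equiv.Perm.sign_swap hya.symm,
      Equiv.Perm.sign_swap hba.symm]
    rfl
  have := hle (hK htA)
  rw [MulAction.mem_stabilizer_set] at this
  have h2 := (this b).mpr ((hmemΔ b).mpr hcb)
  rw [Equiv.Perm.smul_def, Equiv.Perm.mul_apply, swap_apply_right, swap_apply_left] at h2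
  exact hyΔ h2

end Cfsg.Agent.Helper19.NilCov
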