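import Mathlib
import Cfsg.Agent.Helper19.NilCovB

/-! Nilpotent minimal covers: the small cases `S_4`, `S_5`, `A_5`. -/

set_option autoImplicit false

namespace Cfsg.Agent.Helper19.NilCov

open Equiv Equiv.Perm
open Cfsg.Agent.Helper11.SzCover

/-- a 3-cycle of `S_4` -/
def c4 : Perm (Fin 4) := swap 0 1 * swap 1 2
/-- another 3-cycle of `S_4` -/
def c4' : Perm (Fin 4) := swap 0 1 * swap 1 3

theorem c4_cent : ∀ g : Perm (Fin 4), g * c4 = c4 * g → sign g = 1 := by decide
theorem c4'_cent : ∀ g : Perm (Fin 4), g * c4' = c4' * g → sign g = 1 := by decide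

theorem s4 : ¬ HasNilpMinCover ↥(⊤ : Subgroup (Perm (Fin 4))) := by
  have : Fact (Nat.Prime 3) := ⟨by norm_num⟩
  apply core (q := 3) (by norm_num) (by norm_num) ⊤ c4 c4' (Subgroup.mem_top _)
    (Subgroup.mem_top _) ?_ ?_ ?_ (alternatingGroup (Fin 4)) ?_ ?_ ?_
  · exact orderOf_eq_prime (by decide) (by decide)
  · exact orderOf_eq_prime (by decide) (by decide)
  · decide
  · intro h
    have := h (Subgroup.mem_top (swap (0 : Fin 4) 1))
    rw [Equiv.Perm.mem_alternatingGroup] at this
    revert this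
    decide
  · intro g _ hg
    rw [Equiv.Perm.mem_alternatingGroup]
    exact c4_cent g hg
  · intro g _ hg
    rw [Equiv.Perm.mem_alternatingGroup]
    exact c4'_cent g hg

/-- a 5-cycle of `S_5` -/
def c5 : Perm (Fin 5) := swap 0 1 * swap 1 2 * swap 2 3 * swap 3 4
/-- another 5-cycle of `S_5` -/
def c5' : Perm (Fin 5) := swap 0 1 * swap 1 2 * swap 2 4 * swap 4 3

set_option maxRecDepth 100000 in
theorem c5_cent : ∀ g : Perm (Fin 5), g * c5 = c5 * g → sign g = 1 := by decide
set_option maxRecDepth 100000 in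
theorem c5'_cent : ∀ g : Perm (Fin 5), g * c5' = c5' * g → sign g = 1 := by decide

theorem s5 : ¬ HasNilpMinCover ↥(⊤ : Subgroup (Perm (Fin 5))) := by
  have : Fact (Nat.Prime 5) := ⟨by norm_num⟩
  apply core (q := 5) (by norm_num) (by norm_num) ⊤ c5 c5' (Subgroup.mem_top _)
    (Subgroup.mem_top _) ?_ ?_ ?_ (alternatingGroup (Fin 5)) ?_ ?_ ?_
  · exact orderOf_eq_prime (by decide) (by decide)
  · exact orderOf_eq_prime (by decide) (by decide)
  · decide
  · intro h
    have := h (Subgroup.mem_top (swap (0 : Fin 5) 1))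
    rw [Equiv.Perm.mem_alternatingGroup] at this
    revert this
    decide
  · intro g _ hg
    rw [Equiv.Perm.mem_alternatingGroup]
    exact c5_cent g hg
  · intro g _ hg
    rw [Equiv.Perm.mem_alternatingGroup]
    exact c5'_cent g hg

/-- a 3-cycle of `A_5` -/
def d5 : Perm (Fin 5) := swap 0 1 * swap 1 2
/-- another 3-cycle of `A_5` -/
def d5' : Perm (Fin 5) := swap 0 1 * swap 1 3

set_option maxRecDepth 100000 in
theorem d5_cent : ∀ g : Perm (Fin 5), sign g = 1 → g * d5 = d5 * g → g 4 = 4 := by decide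
set_option maxRecDepth 100000 in
theorem d5'_cent : ∀ g : Perm (Fin 5), sign g = 1 → g * d5' = d5' * g → g 4 = 4 := by decide

theorem a5 : ¬ HasNilpMinCover ↥(alternatingGroup (Fin 5)) := by
  have : Fact (Nat.Prime 3) := ⟨by norm_num⟩
  apply core (q := 3) (by norm_num) (by norm_num) (alternatingGroup (Fin 5)) d5 d5' ?_ ?_ ?_ ?_ ?_
    (MulAction.stabilizer (Perm (Fin 5)) (4 : Fin 5)) ?_ ?_ ?_
  · rw [Equiv.Perm.mem_alternatingGroup]; decide
  · rw [Equiv.Perm.mem_alternatingGroup]; decide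
  · exact orderOf_eq_prime (by decide) (by decide)
  · exact orderOf_eq_prime (by decide) (by decide)
  · decide
  · intro h
    have h1 : swap (0 : Fin 5) 4 * swap 0 1 ∈ alternatingGroup (Fin 5) := by
      rw [Equiv.Perm.mem_alternatingGroup]; decide
    have := h h1
    rw [MulAction.mem_stabilizer_iff, Equiv.Perm.smul_def] at this
    revert this
    decide
  · intro g hgA hg
    rw [MulAction.mem_stabilizer_iff, Equiv.Perm.smul_def]
    exact d5_cent g (Equiv.Perm.mem_alternatingGroup.mp hgA) hg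
  · intro g hgA hg
    rw [MulAction.mem_stabilizer_iff, Equiv.Perm.smul_def]
    exact d5'_cent g (Equiv.Perm.mem_alternatingGroup.mp hgA) hg

end Cfsg.Agent.Helper19.NilCov
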