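import Mathlib
import Cfsg.Agent.Helper19.NilCovA

/-! Nilpotent minimal covers, more generic tools: the pair trick in abstract form, the
multi-replacement lemma, and the fixed line lemma for nilpotent linear groups. -/

set_option autoImplicit false

namespace Cfsg.Agent.Helper19.NilCov

open Subgroup
open Cfsg.Agent.Helper11.SzCover

section cover

variable {G : Type*} [Group G]

/-- abstract pair trick -/
theorem pair_trick (c c' : G) (H : Subgroup G) (hH : H ≠ ⊤)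
    (h1 : ∀ A : Subgroup G, Group.IsNilpotent ↥A → c ∈ A → A ≤ H)
    (h1' : ∀ A : Subgroup G, Group.IsNilpotent ↥A → c' ∈ A → A ≤ H)
    (h2 : ∀ A : Subgroup G, Group.IsNilpotent ↥A → c ∈ A → c' ∈ A → False) :
    ¬ HasNilpMinCover G := by
  rintro ⟨𝓐, hcov, hmin, hnil⟩
  obtain ⟨A, hA, hcA⟩ := hcov.2 c
  obtain ⟨A', hA', hcA'⟩ := hcov.2 c'
  have hne : A ≠ A' := by
    intro h
    exact h2 A (hnil A hA) hcA (h ▸ hcA')
  exact replace_pair hcov hmin hA hA' hne hH (h1 A (hnil A hA) hcA) (h1' A' (hnil A' hA') hcA')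

/-- multi-replacement: the members of a minimal cover lying inside the union of a family `𝓗`
of proper subgroups are at most `|𝓗|` in number. -/
theorem multi_replace {𝓐 : Finset (Subgroup G)}
    (hcov : (∀ A ∈ 𝓐, A ≠ ⊤) ∧ (∀ g : G, ∃ A ∈ 𝓐, g ∈ A))
    (hmin : ∀ 𝓑 : Finset (Subgroup G), (∀ A ∈ 𝓑, A ≠ ⊤) ∧ (∀ g : G, ∃ A ∈ 𝓑, g ∈ A) →
      𝓐.card ≤ 𝓑.card)
    (𝓗 𝓢 : Finset (Subgroup G)) (h𝓗 : ∀ H ∈ 𝓗, H ≠ ⊤) (h𝓢 : 𝓢 ⊆ 𝓐)
    (hin : ∀ A ∈ 𝓢, ∀ x ∈ A, ∃ H ∈ 𝓗, x ∈ H) : 𝓢.card ≤ 𝓗.card := by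
  classical
  have := hmin ((𝓐 \ 𝓢) ∪ 𝓗) ⟨?_, ?_⟩
  · have h1 : ((𝓐 \ 𝓢) ∪ 𝓗).card ≤ (𝓐 \ 𝓢).card + 𝓗.card := Finset.card_union_le _ _
    have h2 : (𝓐 \ 𝓢).card = 𝓐.card - 𝓢.card := Finset.card_sdiff_of_subset h𝓢
    have h3 : 𝓢.card ≤ 𝓐.card := Finset.card_le_card h𝓢
    omega
  · intro B hB
    rcases Finset.mem_union.mp hB with h | h
    · exact hcov.1 B (Finset.mem_sdiff.mp h).1
    · exact h𝓗 B h
  · intro g
    obtain ⟨B, hB, hgB⟩ := hcov.2 g
    by_cases hBS : B ∈ 𝓢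
    · obtain ⟨H, hH, hgH⟩ := hin B hBS g hgB
      exact ⟨H, Finset.mem_union.mpr (Or.inr hH), hgH⟩
    · exact ⟨B, Finset.mem_union.mpr (Or.inl (Finset.mem_sdiff.mpr ⟨hB, hBS⟩)), hgB⟩

end cover

section sylow

variable {D : Type*} [Group D]

/-- a `p`-element lies in a normal Sylow `p`-subgroup -/
theorem mem_normal_sylow {p : ℕ} [Fact p.Prime] (P : Sylow p D) (hP : (P : Subgroup D).Normal)
    (u : D) (hu : ∃ k : ℕ, u ^ p ^ k = 1) : u ∈ (P : Subgroup D) := by
  obtain ⟨k, hk⟩ := hu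
  have hpg : IsPGroup p (zpowers u) := by
    have hdvd : orderOf u ∣ p ^ k := orderOf_dvd_of_pow_eq_one hk
    obtain ⟨j, -, hj⟩ := (Nat.dvd_prime_pow (Fact.out : p.Prime)).mp hdvd
    apply IsPGroup.of_card (n := j)
    rw [Nat.card_zpowers, hj]
  have h1 : IsPGroup p (zpowers u ⊔ (P : Subgroup D) : Subgroup D) :=
    hpg.to_sup_of_normal_right P.isPGroup'
  have h2 := P.is_maximal' h1 le_sup_right
  have : zpowers u ≤ (P : Subgroup D) := by
    rw [← h2]
    exact le_sup_left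
  exact this (mem_zpowers u)

/-- The fixed line lemma: a finite nilpotent group acting linearly on a finite vector space in
characteristic `p`, containing a `p`-element `u` whose fixed space is the line through `m0`,
stabilises that line. -/
theorem fix_line [Finite D] [Group.IsNilpotent D] {F M : Type*} [Field F] [AddCommGroup M]
    [Module F M] [Finite M] (p : ℕ) [Fact p.Prime] [CharP F p] (ρ : D →* Module.End F M)
    (u : D) (hu : ∃ k : ℕ, u ^ p ^ k = 1) (m0 : M) (hm0 : m0 ≠ 0)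
    (hfix : ∀ m, ρ u m = m → ∃ c : F, m = c • m0) : ∀ a : D, ∃ c : F, ρ a m0 = c • m0 := by
  obtain ⟨P⟩ : Nonempty (Sylow p D) := inferInstance
  have hPn : (P : Subgroup D).Normal :=
    Sylow.normal_of_normalizerCondition Group.normalizerCondition_of_isNilpotent P
  have huP : u ∈ (P : Subgroup D) := mem_normal_sylow P hPn u hu
  let act : MulAction ↥(P : Subgroup D) M :=
    MulAction.compHom M (ρ.comp (P : Subgroup D).subtype)
  have hact : ∀ (x : ↥(P : Subgroup D)) (m : M), x • m = ρ (x : D) m := fun x m => rfl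
  have hpM : p ∣ Nat.card M := by
    have h1 : addOrderOf m0 = p := by
      apply addOrderOf_eq_prime
      · rw [← Nat.cast_smul_eq_nsmul F, CharP.cast_eq_zero F p, zero_smul]
      · exact hm0
    rw [← h1]
    exact addOrderOf_dvd_natCard m0
  have h0 : (0 : M) ∈ MulAction.fixedPoints ↥(P : Subgroup D) M := by
    intro x
    rw [hact, map_zero]
  obtain ⟨m1, hm1, hm10⟩ :=
    P.isPGroup'.exists_fixed_point_of_prime_dvd_card_of_fixed_point (α := M) hpM h0
  have hm1' : ∀ x ∈ (P : Subgroup D), ρ x m1 = m1 := by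
    intro x hx
    have := hm1 ⟨x, hx⟩
    rwa [hact] at this
  obtain ⟨c, hc⟩ := hfix m1 (hm1' u huP)
  have hc0 : c ≠ 0 := by
    rintro rfl
    rw [zero_smul] at hc
    exact hm10 hc.symm
  have hm0P : ∀ x ∈ (P : Subgroup D), ρ x m0 = m0 := by
    intro x hx
    have h1 : m0 = c⁻¹ • m1 := by rw [hc, smul_smul, inv_mul_cancel₀ hc0, one_smul]
    rw [h1, map_smul, hm1' x hx]
  intro a
  apply hfix
  have h1 : a⁻¹ * u * a ∈ (P : Subgroup D) := by
    have := hPn.conj_mem u huP a⁻¹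
    rwa [inv_inv] at this
  have h2 := hm0P _ h1
  have h3 : ρ u (ρ a m0) = ρ a (ρ (a⁻¹ * u * a) m0) := by
    rw [← Module.End.mul_apply, ← Module.End.mul_apply, ← map_mul, ← map_mul]
    congr 2
    group
  rw [h3, h2]

end sylow

end Cfsg.Agent.Helper19.NilCov
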