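import Mathlib
import Cfsg.Prelude.Def_Transfer
import Cfsg.Agent.Helper19.Basic
import Cfsg.Agent.Helper29.NilpHall
import Cfsg.Agent.Helper23.NilpotentElts
import Cfsg.Agent.Helper18.FocalFusion
import Cfsg.Agent.Helper8.Cyclic

/-! Minimal covers by nilpotent subgroups in centerless groups: abelian Sylow subgroups. -/

namespace Cfsg.Agent.Helper19.NilpCover

open Subgroup

variable {G : Type*} [Group G]

section Merge

variable (𝓐 : Finset (Subgroup G))
  (hproper : ∀ A ∈ 𝓐, A ≠ ⊤) (hcover : ∀ g : G, ∃ A ∈ 𝓐, g ∈ A)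
  (hmin : ∀ 𝓑 : Finset (Subgroup G),
    (∀ A ∈ 𝓑, A ≠ ⊤) ∧ (∀ g : G, ∃ A ∈ 𝓑, g ∈ A) → 𝓐.card ≤ 𝓑.card)

include hproper hcover hmin in
/-- A proper subgroup contains at most one member of a minimal cover. -/
theorem eq_of_le_proper (H : Subgroup G) (hH : H ≠ ⊤) {A₁ A₂ : Subgroup G} (h1 : A₁ ∈ 𝓐)
    (h2 : A₂ ∈ 𝓐) (h1H : A₁ ≤ H) (h2H : A₂ ≤ H) : A₁ = A₂ := by
  classical
  by_contra hne
  have hBp : ∀ A ∈ insert H ((𝓐.erase A₁).erase A₂), A ≠ ⊤ := by
    intro A hA
    rcases Finset.mem_insert.mp hA with rfl | hA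
    · exact hH
    · exact hproper A (Finset.mem_of_mem_erase (Finset.mem_of_mem_erase hA))
  have hBc : ∀ g : G, ∃ A ∈ insert H ((𝓐.erase A₁).erase A₂), g ∈ A := by
    intro g
    obtain ⟨A, hA, hg⟩ := hcover g
    by_cases hA1 : A = A₁
    · exact ⟨H, Finset.mem_insert_self _ _, h1H (hA1 ▸ hg)⟩
    by_cases hA2 : A = A₂
    · exact ⟨H, Finset.mem_insert_self _ _, h2H (hA2 ▸ hg)⟩
    · exact ⟨A, Finset.mem_insert_of_mem
        (Finset.mem_erase.mpr ⟨hA2, Finset.mem_erase.mpr ⟨hA1, hA⟩⟩), hg⟩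
  have hB := hmin _ ⟨hBp, hBc⟩
  have h3 : A₂ ∈ 𝓐.erase A₁ := Finset.mem_erase.mpr ⟨Ne.symm hne, h2⟩
  have h4 := Finset.card_insert_le H ((𝓐.erase A₁).erase A₂)
  rw [Finset.card_erase_of_mem h3, Finset.card_erase_of_mem h1] at h4
  have h5 : 1 < 𝓐.card := Finset.one_lt_card.mpr ⟨A₁, h1, A₂, h2, hne⟩
  omega

end Merge

section Sylow

variable [Finite G] {p : ℕ} [Fact p.Prime]

omit [Finite G] [Fact p.Prime] in
theorem mem_smul_sylow_iff (P : Sylow p G) (g x : G) : x ∈ g • P ↔ g⁻¹ * x * g ∈ P := by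
  show x ∈ ((g • P : Sylow p G) : Subgroup G) ↔ _
  rw [Sylow.coe_subgroup_smul, mem_pointwise_smul_iff_inv_smul_mem,
    MulAut.smul_def, MulAut.conj_inv_apply]
  rfl

/-- All Sylow `p`-subgroups are abelian if one is. -/
theorem sylow_comm (P : Sylow p G) (hab : IsMulCommutative ↥(P : Subgroup G)) (Q : Sylow p G)
    {x y : G} (hx : x ∈ Q) (hy : y ∈ Q) : x * y = y * x := by
  obtain ⟨g, rfl⟩ := MulAction.exists_smul_eq G P Q
  rw [mem_smul_sylow_iff] at hx hy
  have h := hab.is_comm.comm (⟨_, hx⟩ : ↥(P : Subgroup G)) ⟨_, hy⟩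
  have h' := congrArg Subtype.val h
  simp only [Subgroup.coe_mul] at h'
  have e1 : x * y = g * ((g⁻¹ * x * g) * (g⁻¹ * y * g)) * g⁻¹ := by group
  have e2 : y * x = g * ((g⁻¹ * y * g) * (g⁻¹ * x * g)) * g⁻¹ := by group
  rw [e1, e2, h']

omit [Finite G] in
theorem orderOf_of_mem_sylow (Q : Sylow p G) {x : G} (hx : x ∈ Q) : ∃ j, orderOf x = p ^ j := by
  have hp : p.Prime := Fact.out
  obtain ⟨k, hk⟩ := Q.isPGroup' ⟨x, hx⟩
  have h1 : x ^ p ^ k = 1 := by
    have := congrArg Subtype.val hk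
    simpa using this
  obtain ⟨j, -, hj⟩ := (Nat.dvd_prime_pow hp).mp (orderOf_dvd_of_pow_eq_one h1)
  exact ⟨j, hj⟩

omit [Finite G] [Fact p.Prime] in
theorem isPGroup_zpowers {x : G} (hx : ∃ j, orderOf x = p ^ j) : IsPGroup p (zpowers x) := by
  obtain ⟨j, hj⟩ := hx
  exact IsPGroup.of_card (n := j) (by rw [Nat.card_zpowers, hj])

omit [Finite G] [Fact p.Prime] in
/-- A `p`-element normalizing a Sylow `p`-subgroup lies in it. -/
theorem mem_sylow_of_mem_normalizer (Q : Sylow p G) {y : G} (hy : ∃ j, orderOf y = p ^ j)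
    (hyn : y ∈ normalizer ((Q : Subgroup G) : Set G)) : y ∈ Q := by
  have h1 := IsPGroup.inf_normalizer_sylow (isPGroup_zpowers hy) Q
  have h2 : y ∈ zpowers y ⊓ normalizer ((Q : Subgroup G) : Set G) := ⟨mem_zpowers y, hyn⟩
  exact (h1.le h2).2

/-- A nilpotent subgroup containing a `p`-element `x` centralizes `x` when Sylow `p`-subgroups
are abelian. -/
theorem le_centralizer_of_mem (P : Sylow p G) (hab : IsMulCommutative ↥(P : Subgroup G))
    (A : Subgroup G) (hA : Group.IsNilpotent ↥A) (x : G) (hxA : x ∈ A)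
    (hxp : ∃ j, orderOf x = p ^ j) : A ≤ centralizer {x} := by
  have hp : p.Prime := Fact.out
  intro a ha
  rw [mem_centralizer_singleton_iff]
  haveI := hA
  obtain ⟨y, z, hyz, -, -, ⟨k, hk⟩, hz⟩ :=
    Cfsg.Agent.Helper18.exists_pPart_decomp p (⟨a, ha⟩ : ↥A)
  obtain ⟨j, hj⟩ := hxp
  have hx' : orderOf (⟨x, hxA⟩ : ↥A) = p ^ j := by rw [Subgroup.orderOf_mk, hj]
  have hxz : Commute (⟨x, hxA⟩ : ↥A) z := by
    apply Cfsg.Agent.Helper29.commute_of_nilpotent_of_coprime_orderOf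
    rw [hx']
    exact (Nat.Coprime.pow_right j hz).symm
  obtain ⟨Q, hQ⟩ := (isPGroup_zpowers (p := p) ⟨j, hx'⟩).exists_le_sylow
  have hyQ : y ∈ Q :=
    Cfsg.Agent.Helper23.mem_sylow_of_isNilpotent Q y (isPGroup_zpowers ⟨k, hk⟩)
  have hxQ : (⟨x, hxA⟩ : ↥A) ∈ Q := hQ (mem_zpowers _)
  obtain ⟨P', hP'⟩ := (Q.isPGroup'.map A.subtype).exists_le_sylow
  have hxP' : x ∈ P' := hP' ⟨⟨x, hxA⟩, hxQ, rfl⟩
  have hyP' : (y : G) ∈ P' := hP' ⟨y, hyQ, rfl⟩
  have hxy : x * (y : G) = (y : G) * x := sylow_comm P hab P' hxP' hyP'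
  have hxz' : x * (z : G) = (z : G) * x := by
    have := congrArg Subtype.val hxz.eq
    simpa using this
  have ha' : a = (y : G) * (z : G) := by
    have := congrArg Subtype.val hyz
    simpa using this
  symm
  calc x * a = (x * (y : G)) * (z : G) := by rw [ha', mul_assoc]
    _ = (y : G) * (x * (z : G)) := by rw [hxy, mul_assoc]
    _ = a * x := by rw [hxz', ha', mul_assoc]

end Sylow

section Main

variable [Finite G] {p : ℕ} [Fact p.Prime] (hZ : center G = ⊥) (𝓐 : Finset (Subgroup G))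
  (hproper : ∀ A ∈ 𝓐, A ≠ ⊤) (hcover : ∀ g : G, ∃ A ∈ 𝓐, g ∈ A)
  (hmin : ∀ 𝓑 : Finset (Subgroup G),
    (∀ A ∈ 𝓑, A ≠ ⊤) ∧ (∀ g : G, ∃ A ∈ 𝓑, g ∈ A) → 𝓐.card ≤ 𝓑.card)
  (hnil : ∀ A ∈ 𝓐, Group.IsNilpotent ↥A)
  (P : Sylow p G) (hab : IsMulCommutative ↥(P : Subgroup G))

include hZ hproper hcover hmin hnil hab in
/-- A nontrivial `p`-element lies in a unique member of the cover. -/
theorem eq_of_mem_of_mem {x : G} (hx1 : x ≠ 1) (hxp : ∃ j, orderOf x = p ^ j)
    {A₁ A₂ : Subgroup G} (h1 : A₁ ∈ 𝓐) (h2 : A₂ ∈ 𝓐) (hxA₁ : x ∈ A₁) (hxA₂ : x ∈ A₂) :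
    A₁ = A₂ := by
  have hC : centralizer ({x} : Set G) ≠ ⊤ := by
    intro h
    rw [centralizer_eq_top_iff_subset, Set.singleton_subset_iff, SetLike.mem_coe, hZ,
      mem_bot] at h
    exact hx1 h
  exact eq_of_le_proper 𝓐 hproper hcover hmin _ hC h1 h2
    (le_centralizer_of_mem P hab A₁ (hnil A₁ h1) x hxA₁ hxp)
    (le_centralizer_of_mem P hab A₂ (hnil A₂ h2) x hxA₂ hxp)

include hZ hproper hcover hmin hnil hab in
/-- A Sylow `p`-subgroup that is cyclic of order `p` or not of exponent `p` lies in a member. -/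
theorem exists_sylow_le (Q : Sylow p G)
    (hQ : Nat.card (Q : Subgroup G) = p ∨ ∃ x₀ ∈ Q, x₀ ^ p ≠ 1) :
    ∃ A ∈ 𝓐, (Q : Subgroup G) ≤ A := by
  have hp : p.Prime := Fact.out
  rcases hQ with hQp | ⟨x₀, hx₀, hx₀p⟩
  · haveI : Fact (Nat.card (Q : Subgroup G)).Prime := ⟨by rw [hQp]; exact hp⟩
    obtain ⟨x, hx⟩ : ∃ x : ↥(Q : Subgroup G), x ≠ 1 := by
      haveI : Nontrivial ↥(Q : Subgroup G) := by
        rw [← Finite.one_lt_card_iff_nontrivial, hQp]; exact hp.one_lt
      exact exists_ne 1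
    obtain ⟨A, hA, hxA⟩ := hcover (x : G)
    refine ⟨A, hA, ?_⟩
    intro y hy
    have h1 : (⟨y, hy⟩ : ↥(Q : Subgroup G)) ∈ zpowers x := by
      rw [zpowers_eq_top_of_prime_card (rfl) hx]  -- placeholder
      trivial
    obtain ⟨k, hk⟩ := mem_zpowers_iff.mp h1
    have h2 : y = (x : G) ^ k := by
      have := congrArg Subtype.val hk
      simpa using this.symm
    rw [h2]
    exact zpow_mem hxA k
  · obtain ⟨A, hA, hx₀A⟩ := hcover x₀
    refine ⟨A, hA, ?_⟩
    have hx₀pQ : x₀ ^ p ∈ Q := pow_mem hx₀ p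
    -- elements of order dividing `p`
    have hsub : ∀ z ∈ Q, z ^ p = 1 → z ∈ A := by
      intro z hz hzp
      obtain ⟨A', hA', hwA'⟩ := hcover (x₀ * z)
      have hcomm : Commute x₀ z := sylow_comm P hab Q hx₀ hz
      have hw : (x₀ * z) ^ p = x₀ ^ p := by rw [hcomm.mul_pow, hzp, mul_one]
      have h1 : x₀ ^ p ∈ A' := by rw [← hw]; exact pow_mem hwA' p
      have h2 : A = A' := eq_of_mem_of_mem hZ 𝓐 hproper hcover hmin hnil P hab hx₀p
        (orderOf_of_mem_sylow Q hx₀pQ) hA hA' (pow_mem hx₀A p) h1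
      have h3 : z = x₀⁻¹ * (x₀ * z) := by group
      rw [h3, h2]
      exact mul_mem (inv_mem (h2 ▸ hx₀A)) hwA'
    intro y hy
    by_cases hy1 : y = 1
    · rw [hy1]; exact one_mem _
    obtain ⟨f, hf⟩ := orderOf_of_mem_sylow Q hy
    have hf1 : f ≠ 0 := by
      rintro rfl
      rw [pow_zero, orderOf_eq_one_iff] at hf
      exact hy1 hf
    have hzp : (y ^ p ^ (f - 1)) ^ p = 1 := by
      rw [← pow_mul, ← pow_succ, Nat.sub_add_cancel (Nat.pos_of_ne_zero hf1), ← hf,
        pow_orderOf_eq_one]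
    have hz1 : y ^ p ^ (f - 1) ≠ 1 := by
      intro h
      have := orderOf_dvd_of_pow_eq_one h
      rw [hf, Nat.pow_dvd_pow_iff_le_right hp.one_lt] at this
      omega
    have hzQ : y ^ p ^ (f - 1) ∈ Q := pow_mem hy _
    have hzA := hsub _ hzQ hzp
    obtain ⟨A', hA', hyA'⟩ := hcover y
    have h2 : A = A' := eq_of_mem_of_mem hZ 𝓐 hproper hcover hmin hnil P hab hz1
      (orderOf_of_mem_sylow Q hzQ) hA hA' hzA (pow_mem hyA' _)
    rw [h2]; exact hyA'

include hab in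
theorem sylow_le_centralizer (Q : Sylow p G) : (Q : Subgroup G) ≤ centralizer (Q : Set G) := by
  intro x hx
  rw [mem_centralizer_iff]
  intro y hy
  exact sylow_comm P hab Q hy hx

include hZ hproper hcover hmin hnil hab in
/-- The centralizer of such a Sylow subgroup is a member of the cover. -/
theorem centralizer_mem (Q : Sylow p G)
    (hQ : Nat.card (Q : Subgroup G) = p ∨ ∃ x₀ ∈ Q, x₀ ^ p ≠ 1) :
    centralizer ((Q : Subgroup G) : Set G) ∈ 𝓐 := by
  have hp : p.Prime := Fact.out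
  obtain ⟨A, hA, hQA⟩ := exists_sylow_le hZ 𝓐 hproper hcover hmin hnil P hab Q hQ
  obtain ⟨x, hxQ, hx1⟩ : ∃ x ∈ Q, x ≠ 1 := by
    rcases hQ with hQp | ⟨x₀, hx₀, hx₀p⟩
    · haveI : Nontrivial ↥(Q : Subgroup G) := by
        rw [← Finite.one_lt_card_iff_nontrivial, hQp]; exact hp.one_lt
      obtain ⟨x, hx⟩ := exists_ne (1 : ↥(Q : Subgroup G))
      refine ⟨x, x.2, ?_⟩
      intro h
      exact hx (Subtype.ext h)
    · refine ⟨x₀, hx₀, ?_⟩
      rintro rfl
      exact hx₀p (one_pow _)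
  have hxp := orderOf_of_mem_sylow Q hxQ
  have heq : centralizer ((Q : Subgroup G) : Set G) = A := by
    apply le_antisymm
    · intro g hg
      obtain ⟨y, z, hyz, hy, hz, hyp, hzp⟩ := Cfsg.Agent.Helper18.exists_pPart_decomp p g
      have hyC : y ∈ centralizer ((Q : Subgroup G) : Set G) :=
        (zpowers_le.mpr hg) hy
      have hzC : z ∈ centralizer ((Q : Subgroup G) : Set G) :=
        (zpowers_le.mpr hg) hz
      have hyQ : y ∈ Q := mem_sylow_of_mem_normalizer Q hyp (centralizer_le_normalizer _ hyC)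
      have hxz : Commute x z := by
        rw [mem_centralizer_iff] at hzC
        exact hzC x hxQ
      obtain ⟨j, hj⟩ := hxp
      have hcop : (orderOf x).Coprime (orderOf z) := by
        rw [hj]; exact (Nat.Coprime.pow_right j hzp).symm
      obtain ⟨A', hA', hxzA'⟩ := hcover (x * z)
      have hxA' : x ∈ A' :=
        (zpowers_le.mpr hxzA') (Cfsg.Agent.Helper8.mem_zpowers_mul_of_coprime hxz hcop)
      have h2 : A = A' := eq_of_mem_of_mem hZ 𝓐 hproper hcover hmin hnil P hab hx1 ⟨j, hj⟩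
        hA hA' (hQA hxQ) hxA'
      have hzA : z ∈ A := by
        have h3 : z = x⁻¹ * (x * z) := by group
        rw [h3, h2]
        exact mul_mem (inv_mem hxA') hxzA'
      rw [hyz]
      exact mul_mem (hQA hyQ) hzA
    · intro a ha
      rw [mem_centralizer_iff]
      intro y hy
      by_cases hy1 : y = 1
      · rw [hy1, one_mul, mul_one]
      have h1 := le_centralizer_of_mem P hab A (hnil A hA) y (hQA hy) (orderOf_of_mem_sylow Q hy)
      exact (mem_centralizer_singleton_iff.mp (h1 ha)).symm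
  rw [heq]; exact hA

omit [Finite G] [Fact p.Prime] in
/-- conjugating the centralizer -/
theorem conj_mem_centralizer_of_mem (g c : G)
    (hc : c ∈ centralizer (((g • P : Sylow p G) : Subgroup G) : Set G)) :
    g⁻¹ * c * g ∈ centralizer ((P : Subgroup G) : Set G) := by
  rw [mem_centralizer_iff] at hc ⊢
  intro x hx
  have h1 : g * x * g⁻¹ ∈ g • P := by
    rw [mem_smul_sylow_iff]
    have : g⁻¹ * (g * x * g⁻¹) * g = x := by group
    rw [this]; exact hx
  have h2 := hc _ h1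
  calc x * (g⁻¹ * c * g) = g⁻¹ * ((g * x * g⁻¹) * c) * g := by group
    _ = g⁻¹ * (c * (g * x * g⁻¹)) * g := by rw [h2]
    _ = g⁻¹ * c * g * x := by group

include hab in
/-- if the centralizers agree then `g` normalizes `P`. -/
theorem mem_normalizer_of_centralizer_eq (g : G)
    (h : centralizer (((g • P : Sylow p G) : Subgroup G) : Set G) =
      centralizer ((P : Subgroup G) : Set G)) :
    g ∈ normalizer ((P : Subgroup G) : Set G) := by
  apply Sylow.smul_eq_iff_mem_normalizer.mp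
  have h1 : ((g • P : Sylow p G) : Subgroup G) ≤ normalizer ((P : Subgroup G) : Set G) := by
    refine le_trans (sylow_le_centralizer P hab (g • P)) ?_
    exact le_trans h.le (centralizer_le_normalizer _)
  have h2 := IsPGroup.inf_normalizer_sylow (g • P).isPGroup' P
  have h3 : ((g • P : Sylow p G) : Subgroup G) ≤ P := by
    intro y hy
    exact (h2.le ⟨hy, h1 hy⟩).2
  exact Sylow.ext ((g • P).is_maximal' P.isPGroup' h3).symm

/-- the hypothesis is conjugation invariant -/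
theorem hyp_smul (hQ : Nat.card (P : Subgroup G) = p ∨ ∃ x₀ ∈ P, x₀ ^ p ≠ 1) (g : G) :
    Nat.card ((g • P : Sylow p G) : Subgroup G) = p ∨ ∃ x₀ ∈ g • P, x₀ ^ p ≠ 1 := by
  rcases hQ with hQp | ⟨x₀, hx₀, hx₀p⟩
  · left
    rw [(g • P).card_eq_multiplicity, ← P.card_eq_multiplicity, hQp]
  · right
    refine ⟨g * x₀ * g⁻¹, ?_, ?_⟩
    · rw [mem_smul_sylow_iff]
      have : g⁻¹ * (g * x₀ * g⁻¹) * g = x₀ := by group
      rw [this]; exact hx₀
    · rw [conj_pow]
      intro h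
      apply hx₀p
      have : x₀ ^ p = g⁻¹ * (g * x₀ ^ p * g⁻¹) * g := by group
      rw [this, h]; group

include hZ hproper hcover hmin hnil hab in
/-- A proper subgroup containing `C_G(P)` normalizes `P`. -/
theorem le_normalizer_of_centralizer_le
    (hQ : Nat.card (P : Subgroup G) = p ∨ ∃ x₀ ∈ P, x₀ ^ p ≠ 1) (M : Subgroup G) (hM : M ≠ ⊤)
    (hCM : centralizer ((P : Subgroup G) : Set G) ≤ M) :
    M ≤ normalizer ((P : Subgroup G) : Set G) := by
  intro m hm
  have hA := centralizer_mem hZ 𝓐 hproper hcover hmin hnil P hab P hQ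
  have hA' := centralizer_mem hZ 𝓐 hproper hcover hmin hnil P hab (m • P) (hyp_smul P hQ m)
  have hA'M : centralizer (((m • P : Sylow p G) : Subgroup G) : Set G) ≤ M := by
    intro c hc
    have h1 := hCM (conj_mem_centralizer_of_mem P m c hc)
    have h2 : c = m * (m⁻¹ * c * m) * m⁻¹ := by group
    rw [h2]
    exact mul_mem (mul_mem hm h1) (inv_mem hm)
  have h3 := eq_of_le_proper 𝓐 hproper hcover hmin M hM hA' hA hA'M hCM
  exact mem_normalizer_of_centralizer_eq P hab m h3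

include hZ hproper hcover hmin hnil hab in
/-- The structure theorem for abelian Sylow subgroups in a centerless group with a nilpotent
minimal cover. -/
theorem main (hnn : ¬ (P : Subgroup G).Normal)
    (hQ : Nat.card (P : Subgroup G) = p ∨ ∃ x₀ ∈ P, x₀ ^ p ≠ 1) :
    centralizer ((P : Subgroup G) : Set G) ∈ 𝓐 ∧
    IsCoatom (normalizer ((P : Subgroup G) : Set G)) ∧
    (∀ g : G, g ∉ normalizer ((P : Subgroup G) : Set G) →
      ¬ p ∣ Nat.card ↥(normalizer ((P : Subgroup G) : Set G) ⊓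
        (normalizer ((P : Subgroup G) : Set G)).map (MulAut.conj g).toMonoidHom)) ∧
    (∀ M : Subgroup G, IsCoatom M → centralizer ((P : Subgroup G) : Set G) ≤ M →
      M = normalizer ((P : Subgroup G) : Set G)) := by
  have hp : p.Prime := Fact.out
  have hA := centralizer_mem hZ 𝓐 hproper hcover hmin hnil P hab P hQ
  have hkey := le_normalizer_of_centralizer_le hZ 𝓐 hproper hcover hmin hnil P hab hQ
  have hNtop : normalizer ((P : Subgroup G) : Set G) ≠ ⊤ := by
    intro h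
    exact hnn (normalizer_eq_top_iff.mp h)
  refine ⟨hA, ⟨hNtop, ?_⟩, ?_, ?_⟩
  · intro M hNM
    by_contra hM
    have := hkey M hM (le_trans (centralizer_le_normalizer _) hNM.le)
    exact absurd (lt_of_lt_of_le hNM this) (lt_irrefl _)
  · intro g hg hdvd
    obtain ⟨y, hy⟩ := exists_prime_orderOf_dvd_card' p hdvd
    have hy' : orderOf (y : G) = p := by rw [Subgroup.orderOf_coe, hy]
    have hyp : ∃ j, orderOf (y : G) = p ^ j := ⟨1, by rw [hy', pow_one]⟩
    have hy1 : (y : G) ≠ 1 := by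
      intro h
      rw [h, orderOf_one] at hy'
      exact hp.one_lt.ne hy'
    have hyN : (y : G) ∈ normalizer ((P : Subgroup G) : Set G) := y.2.1
    have hyNg : (y : G) ∈ (normalizer ((P : Subgroup G) : Set G)).map
        (MulAut.conj g).toMonoidHom := y.2.2
    have hyP : (y : G) ∈ P := mem_sylow_of_mem_normalizer P hyp hyN
    rw [Cfsg.Agent.Helper19.mem_map_conj] at hyNg
    have hyp' : ∃ j, orderOf (g⁻¹ * (y : G) * g) = p ^ j := by
      rw [Cfsg.Agent.Helper19.orderOf_conj_inv']; exact hyp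
    have hygP : (y : G) ∈ g • P := by
      rw [mem_smul_sylow_iff]
      exact mem_sylow_of_mem_normalizer P hyp' hyNg
    have hA' := centralizer_mem hZ 𝓐 hproper hcover hmin hnil P hab (g • P) (hyp_smul P hQ g)
    have h3 := eq_of_mem_of_mem hZ 𝓐 hproper hcover hmin hnil P hab hy1 hyp hA' hA
      (sylow_le_centralizer P hab (g • P) hygP) (sylow_le_centralizer P hab P hyP)
    exact hg (mem_normalizer_of_centralizer_eq P hab g h3)
  · intro M hM hCM
    have h1 := hkey M hM.1 hCM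
    by_contra hne
    exact hNtop (hM.2 _ (lt_of_le_of_ne h1 hne))

end Main

end Cfsg.Agent.Helper19.NilpCover
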