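import Cfsg.Agent.Helper3.OC2Q2.Defs
import Cfsg.Agent.Helper18.OC2Q2DPERP
import Cfsg.Agent.Helper23.OC2Q2NSING

set_option autoImplicit false
set_option linter.unusedSectionVars false
set_option linter.unusedVariables false

/-! # S5694 chapter CHAR2, sub-chapter Q2 (driver helper3), piece S1C (helper19). -/

namespace Cfsg.Agent.OC2K

open Matrix Cfsg.Agent.Helper28.Sg Cfsg.Agent.Helper28.Spin Cfsg.Agent.Helper12.OrthGen
  Cfsg.Agent.S2614 Cfsg.Agent.S5683P Cfsg.Agent.Helper28.NDM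

variable {F : Type*} [Field F] {t k : ℕ} {ι : Type} [Fintype ι] [DecidableEq ι] {Q : QuadraticForm F (ι → F)} [QHyp Q] {D : Fin t → Submodule F (ι → F)}
  {M : Subgroup (OGq Q)}

/-- S1C (S-M): for a nonsingular `zd ∈ D d`: a singular `x ≠ 0` in `D d ∩ zd^⊥` and `w ∈ D d ∩ x^⊥` with `B zd w = 1`. -/
theorem Q2.S1C.exists (hF : Q2.IsF2 F) (hD : HD Q k D) (hk : 4 ≤ k) {d : Fin t} {zd : ι → F}
    (hzd : zd ∈ D d) (hQzd : Q zd ≠ 0) :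
    ∃ x ∈ D d, ∃ w ∈ D d, x ≠ 0 ∧ Q x = 0 ∧ B Q x zd = 0 ∧ B Q x w = 0 ∧ B Q zd w = 1 := by
  obtain ⟨x, hx, hx0, hQx, hzx⟩ := Q2.NSING.exists hF hD hk hzd hQzd
  have hex : ∃ w ∈ D d, B Q x w = 0 ∧ B Q w zd ≠ 0 := by
    by_contra hcon
    push Not at hcon
    obtain ⟨s, hs⟩ := Q2.DPERP.main hD hx hx0 hzd hcon
    apply hQzd
    rw [hs, QuadraticMap.map_smul, hQx, smul_zero]
  obtain ⟨w, hw, hxw, hwz⟩ := hex
  refine ⟨x, hx, w, hw, hx0, hQx, ?_, hxw, ?_⟩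
  · rw [B_comm]; exact hzx
  · rw [B_comm]; exact Q2.eq_one hF hwz

end Cfsg.Agent.OC2K
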