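import Mathlib
import Cfsg.Prelude.Def_GeometricClasses
import Cfsg.Agent.Helper28.OrthSim3
import Cfsg.Agent.Helper8.OS6Defs
import Cfsg.Agent.Helper16.OS6SPADD
import Cfsg.Agent.Helper16.OS6SPREFL

set_option autoImplicit false

/-! S5798 (sl6), chapter SPREAD of helper8, piece SPSTEP (helper19): `c - r_z c = (Q z)⁻¹ B(z,c) z ∈ Phi`. -/

namespace Cfsg.Agent.OS6P

open Matrix Module Cfsg.Agent.Helper28.Sg Cfsg.Agent.Helper28.Spin Cfsg.Agent.Helper28.SLMax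
  Cfsg.Agent.Helper28.SimMax Cfsg.Agent.Helper28.OSim

variable {F : Type*} [Field F] {n : ℕ} {Q : QuadraticForm F (Fin n → F)}

theorem SPSTEP.main {M : Subgroup (Matrix.GeneralLinearGroup (Fin n) F)}
    (hHM : Cfsg.Geo.quadSimilarityGroup (⇑Q) ⊓ SL n F ≤ M) {e z c : Fin n → F}
    (he : Q e ≠ 0) (hz : Q z ≠ 0) (hez : B Q e z = 0) (hc : c ∈ Phi Q M e) :
    ((Q z)⁻¹ * B Q z c) • z ∈ Phi Q M e := by
  have h1 := SPREFL.main hHM he hz hez hc
  have h2 := SPADD.sub hc h1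
  have e1 : c - Cfsg.reflectionMatrix ⇑Q z *ᵥ c = ((Q z)⁻¹ * B Q z c) • z := by
    rw [Cfsg.Agent.Helper28.reflectionMatrix_mulVec]
    show c - (c - ((Q z)⁻¹ * B Q z c) • z) = _
    abel
  rw [e1] at h2
  exact h2

end Cfsg.Agent.OS6P
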