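import Mathlib
import Cfsg.Agent.Helper19.Class2

set_option autoImplicit false

/-! P. Hall's theorem on `p`-groups of symplectic type, part A: the characteristic subgroups
`omegaCenter p G = Ω₁(Z(G))` and `symL p G = {x | x ^ p ∈ Ω₁(Z(G)) ∧ [G, x] ≤ Ω₁(Z(G))}`. -/

namespace Cfsg.Agent.Helper19.SympType

open Subgroup
open scoped commutatorElement

variable {G : Type*} [Group G]

/-- `Ω₁(Z(G))`: the central elements of order dividing `p`. -/
def omegaCenter (p : ℕ) (G : Type*) [Group G] : Subgroup G where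
  carrier := {x | x ∈ center G ∧ x ^ p = 1}
  one_mem' := ⟨one_mem _, one_pow _⟩
  mul_mem' := by
    rintro a b ⟨ha, hap⟩ ⟨hb, hbp⟩
    refine ⟨mul_mem ha hb, ?_⟩
    have hc : Commute a b := (Subgroup.mem_center_iff.mp ha b).symm
    rw [hc.mul_pow, hap, hbp, one_mul]
  inv_mem' := by
    rintro a ⟨ha, hap⟩
    exact ⟨inv_mem ha, by rw [inv_pow, hap, inv_one]⟩

theorem mem_omegaCenter {p : ℕ} {x : G} :
    x ∈ omegaCenter p G ↔ x ∈ center G ∧ x ^ p = 1 := Iff.rfl

theorem omegaCenter_le_center (p : ℕ) : omegaCenter p G ≤ center G := fun _ hx => hx.1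

theorem omegaCenter_comm {p : ℕ} {x : G} (hx : x ∈ omegaCenter p G) (g : G) : g * x = x * g :=
  Subgroup.mem_center_iff.mp hx.1 g

theorem map_mem_omegaCenter {p : ℕ} (ϕ : G ≃* G) {x : G} (hx : x ∈ omegaCenter p G) :
    ϕ x ∈ omegaCenter p G := by
  refine ⟨?_, by rw [← map_pow, hx.2, map_one]⟩
  rw [Subgroup.mem_center_iff]
  intro g
  have h := omegaCenter_comm hx (ϕ.symm g)
  have h2 := congrArg ϕ h
  rw [map_mul, map_mul, MulEquiv.apply_symm_apply] at h2
  exact h2

instance omegaCenter_characteristic (p : ℕ) : (omegaCenter p G).Characteristic := by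
  rw [Subgroup.characteristic_iff_le_comap]
  intro ϕ x hx
  exact map_mem_omegaCenter ϕ hx

/-- the characteristic subgroup `{x | x ^ p ∈ Ω₁(Z(G)) ∧ [G, x] ≤ Ω₁(Z(G))}` -/
def symL (p : ℕ) (G : Type*) [Group G] : Subgroup G where
  carrier := {x | x ^ p ∈ omegaCenter p G ∧ ∀ g : G, ⁅g, x⁆ ∈ omegaCenter p G}
  one_mem' := by
    refine ⟨by rw [one_pow]; exact one_mem _, fun g => ?_⟩
    rw [commutatorElement_def]; simp
  mul_mem' := by
    rintro a b ⟨hap, hac⟩ ⟨hbp, hbc⟩
    constructor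
    · have hc := hac b
      have hca : Commute ⁅b, a⁆ a := (omegaCenter_comm hc a).symm
      have hcb : Commute ⁅b, a⁆ b := (omegaCenter_comm hc b).symm
      rw [mul_pow_of_commute_comm a b hca hcb p]
      exact mul_mem (mul_mem hap hbp) (pow_mem hc _)
    · intro g
      have h1 : ⁅g, a * b⁆ = ⁅g, a⁆ * (a * ⁅g, b⁆ * a⁻¹) := by
        simp only [commutatorElement_def]; group
      have h2 : a * ⁅g, b⁆ * a⁻¹ = ⁅g, b⁆ := by
        rw [omegaCenter_comm (hbc g) a, mul_assoc, mul_inv_cancel, mul_one]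
      rw [h1, h2]
      exact mul_mem (hac g) (hbc g)
  inv_mem' := by
    rintro a ⟨hap, hac⟩
    constructor
    · rw [inv_pow]; exact inv_mem hap
    · intro g
      have h1 : ⁅g, a⁻¹⁆ = a⁻¹ * ⁅g, a⁆⁻¹ * a := by
        simp only [commutatorElement_def]; group
      have h2 : a⁻¹ * ⁅g, a⁆⁻¹ * a = ⁅g, a⁆⁻¹ := by
        rw [mul_assoc, ← omegaCenter_comm (inv_mem (hac g)) a, ← mul_assoc, inv_mul_cancel,
          one_mul]
      rw [h1, h2]
      exact inv_mem (hac g)

theorem mem_symL {p : ℕ} {x : G} :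
    x ∈ symL p G ↔ x ^ p ∈ omegaCenter p G ∧ ∀ g : G, ⁅g, x⁆ ∈ omegaCenter p G := Iff.rfl

theorem omegaCenter_le_symL (p : ℕ) : omegaCenter p G ≤ symL p G := by
  intro x hx
  refine ⟨by rw [hx.2]; exact one_mem _, fun g => ?_⟩
  have h : ⁅g, x⁆ = 1 := by
    rw [commutatorElement_def, omegaCenter_comm hx g]; group
  rw [h]
  exact one_mem _

instance symL_characteristic (p : ℕ) : (symL p G).Characteristic := by
  rw [Subgroup.characteristic_iff_le_comap]
  intro ϕ x hx
  refine ⟨?_, fun g => ?_⟩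
  · have := map_mem_omegaCenter ϕ hx.1
    rwa [map_pow] at this
  · have h := map_mem_omegaCenter ϕ (hx.2 (ϕ.symm g))
    rw [map_commutatorElement, MulEquiv.apply_symm_apply] at h
    exact h

/-- commutators of two elements of `symL` lie in `Ω₁(Z(G))` -/
theorem commutator_mem_of_mem_symL {p : ℕ} {x : G} (hx : x ∈ symL p G) (g : G) :
    ⁅x, g⁆ ∈ omegaCenter p G := by
  rw [← commutatorElement_inv]
  exact inv_mem (hx.2 g)

/-- the centre of `symL` as a subgroup of `G` -/
def symZ (p : ℕ) (G : Type*) [Group G] : Subgroup G := symL p G ⊓ centralizer (symL p G : Set G)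

instance symZ_characteristic (p : ℕ) : (symZ p G).Characteristic := by
  rw [Subgroup.characteristic_iff_le_comap]
  intro ϕ x hx
  have h1 : ϕ x ∈ symL p G :=
    (Subgroup.characteristic_iff_le_comap.mp (symL_characteristic p) ϕ) hx.1
  refine ⟨h1, ?_⟩
  have hc : ϕ x ∈ centralizer (symL p G : Set G) := by
    rw [mem_centralizer_iff]
    intro h hh
    have h2 : ϕ.symm h ∈ symL p G :=
      (Subgroup.characteristic_iff_le_comap.mp (symL_characteristic p) ϕ.symm) hh
    have h3 := (mem_centralizer_iff.mp hx.2) (ϕ.symm h) h2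
    have h4 := congrArg ϕ h3
    rw [map_mul, map_mul, MulEquiv.apply_symm_apply] at h4
    exact h4
  exact hc

instance symZ_comm (p : ℕ) : IsMulCommutative ↥(symZ p G) :=
  ⟨⟨fun a b => Subtype.ext ((mem_centralizer_iff.mp b.2.2) a.1 a.2.1)⟩⟩

theorem omegaCenter_le_symZ (p : ℕ) : omegaCenter p G ≤ symZ p G := by
  intro x hx
  refine ⟨omegaCenter_le_symL p hx, ?_⟩
  have hc : x ∈ centralizer (symL p G : Set G) := by
    rw [mem_centralizer_iff]
    intro h _
    exact omegaCenter_comm hx h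
  exact hc

end Cfsg.Agent.Helper19.SympType
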