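import Mathlib
import Cfsg.Agent.Helper3.BroadGen
import Cfsg.Agent.Helper3.DihedralOddAut
import Cfsg.Agent.Helper25.DihedralAut
import Cfsg.Agent.Helper18.AutQ8
import Cfsg.Agent.Helper1.UniqueOrderP
import Cfsg.Agent.Helper19.SympTypeA

set_option autoImplicit false
set_option linter.style.haveILetI false
set_option linter.unusedSectionVars false

/-! Abelian groups of automorphisms of odd order of a `2`-group, each nonidentity element fixing
at most one involution.  Part A: restriction of automorphisms, the structure of the fixed-point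
subgroups. -/

namespace Cfsg.Agent.Helper19.OneInv

open Subgroup Cfsg.Agent.Helper3.Broad
open scoped commutatorElement

variable {W : Type*} [Group W]

/-- restriction of a group of automorphisms to an invariant subgroup -/
def restr (E : Subgroup (MulAut W)) (D : Subgroup W) (hD : ∀ T ∈ E, ∀ x ∈ D, T x ∈ D) :
    ↥E →* MulAut ↥D where
  toFun T :=
    { toFun := fun x => ⟨(T : MulAut W) x, hD T T.2 x x.2⟩
      invFun := fun x => ⟨(T : MulAut W)⁻¹ x, hD _ (inv_mem T.2) x x.2⟩
      left_inv := fun x => Subtype.ext (by simp)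
      right_inv := fun x => Subtype.ext (by simp)
      map_mul' := fun x y => Subtype.ext (by simp) }
  map_one' := by
    ext x
    simp
  map_mul' := by
    intro S T
    ext x
    simp

@[simp] theorem restr_apply (E : Subgroup (MulAut W)) (D : Subgroup W)
    (hD : ∀ T ∈ E, ∀ x ∈ D, T x ∈ D) (T : ↥E) (x : ↥D) :
    ((restr E D hD T x : ↥D) : W) = (T : MulAut W) x := rfl

theorem restr_eq_one_iff (E : Subgroup (MulAut W)) (D : Subgroup W)
    (hD : ∀ T ∈ E, ∀ x ∈ D, T x ∈ D) (T : ↥E) :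
    restr E D hD T = 1 ↔ ∀ x ∈ D, (T : MulAut W) x = x := by
  constructor
  · intro h x hx
    have := congrArg (fun f : MulAut ↥D => ((f ⟨x, hx⟩ : ↥D) : W)) h
    simpa using this
  · intro h
    ext x
    simpa using h x.1 x.2


/-- the common fixed points of a group of automorphisms -/
def fixAll (E : Subgroup (MulAut W)) : Subgroup W where
  carrier := {x | ∀ T ∈ E, T x = x}
  one_mem' := fun T _ => map_one T
  mul_mem' := by
    intro a b ha hb T hT
    rw [map_mul, ha T hT, hb T hT]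
  inv_mem' := by
    intro a ha T hT
    rw [map_inv, ha T hT]

theorem mem_fixAll {E : Subgroup (MulAut W)} {x : W} : x ∈ fixAll E ↔ ∀ T ∈ E, T x = x := Iff.rfl

/-- the standing hypotheses -/
structure Hyp (W : Type*) [Group W] (p : ℕ) (E : Subgroup (MulAut W)) : Prop where
  pW : IsPGroup 2 W
  odd : p ≠ 2
  pE : IsPGroup p ↥E
  ab : IsMulCommutative ↥E
  nc : ¬ IsCyclic ↥E
  fix : ∀ e ∈ E, e ≠ 1 → ∀ x y : W, orderOf x = 2 → orderOf y = 2 → e x = x → e y = y → x = y

namespace Hyp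

variable [Finite W] {p : ℕ} [hp : Fact p.Prime] {E : Subgroup (MulAut W)} (h : Hyp W p E)

include h

theorem comm {S T : MulAut W} (hS : S ∈ E) (hT : T ∈ E) : S * T = T * S := by
  haveI := h.ab
  have := mul_comm' (⟨S, hS⟩ : ↥E) ⟨T, hT⟩
  exact congrArg Subtype.val this

theorem comm_apply {S T : MulAut W} (hS : S ∈ E) (hT : T ∈ E) (x : W) : S (T x) = T (S x) := by
  have := congrArg (fun f : MulAut W => f x) (h.comm hS hT)
  simpa using this

theorem finiteE : Finite ↥E := by
  haveI : Finite (MulAut W) := Finite.of_injective (fun f : MulAut W => (f : W → W))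
    (fun f g hfg => MulEquiv.ext (congrFun hfg))
  infer_instance

theorem card_odd : Odd (Nat.card ↥E) := by
  haveI := h.finiteE
  obtain ⟨n, hn⟩ := IsPGroup.iff_card.mp h.pE
  rw [hn]
  exact Odd.pow (hp.out.odd_of_ne_two h.odd)

theorem pow_card {T : MulAut W} (hT : T ∈ E) : T ^ Nat.card ↥E = 1 := by
  haveI := h.finiteE
  have : (⟨T, hT⟩ : ↥E) ^ Nat.card ↥E = 1 := pow_card_eq_one'
  exact congrArg Subtype.val this

theorem coprime : (Nat.card ↥E).Coprime (Nat.card W) := by
  haveI := h.finiteE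
  haveI : Fact (Nat.Prime 2) := ⟨Nat.prime_two⟩
  obtain ⟨n, hn⟩ := IsPGroup.iff_card.mp h.pE
  obtain ⟨m, hm⟩ := IsPGroup.iff_card.mp h.pW
  rw [hn, hm]
  apply Nat.Coprime.pow
  rw [Nat.coprime_primes hp.out Nat.prime_two]
  exact h.odd

theorem exists_ne_one : ∃ T ∈ E, T ≠ 1 := by
  by_contra hcon
  push Not at hcon
  apply h.nc
  haveI : Subsingleton ↥E := ⟨fun a b => Subtype.ext ((hcon a a.2).trans (hcon b b.2).symm)⟩
  infer_instance

theorem fx_inv {S T : MulAut W} (hS : S ∈ E) (hT : T ∈ E) {x : W} (hx : x ∈ Fx T) : S x ∈ Fx T := by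
  rw [mem_Fx] at hx ⊢
  rw [← h.comm_apply hS hT, hx]

theorem gen {D H : Subgroup W} (hD : ∀ T ∈ E, ∀ x ∈ D, T x ∈ D)
    (hH : ∀ T ∈ E, T ≠ 1 → ∀ x ∈ D, T x = x → x ∈ H) : D ≤ H := by
  haveI := h.ab
  exact gen_fix E h.nc h.coprime D hD H hH


theorem nontrivialW : Nontrivial W := by
  by_contra hcon
  rw [not_nontrivial_iff_subsingleton] at hcon
  apply h.nc
  haveI : Subsingleton (MulAut W) := ⟨fun a b => MulEquiv.ext fun x => Subsingleton.elim _ _⟩
  haveI : Subsingleton ↥E := ⟨fun a b => Subtype.ext (Subsingleton.elim _ _)⟩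
  infer_instance

theorem orderOf_two_of_sq {x : W} (hx1 : x ≠ 1) (hx2 : x ^ 2 = 1) : orderOf x = 2 :=
  orderOf_eq_prime hx2 hx1

/-- central elements of order at most two are fixed by `E` -/
theorem central_sq_fixed {x : W} (hxc : x ∈ center W) (hx2 : x ^ 2 = 1) : x ∈ fixAll E := by
  have hD : ∀ T ∈ E, ∀ x ∈ SympType.omegaCenter 2 W, T x ∈ SympType.omegaCenter 2 W :=
    fun T _ x hx => SympType.map_mem_omegaCenter T hx
  refine h.gen hD ?_ (⟨hxc, hx2⟩ : x ∈ SympType.omegaCenter 2 W)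
  intro T hT hT1 y hy hTy S hS
  by_cases hy1 : y = 1
  · rw [hy1, map_one]
  · have hoy : orderOf y = 2 := orderOf_eq_prime hy.2 hy1
    have hoSy : orderOf (S y) = 2 := by rw [MulEquiv.orderOf_eq]; exact hoy
    have hTSy : T (S y) = S y := by rw [h.comm_apply hT hS, hTy]
    exact h.fix T hT hT1 (S y) y hoSy hoy hTSy hTy

/-- the central involution -/
theorem exists_z : ∃ z : W, orderOf z = 2 ∧ z ∈ center W ∧ z ∈ fixAll E ∧
    (∀ T ∈ E, T ≠ 1 → ∀ x : W, orderOf x = 2 → T x = x → x = z) ∧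
    (∀ x ∈ center W, x ^ 2 = 1 → x = 1 ∨ x = z) := by
  haveI := h.nontrivialW
  haveI : Fact (Nat.Prime 2) := ⟨Nat.prime_two⟩
  have hnt : Nontrivial ↥(center W) := h.pW.center_nontrivial
  have hcp : IsPGroup 2 ↥(center W) := h.pW.to_subgroup _
  have hpd : 2 ∣ Nat.card ↥(center W) := by
    obtain ⟨n, hn⟩ := IsPGroup.iff_card.mp hcp
    rcases n with _ | n
    · rw [pow_zero] at hn
      have := (Finite.one_lt_card_iff_nontrivial (α := ↥(center W))).mpr hnt
      omega
    · rw [hn, pow_succ]; exact dvd_mul_left _ _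
  obtain ⟨z₀, hz₀⟩ := exists_prime_orderOf_dvd_card' 2 hpd
  have hz : orderOf (z₀ : W) = 2 := by rw [Subgroup.orderOf_coe]; exact hz₀
  have hz2 : (z₀ : W) ^ 2 = 1 := by rw [← hz]; exact pow_orderOf_eq_one _
  have hzf : (z₀ : W) ∈ fixAll E := h.central_sq_fixed z₀.2 hz2
  have hkey : ∀ T ∈ E, T ≠ 1 → ∀ x : W, orderOf x = 2 → T x = x → x = z₀ :=
    fun T hT hT1 x hx hTx => h.fix T hT hT1 x z₀ hx hz hTx (hzf T hT)
  refine ⟨z₀, hz, z₀.2, hzf, hkey, ?_⟩
  intro x hxc hx2
  by_cases hx1 : x = 1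
  · exact Or.inl hx1
  · right
    obtain ⟨T, hT, hT1⟩ := h.exists_ne_one
    exact hkey T hT hT1 x (orderOf_eq_prime hx2 hx1) (h.central_sq_fixed hxc hx2 T hT)

end Hyp

end Cfsg.Agent.Helper19.OneInv
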