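import Mathlib
import Cfsg.Agent.Helper19.OneInvA
import Cfsg.Agent.Helper17.Basic

set_option autoImplicit false
set_option linter.style.haveILetI false
set_option linter.unusedSectionVars false

/-! Part B: the structure of the fixed-point subgroups. -/

namespace Cfsg.Agent.Helper19.OneInv

open Subgroup Cfsg.Agent.Helper3.Broad
open scoped commutatorElement

variable {W : Type*} [Group W]

theorem q8_pow_four : ∀ x : QuaternionGroup 2, x ^ 4 = 1 := by decide

theorem q8_noncomm' : (QuaternionGroup.a 1 : QuaternionGroup 2) * QuaternionGroup.xa 0 ≠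
    QuaternionGroup.xa 0 * QuaternionGroup.a 1 := by decide

/-- an automorphism of odd order of a `2`-group fixing `s⁻¹ α(s)` fixes `s` -/
theorem fix_of_chain (hW : IsPGroup 2 W) (α : MulAut W) (d : ℕ) (hd : Odd d) (hα : α ^ d = 1)
    (s : W) (hc : α (s⁻¹ * α s) = s⁻¹ * α s) : α s = s := by
  set c := s⁻¹ * α s with hcdef
  have hαs : α s = s * c := by rw [hcdef]; group
  have hpow : ∀ i : ℕ, (α ^ i) s = s * c ^ i := by
    intro i
    induction i with
    | zero => simp
    | succ k ih =>
      rw [pow_succ', MulAut.mul_apply, ih, map_mul, map_pow, hc, hαs, pow_succ', mul_assoc]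
  have h1 : c ^ d = 1 := by
    have h := hpow d
    rw [hα] at h
    have h' : s * 1 = s * c ^ d := by simpa using h
    exact (mul_left_cancel h').symm
  obtain ⟨k, hk⟩ := hW c
  have h2 : orderOf c ∣ d := orderOf_dvd_of_pow_eq_one h1
  have h3 : orderOf c ∣ 2 ^ k := orderOf_dvd_of_pow_eq_one hk
  have hcop : Nat.Coprime (2 ^ k) d := Nat.Coprime.pow_left k (Nat.coprime_two_left.mpr hd)
  have h4 : orderOf c = 1 := Nat.eq_one_of_dvd_coprimes hcop h3 h2
  have h5 : c = 1 := orderOf_eq_one_iff.mp h4
  rw [hαs, h5, mul_one]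

/-- the data of the central involution -/
structure ZData (E : Subgroup (MulAut W)) (z : W) : Prop where
  oz : orderOf z = 2
  zc : z ∈ center W
  zf : z ∈ fixAll E
  uniq : ∀ T ∈ E, T ≠ 1 → ∀ x : W, orderOf x = 2 → T x = x → x = z
  cen : ∀ x ∈ center W, x ^ 2 = 1 → x = 1 ∨ x = z

namespace Hyp

variable [Finite W] {p : ℕ} [hp : Fact p.Prime] {E : Subgroup (MulAut W)} (h : Hyp W p E)
  {z : W} (hz : ZData E z)

include h hz

theorem uniqP {T : MulAut W} (hT : T ∈ E) (hT1 : T ≠ 1) :
    Cfsg.Agent.Helper1.UniqP 2 ↥(Fx T) := by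
  have hzF : z ∈ Fx T := hz.zf T hT
  have hoz' : orderOf (⟨z, hzF⟩ : ↥(Fx T)) = 2 := by
    rw [← Subgroup.orderOf_coe]; exact hz.oz
  have key : ∀ H : Subgroup ↥(Fx T), Nat.card H = 2 → H = zpowers (⟨z, hzF⟩ : ↥(Fx T)) := by
    intro H hH
    have hne : H ≠ ⊥ := by
      intro hb
      rw [hb, Subgroup.card_bot] at hH
      omega
    obtain ⟨a', ha'⟩ := (Subgroup.ne_bot_iff_exists_ne_one).mp hne
    obtain ⟨a, haH, ha1⟩ : ∃ a : ↥(Fx T), a ∈ H ∧ a ≠ 1 :=
      ⟨a'.1, a'.2, fun hh => ha' (Subtype.ext hh)⟩
    have ha2 : a ^ 2 = 1 := by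
      have h1 : (⟨a, haH⟩ : ↥H) ^ Nat.card ↥H = 1 := pow_card_eq_one'
      rw [hH] at h1
      exact congrArg Subtype.val h1
    have hoa : orderOf (a : W) = 2 := by
      rw [Subgroup.orderOf_coe]
      exact orderOf_eq_prime ha2 ha1
    have haz : (a : W) = z := hz.uniq T hT hT1 a hoa a.2
    have haz' : a = ⟨z, hzF⟩ := Subtype.ext haz
    symm
    apply Subgroup.eq_of_le_of_card_ge
    · rw [zpowers_le, ← haz']; exact haH
    · rw [Nat.card_zpowers, hoz', hH]
  intro H K hH hK
  rw [key H hH, key K hK]


omit hz in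
theorem restr_pow_card (D : Subgroup W) (hD : ∀ T ∈ E, ∀ x ∈ D, T x ∈ D) (S : ↥E) :
    (restr E D hD S) ^ Nat.card ↥E = 1 := by
  haveI := h.finiteE
  rw [← map_pow, pow_card_eq_one', map_one]

omit hz in
theorem trivial_of_isCyclic (D : Subgroup W) (hD : ∀ T ∈ E, ∀ x ∈ D, T x ∈ D)
    (hc : IsCyclic ↥D) (S : ↥E) : restr E D hD S = 1 :=
  Cfsg.Agent.Helper3.aut_cyclic_two_group_trivial (h.pW.to_subgroup D) _ _ h.card_odd
    (h.restr_pow_card D hD S)

omit hz in
theorem trivial_of_isPGroup (D : Subgroup W) (hD : ∀ T ∈ E, ∀ x ∈ D, T x ∈ D)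
    (hc : IsPGroup 2 (MulAut ↥D)) (S : ↥E) : restr E D hD S = 1 := by
  obtain ⟨k, hk⟩ := hc (restr E D hD S)
  have h2 : orderOf (restr E D hD S) ∣ Nat.card ↥E :=
    orderOf_dvd_of_pow_eq_one (h.restr_pow_card D hD S)
  have h3 : orderOf (restr E D hD S) ∣ 2 ^ k := orderOf_dvd_of_pow_eq_one hk
  have hcop : Nat.Coprime (2 ^ k) (Nat.card ↥E) :=
    Nat.Coprime.pow_left k (Nat.coprime_two_left.mpr h.card_odd)
  exact orderOf_eq_one_iff.mp (Nat.eq_one_of_dvd_coprimes hcop h3 h2)

/-- the structure of the fixed points of a nonidentity element -/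
theorem fx_structure {T : MulAut W} (hT : T ∈ E) (hT1 : T ≠ 1) :
    (∀ S ∈ E, ∀ x ∈ Fx T, S x = x) ∨
    (Nat.card ↥(Fx T) = 8 ∧ Nonempty (↥(Fx T) ≃* QuaternionGroup 2) ∧
      (∃ x ∈ Fx T, ∃ y ∈ Fx T, x * y ≠ y * x) ∧
      ∀ D : Subgroup W, D ≤ Fx T → (∀ S ∈ E, ∀ x ∈ D, S x ∈ D) →
        D = Fx T ∨ ∀ x ∈ D, x = 1 ∨ x = z) := by
  haveI : Fact (Nat.Prime 2) := ⟨Nat.prime_two⟩
  have hD : ∀ S ∈ E, ∀ x ∈ Fx T, S x ∈ Fx T := fun S hS x hx => h.fx_inv hS hT hx
  have htriv : (∀ S : ↥E, restr E (Fx T) hD S = 1) → ∀ S ∈ E, ∀ x ∈ Fx T, S x = x := by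
    intro ht S hS x hx
    exact (restr_eq_one_iff E (Fx T) hD ⟨S, hS⟩).mp (ht ⟨S, hS⟩) x hx
  rcases Cfsg.Agent.Helper1.UniqP.cyclic_or_quaternion 2 (h.pW.to_subgroup (Fx T))
    (h.uniqP hz hT hT1) with hc | ⟨-, n, ⟨e⟩⟩
  · exact Or.inl (htriv (h.trivial_of_isCyclic (Fx T) hD hc))
  · rcases Nat.lt_or_ge n 1 with hn | hn
    · -- `n = 0`: cyclic of order four
      have hn0 : n = 0 := by omega
      subst hn0
      rw [pow_zero] at e
      have hc : IsCyclic ↥(Fx T) := by
        haveI := QuaternionGroup.quaternionGroup_one_isCyclic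
        exact isCyclic_of_surjective e.symm e.symm.surjective
      exact Or.inl (htriv (h.trivial_of_isCyclic (Fx T) hD hc))
    · rcases Nat.lt_or_ge 1 n with hn2 | hn2
      · -- large quaternion groups
        have h2 : IsPGroup 2 (MulAut ↥(Fx T)) :=
          (Cfsg.Agent.Helper25.isPGroup_mulAut_quaternion n hn2).of_equiv (MulAut.congr e).symm
        exact Or.inl (htriv (h.trivial_of_isPGroup (Fx T) hD h2))
      · have hn1 : n = 1 := by omega
        subst hn1
        rw [pow_one] at e
        by_cases ht : ∀ S : ↥E, restr E (Fx T) hD S = 1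
        · exact Or.inl (htriv ht)
        · right
          have hcard : Nat.card ↥(Fx T) = 8 := by
            rw [Nat.card_congr e.toEquiv, Nat.card_eq_fintype_card, QuaternionGroup.card]
          refine ⟨hcard, ⟨e⟩, ?_, ?_⟩
          · refine ⟨_, (e.symm (QuaternionGroup.a 1)).2, _, (e.symm (QuaternionGroup.xa 0)).2, ?_⟩
            intro hcomm
            have h1 : e.symm (QuaternionGroup.a 1) * e.symm (QuaternionGroup.xa 0) =
                e.symm (QuaternionGroup.xa 0) * e.symm (QuaternionGroup.a 1) := Subtype.ext hcomm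
            rw [← map_mul, ← map_mul] at h1
            exact q8_noncomm' (e.symm.injective h1)
          · intro D hDF hDinv
            by_contra hcon
            push Not at hcon
            obtain ⟨hDne, x, hxD, hx1, hxz⟩ := hcon
            apply ht
            -- `x` has order four
            have hxF : x ∈ Fx T := hDF hxD
            have hx4 : x ^ 4 = 1 := by
              have h1 : e ⟨x, hxF⟩ ^ 4 = 1 := q8_pow_four _
              rw [← map_pow] at h1
              have h2 : (⟨x, hxF⟩ : ↥(Fx T)) ^ 4 = 1 := e.injective (by rw [h1, map_one])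
              exact congrArg Subtype.val h2
            have hx2 : x ^ 2 ≠ 1 := by
              intro hx2
              exact hxz (hz.uniq T hT hT1 x (orderOf_eq_prime hx2 hx1) hxF)
            have hox : orderOf x = 4 := by
              have h1 : orderOf x ∣ 2 ^ 2 := orderOf_dvd_of_pow_eq_one hx4
              rw [Nat.dvd_prime_pow Nat.prime_two] at h1
              obtain ⟨k, hk, hkk⟩ := h1
              interval_cases k
              · rw [pow_zero, orderOf_eq_one_iff] at hkk; exact absurd hkk hx1
              · exfalso; apply hx2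
                have := pow_orderOf_eq_one x
                rwa [hkk, pow_one] at this
              · exact hkk
            -- `D = ⟨x⟩`
            have hzD : zpowers x ≤ D := zpowers_le.mpr hxD
            have hcz : Nat.card ↥(zpowers x) = 4 := by rw [Nat.card_zpowers, hox]
            have hcD : Nat.card ↥D = 4 := by
              have h1 : Nat.card ↥D ∣ 8 := hcard ▸ Subgroup.card_dvd_of_le hDF
              have h2 : 4 ∣ Nat.card ↥D := hcz ▸ Subgroup.card_dvd_of_le hzD
              have h3 : Nat.card ↥D ≠ 8 := by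
                intro h8
                exact hDne (Subgroup.eq_of_le_of_card_ge hDF (by rw [h8, hcard]))
              have h4 : Nat.card ↥D ≤ 8 := Nat.le_of_dvd (by norm_num) h1
              obtain ⟨c, hc⟩ := h2
              have : c = 1 := by
                rcases c with _ | _ | _ | c
                · rw [hc] at h1; simp at h1
                · rfl
                · omega
                · omega
              omega
            have hDeq : D = zpowers x :=
              (Subgroup.eq_of_le_of_card_ge hzD (by rw [hcD, hcz])).symm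
            -- all of `E` fixes `D` pointwise
            have hfixD : ∀ S ∈ E, ∀ y ∈ D, S y = y := by
              intro S hS y hy
              have hSx : S x = x := by
                apply Cfsg.Agent.Helper3.aut_fix_of_mem_zpowers h.pW S _ h.card_odd (h.pow_card hS)
                rw [← hDeq]
                exact hDinv S hS x hxD
              rw [hDeq] at hy
              exact fix_zpowers S hSx hy
            -- index two
            have hidx : (D.subgroupOf (Fx T)).index = 2 := by
              have h1 := Cfsg.Agent.Helper17.relIndex_mul_card_inf D (Fx T)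
              rw [inf_eq_left.mpr hDF, hcD, hcard] at h1
              show D.relIndex (Fx T) = 2
              omega
            intro S
            rw [restr_eq_one_iff]
            intro s hs
            apply fix_of_chain h.pW S _ h.card_odd (h.pow_card S.2)
            apply hfixD S S.2
            have hSs : (S : MulAut W) s ∈ Fx T := hD S S.2 s hs
            have h1 := Subgroup.mul_mem_iff_of_index_two hidx
              (a := (⟨s, hs⟩ : ↥(Fx T))⁻¹) (b := ⟨(S : MulAut W) s, hSs⟩)
            rw [mem_subgroupOf, mem_subgroupOf, mem_subgroupOf] at h1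
            apply h1.mpr
            simp only [Subgroup.coe_inv, inv_mem_iff]
            constructor
            · intro hsD
              exact hDinv S S.2 s hsD
            · intro hSsD
              have := hDinv _ (inv_mem S.2) _ hSsD
              simpa using this

end Hyp

end Cfsg.Agent.Helper19.OneInv
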