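import Mathlib
import Cfsg.Agent.Helper19.OneInvB

set_option autoImplicit false
set_option linter.style.haveILetI false
set_option linter.unusedSectionVars false

/-! Part C: the common fixed points, abelian invariant subgroups. -/

namespace Cfsg.Agent.Helper19.OneInv

open Subgroup Cfsg.Agent.Helper3.Broad
open scoped commutatorElement

variable {W : Type*} [Group W]

theorem mem_zpowers_of_orderOf_two {z : W} (hz : orderOf z = 2) {x : W} :
    x ∈ zpowers z ↔ x = 1 ∨ x = z := by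
  constructor
  · intro hx
    obtain ⟨k, rfl⟩ := mem_zpowers_iff.mp hx
    rw [← zpow_mod_orderOf, hz]
    rcases Int.emod_two_eq_zero_or_one k with h | h
    · left; rw [show (k % ((2 : ℕ) : ℤ)) = 0 from h, zpow_zero]
    · right; rw [show (k % ((2 : ℕ) : ℤ)) = 1 from h, zpow_one]
  · rintro (rfl | rfl)
    · exact one_mem _
    · exact mem_zpowers _

/-- in a `p`-group, modulo a proper normal subgroup there is a central element of order `p` -/
theorem exists_not_mem_pow_comm {G : Type*} [Group G] [Finite G] {p : ℕ} [hp : Fact p.Prime]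
    (hG : IsPGroup p G) (N : Subgroup G) [N.Normal] (hN : N ≠ ⊤) :
    ∃ x : G, x ∉ N ∧ x ^ p ∈ N ∧ ∀ g : G, ⁅g, x⁆ ∈ N := by
  have hQ : IsPGroup p (G ⧸ N) := hG.to_quotient N
  haveI : Nontrivial (G ⧸ N) := by
    rw [QuotientGroup.nontrivial_iff]
    exact hN
  have hnt : Nontrivial ↥(center (G ⧸ N)) := hQ.center_nontrivial
  have hcp : IsPGroup p ↥(center (G ⧸ N)) := hQ.to_subgroup _
  have hpd : p ∣ Nat.card ↥(center (G ⧸ N)) := by
    obtain ⟨n, hn⟩ := IsPGroup.iff_card.mp hcp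
    rcases n with _ | n
    · rw [pow_zero] at hn
      have := (Finite.one_lt_card_iff_nontrivial (α := ↥(center (G ⧸ N)))).mpr hnt
      omega
    · rw [hn, pow_succ]; exact dvd_mul_left _ _
  obtain ⟨c, hc⟩ := exists_prime_orderOf_dvd_card' p hpd
  obtain ⟨x, hx⟩ := QuotientGroup.mk_surjective (c : G ⧸ N)
  have hc1 : (c : G ⧸ N) ≠ 1 := by
    intro h1
    have : c = 1 := Subtype.ext h1
    rw [this, orderOf_one] at hc
    exact hp.out.one_lt.ne hc
  have hcp' : (c : G ⧸ N) ^ p = 1 := by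
    have : c ^ p = 1 := by rw [← hc]; exact pow_orderOf_eq_one c
    exact congrArg Subtype.val this
  refine ⟨x, ?_, ?_, ?_⟩
  · intro hxN
    apply hc1
    rw [← hx]
    exact (QuotientGroup.eq_one_iff x).mpr hxN
  · rw [← QuotientGroup.eq_one_iff, QuotientGroup.mk_pow, hx]
    exact hcp'
  · intro g
    rw [← QuotientGroup.eq_one_iff]
    have h1 : ((⁅g, x⁆ : G) : G ⧸ N) = ⁅(g : G ⧸ N), (x : G ⧸ N)⁆ := by
      simp [commutatorElement_def]
    rw [h1, hx, commutatorElement_eq_one_iff_mul_comm]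
    exact Subgroup.mem_center_iff.mp c.2 _

namespace Hyp

variable [Finite W] {p : ℕ} [hp : Fact p.Prime] {E : Subgroup (MulAut W)} (h : Hyp W p E)
  {z : W} (hz : ZData E z)

include h hz

omit hz in
/-- some nonidentity element has fixed points on which `E` acts nontrivially -/
theorem exists_big : ∃ T ∈ E, T ≠ 1 ∧ ¬ ∀ S ∈ E, ∀ x ∈ Fx T, S x = x := by
  by_contra hcon
  push Not at hcon
  have h1 : (⊤ : Subgroup W) ≤ fixAll E := by
    apply h.gen (fun _ _ _ _ => mem_top _)
    intro T hT hT1 x _ hTx S hS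
    exact hcon T hT hT1 S hS x hTx
  obtain ⟨T, hT, hT1⟩ := h.exists_ne_one
  apply hT1
  ext x
  exact h1 (mem_top x) T hT

/-- the common fixed points are `{1, z}` -/
theorem fixAll_le : ∀ x ∈ fixAll E, x = 1 ∨ x = z := by
  obtain ⟨T, hT, hT1, hTn⟩ := h.exists_big
  rcases h.fx_structure hz hT hT1 with h1 | ⟨-, -, -, h3⟩
  · exact absurd h1 hTn
  · rcases h3 (fixAll E) (fun x hx => hx T hT) (fun S hS x hx => by rw [hx S hS]; exact hx) with h4 | h4
    · exfalso
      apply hTn
      intro S hS x hx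
      rw [← h4] at hx
      exact hx S hS
    · exact h4

/-- every fixed-point subgroup is `{1, z}` or a nonabelian group of order eight with no
intermediate invariant subgroups -/
theorem fx_dich {T : MulAut W} (hT : T ∈ E) (hT1 : T ≠ 1) :
    (∀ x ∈ Fx T, x = 1 ∨ x = z) ∨
    (Nat.card ↥(Fx T) = 8 ∧ Nonempty (↥(Fx T) ≃* QuaternionGroup 2) ∧
      (∃ x ∈ Fx T, ∃ y ∈ Fx T, x * y ≠ y * x) ∧
      ∀ D : Subgroup W, D ≤ Fx T → (∀ S ∈ E, ∀ x ∈ D, S x ∈ D) →
        D = Fx T ∨ ∀ x ∈ D, x = 1 ∨ x = z) := by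
  rcases h.fx_structure hz hT hT1 with h1 | h1
  · left
    intro x hx
    exact h.fixAll_le hz x (fun S hS => h1 S hS x hx)
  · exact Or.inr h1

/-- abelian invariant subgroups lie in `{1, z}` -/
theorem abelian_le (D : Subgroup W) (hD : ∀ T ∈ E, ∀ x ∈ D, T x ∈ D)
    (hDab : ∀ a ∈ D, ∀ b ∈ D, a * b = b * a) : ∀ x ∈ D, x = 1 ∨ x = z := by
  have h1 : D ≤ zpowers z := by
    apply h.gen hD
    intro T hT hT1 x hxD hTx
    rw [mem_zpowers_of_orderOf_two hz.oz]
    rcases h.fx_dich hz hT hT1 with h2 | ⟨-, -, ⟨a, ha, b, hb, hab⟩, h3⟩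
    · exact h2 x hTx
    · rcases h3 (D ⊓ Fx T) inf_le_right
        (fun S hS y hy => ⟨hD S hS y hy.1, h.fx_inv hS hT hy.2⟩) with h4 | h4
      · exfalso
        have hle : Fx T ≤ D := by
          intro y hy
          rw [← h4] at hy
          exact hy.1
        have haD : a ∈ D := hle ha
        have hbD : b ∈ D := hle hb
        exact hab (hDab a haD b hbD)
      · exact h4 x ⟨hxD, hTx⟩
  intro x hx
  exact (mem_zpowers_of_orderOf_two hz.oz).mp (h1 hx)

end Hyp

end Cfsg.Agent.Helper19.OneInv
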