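import Mathlib
import Cfsg.Prelude.Def_Transfer
import Cfsg.Agent.Helper9.Extraspecial
import Cfsg.Agent.Helper14.Frattini
import Cfsg.Agent.Helper1.PGroup

set_option autoImplicit false

/-! Recognition of extraspecial subgroups from element-level data. -/

namespace Cfsg.Agent.Helper19.SympType

open Subgroup
open scoped commutatorElement

variable {G : Type*} [Group G] [Finite G] {p : ℕ} [hp : Fact p.Prime]

/-- A non-abelian `p`-subgroup `E` whose centre `C_G(E) ∩ E` has order `p` and contains all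
commutators and `p`-th powers of `E` is extraspecial. -/
theorem isExtraspecial_of (E : Subgroup G) (hE : IsPGroup p ↥E)
    (hZ : Nat.card (centralizer (E : Set G) ⊓ E : Subgroup G) = p)
    (hcomm : ∀ a ∈ E, ∀ b ∈ E, ⁅a, b⁆ ∈ (centralizer (E : Set G) ⊓ E : Subgroup G))
    (hpow : ∀ a ∈ E, a ^ p ∈ (centralizer (E : Set G) ⊓ E : Subgroup G))
    (hnab : ¬ E ≤ centralizer (E : Set G)) : Cfsg.IsExtraspecial p ↥E := by
  have hc := Cfsg.Agent.Helper9.center_subtype_eq E
  have hcard : Nat.card (center ↥E) = p := by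
    rw [Cfsg.Agent.Helper9.card_center_subtype, hZ]
  have hcomm' : ∀ a b : ↥E, ⁅a, b⁆ ∈ center ↥E := by
    intro a b
    rw [hc, mem_subgroupOf]
    exact (hcomm a.1 a.2 b.1 b.2).1
  have hpow' : ∀ a : ↥E, a ^ p ∈ center ↥E := by
    intro a
    rw [hc, mem_subgroupOf]
    exact (hpow a.1 a.2).1
  have hle : commutator ↥E ≤ center ↥E := by
    rw [commutator_def, Subgroup.commutator_le]
    intro a _ b _
    exact hcomm' a b
  have hne : commutator ↥E ≠ ⊥ := by
    intro hbot
    apply hnab
    intro a ha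
    rw [mem_centralizer_iff]
    intro b hb
    have h1 : ⁅(⟨b, hb⟩ : ↥E), ⟨a, ha⟩⁆ ∈ commutator ↥E := by
      rw [commutator_def]
      exact Subgroup.commutator_mem_commutator (Subgroup.mem_top _) (Subgroup.mem_top _)
    rw [hbot, Subgroup.mem_bot] at h1
    have h2 := congrArg (fun y : ↥E => (y : G)) h1
    have h3 : ⁅b, a⁆ = 1 := h2
    rw [commutatorElement_eq_one_iff_mul_comm] at h3
    exact h3
  have heq : commutator ↥E = center ↥E := by
    have hdvd : Nat.card (commutator ↥E) ∣ p := hcard ▸ Subgroup.card_dvd_of_le hle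
    rcases (Nat.dvd_prime hp.out).mp hdvd with h | h
    · exact absurd (Subgroup.card_eq_one.mp h) hne
    · exact Subgroup.eq_of_le_of_card_ge hle (by rw [h, hcard])
  refine ⟨⟨hE, ?_, heq⟩, hcard⟩
  apply le_antisymm
  · exact Cfsg.Agent.Helper14.frattini_le_of_elemAb p (center ↥E) hcomm' hpow'
  · rw [← heq]
    exact Cfsg.Agent.Helper1.IsPGroup.commutator_le_frattini hE

end Cfsg.Agent.Helper19.SympType
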