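import Mathlib
import Cfsg.Agent.Helper19.OneInvC
import Cfsg.Agent.Helper19.SympTypeC
import Cfsg.Agent.Helper9.Extraspecial
import Cfsg.Agent.Helper3.ExtraspecialEquiv

set_option autoImplicit false
set_option linter.style.haveILetI false
set_option linter.unusedSectionVars false

/-! Part D: the group is extraspecial. -/

namespace Cfsg.Agent.Helper19.OneInv

open Subgroup Cfsg.Agent.Helper3.Broad Cfsg.Agent.Helper19.SympType
open scoped commutatorElement

variable {W : Type*} [Group W]

theorem mem_omegaCenter_iff {E : Subgroup (MulAut W)} {z : W} (hz : ZData E z) {x : W} :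
    x ∈ omegaCenter 2 W ↔ x = 1 ∨ x = z := by
  constructor
  · intro hx
    exact hz.cen x hx.1 hx.2
  · rintro (rfl | hxz)
    · exact one_mem _
    · rw [hxz]
      refine ⟨hz.zc, ?_⟩
      rw [← hz.oz]; exact pow_orderOf_eq_one z

theorem omegaCenter_eq {E : Subgroup (MulAut W)} {z : W} (hz : ZData E z) :
    omegaCenter 2 W = zpowers z := by
  ext x
  rw [mem_omegaCenter_iff hz, mem_zpowers_of_orderOf_two hz.oz]

theorem card_omegaCenter_eq {E : Subgroup (MulAut W)} {z : W} (hz : ZData E z) :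
    Nat.card ↥(omegaCenter 2 W) = 2 := by
  rw [omegaCenter_eq hz, Nat.card_zpowers, hz.oz]

namespace Hyp

variable [Finite W] {p : ℕ} [hp : Fact p.Prime] {E : Subgroup (MulAut W)} (h : Hyp W p E)
  {z : W} (hz : ZData E z)

include h hz

theorem symZ_le : symZ 2 W ≤ omegaCenter 2 W := by
  intro x hx
  rw [mem_omegaCenter_iff hz]
  refine h.abelian_le hz (symZ 2 W) ?_ ?_ x hx
  · intro T _ y hy
    exact (Subgroup.characteristic_iff_le_comap.mp (symZ_characteristic 2) T) hy
  · intro a ha b hb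
    exact ((mem_centralizer_iff.mp ha.2) b hb.1).symm

theorem centralizer_inf_symL : centralizer (symL 2 W : Set W) ⊓ symL 2 W = omegaCenter 2 W := by
  apply le_antisymm
  · intro x hx
    exact h.symZ_le hz ⟨hx.2, hx.1⟩
  · intro x hx
    have := omegaCenter_le_symZ 2 hx
    exact ⟨this.2, this.1⟩

theorem symL_sup_centralizer (t : W) : t ∈ symL 2 W ⊔ centralizer (symL 2 W : Set W) := by
  haveI : Fact (Nat.Prime 2) := ⟨Nat.prime_two⟩
  have hce := h.centralizer_inf_symL hz
  apply Cfsg.Agent.Helper9.mem_sup_centralizer_of_commutator_mem (p := 2) (symL 2 W)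
  · rw [hce]; exact card_omegaCenter_eq hz
  · intro a ha b _
    rw [hce]
    exact commutator_mem_of_mem_symL ha b
  · rw [hce, mem_centralizer_iff]
    intro g hg
    exact (omegaCenter_comm hg t).symm
  · intro q hq
    rw [hce]
    exact hq.2 t

theorem centralizer_symL_le : centralizer (symL 2 W : Set W) ≤ omegaCenter 2 W := by
  haveI : Fact (Nat.Prime 2) := ⟨Nat.prime_two⟩
  by_contra hcon
  obtain ⟨R, hR⟩ : ∃ R : Subgroup W, R = centralizer (symL 2 W : Set W) := ⟨_, rfl⟩
  rw [← hR] at hcon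
  have hN : (omegaCenter 2 W).subgroupOf R ≠ ⊤ := by
    rw [Ne, subgroupOf_eq_top]; exact hcon
  obtain ⟨x, hx1, hx2, hx3⟩ :=
    exists_not_mem_pow_comm (h.pW.to_subgroup R) ((omegaCenter 2 W).subgroupOf R) hN
  have hxR : (x : W) ∈ centralizer (symL 2 W : Set W) := hR ▸ x.2
  have hxL : (x : W) ∈ symL 2 W := by
    refine ⟨?_, fun g => ?_⟩
    · have := mem_subgroupOf.mp hx2
      simpa using this
    · obtain ⟨l, hl, r, hr, rfl⟩ := mem_sup_of_normal_left.mp (h.symL_sup_centralizer hz g)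
      have h1 : ⁅l * r, (x : W)⁆ = l * ⁅r, (x : W)⁆ * l⁻¹ * ⁅l, (x : W)⁆ := by
        simp only [commutatorElement_def]; group
      have h2 : ⁅l, (x : W)⁆ = 1 := by
        rw [commutatorElement_eq_one_iff_mul_comm]
        exact ((mem_centralizer_iff.mp hxR) l hl)
      have h3 : ⁅r, (x : W)⁆ ∈ omegaCenter 2 W := by
        exact mem_subgroupOf.mp (hx3 ⟨r, hR ▸ hr⟩)
      rw [h1, h2, mul_one, omegaCenter_comm h3 l, mul_assoc, mul_inv_cancel, mul_one]
      exact h3
  apply hx1
  rw [mem_subgroupOf, ← h.centralizer_inf_symL hz]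
  exact ⟨hxR, hxL⟩

theorem symL_eq_top : symL 2 W = ⊤ := by
  rw [eq_top_iff]
  intro t _
  exact (sup_le le_rfl ((h.centralizer_symL_le hz).trans (omegaCenter_le_symL 2)))
    (h.symL_sup_centralizer hz t)

theorem sq_mem (x : W) : x ^ 2 = 1 ∨ x ^ 2 = z := by
  have hx : x ∈ symL 2 W := by rw [h.symL_eq_top hz]; exact mem_top x
  exact (mem_omegaCenter_iff hz).mp hx.1

theorem comm_mem (g x : W) : ⁅g, x⁆ = 1 ∨ ⁅g, x⁆ = z := by
  have hx : x ∈ symL 2 W := by rw [h.symL_eq_top hz]; exact mem_top x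
  exact (mem_omegaCenter_iff hz).mp (hx.2 g)

theorem center_eq : center W = zpowers z := by
  rw [← omegaCenter_eq hz]
  apply le_antisymm
  · intro x hx
    rw [← h.centralizer_inf_symL hz, h.symL_eq_top hz]
    refine ⟨?_, mem_top x⟩
    rw [coe_top, centralizer_univ]
    exact hx
  · exact omegaCenter_le_center 2

end Hyp

end Cfsg.Agent.Helper19.OneInv
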