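import Mathlib
import Cfsg.Agent.Helper19.OneInvD
import Cfsg.Agent.S0095

set_option autoImplicit false
set_option linter.style.haveILetI false
set_option linter.unusedSectionVars false

/-! Part E: extraspeciality, the order of the group of automorphisms. -/

namespace Cfsg.Agent.Helper19.OneInv

open Subgroup Cfsg.Agent.Helper3.Broad Cfsg.Agent.Helper19.SympType
open scoped commutatorElement

variable {W : Type*} [Group W]

namespace Hyp

variable [Finite W] {p : ℕ} [hp : Fact p.Prime] {E : Subgroup (MulAut W)} (h : Hyp W p E)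
  {z : W} (hz : ZData E z)

include h hz

theorem isExtraspecial : Cfsg.IsExtraspecial 2 W := by
  haveI : Fact (Nat.Prime 2) := ⟨Nat.prime_two⟩
  have hcen : centralizer ((⊤ : Subgroup W) : Set W) ⊓ ⊤ = zpowers z := by
    rw [coe_top, centralizer_univ, inf_top_eq, h.center_eq hz]
  have hmemz : ∀ x : W, (x = 1 ∨ x = z) → x ∈ zpowers z :=
    fun x hx => (mem_zpowers_of_orderOf_two hz.oz).mpr hx
  have key : Cfsg.IsExtraspecial 2 ↥(⊤ : Subgroup W) := by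
    apply isExtraspecial_of (p := 2) (⊤ : Subgroup W) (h.pW.to_subgroup _)
    · rw [hcen, Nat.card_zpowers, hz.oz]
    · intro a _ b _; rw [hcen]; exact hmemz _ (h.comm_mem hz a b)
    · intro a _; rw [hcen]; exact hmemz _ (h.sq_mem hz a)
    · intro hle
      obtain ⟨T, hT, hT1, hTn⟩ := h.exists_big
      rcases h.fx_structure hz hT hT1 with h1 | ⟨-, -, ⟨x, -, y, -, hxy⟩, -⟩
      · exact hTn h1
      · apply hxy
        exact (mem_centralizer_iff.mp (hle (mem_top y))) x (mem_top x)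
  exact Cfsg.Agent.Helper3.ExtraspecialEquiv.isExtraspecial_of_mulEquiv Subgroup.topEquiv key

/-- "big" elements: the fixed points are not just `{1, z}` -/
theorem big_props {T : MulAut W} (hT : T ∈ E) (hT1 : T ≠ 1)
    (hbig : ¬ ∀ x ∈ Fx T, x = 1 ∨ x = z) :
    Nat.card ↥(Fx T) = 8 ∧ Nonempty (↥(Fx T) ≃* QuaternionGroup 2) := by
  rcases h.fx_dich hz hT hT1 with h1 | ⟨h1, h2, -, -⟩
  · exact absurd h1 hbig
  · exact ⟨h1, h2⟩

theorem card_fx_le {T : MulAut W} (hT : T ∈ E) (hT1 : T ≠ 1) : Nat.card ↥(Fx T) ≤ 8 := by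
  rcases h.fx_dich hz hT hT1 with h1 | ⟨h1, -, -, -⟩
  · have hle : Fx T ≤ zpowers z := fun x hx => (mem_zpowers_of_orderOf_two hz.oz).mpr (h1 x hx)
    have := Subgroup.card_le_of_le hle
    rw [Nat.card_zpowers, hz.oz] at this
    omega
  · exact h1.le

theorem exists_big' : ∃ T ∈ E, T ≠ 1 ∧ ¬ ∀ x ∈ Fx T, x = 1 ∨ x = z := by
  obtain ⟨T, hT, hT1, hTn⟩ := h.exists_big
  refine ⟨T, hT, hT1, fun hsm => hTn ?_⟩
  intro S hS x hx
  rcases hsm x hx with rfl | rfl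
  · exact map_one S
  · exact hz.zf S hS

theorem exists_two_big : ∃ T₀ ∈ E, T₀ ≠ 1 ∧ (¬ ∀ x ∈ Fx T₀, x = 1 ∨ x = z) ∧
    ∃ T₁ ∈ E, T₁ ≠ 1 ∧ (¬ ∀ x ∈ Fx T₁, x = 1 ∨ x = z) ∧ Fx T₁ ≠ Fx T₀ := by
  obtain ⟨T₀, hT₀, hT₀1, hbig₀⟩ := h.exists_big' hz
  refine ⟨T₀, hT₀, hT₀1, hbig₀, ?_⟩
  by_contra hcon
  have hcon : ∀ T ∈ E, T ≠ 1 → (¬ ∀ x ∈ Fx T, x = 1 ∨ x = z) → Fx T = Fx T₀ := by
    intro T hT hT1 hb
    by_contra hne
    exact hcon ⟨T, hT, hT1, hb, hne⟩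
  have h1 : (⊤ : Subgroup W) ≤ Fx T₀ := by
    apply h.gen (fun _ _ _ _ => mem_top _)
    intro T hT hT1 x _ hTx
    by_cases hsm : ∀ x ∈ Fx T, x = 1 ∨ x = z
    · rcases hsm x hTx with rfl | rfl
      · exact one_mem _
      · exact hz.zf T₀ hT₀
    · rw [← hcon T hT hT1 hsm]
      exact hTx
  apply hT₀1
  ext x
  exact h1 (mem_top x)

theorem index_ker_le {T : MulAut W} (hT : T ∈ E) (hT1 : T ≠ 1)
    (hbig : ¬ ∀ x ∈ Fx T, x = 1 ∨ x = z) :
    (restr E (Fx T) (fun S hS x hx => h.fx_inv hS hT hx)).ker.index ≤ 3 := by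
  haveI := h.finiteE
  obtain ⟨hcard, ⟨e⟩⟩ := h.big_props hz hT hT1 hbig
  set ρ := restr E (Fx T) (fun S hS x hx => h.fx_inv hS hT hx) with hρ
  obtain ⟨e4⟩ := Cfsg.Agent.Helper18.AutQ8.main
  have hc24 : Nat.card (MulAut ↥(Fx T)) = 24 := by
    rw [Nat.card_congr ((MulAut.congr e).trans e4).toEquiv, Nat.card_eq_fintype_card,
      Fintype.card_perm, Fintype.card_fin]
    rfl
  haveI : Finite (MulAut ↥(Fx T)) := Nat.finite_of_card_ne_zero (by rw [hc24]; norm_num)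
  have h1 : ρ.ker.index ∣ 24 := by
    rw [Subgroup.index_ker, ← hc24]
    exact Subgroup.card_subgroup_dvd_card _
  have h2 : ρ.ker.index ∣ Nat.card ↥E := Subgroup.index_dvd_card _
  have hodd : Odd ρ.ker.index := by
    obtain ⟨c, hc⟩ := h2
    have := h.card_odd
    rw [hc] at this
    exact (Nat.odd_mul.mp this).1
  have hcop : Nat.Coprime ρ.ker.index 8 := by
    have : Nat.Coprime ρ.ker.index 2 := Nat.coprime_two_right.mpr hodd
    exact Nat.Coprime.pow_right 3 this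
  have h3 : ρ.ker.index ∣ 3 := by
    have : ρ.ker.index ∣ 8 * 3 := h1
    exact hcop.dvd_of_dvd_mul_left this
  exact Nat.le_of_dvd (by norm_num) h3

theorem card_E : Nat.card ↥E = 9 := by
  haveI := h.finiteE
  obtain ⟨T₀, hT₀, hT₀1, hbig₀, T₁, hT₁, hT₁1, hbig₁, hne⟩ := h.exists_two_big hz
  have hi0 := h.index_ker_le hz hT₀ hT₀1 hbig₀
  have hi1 := h.index_ker_le hz hT₁ hT₁1 hbig₁
  set ρ₀ := restr E (Fx T₀) (fun S hS x hx => h.fx_inv hS hT₀ hx) with hρ₀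
  set ρ₁ := restr E (Fx T₁) (fun S hS x hx => h.fx_inv hS hT₁ hx) with hρ₁
  have hinf : ρ₀.ker ⊓ ρ₁.ker = ⊥ := by
    rw [eq_bot_iff]
    rintro S ⟨hS0, hS1⟩
    rw [Subgroup.mem_bot]
    by_contra hS
    have hS' : (S : MulAut W) ≠ 1 := fun hh => hS (Subtype.ext hh)
    have hS0 : ρ₀ S = 1 := hS0
    have hS1 : ρ₁ S = 1 := hS1
    rw [restr_eq_one_iff] at hS0 hS1
    have hle0 : Fx T₀ ≤ Fx (S : MulAut W) := fun x hx => hS0 x hx
    have hle1 : Fx T₁ ≤ Fx (S : MulAut W) := fun x hx => hS1 x hx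
    have hbigS : ¬ ∀ x ∈ Fx (S : MulAut W), x = 1 ∨ x = z :=
      fun hsm => hbig₀ (fun x hx => hsm x (hle0 hx))
    have hcS := (h.big_props hz S.2 hS' hbigS).1
    have hc0 := (h.big_props hz hT₀ hT₀1 hbig₀).1
    have hc1 := (h.big_props hz hT₁ hT₁1 hbig₁).1
    have e0 : Fx T₀ = Fx (S : MulAut W) :=
      Subgroup.eq_of_le_of_card_ge hle0 (by rw [hcS, hc0])
    have e1 : Fx T₁ = Fx (S : MulAut W) :=
      Subgroup.eq_of_le_of_card_ge hle1 (by rw [hcS, hc1])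
    exact hne (e1.trans e0.symm)
  have hle9 : Nat.card ↥E ≤ 9 := by
    have h1 := Subgroup.index_inf_le (H := ρ₀.ker) (K := ρ₁.ker)
    rw [hinf, Subgroup.index_bot] at h1
    calc Nat.card ↥E ≤ ρ₀.ker.index * ρ₁.ker.index := h1
      _ ≤ 3 * 3 := Nat.mul_le_mul hi0 hi1
  obtain ⟨n, hn⟩ := IsPGroup.iff_card.mp h.pE
  have hn2 : 2 ≤ n := by
    by_contra hlt
    push Not at hlt
    apply h.nc
    interval_cases n
    · rw [pow_zero] at hn
      haveI : Subsingleton ↥E := (Nat.card_eq_one_iff_unique.mp hn).1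
      infer_instance
    · rw [pow_one] at hn
      exact isCyclic_of_prime_card hn
  have hp3 : 3 ≤ p := by
    have := hp.out.two_le
    have := h.odd
    omega
  have h9 : 9 ≤ Nat.card ↥E := by
    rw [hn]
    calc 9 = 3 ^ 2 := by norm_num
      _ ≤ p ^ 2 := Nat.pow_le_pow_left hp3 2
      _ ≤ p ^ n := Nat.pow_le_pow_right hp.out.pos hn2
  omega

end Hyp

end Cfsg.Agent.Helper19.OneInv
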