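import Mathlib
import Cfsg.Agent.Helper19.OneInvE

set_option autoImplicit false
set_option linter.style.haveILetI false
set_option linter.unusedSectionVars false

/-! Part F: the order of the group. -/

namespace Cfsg.Agent.Helper19.OneInv

open Subgroup Cfsg.Agent.Helper3.Broad Cfsg.Agent.Helper19.SympType
open scoped commutatorElement

theorem exists_pow_of_mem_zpowers {G : Type*} [Group G] {g x : G} (hg : g ^ 3 = 1)
    (hx : x ∈ zpowers g) : ∃ i : ℕ, i < 3 ∧ x = g ^ i := by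
  obtain ⟨k, rfl⟩ := mem_zpowers_iff.mp hx
  have hg' : g ^ (3 : ℤ) = 1 := by
    have : g ^ ((3 : ℕ) : ℤ) = 1 := by rw [zpow_natCast]; exact hg
    exact this
  have h1 := zpow_eq_zpow_emod k hg'
  have h2 : 0 ≤ k % 3 := Int.emod_nonneg k (by norm_num)
  have h3 : k % 3 < 3 := Int.emod_lt_of_pos k (by norm_num)
  refine ⟨(k % 3).toNat, by omega, ?_⟩
  rw [h1, ← zpow_natCast, Int.toNat_of_nonneg h2]

/-- generators of a noncyclic abelian group of order nine -/
theorem exists_gens_nine {A : Type*} [Group A] [Finite A] [IsMulCommutative A]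
    (hnc : ¬ IsCyclic A) (h9 : Nat.card A = 9) :
    ∃ a b : A, a ^ 3 = 1 ∧ b ^ 3 = 1 ∧ b ≠ 1 ∧ a ∉ zpowers b ∧
      ∀ T : A, ∃ i j : ℕ, i < 3 ∧ j < 3 ∧ T = a ^ i * b ^ j := by
  obtain ⟨r, hr, x, y, hx, hy, hy1, hxy⟩ := Cfsg.Agent.Lead.exists_rank_two_of_not_isCyclic hnc
  have hoy : orderOf y = r := by
    haveI : Fact r.Prime := ⟨hr⟩
    exact orderOf_eq_prime hy hy1
  have hr3 : r = 3 := by
    have h1 : r ∣ 3 ^ 2 := by
      rw [← hoy, show (3 : ℕ) ^ 2 = 9 by norm_num, ← h9]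
      exact orderOf_dvd_natCard y
    exact (Nat.prime_dvd_prime_iff_eq hr Nat.prime_three).mp (hr.dvd_of_dvd_pow h1)
  subst hr3
  refine ⟨x, y, hx, hy, hy1, hxy, ?_⟩
  have hnormal : (zpowers y).Normal := by
    refine ⟨fun n hn g => ?_⟩
    rw [mul_comm' g n, mul_inv_cancel_right]
    exact hn
  have htop : zpowers x ⊔ zpowers y = ⊤ := by
    apply Subgroup.eq_top_of_card_eq
    have hle : zpowers y ≤ zpowers x ⊔ zpowers y := le_sup_right
    have h1 : Nat.card ↥(zpowers x ⊔ zpowers y) ∣ 9 := h9 ▸ Subgroup.card_subgroup_dvd_card _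
    have h2 : 3 ∣ Nat.card ↥(zpowers x ⊔ zpowers y) := by
      have := Subgroup.card_dvd_of_le hle
      rwa [Nat.card_zpowers, hoy] at this
    have h3 : Nat.card ↥(zpowers x ⊔ zpowers y) ≠ 3 := by
      intro h3
      apply hxy
      have : zpowers y = zpowers x ⊔ zpowers y :=
        Subgroup.eq_of_le_of_card_ge hle (by rw [h3, Nat.card_zpowers, hoy])
      rw [this]
      exact le_sup_left (a := zpowers x) (mem_zpowers x)
    have h4 : Nat.card ↥(zpowers x ⊔ zpowers y) ≤ 9 := Nat.le_of_dvd (by norm_num) h1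
    rw [h9]
    obtain ⟨c, hc⟩ := h2
    have : c = 3 := by
      rcases c with _ | _ | _ | _ | c
      · rw [hc] at h1; simp at h1
      · omega
      · rw [hc] at h1; norm_num at h1
      · rfl
      · omega
    omega
  intro T
  have hT : T ∈ zpowers x ⊔ zpowers y := by rw [htop]; exact mem_top T
  obtain ⟨u, hu, v, hv, rfl⟩ := mem_sup_of_normal_right.mp hT
  obtain ⟨i, hi, rfl⟩ := exists_pow_of_mem_zpowers hx hu
  obtain ⟨j, hj, rfl⟩ := exists_pow_of_mem_zpowers hy hv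
  exact ⟨i, j, hi, hj, rfl⟩

variable {W : Type*} [Group W]

theorem fx_sq_le {S : MulAut W} (hS : S ^ 3 = 1) : Fx (S ^ 2) ≤ Fx S := by
  intro x hx
  rw [mem_Fx] at hx ⊢
  have h1 : (S ^ 3) x = x := by rw [hS]; rfl
  rw [pow_succ', MulAut.mul_apply, hx] at h1
  exact h1

namespace Hyp

variable [Finite W] {p : ℕ} [hp : Fact p.Prime] {E : Subgroup (MulAut W)} (h : Hyp W p E)
  {z : W} (hz : ZData E z)

include h hz

theorem normalizer_eq_top (A : Subgroup W) (hzA : z ∈ A) : normalizer (A : Set W) = ⊤ := by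
  have key : ∀ g : W, ∀ a ∈ A, g * a * g⁻¹ ∈ A := by
    intro g a ha
    have h1 : g * a * g⁻¹ = ⁅g, a⁆ * a := by rw [commutatorElement_def]; group
    rw [h1]
    refine mul_mem ?_ ha
    rcases h.comm_mem hz g a with h2 | h2
    · rw [h2]; exact one_mem _
    · rw [h2]; exact hzA
  rw [eq_top_iff]
  intro g _
  rw [mem_normalizer_iff]
  intro a
  constructor
  · exact key g a
  · intro hga
    have := key g⁻¹ _ hga
    have h5 : g⁻¹ * (g * a * g⁻¹) * g⁻¹⁻¹ = a := by group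
    rwa [h5] at this

theorem card_sup_fx_le (A : Subgroup W) (hzA : z ∈ A) {T : MulAut W} (hT : T ∈ E) (hT1 : T ≠ 1) :
    Nat.card ↥(A ⊔ Fx T) ≤ 4 * Nat.card ↥A := by
  have h1 := Cfsg.Agent.Helper17.card_sup_mul_card_inf A (Fx T)
    (by rw [h.normalizer_eq_top hz A hzA]; exact le_top)
  have h2 : 2 ≤ Nat.card ↥(A ⊓ Fx T) := by
    have hle : zpowers z ≤ A ⊓ Fx T := zpowers_le.mpr ⟨hzA, hz.zf T hT⟩
    have := Subgroup.card_le_of_le hle
    rwa [Nat.card_zpowers, hz.oz] at this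
  have h3 := h.card_fx_le hz hT hT1
  nlinarith

omit hz in
theorem exists_gens (hE9 : Nat.card ↥E = 9) : ∃ a ∈ E, ∃ b ∈ E, a ^ 3 = 1 ∧ b ^ 3 = 1 ∧ a ≠ 1 ∧
    b ≠ 1 ∧ a * b ≠ 1 ∧ a * b ^ 2 ≠ 1 ∧ a * b = b * a ∧
    ∀ T ∈ E, ∃ i j : ℕ, i < 3 ∧ j < 3 ∧ T = a ^ i * b ^ j := by
  haveI := h.finiteE
  haveI := h.ab
  obtain ⟨a, b, ha3, hb3, hb1, hab, hgen⟩ := exists_gens_nine h.nc hE9
  refine ⟨a, a.2, b, b.2, congrArg Subtype.val ha3, congrArg Subtype.val hb3, ?_,
    fun hh => hb1 (Subtype.ext hh), ?_, ?_, h.comm a.2 b.2, ?_⟩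
  · intro hh
    apply hab
    have : a = 1 := Subtype.ext hh
    rw [this]; exact one_mem _
  · intro hh
    apply hab
    have : a = b⁻¹ := by
      apply Subtype.ext
      push_cast
      exact eq_inv_of_mul_eq_one_left hh
    rw [this]; exact inv_mem (mem_zpowers b)
  · intro hh
    apply hab
    have : a = (b ^ 2)⁻¹ := by
      apply Subtype.ext
      push_cast
      exact eq_inv_of_mul_eq_one_left hh
    rw [this]; exact inv_mem (pow_mem (mem_zpowers b) 2)
  · intro T hT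
    obtain ⟨i, j, hi, hj, hTij⟩ := hgen ⟨T, hT⟩
    refine ⟨i, j, hi, hj, ?_⟩
    have := congrArg Subtype.val hTij
    simpa using this

theorem card_W_le (hE9 : Nat.card ↥E = 9) : Nat.card W ≤ 512 := by
  obtain ⟨a, haE, b, hbE, ha3, hb3, ha1, hb1, hab1, hab2, hcomm, hgen⟩ := h.exists_gens hE9
  have hc : Commute a b := hcomm
  have habE : a * b ∈ E := mul_mem haE hbE
  have hab2E : a * b ^ 2 ∈ E := mul_mem haE (pow_mem hbE 2)
  have hab3 : (a * b) ^ 3 = 1 := by
    rw [hc.mul_pow, ha3, hb3, one_mul]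
  have hab23 : (a * b ^ 2) ^ 3 = 1 := by
    rw [(hc.pow_right 2).mul_pow, ha3, ← pow_mul, mul_comm, pow_mul, hb3, one_pow, one_mul]
  obtain ⟨H, hH⟩ : ∃ H : Subgroup W, H = Fx b ⊔ Fx a ⊔ Fx (a * b) ⊔ Fx (a * b ^ 2) := ⟨_, rfl⟩
  have hle_b : Fx b ≤ H := by
    rw [hH]; exact le_sup_of_le_left (le_sup_of_le_left le_sup_left)
  have hle_a : Fx a ≤ H := by
    rw [hH]; exact le_sup_of_le_left (le_sup_of_le_left le_sup_right)
  have hle_ab : Fx (a * b) ≤ H := by
    rw [hH]; exact le_sup_of_le_left le_sup_right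
  have hle_ab2 : Fx (a * b ^ 2) ≤ H := by
    rw [hH]; exact le_sup_right
  have h22 : (a * b ^ 2) ^ 2 = a ^ 2 * b := by
    rw [(hc.pow_right 2).mul_pow, ← pow_mul]
    have : b ^ (2 * 2) = b ^ 3 * b := by rw [← pow_succ]
    rw [this, hb3, one_mul]
  have h11 : (a * b) ^ 2 = a ^ 2 * b ^ 2 := hc.mul_pow 2
  have hcases : ∀ i j : ℕ, i < 3 → j < 3 → a ^ i * b ^ j ≠ 1 → Fx (a ^ i * b ^ j) ≤ H := by
    intro i j hi hj hne
    interval_cases i <;> interval_cases j
    · exact absurd (by simp) hne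
    · simpa using hle_b
    · simpa using (fx_sq_le hb3).trans hle_b
    · simpa using hle_a
    · simpa using hle_ab
    · simpa using hle_ab2
    · simpa using (fx_sq_le ha3).trans hle_a
    · have := (fx_sq_le hab23).trans hle_ab2
      rw [h22] at this
      simpa using this
    · have := (fx_sq_le hab3).trans hle_ab
      rw [h11] at this
      exact this
  have htop : (⊤ : Subgroup W) ≤ H := by
    apply h.gen (fun _ _ _ _ => mem_top _)
    intro T hT hT1 x _ hTx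
    obtain ⟨i, j, hi, hj, rfl⟩ := hgen T hT
    exact hcases i j hi hj hT1 hTx
  have hzb : z ∈ Fx b := hz.zf _ hbE
  have c1 : Nat.card ↥(Fx b) ≤ 8 := h.card_fx_le hz hbE hb1
  have c2 := h.card_sup_fx_le hz (Fx b) hzb haE ha1
  have c3 := h.card_sup_fx_le hz (Fx b ⊔ Fx a) (le_sup_left (a := Fx b) hzb) habE hab1
  have c4 := h.card_sup_fx_le hz (Fx b ⊔ Fx a ⊔ Fx (a * b))
    (le_sup_of_le_left (le_sup_left (a := Fx b)) hzb) hab2E hab2
  rw [← hH] at c4
  have : Nat.card W = Nat.card ↥H := by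
    rw [eq_top_iff.mpr htop, Subgroup.card_top]
  omega

end Hyp

end Cfsg.Agent.Helper19.OneInv
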