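import Mathlib
import Cfsg.Agent.Helper24.Classes
import Cfsg.Agent.Lead.Coprime3
import Cfsg.Agent.Lead.ThompsonPQ

/-!
Elements whose conjugacy class has `p`-power size.

* `exists_mul_of_coprime_index`: subgroups of coprime index factorise the group, `G = H K`.
* `exists_sylow_conj_of_index_pow`: if `|G : C_G(x)|` is a power of `p` then any two
  conjugates of `x` are conjugate under any Sylow `p`-subgroup.
* `commutator_eq_bot_of_ppow_class`: a `p'`-element normalizing a `p`-subgroup `Q`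
  all of whose elements have `p`-power class size centralizes `Q`.
-/

set_option autoImplicit false

namespace Cfsg.Agent.Helper19

open Subgroup
open scoped commutatorElement

variable {G : Type*} [Group G]

/-- Subgroups of coprime (finite) index factorise the group. -/
theorem exists_mul_of_coprime_index [Finite G] (H K : Subgroup G)
    (h : H.index.Coprime K.index) (g : G) : ∃ a ∈ H, ∃ b ∈ K, g = a * b := by
  have hHK : (H ⊓ K).index = H.index * K.index := by
    apply Nat.le_antisymm (Subgroup.index_inf_le)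
    apply Nat.le_of_dvd (Nat.pos_of_ne_zero (Subgroup.index_ne_zero_of_finite))
    exact Nat.Coprime.mul_dvd_of_dvd_of_dvd h (Subgroup.index_dvd_of_le inf_le_left)
      (Subgroup.index_dvd_of_le inf_le_right)
  have hrel : K.relIndex H = K.index := by
    have h1 := Subgroup.relIndex_mul_index (inf_le_left : H ⊓ K ≤ H)
    rw [hHK, Subgroup.inf_relIndex_left, mul_comm] at h1
    exact Nat.eq_of_mul_eq_mul_left (Nat.pos_of_ne_zero (Subgroup.index_ne_zero_of_finite)) h1
  -- orbit of the base coset under `H`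
  let x₀ : G ⧸ K := ((1 : G) : G ⧸ K)
  have hstab : MulAction.stabilizer H x₀ = K.subgroupOf H := by
    ext a
    rw [MulAction.mem_stabilizer_iff, Subgroup.mem_subgroupOf]
    show ((a : G) • ((1 : G) : G ⧸ K)) = ((1 : G) : G ⧸ K) ↔ _
    rw [MulAction.Quotient.smul_mk, QuotientGroup.eq]
    simp
  have horb : MulAction.orbit H x₀ = Set.univ := by
    apply Set.eq_of_subset_of_ncard_le (Set.subset_univ _) _ (Set.toFinite _)
    rw [← MulAction.index_stabilizer, hstab, Set.ncard_univ]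
    show _ ≤ K.relIndex H
    rw [hrel, Subgroup.index]
  have hg : ((g : G) : G ⧸ K) ∈ MulAction.orbit H x₀ := by rw [horb]; trivial
  obtain ⟨a, ha⟩ := hg
  have ha' : (((a : G) * 1 : G) : G ⧸ K) = ((g : G) : G ⧸ K) := ha
  rw [mul_one, QuotientGroup.eq] at ha'
  exact ⟨a, a.2, _, ha', by group⟩

/-- If the class of `x` has `p`-power size, any two conjugates of `x` are conjugate under any
Sylow `p`-subgroup. -/
theorem exists_sylow_conj_of_index_pow [Finite G] {p : ℕ} [Fact p.Prime] (P : Sylow p G) (x : G)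
    (a : ℕ) (hx : (centralizer ({x} : Set G)).index = p ^ a) (h₁ h₂ : G) :
    ∃ u ∈ P, h₁ * x * h₁⁻¹ = u * (h₂ * x * h₂⁻¹) * u⁻¹ := by
  have hp : p.Prime := Fact.out
  have hidx : (centralizer ({h₂ * x * h₂⁻¹} : Set G)).index = p ^ a := by
    rw [← hx]
    exact (Cfsg.Agent.Helper24.index_centralizer_eq_of_isConj (isConj_iff.mpr ⟨h₂, rfl⟩)).symm
  have hcop : (P : Subgroup G).index.Coprime (centralizer ({h₂ * x * h₂⁻¹} : Set G)).index := by
    rw [hidx]
    exact Nat.Coprime.pow_right _ ((Nat.Prime.coprime_iff_not_dvd hp).mpr P.not_dvd_index).symm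
  obtain ⟨u, hu, c, hc, huc⟩ := exists_mul_of_coprime_index (P : Subgroup G) _ hcop (h₁ * h₂⁻¹)
  refine ⟨u, hu, ?_⟩
  have hc' : c * (h₂ * x * h₂⁻¹) = (h₂ * x * h₂⁻¹) * c :=
    ((Subgroup.mem_centralizer_iff.mp hc) _ rfl).symm
  have h1 : h₁ = u * c * h₂ := by rw [← huc]; group
  rw [h1]
  calc u * c * h₂ * x * (u * c * h₂)⁻¹ = u * (c * (h₂ * x * h₂⁻¹)) * c⁻¹ * u⁻¹ := by group
    _ = u * ((h₂ * x * h₂⁻¹) * c) * c⁻¹ * u⁻¹ := by rw [hc']
    _ = u * (h₂ * x * h₂⁻¹) * u⁻¹ := by group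

/-- A `p'`-element `g` normalizing a `p`-subgroup `Q` all of whose elements have conjugacy
classes of `p`-power size centralizes `Q`. -/
theorem commutator_eq_bot_of_ppow_class [Finite G] {p : ℕ} [Fact p.Prime] (Q : Subgroup G)
    (hQ : IsPGroup p Q) (g : G) (hg : g ∈ normalizer (Q : Set G)) (hcop : (orderOf g).Coprime p)
    (hcl : ∀ x ∈ Q, ∃ a : ℕ, (centralizer ({x} : Set G)).index = p ^ a) :
    ⁅Q, zpowers g⁆ = ⊥ := by
  have hp : p.Prime := Fact.out
  set A : Subgroup G := zpowers g with hA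
  have hAQ : A ≤ normalizer (Q : Set G) := by rw [hA, zpowers_le]; exact hg
  have hcopAQ : (Nat.card A).Coprime (Nat.card Q) := by
    obtain ⟨n, hn⟩ := IsPGroup.iff_card.mp hQ
    rw [hn, hA, Nat.card_zpowers]
    exact Nat.Coprime.pow_right _ hcop
  have hsolv : Group.IsSolvable A ∨ Group.IsSolvable Q := by
    haveI := hQ.isNilpotent
    exact Or.inr inferInstance
  have hcc := Cfsg.Agent.Lead.coprime_commutator_commutator A Q hAQ hcopAQ hsolv
  set Q₁ : Subgroup G := ⁅Q, A⁆ with hQ₁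
  have hQ₁Q : Q₁ ≤ Q := Cfsg.Agent.Lead.commutator_le_of_le_normalizer hAQ
  by_contra hne
  obtain ⟨P, hQP⟩ := hQ.exists_le_sylow
  -- the generating set
  set S : Set G := {c | ∃ y ∈ Q₁, ∃ b ∈ A, ⁅y, b⁆ = c} with hS
  have hQ₁S : Q₁ = closure S := by
    conv_lhs => rw [← hcc]
    rfl
  set N : Subgroup G := normalClosure (Q₁ : Set G) with hN
  have hNS : N = normalClosure S := by
    rw [hN, hQ₁S, normalClosure_closure_eq_normalClosure]
  -- all conjugates of elements of `Q₁` lie in `P`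
  have hconjP : ∀ y ∈ Q₁, ∀ h : G, h * y * h⁻¹ ∈ (P : Subgroup G) := by
    intro y hy h
    obtain ⟨a, ha⟩ := hcl y (hQ₁Q hy)
    obtain ⟨u, hu, hh⟩ := exists_sylow_conj_of_index_pow P y a ha h 1
    rw [hh]
    simp only [one_mul, inv_one, mul_one]
    exact (P : Subgroup G).mul_mem ((P : Subgroup G).mul_mem hu (hQP (hQ₁Q hy)))
      ((P : Subgroup G).inv_mem hu)
  have hNP : N ≤ (P : Subgroup G) := by
    rw [hN, normalClosure, closure_le]
    intro z hz
    obtain ⟨y, hy, hyz⟩ := Group.mem_conjugatesOfSet_iff.mp hz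
    obtain ⟨h, hh⟩ := isConj_iff.mp hyz
    rw [← hh]
    exact hconjP y hy h
  have hNne : N ≠ ⊥ := by
    intro hbot
    apply hne
    rw [eq_bot_iff, ← hbot]
    exact le_normalClosure
  have hNp : IsPGroup p N := P.isPGroup'.to_le hNP
  have hPN : (P : Subgroup G) ≤ normalizer (N : Set G) := by
    rw [normalizer_eq_top]; exact le_top
  have hlt := Cfsg.Agent.Lead.commutator_lt_of_isPGroup hNp P.isPGroup' hPN hNne
  apply (not_le_of_gt hlt)
  have hgoal : normalClosure S ≤ ⁅N, (P : Subgroup G)⁆ := ?_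
  · exact hNS.le.trans hgoal
  rw [normalClosure, closure_le]
  intro z hz
  obtain ⟨c, hc, hcz⟩ := Group.mem_conjugatesOfSet_iff.mp hz
  obtain ⟨h, hh⟩ := isConj_iff.mp hcz
  obtain ⟨y, hy, b, hb, hyb⟩ := hc
  -- `z = h ⁅y, b⁆ h⁻¹ = y' * (k y'⁻¹ k⁻¹)`
  obtain ⟨a, ha⟩ := hcl y⁻¹ (Q.inv_mem (hQ₁Q hy))
  obtain ⟨u, hu, huu⟩ := exists_sylow_conj_of_index_pow P y⁻¹ a ha (h * b) h
  have hy'N : h * y * h⁻¹ ∈ N := by
    rw [hN]
    exact conjugatesOfSet_subset_normalClosure
      (Group.mem_conjugatesOfSet_iff.mpr ⟨y, hy, isConj_iff.mpr ⟨h, rfl⟩⟩)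
  have hz : z = ⁅h * y * h⁻¹, u⁆ := by
    rw [← hh, ← hyb, commutatorElement_def, commutatorElement_def]
    have e1 : h * (y * b * y⁻¹ * b⁻¹) * h⁻¹ = (h * y * h⁻¹) * (h * b * y⁻¹ * (h * b)⁻¹) := by group
    rw [e1, huu]
    group
  rw [hz]
  exact commutator_mem_commutator hy'N hu

end Cfsg.Agent.Helper19
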