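import Mathlib
import Cfsg.Agent.Helper19.NilCovD

/-! Subgroups of `PGL_n(F)`: lifting nilpotent subgroups to `GL_n(F)`, the two linear actions
(columns and rows), line stabilisers. -/

set_option autoImplicit false

namespace Cfsg.Agent.Helper19.Pgl

open Matrix
open Cfsg.Agent.Helper19.NilCov

variable {F : Type*} [Field F] {n : ℕ}

/-- the projection `GL → PGL` -/
abbrev pr (n : ℕ) (F : Type*) [Field F] :
    GL (Fin n) F →* GL (Fin n) F ⧸ Subgroup.center (GL (Fin n) F) :=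
  QuotientGroup.mk' (Subgroup.center (GL (Fin n) F))

theorem pr_surj (x : GL (Fin n) F ⧸ Subgroup.center (GL (Fin n) F)) : ∃ g, pr n F g = x :=
  QuotientGroup.mk'_surjective _ x

/-- `pr g = pr h` iff they differ by a scalar -/
theorem pr_eq_iff [NeZero n] (g h : GL (Fin n) F) :
    pr n F g = pr n F h ↔ ∃ c : F, c ≠ 0 ∧ (h : Matrix (Fin n) (Fin n) F) = c • g := by
  rw [QuotientGroup.mk'_eq_mk']
  constructor
  · rintro ⟨z, hz, rfl⟩
    obtain ⟨c, hc⟩ := Matrix.GeneralLinearGroup.mem_center_iff_val_mem_range_scalar.mp hz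
    refine ⟨c, ?_, ?_⟩
    · rintro rfl
      have h1 : (z : Matrix (Fin n) (Fin n) F) = 0 := by rw [← hc]; simp
      have h3 : (z : Matrix (Fin n) (Fin n) F) * (↑z⁻¹ : Matrix (Fin n) (Fin n) F) = 1 := z.mul_inv
      rw [h1, zero_mul] at h3
      have := congrFun (congrFun h3 0) 0
      simp at this
    · rw [Units.val_mul, ← hc]
      ext i j
      simp [Matrix.mul_apply, Matrix.scalar_apply, Matrix.diagonal_apply, mul_comm]
  · rintro ⟨c, hc0, hc⟩
    refine ⟨g⁻¹ * h, ?_, by group⟩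
    rw [Matrix.GeneralLinearGroup.mem_center_iff_val_mem_range_scalar]
    refine ⟨c, ?_⟩
    rw [Units.val_mul, hc, Matrix.mul_smul]
    have : (↑g⁻¹ : Matrix (Fin n) (Fin n) F) * (g : Matrix (Fin n) (Fin n) F) = 1 := g.inv_mul
    rw [this]
    ext i j
    simp [Matrix.scalar_apply, Matrix.diagonal_apply, Matrix.one_apply]

/-- the preimage in `GL` of a subgroup of a subgroup `G` of `PGL` -/
def lift (G : Subgroup (GL (Fin n) F ⧸ Subgroup.center (GL (Fin n) F))) (A : Subgroup ↥G) :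
    Subgroup (GL (Fin n) F) :=
  (A.map G.subtype).comap (pr n F)

theorem mem_lift (G : Subgroup (GL (Fin n) F ⧸ Subgroup.center (GL (Fin n) F)))
    (A : Subgroup ↥G) (g : GL (Fin n) F) :
    g ∈ lift G A ↔ ∃ h : pr n F g ∈ G, (⟨pr n F g, h⟩ : ↥G) ∈ A := by
  unfold lift
  rw [Subgroup.mem_comap, Subgroup.mem_map]
  constructor
  · rintro ⟨x, hx, hxg⟩
    have h : pr n F g ∈ G := by rw [← hxg]; exact x.2
    refine ⟨h, ?_⟩
    have : (⟨pr n F g, h⟩ : ↥G) = x := Subtype.ext hxg.symm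
    rw [this]; exact hx
  · rintro ⟨h, hA⟩
    exact ⟨⟨pr n F g, h⟩, hA, rfl⟩

theorem exists_lift (G : Subgroup (GL (Fin n) F ⧸ Subgroup.center (GL (Fin n) F)))
    (A : Subgroup ↥G) (x : ↥G) (hx : x ∈ A) : ∃ g ∈ lift G A, pr n F g = (x : _) := by
  obtain ⟨g, hg⟩ := pr_surj (x : GL (Fin n) F ⧸ Subgroup.center (GL (Fin n) F))
  refine ⟨g, ?_, hg⟩
  rw [mem_lift]
  have h : pr n F g ∈ G := by rw [hg]; exact x.2
  refine ⟨h, ?_⟩
  have : (⟨pr n F g, h⟩ : ↥G) = x := Subtype.ext hg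
  rw [this]; exact hx

theorem lift_nilpotent (G : Subgroup (GL (Fin n) F ⧸ Subgroup.center (GL (Fin n) F)))
    (A : Subgroup ↥G) (hA : Group.IsNilpotent ↥A) : Group.IsNilpotent ↥(lift G A) := by
  have h1 : Group.IsNilpotent ↥(A.map G.subtype) :=
    Group.nilpotent_of_mulEquiv (Subgroup.equivMapOfInjective A G.subtype G.subtype_injective)
  let f : ↥(lift G A) →* ↥(A.map G.subtype) := (pr n F).subgroupComap (A.map G.subtype)
  apply Subgroup.isNilpotent_of_ker_le_center f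
  intro x hx
  rw [MonoidHom.mem_ker] at hx
  have h2 : pr n F (x : GL (Fin n) F) = 1 := congrArg Subtype.val hx
  have h3 : (x : GL (Fin n) F) ∈ Subgroup.center (GL (Fin n) F) := by
    rw [← QuotientGroup.ker_mk' (Subgroup.center (GL (Fin n) F))]
    exact h2
  rw [Subgroup.mem_center_iff]
  intro y
  apply Subtype.ext
  exact (Subgroup.mem_center_iff.mp h3) (y : GL (Fin n) F)

/-- the action on column vectors -/
def colRep (n : ℕ) (F : Type*) [Field F] : GL (Fin n) F →* Module.End F (Fin n → F) where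
  toFun g := Matrix.mulVecLin (g : Matrix (Fin n) (Fin n) F)
  map_one' := by simp; rfl
  map_mul' g h := by
    rw [Units.val_mul, Matrix.mulVecLin_mul]; rfl

@[simp] theorem colRep_apply (g : GL (Fin n) F) (v : Fin n → F) :
    colRep n F g v = (g : Matrix (Fin n) (Fin n) F) *ᵥ v := rfl

/-- the action on row vectors (through the inverse transpose) -/
def rowRep (n : ℕ) (F : Type*) [Field F] : GL (Fin n) F →* Module.End F (Fin n → F) where
  toFun g := Matrix.mulVecLin ((↑g⁻¹ : Matrix (Fin n) (Fin n) F)ᵀ)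
  map_one' := by simp; rfl
  map_mul' g h := by
    rw [_root_.mul_inv_rev, Units.val_mul, Matrix.transpose_mul, Matrix.mulVecLin_mul]; rfl

@[simp] theorem rowRep_apply (g : GL (Fin n) F) (v : Fin n → F) :
    rowRep n F g v = ((↑g⁻¹ : Matrix (Fin n) (Fin n) F)ᵀ) *ᵥ v := rfl

/-- the stabiliser of the line through `m0` under a representation -/
def lineStab {M : Type*} [AddCommGroup M] [Module F M] (ρ : GL (Fin n) F →* Module.End F M)
    (m0 : M) (hm0 : m0 ≠ 0) : Subgroup (GL (Fin n) F) where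
  carrier := {g | ∃ c : F, ρ g m0 = c • m0}
  one_mem' := ⟨1, by simp⟩
  mul_mem' := by
    rintro g h ⟨c, hc⟩ ⟨d, hd⟩
    refine ⟨d * c, ?_⟩
    rw [map_mul, Module.End.mul_apply, hd, map_smul, hc, smul_smul]
  inv_mem' := by
    rintro g ⟨c, hc⟩
    have hc0 : c ≠ 0 := by
      rintro rfl
      rw [zero_smul] at hc
      have : ρ g⁻¹ (ρ g m0) = m0 := by
        rw [← Module.End.mul_apply, ← map_mul, inv_mul_cancel, map_one, Module.End.one_apply]
      rw [hc, map_zero] at this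
      exact hm0 this.symm
    refine ⟨c⁻¹, ?_⟩
    have h1 : ρ g⁻¹ (ρ g m0) = m0 := by
      rw [← Module.End.mul_apply, ← map_mul, inv_mul_cancel, map_one, Module.End.one_apply]
    rw [hc, map_smul] at h1
    rw [← h1, smul_smul, inv_mul_cancel₀ hc0, one_smul, h1]

theorem mem_lineStab {M : Type*} [AddCommGroup M] [Module F M]
    (ρ : GL (Fin n) F →* Module.End F M) (m0 : M) (hm0 : m0 ≠ 0) (g : GL (Fin n) F) :
    g ∈ lineStab ρ m0 hm0 ↔ ∃ c : F, ρ g m0 = c • m0 := Iff.rfl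

/-- a subgroup of `GL` containing the centre is saturated for `pr` -/
theorem pr_mem_map_iff (K : Subgroup (GL (Fin n) F)) (hK : Subgroup.center (GL (Fin n) F) ≤ K)
    (g : GL (Fin n) F) : pr n F g ∈ K.map (pr n F) ↔ g ∈ K := by
  constructor
  · rintro ⟨k, hk, hkg⟩
    rw [QuotientGroup.mk'_eq_mk'] at hkg
    obtain ⟨z, hz, rfl⟩ := hkg
    exact K.mul_mem hk (hK hz)
  · intro h
    exact ⟨g, h, rfl⟩

/-- nilpotent subgroups of `GL` containing a `p`-element with a fixed line stabilise it -/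
theorem sub_stab [Finite F] (p : ℕ) [Fact p.Prime] [CharP F p]
    (D : Subgroup (GL (Fin n) F)) (hD : Group.IsNilpotent ↥D)
    {M : Type*} [AddCommGroup M] [Module F M] [Finite M]
    (ρ : GL (Fin n) F →* Module.End F M) (u : GL (Fin n) F) (hu : ∃ k : ℕ, u ^ p ^ k = 1)
    (huD : u ∈ D) (m0 : M) (hm0 : m0 ≠ 0) (hfix : ∀ m, ρ u m = m → ∃ c : F, m = c • m0) :
    ∀ g ∈ D, ∃ c : F, ρ g m0 = c • m0 := by
  intro g hg
  obtain ⟨k, hk⟩ := hu
  have := fix_line (D := ↥D) p (ρ.comp D.subtype) ⟨u, huD⟩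
    ⟨k, Subtype.ext (by simpa using hk)⟩ m0 hm0 (by simpa using hfix) ⟨g, hg⟩
  simpa using this

/-- nilpotent subgroups containing (the image of) a `p`-element with a fixed line stabilise it -/
theorem lift_stab [Finite F] (p : ℕ) [Fact p.Prime] [CharP F p]
    (G : Subgroup (GL (Fin n) F ⧸ Subgroup.center (GL (Fin n) F))) (A : Subgroup ↥G)
    (hA : Group.IsNilpotent ↥A) {M : Type*} [AddCommGroup M] [Module F M] [Finite M]
    (ρ : GL (Fin n) F →* Module.End F M) (u : GL (Fin n) F) (hu : ∃ k : ℕ, u ^ p ^ k = 1)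
    (huA : u ∈ lift G A) (m0 : M) (hm0 : m0 ≠ 0) (hfix : ∀ m, ρ u m = m → ∃ c : F, m = c • m0) :
    ∀ g ∈ lift G A, ∃ c : F, ρ g m0 = c • m0 :=
  sub_stab p (lift G A) (lift_nilpotent G A hA) ρ u hu huA m0 hm0 hfix

end Cfsg.Agent.Helper19.Pgl
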