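import Mathlib
import Cfsg.Agent.Helper19.PglA

/-! Regular unipotent elements `1 + N_τ` of `SL_n(F)` (for an ordering `τ` of the basis), their
fixed lines on columns and rows. -/

set_option autoImplicit false

namespace Cfsg.Agent.Helper19.Pgl

open Matrix

variable {F : Type*} [Field F] {n : ℕ}

/-- the shift matrix in the ordering `τ`: `e_j ↦ e_i` when `τ i + 1 = τ j` -/
def shiftM (F : Type*) [Field F] {n : ℕ} (τ : Equiv.Perm (Fin n)) : Matrix (Fin n) (Fin n) F :=
  Matrix.of fun i j => if (τ i).val + 1 = (τ j).val then 1 else 0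

theorem shiftM_apply (τ : Equiv.Perm (Fin n)) (i j : Fin n) :
    shiftM F τ i j = if (τ i).val + 1 = (τ j).val then 1 else 0 := rfl

theorem shiftM_pow (τ : Equiv.Perm (Fin n)) (k : ℕ) (i j : Fin n) :
    (shiftM F τ ^ k) i j = if (τ i).val + k = (τ j).val then 1 else 0 := by
  induction k generalizing i j with
  | zero =>
    rw [pow_zero, Matrix.one_apply, add_zero]
    by_cases h : i = j
    · subst h; simp
    · rw [if_neg h, if_neg]
      intro h'
      exact h (τ.injective (Fin.ext h'))
  | succ k ih =>
    rw [pow_succ, Matrix.mul_apply]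
    by_cases hk : (τ i).val + k < n
    · obtain ⟨l0, hl0⟩ : ∃ l0, l0 = τ.symm ⟨(τ i).val + k, hk⟩ := ⟨_, rfl⟩
      have hl0' : (τ l0).val = (τ i).val + k := by rw [hl0]; simp
      rw [Finset.sum_eq_single l0]
      · rw [ih, if_pos hl0'.symm, one_mul, shiftM_apply, hl0']
        congr 1
      · intro l _ hl
        rw [ih, if_neg, zero_mul]
        intro h
        apply hl
        apply τ.injective
        apply Fin.ext
        rw [hl0', h]
      · intro h; exact absurd (Finset.mem_univ _) h
    · rw [Finset.sum_eq_zero, if_neg]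
      · have := (τ j).isLt
        omega
      · intro l _
        rw [ih, if_neg, zero_mul]
        have := (τ l).isLt
        omega

theorem shiftM_pow_eq_zero (τ : Equiv.Perm (Fin n)) (k : ℕ) (hk : n ≤ k) :
    shiftM F τ ^ k = 0 := by
  ext i j
  rw [shiftM_pow, if_neg, Matrix.zero_apply]
  have := (τ j).isLt
  omega

theorem det_one_add_shiftM (τ : Equiv.Perm (Fin n)) : (1 + shiftM F τ).det = 1 := by
  have h1 : (1 + shiftM F τ) = (1 + shiftM F (1 : Equiv.Perm (Fin n))).submatrix τ τ := by
    ext i j
    rw [Matrix.submatrix_apply, Matrix.add_apply, Matrix.add_apply, shiftM_apply, shiftM_apply,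
      Matrix.one_apply, Matrix.one_apply]
    simp only [Equiv.Perm.coe_one, id_eq]
    congr 1
    by_cases h : i = j
    · subst h; simp
    · rw [if_neg h, if_neg]
      intro h'
      exact h (τ.injective h')
  rw [h1, Matrix.det_submatrix_equiv_self, Matrix.det_of_isUpperTriangular]
  · apply Finset.prod_eq_one
    intro i _
    rw [Matrix.add_apply, Matrix.one_apply_eq, shiftM_apply, if_neg, add_zero]
    simp
  · intro i j hij
    simp only [id_eq] at hij
    rw [Matrix.add_apply, Matrix.one_apply_ne (ne_of_gt hij), shiftM_apply, if_neg, add_zero]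
    simp only [Equiv.Perm.coe_one, id_eq]
    have : j.val < i.val := hij
    omega

/-- the regular unipotent element of `SL_n` attached to the ordering `τ` -/
def uniSL (F : Type*) [Field F] {n : ℕ} (τ : Equiv.Perm (Fin n)) :
    Matrix.SpecialLinearGroup (Fin n) F :=
  ⟨1 + shiftM F τ, det_one_add_shiftM τ⟩

/-- the regular unipotent element of `GL_n` attached to the ordering `τ` -/
def uni (F : Type*) [Field F] {n : ℕ} (τ : Equiv.Perm (Fin n)) : GL (Fin n) F :=
  Matrix.SpecialLinearGroup.toGL (uniSL F τ)

theorem uni_val (τ : Equiv.Perm (Fin n)) :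
    (uni F τ : Matrix (Fin n) (Fin n) F) = 1 + shiftM F τ := rfl

theorem uni_pelement [NeZero n] (p : ℕ) [Fact p.Prime] [CharP F p] (τ : Equiv.Perm (Fin n)) :
    ∃ k : ℕ, uni F τ ^ p ^ k = 1 := by
  refine ⟨n, ?_⟩
  apply Units.ext
  rw [Units.val_pow_eq_pow_val, uni_val, Units.val_one,
    add_pow_char_pow_of_commute p n (Commute.one_left _), one_pow,
    shiftM_pow_eq_zero, add_zero]
  exact (Nat.lt_pow_self (Fact.out : p.Prime).one_lt).le

theorem shiftM_mulVec (τ : Equiv.Perm (Fin n)) (v : Fin n → F) (i j : Fin n)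
    (hij : (τ i).val + 1 = (τ j).val) : (shiftM F τ *ᵥ v) i = v j := by
  simp only [Matrix.mulVec, dotProduct]
  rw [Finset.sum_eq_single j]
  · rw [shiftM_apply, if_pos hij, one_mul]
  · intro l _ hl
    rw [shiftM_apply, if_neg, zero_mul]
    intro h
    apply hl
    apply τ.injective
    apply Fin.ext
    omega
  · intro h; exact absurd (Finset.mem_univ _) h

theorem shiftM_transpose_mulVec (τ : Equiv.Perm (Fin n)) (v : Fin n → F) (i j : Fin n)
    (hij : (τ j).val + 1 = (τ i).val) : ((shiftM F τ)ᵀ *ᵥ v) i = v j := by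
  simp only [Matrix.mulVec, dotProduct, Matrix.transpose_apply]
  rw [Finset.sum_eq_single j]
  · rw [shiftM_apply, if_pos hij, one_mul]
  · intro l _ hl
    rw [shiftM_apply, if_neg, zero_mul]
    intro h
    apply hl
    apply τ.injective
    apply Fin.ext
    omega
  · intro h; exact absurd (Finset.mem_univ _) h

/-- the fixed columns of `uni τ` are supported on the first basis vector of the ordering -/
theorem uni_fix_col (τ : Equiv.Perm (Fin n)) (v : Fin n → F)
    (hv : colRep n F (uni F τ) v = v) (j0 : Fin n) (hj0 : (τ j0).val = 0) :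
    v = v j0 • Pi.single j0 (1 : F) := by
  rw [colRep_apply, uni_val, Matrix.add_mulVec, Matrix.one_mulVec, add_eq_left] at hv
  funext j
  by_cases hj : j = j0
  · subst hj; simp
  · rw [Pi.smul_apply, Pi.single_apply, if_neg hj, smul_zero]
    have hτj : (τ j).val ≠ 0 := by
      intro h
      apply hj
      apply τ.injective
      apply Fin.ext
      rw [h, hj0]
    have hlt : (τ j).val - 1 < n := by have := (τ j).isLt; omega
    have := shiftM_mulVec τ v (τ.symm ⟨(τ j).val - 1, hlt⟩) j (by simp; omega)
    rw [hv] at this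
    exact this.symm

/-- the fixed rows of `uni τ` are supported on the last basis vector of the ordering -/
theorem uni_fix_row (τ : Equiv.Perm (Fin n)) (v : Fin n → F)
    (hv : rowRep n F (uni F τ) v = v) (j0 : Fin n) (hj0 : (τ j0).val + 1 = n) :
    v = v j0 • Pi.single j0 (1 : F) := by
  rw [rowRep_apply] at hv
  have h1 : ((uni F τ : Matrix (Fin n) (Fin n) F))ᵀ *ᵥ v = v := by
    have h2 := congrArg (fun w => ((uni F τ : Matrix (Fin n) (Fin n) F))ᵀ *ᵥ w) hv
    simp only [Matrix.mulVec_mulVec, ← Matrix.transpose_mul] at h2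
    have h3 : (↑(uni F τ)⁻¹ : Matrix (Fin n) (Fin n) F) * (uni F τ : Matrix (Fin n) (Fin n) F)
        = 1 := (uni F τ).inv_mul
    rw [h3, Matrix.transpose_one, Matrix.one_mulVec] at h2
    exact h2.symm
  rw [uni_val, Matrix.transpose_add, Matrix.transpose_one, Matrix.add_mulVec, Matrix.one_mulVec,
    add_eq_left] at h1
  funext j
  by_cases hj : j = j0
  · subst hj; simp
  · rw [Pi.smul_apply, Pi.single_apply, if_neg hj, smul_zero]
    have hτj : (τ j).val + 1 ≠ n := by
      intro h
      apply hj
      apply τ.injective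
      apply Fin.ext
      omega
    have hlt : (τ j).val + 1 < n := by have := (τ j).isLt; omega
    have := shiftM_transpose_mulVec τ v (τ.symm ⟨(τ j).val + 1, hlt⟩) j (by simp)
    rw [h1] at this
    exact this.symm

/-- the `j`-th column of `uni τ` -/
theorem uni_mulVec_single (τ : Equiv.Perm (Fin n)) (i j : Fin n) :
    ((uni F τ : Matrix (Fin n) (Fin n) F) *ᵥ Pi.single j (1 : F)) i =
      (if i = j then 1 else 0) + if (τ i).val + 1 = (τ j).val then 1 else 0 := by
  rw [Matrix.mulVec_single_one, uni_val]
  simp [Matrix.one_apply, shiftM_apply]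

/-- the `j`-th row of `uni τ` -/
theorem uni_transpose_mulVec_single (τ : Equiv.Perm (Fin n)) (i j : Fin n) :
    (((uni F τ : Matrix (Fin n) (Fin n) F))ᵀ *ᵥ Pi.single j (1 : F)) i =
      (if i = j then 1 else 0) + if (τ j).val + 1 = (τ i).val then 1 else 0 := by
  rw [Matrix.mulVec_single_one, uni_val]
  simp [Matrix.one_apply, shiftM_apply]

end Cfsg.Agent.Helper19.Pgl
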