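import Mathlib
import Cfsg.Agent.Helper19.PglB

/-! Groups between `PSL_n(F)` and `PGL_n(F)`, `n ≥ 3`: no nilpotent minimal cover. -/

set_option autoImplicit false

namespace Cfsg.Agent.Helper19.Pgl

open Matrix
open Cfsg.Agent.Helper19.NilCov Cfsg.Agent.Helper11.SzCover

variable {F : Type*} [Field F] {n : ℕ}

/-- the image of `SL_n` in `PGL_n` -/
abbrev slImage (n : ℕ) (F : Type*) [Field F] :
    Subgroup (GL (Fin n) F ⧸ Subgroup.center (GL (Fin n) F)) :=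
  ((Matrix.SpecialLinearGroup.toGL :
    Matrix.SpecialLinearGroup (Fin n) F →* GL (Fin n) F).range).map (pr n F)

theorem pr_uni_mem (τ : Equiv.Perm (Fin n)) : pr n F (uni F τ) ∈ slImage n F :=
  ⟨uni F τ, ⟨uniSL F τ, rfl⟩, rfl⟩

/-- scalars stabilise every line -/
theorem center_le_lineStab_col (m0 : Fin n → F) (hm0 : m0 ≠ 0) :
    Subgroup.center (GL (Fin n) F) ≤ lineStab (colRep n F) m0 hm0 := by
  intro z hz
  obtain ⟨c, hc⟩ := Matrix.GeneralLinearGroup.mem_center_iff_val_mem_range_scalar.mp hz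
  rw [mem_lineStab]
  refine ⟨c, ?_⟩
  rw [colRep_apply, ← hc]
  simp [Matrix.scalar_apply]

theorem exists_char (F : Type*) [Field F] [Finite F] :
    ∃ p : ℕ, p.Prime ∧ CharP F p := by
  obtain ⟨p, hp⟩ := CharP.exists F
  exact ⟨p, CharP.char_is_prime F p, hp⟩

theorem case_ge_three [Finite F] (hn : 3 ≤ n)
    (G : Subgroup (GL (Fin n) F ⧸ Subgroup.center (GL (Fin n) F)))
    (hG : slImage n F ≤ G) : ¬ HasNilpMinCover ↥G := by
  obtain ⟨p, hp, hchar⟩ := exists_char F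
  have : Fact p.Prime := ⟨hp⟩
  have : NeZero n := ⟨by omega⟩
  obtain ⟨j0, hj0⟩ : ∃ j0 : Fin n, j0 = ⟨0, by omega⟩ := ⟨_, rfl⟩
  obtain ⟨j1, hj1⟩ : ∃ j1 : Fin n, j1 = ⟨1, by omega⟩ := ⟨_, rfl⟩
  obtain ⟨ja, hja⟩ : ∃ ja : Fin n, ja = ⟨n - 2, by omega⟩ := ⟨_, rfl⟩
  obtain ⟨jb, hjb⟩ : ∃ jb : Fin n, jb = ⟨n - 1, by omega⟩ := ⟨_, rfl⟩
  have hj0v : j0.val = 0 := by rw [hj0]
  have hj1v : j1.val = 1 := by rw [hj1]
  have hjav : ja.val = n - 2 := by rw [hja]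
  have hjbv : jb.val = n - 1 := by rw [hjb]
  have hne0a : j0 ≠ ja := fun h => by have := congrArg Fin.val h; omega
  have hne0b : j0 ≠ jb := fun h => by have := congrArg Fin.val h; omega
  have hneab : ja ≠ jb := fun h => by have := congrArg Fin.val h; omega
  have hne01 : j0 ≠ j1 := fun h => by have := congrArg Fin.val h; omega
  obtain ⟨τ2, hτ2⟩ : ∃ τ2 : Equiv.Perm (Fin n), τ2 = Equiv.swap ja jb := ⟨_, rfl⟩
  obtain ⟨τ3, hτ3⟩ : ∃ τ3 : Equiv.Perm (Fin n), τ3 = Equiv.swap j0 j1 := ⟨_, rfl⟩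
  have hτ2_0 : τ2 j0 = j0 := by rw [hτ2]; exact Equiv.swap_apply_of_ne_of_ne hne0a hne0b
  have hτ2_a : τ2 ja = jb := by rw [hτ2]; exact Equiv.swap_apply_left _ _
  have hτ2_b : τ2 jb = ja := by rw [hτ2]; exact Equiv.swap_apply_right _ _
  have hτ3_0 : τ3 j0 = j1 := by rw [hτ3]; exact Equiv.swap_apply_left _ _
  have hτ3_1 : τ3 j1 = j0 := by rw [hτ3]; exact Equiv.swap_apply_right _ _
  obtain ⟨m0, hm0def⟩ : ∃ m0 : Fin n → F, m0 = Pi.single j0 1 := ⟨_, rfl⟩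
  obtain ⟨mb, hmbdef⟩ : ∃ mb : Fin n → F, mb = Pi.single jb 1 := ⟨_, rfl⟩
  have hm0 : m0 ≠ 0 := by
    intro h
    have := congrFun h j0
    rw [hm0def] at this
    simp at this
  have hmb : mb ≠ 0 := by
    intro h
    have := congrFun h jb
    rw [hmbdef] at this
    simp at this
  obtain ⟨K, hK⟩ : ∃ K, K = lineStab (colRep n F) m0 hm0 := ⟨_, rfl⟩
  have hcK : Subgroup.center (GL (Fin n) F) ≤ K := by
    rw [hK]; exact center_le_lineStab_col m0 hm0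
  have memG : ∀ τ : Equiv.Perm (Fin n), pr n F (uni F τ) ∈ G := fun τ => hG (pr_uni_mem τ)
  -- fixed lines
  have fix1 : ∀ m, colRep n F (uni F 1) m = m → ∃ c : F, m = c • m0 := by
    intro m hm
    exact ⟨m j0, by rw [hm0def]; exact uni_fix_col 1 m hm j0 (by simp [hj0v])⟩
  have fix2 : ∀ m, colRep n F (uni F τ2) m = m → ∃ c : F, m = c • m0 := by
    intro m hm
    exact ⟨m j0, by rw [hm0def]; exact uni_fix_col τ2 m hm j0 (by rw [hτ2_0, hj0v])⟩
  have fixr : ∀ m, rowRep n F (uni F 1) m = m → ∃ c : F, m = c • mb := by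
    intro m hm
    exact ⟨m jb, by
      rw [hmbdef]; exact uni_fix_row 1 m hm jb (by simp only [Equiv.Perm.coe_one, id_eq]; omega)⟩
  have inK : ∀ (A : Subgroup ↥G), Group.IsNilpotent ↥A → ∀ τ : Equiv.Perm (Fin n),
      (∀ m, colRep n F (uni F τ) m = m → ∃ c : F, m = c • m0) →
      (⟨pr n F (uni F τ), memG τ⟩ : ↥G) ∈ A →
      A ≤ (K.map (pr n F)).subgroupOf G := by
    intro A hA τ hfix hcA x hx
    rw [Subgroup.mem_subgroupOf]
    obtain ⟨g, hg, hgx⟩ := exists_lift G A x hx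
    rw [← hgx, pr_mem_map_iff K hcK, hK, mem_lineStab]
    exact lift_stab p G A hA (colRep n F) (uni F τ) (uni_pelement p τ)
      ((mem_lift G A _).mpr ⟨memG τ, hcA⟩) m0 hm0 hfix g hg
  apply pair_trick (⟨pr n F (uni F 1), memG 1⟩ : ↥G) ⟨pr n F (uni F τ2), memG τ2⟩
    ((K.map (pr n F)).subgroupOf G)
  · -- proper
    intro htop
    have h1 : (⟨pr n F (uni F τ3), memG τ3⟩ : ↥G) ∈ (K.map (pr n F)).subgroupOf G := by
      rw [htop]; exact Subgroup.mem_top _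
    rw [Subgroup.mem_subgroupOf, pr_mem_map_iff K hcK, hK, mem_lineStab] at h1
    obtain ⟨c, hc⟩ := h1
    have h2 := congrFun hc j1
    rw [colRep_apply, hm0def, uni_mulVec_single, hτ3_0, hτ3_1, hj0v, hj1v] at h2
    simp [hne01.symm] at h2
  · intro A hA hcA
    exact inK A hA 1 fix1 hcA
  · intro A hA hcA
    exact inK A hA τ2 fix2 hcA
  · intro A hA hcA hcA'
    have hu1 : uni F (1 : Equiv.Perm (Fin n)) ∈ lift G A := (mem_lift G A _).mpr ⟨memG 1, hcA⟩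
    have hu2 : uni F τ2 ∈ lift G A := (mem_lift G A _).mpr ⟨memG τ2, hcA'⟩
    obtain ⟨c, hc⟩ := lift_stab p G A hA (rowRep n F) (uni F 1) (uni_pelement p 1) hu1 mb hmb fixr
      (uni F τ2)⁻¹ ((lift G A).inv_mem hu2)
    have h2 := congrFun hc ja
    rw [rowRep_apply, inv_inv, hmbdef, uni_transpose_mulVec_single, hτ2_a, hτ2_b, hjav, hjbv] at h2
    have h3 : n - 2 + 1 = n - 1 := by omega
    simp [hneab, h3] at h2

end Cfsg.Agent.Helper19.Pgl
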