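import Mathlib
import Cfsg.Agent.Helper19.PglC

/-! `n = 2`: nilpotent subgroups of `GL_2(F)` containing a transvection; groups strictly
between `PSL_2` and `PGL_2`. -/

set_option autoImplicit false

namespace Cfsg.Agent.Helper19.Pgl

open Matrix
open Cfsg.Agent.Helper19.NilCov Cfsg.Agent.Helper11.SzCover
open scoped commutatorElement

variable {F : Type*} [Field F]

/-- the transvection `[[1,b],[0,1]]` in `SL_2` -/
def tr2SL (b : F) : Matrix.SpecialLinearGroup (Fin 2) F :=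
  ⟨!![1, b; 0, 1], by simp [Matrix.det_fin_two_of]⟩

/-- the transvection `[[1,b],[0,1]]` in `GL_2` -/
def tr2 (b : F) : GL (Fin 2) F := Matrix.SpecialLinearGroup.toGL (tr2SL b)

theorem tr2_val (b : F) : (tr2 b : Matrix (Fin 2) (Fin 2) F) = !![1, b; 0, 1] := rfl

theorem uni_one_eq_tr2 : uni F (1 : Equiv.Perm (Fin 2)) = tr2 (1 : F) := by
  apply Units.ext
  rw [uni_val, tr2_val]
  ext i j
  fin_cases i <;> fin_cases j <;> simp [shiftM_apply]

theorem gl_det_ne_zero {n : ℕ} (a : GL (Fin n) F) : (a : Matrix (Fin n) (Fin n) F).det ≠ 0 := by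
  have := (Matrix.GeneralLinearGroup.det a).ne_zero
  simpa using this

theorem key2 (b α β δ : F) (hδ : δ ≠ 0) :
    !![1, b; 0, 1] * !![α, β; 0, δ] =
      !![1, b * ((δ - α) / δ); 0, 1] * (!![α, β; 0, δ] * !![1, b; 0, 1]) := by
  simp only [Matrix.mul_fin_two]
  ext i j
  fin_cases i <;> fin_cases j <;> simp
  field_simp
  ring

theorem eta2 (a : Matrix (Fin 2) (Fin 2) F) (h10 : a 1 0 = 0) :
    a = !![a 0 0, a 0 1; 0, a 1 1] := by
  ext i j
  fin_cases i <;> fin_cases j <;> simp [h10]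

/-- commutator of a transvection with an upper triangular matrix -/
theorem comm_tr2 (b : F) (a : GL (Fin 2) F) (h10 : (a : Matrix (Fin 2) (Fin 2) F) 1 0 = 0) :
    tr2 b * a * (tr2 b)⁻¹ * a⁻¹ = tr2 (b * (((a : Matrix (Fin 2) (Fin 2) F) 1 1 -
      (a : Matrix (Fin 2) (Fin 2) F) 0 0) / (a : Matrix (Fin 2) (Fin 2) F) 1 1)) := by
  have hδ : (a : Matrix (Fin 2) (Fin 2) F) 1 1 ≠ 0 := by
    intro h
    apply gl_det_ne_zero a
    rw [Matrix.det_fin_two, h10, h]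
    ring
  obtain ⟨α, hα⟩ : ∃ α : F, α = (a : Matrix (Fin 2) (Fin 2) F) 0 0 := ⟨_, rfl⟩
  obtain ⟨β, hβ⟩ : ∃ β : F, β = (a : Matrix (Fin 2) (Fin 2) F) 0 1 := ⟨_, rfl⟩
  obtain ⟨δ, hδ'⟩ : ∃ δ : F, δ = (a : Matrix (Fin 2) (Fin 2) F) 1 1 := ⟨_, rfl⟩
  have hA : (a : Matrix (Fin 2) (Fin 2) F) = !![α, β; 0, δ] := by
    rw [hα, hβ, hδ']; exact eta2 _ h10
  rw [← hδ', ← hα]
  rw [← hδ'] at hδ
  have key : tr2 b * a = tr2 (b * ((δ - α) / δ)) * (a * tr2 b) := by
    apply Units.ext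
    rw [Units.val_mul, Units.val_mul, Units.val_mul, tr2_val, tr2_val, hA]
    exact key2 b α β δ hδ
  have h1 : tr2 b * a * (tr2 b)⁻¹ * a⁻¹ * (a * tr2 b) = tr2 b * a := by group
  exact mul_right_cancel (h1.trans key)

/-- a nilpotent subgroup of `GL_2` containing `[[1,1],[0,1]]` consists of matrices
`[[α,β],[0,α]]` -/
theorem upper_of_nilpotent [Finite F] (D : Subgroup (GL (Fin 2) F)) (hD : Group.IsNilpotent ↥D)
    (hu : tr2 (1 : F) ∈ D) (a : GL (Fin 2) F) (ha : a ∈ D) :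
    (a : Matrix (Fin 2) (Fin 2) F) 1 0 = 0 ∧
      (a : Matrix (Fin 2) (Fin 2) F) 0 0 = (a : Matrix (Fin 2) (Fin 2) F) 1 1 := by
  obtain ⟨p, hp, hchar⟩ := exists_char F
  have : Fact p.Prime := ⟨hp⟩
  have h10 : ∀ g ∈ D, (g : Matrix (Fin 2) (Fin 2) F) 1 0 = 0 := by
    intro g hg
    have hm0 : (Pi.single 0 1 : Fin 2 → F) ≠ 0 := by
      intro h
      have := congrFun h 0
      simp at this
    obtain ⟨c, hc⟩ := sub_stab p D hD (colRep 2 F) (uni F 1) (uni_pelement p 1)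
      (by rw [uni_one_eq_tr2]; exact hu) (Pi.single 0 1) hm0
      (fun m hm => ⟨m 0, uni_fix_col 1 m hm 0 (by simp)⟩) g hg
    have := congrFun hc 1
    rw [colRep_apply, Matrix.mulVec_single_one] at this
    simpa using this
  refine ⟨h10 a ha, ?_⟩
  have hδ : (a : Matrix (Fin 2) (Fin 2) F) 1 1 ≠ 0 := by
    intro h
    apply gl_det_ne_zero a
    rw [Matrix.det_fin_two, h10 a ha, h]
    ring
  obtain ⟨κ, hκ⟩ : ∃ κ : F, κ = ((a : Matrix (Fin 2) (Fin 2) F) 1 1 -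
      (a : Matrix (Fin 2) (Fin 2) F) 0 0) / (a : Matrix (Fin 2) (Fin 2) F) 1 1 := ⟨_, rfl⟩
  have hind : ∀ k : ℕ, tr2 (κ ^ k) ∈ D.lowerCentralSeries k := by
    intro k
    induction k with
    | zero => rw [pow_zero]; exact hu
    | succ k ih =>
      rw [Subgroup.lowerCentralSeries_succ]
      have := Subgroup.commutator_mem_commutator ih ha
      rw [commutatorElement_def, comm_tr2 _ a (h10 a ha), ← hκ, ← pow_succ] at this
      exact this
  obtain ⟨c, hc⟩ := (Subgroup.isNilpotent_iff_lowerCentralSeries D).mp hD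
  have h1 := hind c
  rw [hc, Subgroup.mem_bot] at h1
  have h2 : κ ^ c = 0 := by
    have := congrArg (fun g : GL (Fin 2) F => (g : Matrix (Fin 2) (Fin 2) F) 0 1) h1
    simpa [tr2_val] using this
  have h3 : κ = 0 := pow_eq_zero_iff (n := c) (by
    intro hc0
    rw [hc0, pow_zero] at h2
    exact one_ne_zero h2) |>.mp h2
  rw [hκ, div_eq_zero_iff] at h3
  rcases h3 with h3 | h3
  · exact (sub_eq_zero.mp h3).symm
  · exact absurd h3 hδ

/-- conjugated version of `upper_of_nilpotent` -/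
theorem upper_of_nilpotent_conj [Finite F] (D : Subgroup (GL (Fin 2) F))
    (hD : Group.IsNilpotent ↥D) (g : GL (Fin 2) F) (hu : g * tr2 (1 : F) * g⁻¹ ∈ D)
    (a : GL (Fin 2) F) (ha : a ∈ D) :
    ((g⁻¹ * a * g : GL (Fin 2) F) : Matrix (Fin 2) (Fin 2) F) 1 0 = 0 ∧
      ((g⁻¹ * a * g : GL (Fin 2) F) : Matrix (Fin 2) (Fin 2) F) 0 0 =
        ((g⁻¹ * a * g : GL (Fin 2) F) : Matrix (Fin 2) (Fin 2) F) 1 1 := by
  obtain ⟨f, hf⟩ : ∃ f : GL (Fin 2) F →* GL (Fin 2) F, f = (MulAut.conj g⁻¹).toMonoidHom :=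
    ⟨_, rfl⟩
  have hfa : ∀ x, f x = g⁻¹ * x * g := by
    intro x; rw [hf]; simp
  have hD' : Group.IsNilpotent ↥(D.map f) := by
    obtain ⟨c, hc⟩ := (Subgroup.isNilpotent_iff_lowerCentralSeries D).mp hD
    apply (Subgroup.isNilpotent_iff_lowerCentralSeries (D.map f)).mpr
    refine ⟨c, ?_⟩
    rw [← Subgroup.map_lowerCentralSeries, hc, Subgroup.map_bot]
  have hu' : tr2 (1 : F) ∈ D.map f := by
    refine ⟨g * tr2 (1 : F) * g⁻¹, hu, ?_⟩
    rw [hfa]; group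
  have ha' : g⁻¹ * a * g ∈ D.map f := ⟨a, ha, hfa a⟩
  exact upper_of_nilpotent (D.map f) hD' hu' _ ha'

/-- representatives of the points of the projective line, as elements of `SL_2` -/
def gS : Option F → Matrix.SpecialLinearGroup (Fin 2) F
  | none => 1
  | some c => ⟨!![c, -1; 1, 0], by simp [Matrix.det_fin_two_of]⟩

/-- the inverses of `gS` -/
def gSi : Option F → Matrix.SpecialLinearGroup (Fin 2) F
  | none => 1
  | some c => ⟨!![0, 1; -1, c], by simp [Matrix.det_fin_two_of]⟩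

theorem gS_mul_gSi (i : Option F) : gS i * gSi i = 1 := by
  cases i with
  | none => simp [gS, gSi]
  | some c =>
    apply Subtype.ext
    change !![c, -1; 1, 0] * !![0, 1; -1, c] = (1 : Matrix (Fin 2) (Fin 2) F)
    ext i j
    fin_cases i <;> fin_cases j <;> simp [Matrix.mul_apply, Fin.sum_univ_two]

theorem gS_inv (i : Option F) : (gS i)⁻¹ = gSi i := inv_eq_of_mul_eq_one_right (gS_mul_gSi i)

/-- the conjugate transvections -/
def ugS (i : Option F) : Matrix.SpecialLinearGroup (Fin 2) F := gS i * tr2SL 1 * gSi i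

/-- `gS i` in `GL_2` -/
def gG (i : Option F) : GL (Fin 2) F := Matrix.SpecialLinearGroup.toGL (gS i)

/-- `ugS i` in `GL_2` -/
def ugG (i : Option F) : GL (Fin 2) F := Matrix.SpecialLinearGroup.toGL (ugS i)

theorem ugG_eq (i : Option F) : ugG i = gG i * tr2 (1 : F) * (gG i)⁻¹ := by
  unfold ugG ugS gG tr2
  rw [map_mul, map_mul, ← gS_inv, map_inv]

theorem ugG_val_none : (ugG (none : Option F) : Matrix (Fin 2) (Fin 2) F) = !![1, 1; 0, 1] := by
  change (1 : Matrix (Fin 2) (Fin 2) F) * !![1, 1; 0, 1] * 1 = _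
  rw [one_mul, mul_one]

theorem ugG_val_some (c : F) :
    (ugG (some c) : Matrix (Fin 2) (Fin 2) F) = !![1 - c, c ^ 2; -1, 1 + c] := by
  change !![c, -1; 1, 0] * !![1, 1; 0, 1] * !![0, 1; -1, c] = _
  ext i j
  fin_cases i <;> fin_cases j <;> simp [Matrix.mul_apply, Fin.sum_univ_two] <;> ring

theorem pr_toGL_mem (s : Matrix.SpecialLinearGroup (Fin 2) F) :
    pr 2 F (Matrix.SpecialLinearGroup.toGL s) ∈ slImage 2 F :=
  ⟨_, ⟨s, rfl⟩, rfl⟩

/-- elements `g [[α,β],[0,α]] g⁻¹` with `g ∈ SL_2` map into the image of `SL_2` -/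
theorem pr_mem_slImage_of_upper (s : Matrix.SpecialLinearGroup (Fin 2) F) (a : GL (Fin 2) F)
    (h10 : (((Matrix.SpecialLinearGroup.toGL s)⁻¹ * a * Matrix.SpecialLinearGroup.toGL s :
      GL (Fin 2) F) : Matrix (Fin 2) (Fin 2) F) 1 0 = 0)
    (hd : (((Matrix.SpecialLinearGroup.toGL s)⁻¹ * a * Matrix.SpecialLinearGroup.toGL s :
      GL (Fin 2) F) : Matrix (Fin 2) (Fin 2) F) 0 0 =
        (((Matrix.SpecialLinearGroup.toGL s)⁻¹ * a * Matrix.SpecialLinearGroup.toGL s :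
      GL (Fin 2) F) : Matrix (Fin 2) (Fin 2) F) 1 1) :
    pr 2 F a ∈ slImage 2 F := by
  obtain ⟨g, hg⟩ : ∃ g : GL (Fin 2) F, g = Matrix.SpecialLinearGroup.toGL s := ⟨_, rfl⟩
  rw [← hg] at h10 hd
  obtain ⟨a', ha'⟩ : ∃ a' : GL (Fin 2) F, a' = g⁻¹ * a * g := ⟨_, rfl⟩
  rw [← ha'] at h10 hd
  obtain ⟨α, hα⟩ : ∃ α : F, α = (a' : Matrix (Fin 2) (Fin 2) F) 0 0 := ⟨_, rfl⟩
  obtain ⟨β, hβ⟩ : ∃ β : F, β = (a' : Matrix (Fin 2) (Fin 2) F) 0 1 := ⟨_, rfl⟩
  have hA : (a' : Matrix (Fin 2) (Fin 2) F) = !![α, β; 0, α] := by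
    have := eta2 (a' : Matrix (Fin 2) (Fin 2) F) h10
    rw [← hd, ← hα, ← hβ] at this
    exact this
  have hα0 : α ≠ 0 := by
    intro h
    apply gl_det_ne_zero a'
    rw [hA, Matrix.det_fin_two_of, h]
    ring
  have h1 : pr 2 F (tr2 (β / α)) = pr 2 F a' := by
    rw [pr_eq_iff]
    refine ⟨α, hα0, ?_⟩
    rw [hA, tr2_val]
    ext i j
    fin_cases i <;> fin_cases j <;> simp
    field_simp
  have h2 : a = g * a' * g⁻¹ := by rw [ha']; group
  rw [h2, map_mul, map_mul, ← h1, map_inv]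
  apply Subgroup.mul_mem _ (Subgroup.mul_mem _ _ _) (Subgroup.inv_mem _ _)
  · rw [hg]; exact pr_toGL_mem s
  · exact pr_toGL_mem (tr2SL (β / α))
  · rw [hg]; exact pr_toGL_mem s

/-- groups strictly between `PSL_2` and `PGL_2` have no nilpotent minimal cover -/
theorem case_two_big [Finite F]
    (G : Subgroup (GL (Fin 2) F ⧸ Subgroup.center (GL (Fin 2) F)))
    (hG : slImage 2 F ≤ G) (hnot : ¬ G ≤ slImage 2 F) : ¬ HasNilpMinCover ↥G := by
  have memG : ∀ i : Option F, pr 2 F (ugG i) ∈ G := fun i => hG (pr_toGL_mem _)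
  have inH : ∀ (A : Subgroup ↥G), Group.IsNilpotent ↥A → ∀ i : Option F,
      (⟨pr 2 F (ugG i), memG i⟩ : ↥G) ∈ A → A ≤ (slImage 2 F).subgroupOf G := by
    intro A hA i hcA x hx
    rw [Subgroup.mem_subgroupOf]
    obtain ⟨a, ha, hax⟩ := exists_lift G A x hx
    rw [← hax]
    have hu : gG i * tr2 (1 : F) * (gG i)⁻¹ ∈ lift G A := by
      rw [← ugG_eq]; exact (mem_lift G A _).mpr ⟨memG i, hcA⟩
    obtain ⟨h10, hd⟩ := upper_of_nilpotent_conj (lift G A) (lift_nilpotent G A hA) (gG i) hu a ha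
    exact pr_mem_slImage_of_upper (gS i) a h10 hd
  apply pair_trick (⟨pr 2 F (ugG none), memG none⟩ : ↥G) ⟨pr 2 F (ugG (some 0)), memG (some 0)⟩
    ((slImage 2 F).subgroupOf G)
  · rw [Ne, Subgroup.subgroupOf_eq_top]; exact hnot
  · intro A hA hcA
    exact inH A hA none hcA
  · intro A hA hcA
    exact inH A hA (some 0) hcA
  · intro A hA hcA hcA'
    have hu : tr2 (1 : F) ∈ lift G A := by
      have h1 : ugG (none : Option F) = tr2 (1 : F) := by
        apply Units.ext; rw [ugG_val_none, tr2_val]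
      rw [← h1]; exact (mem_lift G A _).mpr ⟨memG none, hcA⟩
    have hu' : ugG (some (0 : F)) ∈ lift G A := (mem_lift G A _).mpr ⟨memG (some 0), hcA'⟩
    have := (upper_of_nilpotent (lift G A) (lift_nilpotent G A hA) hu _ hu').1
    rw [ugG_val_some] at this
    simp at this

end Cfsg.Agent.Helper19.Pgl
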