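import Mathlib
import Cfsg.Agent.Helper19.PglD

/-! `PSL_2(F)`: eigenvector lemmas for nilpotent subgroups containing a split torus element. -/

set_option autoImplicit false

namespace Cfsg.Agent.Helper19.Pgl

open Matrix
open Cfsg.Agent.Helper19.NilCov Cfsg.Agent.Helper11.SzCover

variable {F : Type*} [Field F]

/-- entrywise eigenvector lemma -/
theorem eig_lemma2 (g0 g1 g2 g3 z0 z1 z2 z3 κz κg θ v0 v1 μ : F) (hκz : κz ≠ 0) (hκg : κg ≠ 0)
    (hdz : z0 * z3 - z1 * z2 = κz ^ 2) (hdg : g0 * g3 - g1 * g2 = κg ^ 2)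
    (hns : ¬ (z1 = 0 ∧ z2 = 0 ∧ z0 = z3)) (hv : v0 ≠ 0 ∨ v1 ≠ 0)
    (hzv0 : z0 * v0 + z1 * v1 = θ * v0) (hzv1 : z2 * v0 + z3 * v1 = θ * v1)
    (h00 : g0 * z0 + g1 * z2 = μ * (z0 * g0 + z1 * g2))
    (h01 : g0 * z1 + g1 * z3 = μ * (z0 * g1 + z1 * g3))
    (h10 : g2 * z0 + g3 * z2 = μ * (z2 * g0 + z3 * g2))
    (h11 : g2 * z1 + g3 * z3 = μ * (z2 * g1 + z3 * g3)) :
    ∃ w0 w1 l : F, (w0 ≠ 0 ∨ w1 ≠ 0) ∧ g0 * w0 + g1 * w1 = l * w0 ∧ g2 * w0 + g3 * w1 = l * w1 := by
  by_cases hμ : μ = 1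
  · subst hμ
    -- w' = g v
    obtain ⟨w0, hw0⟩ : ∃ w0, w0 = g0 * v0 + g1 * v1 := ⟨_, rfl⟩
    obtain ⟨w1, hw1⟩ : ∃ w1, w1 = g2 * v0 + g3 * v1 := ⟨_, rfl⟩
    have hzw0 : z0 * w0 + z1 * w1 = θ * w0 := by
      rw [hw0, hw1]
      linear_combination g0 * hzv0 + g1 * hzv1 - v0 * h00 - v1 * h01
    have hzw1 : z2 * w0 + z3 * w1 = θ * w1 := by
      rw [hw0, hw1]
      linear_combination g2 * hzv0 + g3 * hzv1 - v0 * h10 - v1 * h11
    by_cases hdet : v0 * w1 - v1 * w0 = 0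
    · -- w' proportional to v
      rcases hv with hv0 | hv1
      · refine ⟨v0, v1, w0 / v0, Or.inl hv0, ?_, ?_⟩
        · rw [← hw0]; field_simp
        · rw [← hw1]; field_simp; linear_combination hdet
      · refine ⟨v0, v1, w1 / v1, Or.inr hv1, ?_, ?_⟩
        · rw [← hw0]; field_simp; linear_combination -hdet
        · rw [← hw1]; field_simp
    · exfalso
      apply hns
      have e1 : (z0 - θ) * (v0 * w1 - v1 * w0) = 0 := by
        linear_combination w1 * hzv0 - v1 * hzw0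
      have e2 : z1 * (v0 * w1 - v1 * w0) = 0 := by
        linear_combination v0 * hzw0 - w0 * hzv0
      have e3 : z2 * (v0 * w1 - v1 * w0) = 0 := by
        linear_combination w1 * hzv1 - v1 * hzw1
      have e4 : (z3 - θ) * (v0 * w1 - v1 * w0) = 0 := by
        linear_combination v0 * hzw1 - w0 * hzv1
      have f1 := (mul_eq_zero.mp e1).resolve_right hdet
      have f2 := (mul_eq_zero.mp e2).resolve_right hdet
      have f3 := (mul_eq_zero.mp e3).resolve_right hdet
      have f4 := (mul_eq_zero.mp e4).resolve_right hdet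
      exact ⟨f2, f3, by linear_combination f1 - f4⟩
  · -- μ = -1
    have hdd : (g0 * g3 - g1 * g2) * (z0 * z3 - z1 * z2) =
        μ ^ 2 * ((z0 * z3 - z1 * z2) * (g0 * g3 - g1 * g2)) := by
      calc (g0 * g3 - g1 * g2) * (z0 * z3 - z1 * z2)
          = (g0 * z0 + g1 * z2) * (g2 * z1 + g3 * z3) - (g0 * z1 + g1 * z3) * (g2 * z0 + g3 * z2) := by
            ring
        _ = (μ * (z0 * g0 + z1 * g2)) * (μ * (z2 * g1 + z3 * g3)) -
            (μ * (z0 * g1 + z1 * g3)) * (μ * (z2 * g0 + z3 * g2)) := by rw [h00, h01, h10, h11]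
        _ = μ ^ 2 * ((z0 * z3 - z1 * z2) * (g0 * g3 - g1 * g2)) := by ring
    rw [hdz, hdg] at hdd
    have hμ2 : μ ^ 2 = 1 := by
      have h1 : κg ^ 2 * κz ^ 2 ≠ 0 := mul_ne_zero (pow_ne_zero 2 hκg) (pow_ne_zero 2 hκz)
      have h2 : (μ ^ 2 - 1) * (κg ^ 2 * κz ^ 2) = 0 := by linear_combination -hdd
      have := (mul_eq_zero.mp h2).resolve_right h1
      linear_combination this
    have hμm : μ = -1 := by
      have h1 : (μ - 1) * (μ + 1) = 0 := by linear_combination hμ2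
      have := (mul_eq_zero.mp h1).resolve_left (sub_ne_zero.mpr hμ)
      linear_combination this
    subst hμm
    have h2 : (2 : F) ≠ 0 := by
      intro h
      apply hμ
      linear_combination -h
    -- traces vanish
    have htg : g0 + g3 = 0 := by
      have h1 : 2 * (g0 + g3) * (z0 * z3 - z1 * z2) = 0 := by
        linear_combination z3 * h00 - z2 * h01 - z1 * h10 + z0 * h11
      rw [hdz] at h1
      have := (mul_eq_zero.mp h1).resolve_right (pow_ne_zero 2 hκz)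
      exact (mul_eq_zero.mp this).resolve_left h2
    have htz : z0 + z3 = 0 := by
      have h1 : 2 * (z0 + z3) * (g0 * g3 - g1 * g2) = 0 := by
        linear_combination g3 * h00 - g1 * h10 - g2 * h01 + g0 * h11
      rw [hdg] at h1
      have := (mul_eq_zero.mp h1).resolve_right (pow_ne_zero 2 hκg)
      exact (mul_eq_zero.mp this).resolve_left h2
    have hz3 : z3 = -z0 := by linear_combination htz
    have hg3 : g3 = -g0 := by linear_combination htg
    subst hz3 hg3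
    -- θ² = z0² + z1 z2 = -κz²
    have hθ : θ ^ 2 = -κz ^ 2 := by
      have e0 : (z0 ^ 2 + z1 * z2 - θ ^ 2) * v0 = 0 := by
        linear_combination (z0 + θ) * hzv0 + z1 * hzv1
      have e1 : (z0 ^ 2 + z1 * z2 - θ ^ 2) * v1 = 0 := by
        linear_combination z2 * hzv0 + (θ - z0) * hzv1
      have : z0 ^ 2 + z1 * z2 - θ ^ 2 = 0 := by
        rcases hv with hv0 | hv1
        · exact (mul_eq_zero.mp e0).resolve_right hv0
        · exact (mul_eq_zero.mp e1).resolve_right hv1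
      linear_combination -this - hdz
    obtain ⟨l, hl⟩ : ∃ l, l = θ / κz * κg := ⟨_, rfl⟩
    have hl2 : l ^ 2 = g0 ^ 2 + g1 * g2 := by
      have hlk : l * κz = θ * κg := by rw [hl]; field_simp
      have h3 : (l ^ 2 + κg ^ 2) * κz ^ 2 = 0 := by
        linear_combination (l * κz + θ * κg) * hlk + κg ^ 2 * hθ
      have : l ^ 2 + κg ^ 2 = 0 := (mul_eq_zero.mp h3).resolve_right (pow_ne_zero 2 hκz)
      linear_combination this + hdg
    have hl0 : l ≠ 0 := by
      intro h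
      rw [h] at hl2
      apply pow_ne_zero 2 hκg
      linear_combination -hdg + hl2
    by_cases hw : g1 = 0 ∧ l - g0 = 0
    · obtain ⟨hg1, hg0⟩ := hw
      refine ⟨2 * l, g2, l, Or.inl (mul_ne_zero h2 hl0), ?_, ?_⟩
      · rw [hg1]; linear_combination (-2 * l) * hg0
      · linear_combination g2 * hg0
    · refine ⟨g1, l - g0, l, ?_, ?_, ?_⟩
      · by_contra hcon
        push Not at hcon
        exact hw hcon
      · ring
      · linear_combination -hl2

theorem mulVec_two (M : Matrix (Fin 2) (Fin 2) F) (v : Fin 2 → F) (i : Fin 2) :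
    (M *ᵥ v) i = M i 0 * v 0 + M i 1 * v 1 := by
  simp [Matrix.mulVec, dotProduct, Fin.sum_univ_two]

theorem ne_zero_two (v : Fin 2 → F) (hv : v ≠ 0) : v 0 ≠ 0 ∨ v 1 ≠ 0 := by
  by_contra h
  push Not at h
  apply hv
  funext i
  fin_cases i
  · exact h.1
  · exact h.2

/-- matrix form of the eigenvector lemma -/
theorem eig_lemma (g z : GL (Fin 2) F) (κz κg : F)
    (hdz : (z : Matrix (Fin 2) (Fin 2) F).det = κz ^ 2)
    (hdg : (g : Matrix (Fin 2) (Fin 2) F).det = κg ^ 2) (hzns : pr 2 F z ≠ 1)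
    (v : Fin 2 → F) (hv : v ≠ 0) (θ : F) (hzv : (z : Matrix (Fin 2) (Fin 2) F) *ᵥ v = θ • v)
    (μ : F) (hcomm : ((g * z : GL (Fin 2) F) : Matrix (Fin 2) (Fin 2) F) =
      μ • ((z * g : GL (Fin 2) F) : Matrix (Fin 2) (Fin 2) F)) :
    ∃ w : Fin 2 → F, w ≠ 0 ∧ ∃ l : F, (g : Matrix (Fin 2) (Fin 2) F) *ᵥ w = l • w := by
  have hκz : κz ≠ 0 := by
    intro h
    apply gl_det_ne_zero z
    rw [hdz, h]; ring
  have hκg : κg ≠ 0 := by
    intro h
    apply gl_det_ne_zero g
    rw [hdg, h]; ring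
  rw [Matrix.det_fin_two] at hdz hdg
  have hns : ¬ ((z : Matrix (Fin 2) (Fin 2) F) 0 1 = 0 ∧ (z : Matrix (Fin 2) (Fin 2) F) 1 0 = 0 ∧
      (z : Matrix (Fin 2) (Fin 2) F) 0 0 = (z : Matrix (Fin 2) (Fin 2) F) 1 1) := by
    rintro ⟨h1, h2, h3⟩
    apply hzns
    have : pr 2 F 1 = pr 2 F z := by
      rw [pr_eq_iff]
      refine ⟨(z : Matrix (Fin 2) (Fin 2) F) 0 0, ?_, ?_⟩
      · intro h
        apply pow_ne_zero 2 hκz
        rw [← hdz, h1, ← h3, h]; ring
      · ext i j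
        fin_cases i <;> fin_cases j <;> simp [h1, h2, h3]
    rw [← this, map_one]
  have hz0 := congrFun hzv 0
  have hz1 := congrFun hzv 1
  rw [mulVec_two, Pi.smul_apply, smul_eq_mul] at hz0 hz1
  rw [Units.val_mul, Units.val_mul] at hcomm
  have c00 := congrFun (congrFun hcomm 0) 0
  have c01 := congrFun (congrFun hcomm 0) 1
  have c10 := congrFun (congrFun hcomm 1) 0
  have c11 := congrFun (congrFun hcomm 1) 1
  simp only [Matrix.mul_apply, Fin.sum_univ_two, Matrix.smul_apply, smul_eq_mul] at c00 c01 c10 c11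
  obtain ⟨w0, w1, l, hw, e0, e1⟩ := eig_lemma2 _ _ _ _ _ _ _ _ κz κg θ (v 0) (v 1) μ hκz hκg hdz hdg
    hns (ne_zero_two v hv) hz0 hz1 c00 c01 c10 c11
  refine ⟨![w0, w1], ?_, l, ?_⟩
  · intro h
    rcases hw with hw | hw
    · apply hw
      have := congrFun h 0
      simpa using this
    · apply hw
      have := congrFun h 1
      simpa using this
  · funext i
    rw [mulVec_two, Pi.smul_apply, smul_eq_mul]
    fin_cases i
    · simpa using e0
    · simpa using e1

end Cfsg.Agent.Helper19.Pgl
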