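import Mathlib
import Cfsg.Agent.Helper19.PglE

/-! `PSL_2(F)`, `|F| ≥ 4`: no nilpotent minimal cover (Borel replacement). -/

set_option autoImplicit false

namespace Cfsg.Agent.Helper19.Pgl

open Matrix
open Cfsg.Agent.Helper19.NilCov Cfsg.Agent.Helper11.SzCover

variable {F : Type*} [Field F]

theorem det_sq_of_mem_slImage (b : GL (Fin 2) F) (h : pr 2 F b ∈ slImage 2 F) :
    ∃ κ : F, (b : Matrix (Fin 2) (Fin 2) F).det = κ ^ 2 := by
  obtain ⟨_, ⟨s, rfl⟩, hs⟩ := h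
  obtain ⟨c, -, hc⟩ := (pr_eq_iff _ _).mp hs
  refine ⟨c, ?_⟩
  rw [hc, Matrix.det_smul]
  have : (Matrix.SpecialLinearGroup.toGL s : Matrix (Fin 2) (Fin 2) F).det = 1 := s.2
  rw [this]
  simp

/-- representatives of the points of the projective line -/
def vL : Option F → (Fin 2 → F)
  | none => ![1, 0]
  | some c => ![c, 1]

theorem vL_ne_zero (i : Option F) : vL i ≠ 0 := by
  cases i with
  | none =>
    intro h
    have := congrFun h 0
    simp [vL] at this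
  | some c =>
    intro h
    have := congrFun h 1
    simp [vL] at this

theorem gG_mulVec_e0 (i : Option F) :
    (gG i : Matrix (Fin 2) (Fin 2) F) *ᵥ ![1, 0] = vL i := by
  cases i with
  | none =>
    change (1 : Matrix (Fin 2) (Fin 2) F) *ᵥ ![1, 0] = _
    rw [Matrix.one_mulVec]; rfl
  | some c =>
    change !![c, -1; 1, 0] *ᵥ ![1, 0] = _
    funext k
    rw [mulVec_two]
    fin_cases k <;> simp [vL]

/-- every nonzero vector is proportional to some `vL i` -/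
theorem exists_vL (w : Fin 2 → F) (hw : w ≠ 0) : ∃ i : Option F, ∃ μ : F, μ ≠ 0 ∧ w = μ • vL i := by
  by_cases h1 : w 1 = 0
  · have h0 : w 0 ≠ 0 := by
      rcases ne_zero_two w hw with h | h
      · exact h
      · exact absurd h1 h
    refine ⟨none, w 0, h0, ?_⟩
    funext k
    fin_cases k <;> simp [vL, h1]
  · refine ⟨some (w 0 / w 1), w 1, h1, ?_⟩
    funext k
    fin_cases k <;> simp [vL]
    field_simp

/-- the line stabiliser of `vL i` -/
def KL (i : Option F) : Subgroup (GL (Fin 2) F) := lineStab (colRep 2 F) (vL i) (vL_ne_zero i)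

theorem mem_KL (i : Option F) (g : GL (Fin 2) F) :
    g ∈ KL i ↔ ∃ c : F, (g : Matrix (Fin 2) (Fin 2) F) *ᵥ vL i = c • vL i := Iff.rfl

theorem center_le_KL (i : Option F) : Subgroup.center (GL (Fin 2) F) ≤ KL i :=
  center_le_lineStab_col _ _

/-- `ugG j` stabilises only the line of `vL j` -/
theorem ugG_mem_KL (i j : Option F) (h : ugG j ∈ KL i) : i = j := by
  rw [mem_KL] at h
  obtain ⟨l, hl⟩ := h
  have e0 := congrFun hl 0
  have e1 := congrFun hl 1
  rw [mulVec_two, Pi.smul_apply, smul_eq_mul] at e0 e1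
  cases i with
  | none =>
    cases j with
    | none => rfl
    | some c' =>
      exfalso
      rw [ugG_val_some] at e1
      simp [vL] at e1
  | some c =>
    cases j with
    | none =>
      exfalso
      rw [ugG_val_none] at e0 e1
      simp [vL] at e0 e1
      rw [← e1] at e0
      simp at e0
    | some c' =>
      rw [ugG_val_some] at e0 e1
      simp [vL] at e0 e1
      have : (c - c') ^ 2 = 0 := by
        rw [← e1] at e0
        linear_combination e0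
      have := pow_eq_zero_iff (two_ne_zero) |>.mp this
      rw [sub_eq_zero.mp this]

/-- elements of nilpotent subgroups containing `pr (ugG i)` stabilise the line of `vL i` -/
theorem lift_le_KL [Finite F] (G : Subgroup (GL (Fin 2) F ⧸ Subgroup.center (GL (Fin 2) F)))
    (A : Subgroup ↥G) (hA : Group.IsNilpotent ↥A) (i : Option F) (hu : ugG i ∈ lift G A)
    (a : GL (Fin 2) F) (ha : a ∈ lift G A) : a ∈ KL i := by
  rw [ugG_eq] at hu
  obtain ⟨h10, -⟩ := upper_of_nilpotent_conj (lift G A) (lift_nilpotent G A hA) (gG i) hu a ha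
  obtain ⟨a', ha'⟩ : ∃ a' : GL (Fin 2) F, a' = (gG i)⁻¹ * a * gG i := ⟨_, rfl⟩
  rw [← ha'] at h10
  have h1 : a * gG i = gG i * a' := by rw [ha']; group
  have h2 : (a : Matrix (Fin 2) (Fin 2) F) * (gG i : Matrix (Fin 2) (Fin 2) F) =
      (gG i : Matrix (Fin 2) (Fin 2) F) * (a' : Matrix (Fin 2) (Fin 2) F) := by
    rw [← Units.val_mul, ← Units.val_mul, h1]
  rw [mem_KL]
  refine ⟨(a' : Matrix (Fin 2) (Fin 2) F) 0 0, ?_⟩
  have h3 : (a' : Matrix (Fin 2) (Fin 2) F) *ᵥ ![1, 0] =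
      (a' : Matrix (Fin 2) (Fin 2) F) 0 0 • ![1, 0] := by
    funext k
    rw [mulVec_two]
    fin_cases k <;> simp [h10]
  rw [← gG_mulVec_e0, Matrix.mulVec_mulVec, h2, ← Matrix.mulVec_mulVec, h3, Matrix.mulVec_smul]

/-- the split torus element `diag(a, a⁻¹)` in `SL_2` -/
def tS (a : F) (ha : a ≠ 0) : Matrix.SpecialLinearGroup (Fin 2) F :=
  ⟨!![a, 0; 0, a⁻¹], by simp [Matrix.det_fin_two_of, ha]⟩

/-- the split torus element `diag(a, a⁻¹)` in `GL_2` -/
def tG (a : F) (ha : a ≠ 0) : GL (Fin 2) F := Matrix.SpecialLinearGroup.toGL (tS a ha)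

theorem tG_val (a : F) (ha : a ≠ 0) :
    (tG a ha : Matrix (Fin 2) (Fin 2) F) = !![a, 0; 0, a⁻¹] := rfl

theorem inv_ne_self (a : F) (ha : a ≠ 0) (ha2 : a ^ 2 ≠ 1) : a ≠ a⁻¹ := by
  intro h
  apply ha2
  rw [pow_two]
  nth_rewrite 2 [h]
  exact mul_inv_cancel₀ ha

theorem pr_tG_ne_one (a : F) (ha : a ≠ 0) (ha2 : a ^ 2 ≠ 1) : pr 2 F (tG a ha) ≠ 1 := by
  intro h
  have h1 : pr 2 F 1 = pr 2 F (tG a ha) := by rw [h, map_one]
  obtain ⟨c, -, hc⟩ := (pr_eq_iff _ _).mp h1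
  rw [tG_val] at hc
  have e0 := congrFun (congrFun hc 0) 0
  have e1 := congrFun (congrFun hc 1) 1
  simp at e0 e1
  exact inv_ne_self a ha ha2 (e0.trans e1.symm)

theorem conj_trace_det (g t : GL (Fin 2) F) :
    ((g⁻¹ * t * g : GL (Fin 2) F) : Matrix (Fin 2) (Fin 2) F).trace =
        (t : Matrix (Fin 2) (Fin 2) F).trace ∧
      ((g⁻¹ * t * g : GL (Fin 2) F) : Matrix (Fin 2) (Fin 2) F).det =
        (t : Matrix (Fin 2) (Fin 2) F).det := by
  have h1 : (g : Matrix (Fin 2) (Fin 2) F) * (↑g⁻¹ : Matrix (Fin 2) (Fin 2) F) = 1 := g.mul_inv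
  constructor
  · rw [Units.val_mul, Units.val_mul, Matrix.trace_mul_comm, ← Matrix.mul_assoc, h1, Matrix.one_mul]
  · rw [Units.val_mul, Units.val_mul, Matrix.det_mul, Matrix.det_mul, mul_comm, ← mul_assoc,
      ← Matrix.det_mul, h1, Matrix.det_one, one_mul]

/-- a split torus element is not in a nilpotent subgroup containing a transvection -/
theorem tG_not_mem [Finite F] (G : Subgroup (GL (Fin 2) F ⧸ Subgroup.center (GL (Fin 2) F)))
    (A : Subgroup ↥G) (hA : Group.IsNilpotent ↥A) (i : Option F) (hu : ugG i ∈ lift G A)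
    (a : F) (ha : a ≠ 0) (ha2 : a ^ 2 ≠ 1) : tG a ha ∉ lift G A := by
  intro ht
  rw [ugG_eq] at hu
  obtain ⟨h10, hd⟩ :=
    upper_of_nilpotent_conj (lift G A) (lift_nilpotent G A hA) (gG i) hu (tG a ha) ht
  obtain ⟨htr, hdet⟩ := conj_trace_det (gG i) (tG a ha)
  obtain ⟨t', ht'⟩ : ∃ t' : GL (Fin 2) F, t' = (gG i)⁻¹ * tG a ha * gG i := ⟨_, rfl⟩
  rw [← ht'] at h10 hd htr hdet
  rw [Matrix.trace_fin_two, tG_val] at htr
  rw [Matrix.det_fin_two, tG_val, Matrix.det_fin_two_of, h10] at hdet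
  simp at htr hdet
  rw [mul_inv_cancel₀ ha] at hdet
  rw [← hd] at htr hdet
  have h1 : (a - a⁻¹) ^ 2 = 0 := by
    have h2 : a * a⁻¹ = 1 := mul_inv_cancel₀ ha
    linear_combination (-(a + a⁻¹) - 2 * (t' : Matrix (Fin 2) (Fin 2) F) 0 0) * htr + 4 * hdet
      - 4 * h2
  have := pow_eq_zero_iff (two_ne_zero) |>.mp h1
  exact inv_ne_self a ha ha2 (sub_eq_zero.mp this)

/-- all elements of a nilpotent subgroup of `PSL_2` containing a split torus element have
eigenvectors -/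
theorem exists_eig [Finite F] (G : Subgroup (GL (Fin 2) F ⧸ Subgroup.center (GL (Fin 2) F)))
    (hG' : G ≤ slImage 2 F) (A : Subgroup ↥G) (hA : Group.IsNilpotent ↥A)
    (a : F) (ha : a ≠ 0) (ha2 : a ^ 2 ≠ 1) (ht : tG a ha ∈ lift G A)
    (b : GL (Fin 2) F) (hb : b ∈ lift G A) :
    ∃ w : Fin 2 → F, w ≠ 0 ∧ ∃ l : F, (b : Matrix (Fin 2) (Fin 2) F) *ᵥ w = l • w := by
  obtain ⟨htG, htA⟩ := (mem_lift G A _).mp ht
  have hnt : Nontrivial ↥A := by
    refine ⟨⟨⟨⟨pr 2 F (tG a ha), htG⟩, htA⟩, 1, ?_⟩⟩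
    intro h
    apply pr_tG_ne_one a ha ha2
    exact congrArg (fun x : ↥A => ((x : ↥G) : GL (Fin 2) F ⧸ Subgroup.center (GL (Fin 2) F))) h
  have hc := Group.IsNilpotent.center_ne_bot (G := ↥A)
  obtain ⟨⟨ζ, hζc⟩, hζ1⟩ := (Subgroup.ne_bot_iff_exists_ne_one (H := Subgroup.center ↥A)).mp hc
  have hζ1' : ζ ≠ 1 := fun h => hζ1 (Subtype.ext h)
  obtain ⟨z, hz, hzζ⟩ := exists_lift G A (ζ : ↥G) ζ.2
  have hprz : pr 2 F z ≠ 1 := by
    intro h
    apply hζ1'
    apply Subtype.ext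
    apply Subtype.ext
    rw [← hzζ, h]; rfl
  -- commutation with lifts
  have hcomm : ∀ y ∈ lift G A, ∃ μ : F,
      ((y * z : GL (Fin 2) F) : Matrix (Fin 2) (Fin 2) F) =
        μ • ((z * y : GL (Fin 2) F) : Matrix (Fin 2) (Fin 2) F) := by
    intro y hy
    obtain ⟨hyG, hyA⟩ := (mem_lift G A _).mp hy
    have h1 := (Subgroup.mem_center_iff.mp hζc) ⟨⟨pr 2 F y, hyG⟩, hyA⟩
    have h2 : pr 2 F y * pr 2 F z = pr 2 F z * pr 2 F y := by
      have := congrArg (fun x : ↥A => ((x : ↥G) : GL (Fin 2) F ⧸ Subgroup.center (GL (Fin 2) F))) h1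
      simp only [Subgroup.coe_mul] at this
      rw [← hzζ] at this
      exact this
    rw [← map_mul, ← map_mul] at h2
    obtain ⟨μ, -, hμ⟩ := (pr_eq_iff _ _).mp h2.symm
    exact ⟨μ, hμ⟩
  have hdet : ∀ y ∈ lift G A, ∃ κ : F, (y : Matrix (Fin 2) (Fin 2) F).det = κ ^ 2 := by
    intro y hy
    obtain ⟨hyG, -⟩ := (mem_lift G A _).mp hy
    exact det_sq_of_mem_slImage y (hG' hyG)
  obtain ⟨κz, hκz⟩ := hdet z hz
  -- step A: `z` has an eigenvector
  obtain ⟨v, hv, θ, hzv⟩ : ∃ v : Fin 2 → F, v ≠ 0 ∧ ∃ θ : F,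
      (z : Matrix (Fin 2) (Fin 2) F) *ᵥ v = θ • v := by
    -- `t z = μ z t`, i.e. `z t = μ⁻¹ ...`; use commutation of `t` as the `y`
    obtain ⟨μ, hμ⟩ := hcomm (tG a ha) ht
    -- we need `(z * t) = μ' • (t * z)`
    have hμ0 : μ ≠ 0 := by
      rintro rfl
      rw [zero_smul] at hμ
      apply gl_det_ne_zero (tG a ha * z)
      rw [hμ, Matrix.det_zero]
    have hμ' : ((z * tG a ha : GL (Fin 2) F) : Matrix (Fin 2) (Fin 2) F) =
        μ⁻¹ • ((tG a ha * z : GL (Fin 2) F) : Matrix (Fin 2) (Fin 2) F) := by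
      rw [hμ, smul_smul, inv_mul_cancel₀ hμ0, one_smul]
    have hte : (tG a ha : Matrix (Fin 2) (Fin 2) F) *ᵥ ![1, 0] = a • ![1, 0] := by
      funext k
      rw [mulVec_two, tG_val]
      fin_cases k <;> simp
    have hv0 : (![1, 0] : Fin 2 → F) ≠ 0 := by
      intro h
      have := congrFun h 0
      simp at this
    have hdt : (tG a ha : Matrix (Fin 2) (Fin 2) F).det = (1 : F) ^ 2 := by
      rw [one_pow]; exact (tS a ha).2
    exact eig_lemma z (tG a ha) 1 κz hdt hκz (pr_tG_ne_one a ha ha2) ![1, 0] hv0 a hte μ⁻¹ hμ'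
  -- step B
  obtain ⟨κb, hκb⟩ := hdet b hb
  obtain ⟨μ, hμ⟩ := hcomm b hb
  exact eig_lemma b z κz κb hκz hκb hprz v hv θ hzv μ hμ

end Cfsg.Agent.Helper19.Pgl
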