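import Mathlib
import Cfsg.Agent.Helper19.PglF

/-! `PSL_2(F)`, `|F| ≥ 4`: assembly of the Borel replacement argument. -/

set_option autoImplicit false

namespace Cfsg.Agent.Helper19.Pgl

open Matrix
open Cfsg.Agent.Helper19.NilCov Cfsg.Agent.Helper11.SzCover

variable {F : Type*} [Field F]

theorem exists_torus_elt [Fintype F] (hq : 4 ≤ Fintype.card F) : ∃ a : F, a ≠ 0 ∧ a ^ 2 ≠ 1 := by
  classical
  have h1 : (({0, 1, -1} : Finset F)).card < (Finset.univ : Finset F).card := by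
    rw [Finset.card_univ]
    calc ({0, 1, -1} : Finset F).card ≤ 3 := Finset.card_le_three
      _ < Fintype.card F := by omega
  obtain ⟨a, -, ha⟩ := Finset.exists_mem_notMem_of_card_lt_card h1
  simp only [Finset.mem_insert, Finset.mem_singleton, not_or] at ha
  refine ⟨a, ha.1, ?_⟩
  intro h
  have h2 : (a - 1) * (a + 1) = 0 := by linear_combination h
  rcases mul_eq_zero.mp h2 with h3 | h3
  · exact ha.2.1 (sub_eq_zero.mp h3)
  · exact ha.2.2 (eq_neg_of_add_eq_zero_left h3)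

theorem case_two_small [Fintype F] (hq : 4 ≤ Fintype.card F)
    (G : Subgroup (GL (Fin 2) F ⧸ Subgroup.center (GL (Fin 2) F)))
    (hG : slImage 2 F ≤ G) (hG' : G ≤ slImage 2 F) : ¬ HasNilpMinCover ↥G := by
  classical
  rintro ⟨𝓐, hcov, hmin, hnil⟩
  obtain ⟨a, ha0, ha2⟩ := exists_torus_elt hq
  have memG : ∀ i : Option F, pr 2 F (ugG i) ∈ G := fun i => hG (pr_toGL_mem _)
  have memT : pr 2 F (tG a ha0) ∈ G := hG (pr_toGL_mem _)
  choose Afun hAfun using fun i : Option F => hcov.2 ⟨pr 2 F (ugG i), memG i⟩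
  obtain ⟨At, hAt, htAt⟩ := hcov.2 ⟨pr 2 F (tG a ha0), memT⟩
  have huA : ∀ i, ugG i ∈ lift G (Afun i) := fun i =>
    (mem_lift G _ _).mpr ⟨memG i, (hAfun i).2⟩
  have htA : tG a ha0 ∈ lift G At := (mem_lift G _ _).mpr ⟨memT, htAt⟩
  obtain ⟨Hfun, hHfun⟩ : ∃ Hfun : Option F → Subgroup ↥G,
      Hfun = fun i => ((KL i).map (pr 2 F)).subgroupOf G := ⟨_, rfl⟩
  have memH : ∀ (i : Option F) (x : ↥G) (g : GL (Fin 2) F), pr 2 F g = (x : _) →
      (x ∈ Hfun i ↔ g ∈ KL i) := by
    intro i x g hgx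
    rw [hHfun, Subgroup.mem_subgroupOf, ← hgx, pr_mem_map_iff _ (center_le_KL i)]
  have hHne : ∀ i, Hfun i ≠ ⊤ := by
    intro i htop
    obtain ⟨j, hj⟩ : ∃ j : Option F, i ≠ j := by
      cases i with
      | none => exact ⟨some 0, by simp⟩
      | some c => exact ⟨none, by simp⟩
    have h1 : (⟨pr 2 F (ugG j), memG j⟩ : ↥G) ∈ Hfun i := by rw [htop]; exact Subgroup.mem_top _
    rw [memH i _ (ugG j) rfl] at h1
    exact hj (ugG_mem_KL i j h1)
  have hinj : Function.Injective Afun := by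
    intro i j hij
    have h1 : ugG j ∈ lift G (Afun i) := by rw [hij]; exact huA j
    exact ugG_mem_KL i j (lift_le_KL G (Afun i) (hnil _ (hAfun i).1) i (huA i) _ h1)
  have hAt_ne : At ∉ Finset.univ.image Afun := by
    intro h
    obtain ⟨i, -, hi⟩ := Finset.mem_image.mp h
    have h1 : tG a ha0 ∈ lift G (Afun i) := by rw [hi]; exact htA
    exact tG_not_mem G (Afun i) (hnil _ (hAfun i).1) i (huA i) a ha0 ha2 h1
  have key := multi_replace hcov hmin (Finset.univ.image Hfun) (insert At (Finset.univ.image Afun))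
    ?_ ?_ ?_
  · rw [Finset.card_insert_of_notMem hAt_ne, Finset.card_image_of_injective _ hinj] at key
    have := Finset.card_image_le (s := (Finset.univ : Finset (Option F))) (f := Hfun)
    omega
  · intro H hH
    obtain ⟨i, -, rfl⟩ := Finset.mem_image.mp hH
    exact hHne i
  · intro A hA
    rcases Finset.mem_insert.mp hA with rfl | hA
    · exact hAt
    · obtain ⟨i, -, rfl⟩ := Finset.mem_image.mp hA
      exact (hAfun i).1
  · intro A hA x hx
    rcases Finset.mem_insert.mp hA with rfl | hA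
    · obtain ⟨b, hb, hbx⟩ := exists_lift G A x hx
      obtain ⟨w, hw, l, hl⟩ := exists_eig G hG' A (hnil A hAt) a ha0 ha2 htA b hb
      obtain ⟨i, μ, hμ, hwi⟩ := exists_vL w hw
      refine ⟨Hfun i, Finset.mem_image.mpr ⟨i, Finset.mem_univ _, rfl⟩, ?_⟩
      rw [memH i x b hbx, mem_KL]
      refine ⟨l, ?_⟩
      have h5 : μ • ((b : Matrix (Fin 2) (Fin 2) F) *ᵥ vL i) = μ • (l • vL i) := by
        rw [← Matrix.mulVec_smul, ← hwi, hl, hwi, smul_comm]
      exact smul_right_injective _ hμ h5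
    · obtain ⟨i, -, rfl⟩ := Finset.mem_image.mp hA
      obtain ⟨b, hb, hbx⟩ := exists_lift G (Afun i) x hx
      refine ⟨Hfun i, Finset.mem_image.mpr ⟨i, Finset.mem_univ _, rfl⟩, ?_⟩
      rw [memH i x b hbx]
      exact lift_le_KL G (Afun i) (hnil _ (hAfun i).1) i (huA i) b hb

end Cfsg.Agent.Helper19.Pgl
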