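import Cfsg.Agent.Helper5.S0518Defs

set_option autoImplicit false

/-! # S0518 board, piece CASEA: both maximal 2-locals `≅ S₄`. -/

universe u

namespace Cfsg.Agent.S0518P

open Cfsg Subgroup

variable {G : Type u} [Group G]

/-- `N_G(V) = P` -/
theorem CASEA_aux_norm [Finite G] {P T V : Subgroup G} (m : MaxN P) (a : A24 P T V) :
    normalizer (V : Set G) = P := by
  apply m V
  · exact IsPGroup.of_card (n := 2) (by rw [a.card_V]; norm_num)
  · intro h0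
    have := a.card_V
    rw [h0, Subgroup.card_bot] at this
    omega
  · exact a.V_normal

/-- `P ≤ O^2(G)` as soon as `T ≤ O^2(G)` -/
theorem CASEA_aux_le [Finite G] {P T V : Subgroup G} (a : A24 P T V) (hT : T ≤ O2 G) : P ≤ O2 G := by
  have h3 : 3 ∣ Nat.card ↥P := by rw [a.card_P]; norm_num
  have : Fact (Nat.Prime 3) := ⟨by norm_num⟩
  obtain ⟨g, hg⟩ := exists_prime_orderOf_dvd_card' 3 h3
  have hgO : (g : G) ∈ O2 G := by
    apply Subgroup.subset_closure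
    show Odd (orderOf (g : G))
    rw [Subgroup.orderOf_coe, hg]
    decide
  have hmem : (g : G) ∈ O2 G ⊓ P := ⟨hgO, g.2⟩
  have hd3 : 3 ∣ Nat.card ↥(O2 G ⊓ P : Subgroup G) := by
    have := Subgroup.orderOf_dvd_natCard (O2 G ⊓ P) hmem
    rwa [Subgroup.orderOf_coe, hg] at this
  have hd8 : 8 ∣ Nat.card ↥(O2 G ⊓ P : Subgroup G) := by
    have : T ≤ O2 G ⊓ P := le_inf hT a.T_le
    have := Subgroup.card_dvd_of_le this
    rwa [a.card_T] at this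
  have hd24 : 24 ∣ Nat.card ↥(O2 G ⊓ P : Subgroup G) := by
    have : Nat.Coprime 3 8 := by norm_num
    exact this.mul_dvd_of_dvd_of_dvd hd3 hd8
  have heq : O2 G ⊓ P = P := by
    apply Subgroup.eq_of_le_of_card_ge inf_le_right
    rw [a.card_P]
    exact Nat.le_of_dvd Nat.card_pos hd24
  rw [← heq]
  exact inf_le_left

theorem CASEA_aux_oddGen_le (P : Subgroup G) : oddGen P ≤ O2 G := by
  unfold oddGen O2
  apply Subgroup.closure_mono
  rintro g ⟨_, hg⟩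
  exact hg

/-- `P` is a maximal 2-local of `O^2(G)` -/
theorem CASEA_aux_max [Finite G] {P T V : Subgroup G} (m : MaxN P) (a : A24 P T V) (hT : T ≤ O2 G) :
    IsMaxTwoLocalIn (O2 G) P := by
  have hN := CASEA_aux_norm m a
  have hP := CASEA_aux_le a hT
  refine ⟨⟨V, le_trans a.V_le hT, ?_, ?_, ?_⟩, ?_⟩
  · exact IsPGroup.of_card (n := 2) (by rw [a.card_V]; norm_num)
  · intro h0
    have := a.card_V
    rw [h0, Subgroup.card_bot] at this
    omega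
  · rw [hN]
    exact (inf_eq_left.2 hP).symm
  · rintro N ⟨X, hXH, hX2, hX1, rfl⟩ hle
    have h1 : P ≤ normalizer (X : Set G) := le_trans hle inf_le_left
    rw [m X hX2 hX1 h1]
    exact inf_eq_left.2 hP

theorem CASEA [Finite G] {P₁ P₂ T V₁ V₂ : Subgroup G} (hne : P₁ ≠ P₂) (m₁ : MaxN P₁) (m₂ : MaxN P₂)
    (a₁ : A24 P₁ T V₁) (a₂ : A24 P₂ T V₂) (e₁ : Nonempty (↥P₁ ≃* Equiv.Perm (Fin 4)))
    (e₂ : Nonempty (↥P₂ ≃* Equiv.Perm (Fin 4))) : GConcl (O2 G) := by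
  have hN₁ := CASEA_aux_norm m₁ a₁
  have hN₂ := CASEA_aux_norm m₂ a₂
  have hV : V₁ ≠ V₂ := by
    intro h
    apply hne
    rw [← hN₁, ← hN₂, h]
  -- `T = V₁ ⊔ V₂`
  have hsup : V₁ ⊔ V₂ = T := by
    have hle : V₁ ⊔ V₂ ≤ T := sup_le a₁.V_le a₂.V_le
    apply Subgroup.eq_of_le_of_card_ge hle
    rw [a₁.card_T]
    have hd8 : Nat.card ↥(V₁ ⊔ V₂ : Subgroup G) ∣ 8 := by
      have := Subgroup.card_dvd_of_le hle
      rwa [a₁.card_T] at this
    have hd4 : 4 ∣ Nat.card ↥(V₁ ⊔ V₂ : Subgroup G) := by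
      have := Subgroup.card_dvd_of_le (le_sup_left : V₁ ≤ V₁ ⊔ V₂)
      rwa [a₁.card_V] at this
    have hne4 : Nat.card ↥(V₁ ⊔ V₂ : Subgroup G) ≠ 4 := by
      intro h4
      apply hV
      have h1 : V₁ = V₁ ⊔ V₂ := Subgroup.eq_of_le_of_card_ge le_sup_left (by rw [h4, a₁.card_V])
      have h2 : V₂ = V₁ ⊔ V₂ := Subgroup.eq_of_le_of_card_ge le_sup_right (by rw [h4, a₂.card_V])
      rw [h1]
      exact h2.symm
    obtain ⟨k, hk⟩ := hd4
    have hk8 : Nat.card ↥(V₁ ⊔ V₂ : Subgroup G) ≤ 8 := Nat.le_of_dvd (by norm_num) hd8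
    have hk1 : k = 1 ∨ k = 2 := by
      have hpos : 0 < Nat.card ↥(V₁ ⊔ V₂ : Subgroup G) := Nat.card_pos
      omega
    rcases hk1 with rfl | rfl
    · exact absurd hk (by simpa using hne4)
    · omega
  have hT : T ≤ O2 G := by
    rw [← hsup]
    exact sup_le (le_trans a₁.V_le_odd (CASEA_aux_oddGen_le P₁)) (le_trans a₂.V_le_odd (CASEA_aux_oddGen_le P₂))
  refine ⟨P₁, P₂, hne, CASEA_aux_max m₁ a₁ hT, CASEA_aux_max m₂ a₂ hT, e₁, e₂, ?_⟩
  -- `|P₁ ∩ P₂| = 8`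
  have hd8 : 8 ∣ Nat.card ↥(P₁ ⊓ P₂ : Subgroup G) := by
    have := Subgroup.card_dvd_of_le (le_inf a₁.T_le a₂.T_le : T ≤ P₁ ⊓ P₂)
    rwa [a₁.card_T] at this
  have hd24 : Nat.card ↥(P₁ ⊓ P₂ : Subgroup G) ∣ 24 := by
    have := Subgroup.card_dvd_of_le (inf_le_left : P₁ ⊓ P₂ ≤ P₁)
    rwa [a₁.card_P] at this
  have hne24 : Nat.card ↥(P₁ ⊓ P₂ : Subgroup G) ≠ 24 := by
    intro h24
    apply hne
    have h1 : P₁ ⊓ P₂ = P₁ := Subgroup.eq_of_le_of_card_ge inf_le_left (by rw [h24, a₁.card_P])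
    have h2 : P₁ ⊓ P₂ = P₂ := Subgroup.eq_of_le_of_card_ge inf_le_right (by rw [h24, a₂.card_P])
    rw [← h1]
    exact h2
  obtain ⟨k, hk⟩ := hd8
  have hle24 : Nat.card ↥(P₁ ⊓ P₂ : Subgroup G) ≤ 24 := Nat.le_of_dvd (by norm_num) hd24
  have hpos : 0 < Nat.card ↥(P₁ ⊓ P₂ : Subgroup G) := Nat.card_pos
  have hk1 : k = 1 ∨ k = 2 ∨ k = 3 := by omega
  rcases hk1 with rfl | rfl | rfl
  · omega
  · exfalso
    rw [hk] at hd24
    norm_num at hd24
  · exact absurd hk (by simpa using hne24)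

end Cfsg.Agent.S0518P
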