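import Cfsg.Agent.Helper5.S0518Defs
import Cfsg.Agent.Helper7.S2951FIN

set_option autoImplicit false

/-! # S0518 board, piece LIB24: the facts `A24 P T V` for `P ≅ S₄` with Sylow 2-subgroup `T`, `V = O₂(P)`
(transported from `Cfsg.Agent.S2951P.FIN`). -/

universe u

namespace Cfsg.Agent.S0518P

open Cfsg Subgroup

variable {G : Type u} [Group G]

theorem LIB24 [Finite G] {P T : Subgroup G} (hT : IsSylowTwoIn T P)
    (e : Nonempty (↥P ≃* Equiv.Perm (Fin 4))) : ∃ V : Subgroup G, A24 P T V := by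
  obtain ⟨hTP, hT2, hTodd⟩ := hT
  obtain ⟨e⟩ := e
  have hcardP : Nat.card ↥P = 24 := by
    rw [Nat.card_congr e.toEquiv, Nat.card_eq_fintype_card, Fintype.card_perm, Fintype.card_fin]
    rfl
  -- the Sylow 2-subgroup of `↥P`
  have hp1 : IsPGroup 2 ↥(T.subgroupOf P) :=
    hT2.comap_of_injective P.subtype (Subgroup.subtype_injective P)
  have hp2 : ¬ 2 ∣ (T.subgroupOf P).index := by
    intro h2
    have : Odd (T.subgroupOf P).index := hTodd
    exact (Nat.not_even_iff_odd.2 this) (even_iff_two_dvd.2 h2)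
  let S : Sylow 2 ↥P := hp1.toSylow hp2
  have hS : (S : Subgroup ↥P) = T.subgroupOf P := rfl
  have hF := Cfsg.Agent.S2951P.FIN (Or.inl ⟨e⟩) S
  -- `U = O₂(P)`
  have hcardU : Nat.card ↥(pCore 2 ↥P) = 4 := by
    have := hF.card_U
    omega
  have hcardT' : Nat.card ↥(T.subgroupOf P) = 8 := by
    have := hF.card_T
    rw [hS] at this
    omega
  have hcardT : Nat.card ↥T = 8 := by
    rw [← hcardT']
    exact (Nat.card_congr (Subgroup.subgroupOfEquivOfLe hTP).toEquiv).symm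
  -- `U ≤ ⟨odd⟩`
  have hUodd : pCore 2 ↥P ≤ closure {x : ↥P | Odd (orderOf x)} := by
    have h1 : (closure {x : ↥P | Odd (orderOf x)} ⊓ pCore 2 ↥P : Subgroup ↥P) = pCore 2 ↥P := by
      apply Subgroup.eq_of_le_of_card_ge inf_le_right
      rw [hF.card_W, hcardU]
    rw [← h1]
    exact inf_le_left
  refine ⟨(pCore 2 ↥P).map P.subtype, ?_⟩
  refine ⟨hcardP, hcardT, hTP, ?_, ?_, ?_, ?_⟩
  · -- `V ≤ T`
    rintro _ ⟨x, hx, rfl⟩
    have := hF.U_le hx
    rw [hS] at this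
    exact this
  · rw [Nat.card_congr ((pCore 2 ↥P).equivMapOfInjective P.subtype
      (Subgroup.subtype_injective P)).toEquiv.symm]
    exact hcardU
  · -- `P ≤ N(V)`
    intro g hg
    rw [Subgroup.mem_normalizer_iff]
    intro y
    constructor
    · rintro ⟨x, hx, rfl⟩
      refine ⟨⟨g, hg⟩ * x * ⟨g, hg⟩⁻¹, ?_, rfl⟩
      exact (pCore_normal 2 ↥P).conj_mem x hx ⟨g, hg⟩
    · rintro ⟨x, hx, hxy⟩
      refine ⟨⟨g, hg⟩⁻¹ * x * ⟨g, hg⟩, ?_, ?_⟩
      · have := (pCore_normal 2 ↥P).conj_mem x hx ⟨g, hg⟩⁻¹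
        simpa using this
      · have h1 : P.subtype (⟨g, hg⟩⁻¹ * x * ⟨g, hg⟩) = g⁻¹ * (P.subtype x) * g := rfl
        rw [h1, hxy]
        group
  · -- `V ≤ oddGen P`
    have h1 : (pCore 2 ↥P).map P.subtype ≤ (closure {x : ↥P | Odd (orderOf x)}).map P.subtype :=
      Subgroup.map_mono hUodd
    refine le_trans h1 ?_
    rw [MonoidHom.map_closure]
    unfold oddGen
    apply Subgroup.closure_mono
    rintro _ ⟨x, hx, rfl⟩
    refine ⟨x.2, ?_⟩
    have h2 : orderOf (P.subtype x) = orderOf x := Subgroup.orderOf_coe x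
    rw [h2]
    exact hx

end Cfsg.Agent.S0518P
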