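import Mathlib
import Cfsg.Agent.Helper4.S0679N11
import Cfsg.Agent.Helper27.S0679CTT

set_option autoImplicit false
set_option linter.unusedSectionVars false
set_option linter.unusedVariables false

/-! S0679 piece 1-EVTRANS (helper19): the even part of a transitive group of degree 11 is transitive. -/

namespace Cfsg.Agent.S0679P

open Equiv MulAction

variable {α : Type*} [Fintype α] [DecidableEq α] {G : Subgroup (Equiv.Perm α)}

theorem ONE.EVTRANS (h11 : Fintype.card α = 11) [IsPretransitive G α] :
    IsPretransitive (G ⊓ alternatingGroup α : Subgroup (Perm α)) α := by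
  have hdvd : 11 ∣ Nat.card G := N11.dvd_card h11
  haveI : Fact (Nat.Prime 11) := ⟨by norm_num⟩
  obtain ⟨c, hc⟩ := exists_prime_orderOf_dvd_card' 11 hdvd
  have hc' : orderOf (c : Perm α) = 11 := by rw [Subgroup.orderOf_coe]; exact hc
  obtain ⟨j, hj, -, hs, hcyc, -⟩ := CTT.ct (by norm_num : Nat.Prime 11) hc'
  have hle : (c : Perm α).support.card ≤ 11 := by rw [← h11]; exact Finset.card_le_univ _
  have hj1 : j = 1 := by nlinarith
  have hcy : (c : Perm α).IsCycle := hcyc hj1
  have hsupp : ∀ a, a ∈ (c : Perm α).support := by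
    have : (c : Perm α).support = Finset.univ := by
      apply Finset.eq_univ_of_card
      rw [hs, hj1, h11]
    intro a
    rw [this]
    exact Finset.mem_univ a
  have hsign : Perm.sign (c : Perm α) = 1 :=
    CTT.sign_odd (by norm_num : Nat.Prime 11) (by norm_num) hc'
  refine ⟨fun a b => ?_⟩
  have hsc : (c : Perm α).SameCycle a b :=
    hcy.sameCycle (Perm.mem_support.1 (hsupp a)) (Perm.mem_support.1 (hsupp b))
  obtain ⟨i, hi⟩ := hsc
  refine ⟨⟨(c : Perm α) ^ i, ?_⟩, ?_⟩
  · rw [Subgroup.mem_inf]
    exact ⟨G.zpow_mem c.2 i, (alternatingGroup α).zpow_mem (Perm.mem_alternatingGroup.2 hsign) i⟩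
  · exact hi

end Cfsg.Agent.S0679P
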