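import Mathlib
import Cfsg.Agent.Helper2.S0679FAITH

set_option autoImplicit false

/-! S0679 piece 5-UP (helper19): `|C_G(τ)| ≤ 216`. -/

namespace Cfsg.Agent.S0679F

open Equiv

variable {α : Type*} [Fintype α] [DecidableEq α]

namespace UP

omit [Fintype α] in
theorem card6 {τ : Perm α} (hτ2 : τ * τ = 1) {m1 m2 m3 : α}
    (a1 : τ m1 ≠ m1) (a2 : τ m2 ≠ m2) (a3 : τ m3 ≠ m3) (b1 : m2 ≠ m1) (b2 : m2 ≠ τ m1)
    (c1 : m3 ≠ m1) (c2 : m3 ≠ τ m1) (c3 : m3 ≠ m2) (c4 : m3 ≠ τ m2) :
    ({m1, τ m1, m2, τ m2, m3, τ m3} : Finset α).card = 6 := by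
  have hττ : ∀ a, τ (τ a) = a := fun a => by
    have := congrArg (fun f : Perm α => f a) hτ2
    simpa using this
  have d1 : τ m2 ≠ m1 := fun h => b2 (by rw [← h, hττ])
  have d2 : τ m2 ≠ τ m1 := fun h => b1 (τ.injective h)
  have e1 : τ m3 ≠ m1 := fun h => c2 (by rw [← h, hττ])
  have e2 : τ m3 ≠ τ m1 := fun h => c1 (τ.injective h)
  have e3 : τ m3 ≠ m2 := fun h => c4 (by rw [← h, hττ])
  have e4 : τ m3 ≠ τ m2 := fun h => c3 (τ.injective h)
  rw [Finset.card_insert_of_notMem, Finset.card_insert_of_notMem, Finset.card_insert_of_notMem,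
    Finset.card_insert_of_notMem, Finset.card_insert_of_notMem, Finset.card_singleton]
  all_goals simp only [Finset.mem_insert, Finset.mem_singleton, not_or]
  all_goals (repeat' constructor)
  all_goals intro h
  all_goals first
    | exact absurd h a1 | exact absurd h.symm a1 | exact absurd h a2 | exact absurd h.symm a2
    | exact absurd h a3 | exact absurd h.symm a3 | exact absurd h b1 | exact absurd h.symm b1
    | exact absurd h b2 | exact absurd h.symm b2 | exact absurd h c1 | exact absurd h.symm c1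
    | exact absurd h c2 | exact absurd h.symm c2 | exact absurd h c3 | exact absurd h.symm c3
    | exact absurd h c4 | exact absurd h.symm c4 | exact absurd h d1 | exact absurd h.symm d1
    | exact absurd h d2 | exact absurd h.symm d2 | exact absurd h e1 | exact absurd h.symm e1
    | exact absurd h e2 | exact absurd h.symm e2 | exact absurd h e3 | exact absurd h.symm e3
    | exact absurd h e4 | exact absurd h.symm e4

end UP

theorem UP (hα : Fintype.card α = 11) (G : Subgroup (Perm α))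
    (hsh : ∀ h ∈ G, h ∈ alternatingGroup α → h ≠ 1 → 8 ≤ h.support.card)
    (hsw : ∀ g ∈ G, ¬ g.IsSwap) {τ : Perm α} (hτ2 : τ * τ = 1) (hτc : τ.support.card = 6) :
    Nat.card {g : Perm α // g ∈ G ∧ g * τ = τ * g} ≤ 216 := by
  classical
  have hττ : ∀ a, τ (τ a) = a := fun a => by
    have := congrArg (fun f : Perm α => f a) hτ2
    simpa using this
  -- choose m1
  have hS1 : τ.support.Nonempty := by
    rw [← Finset.card_pos, hτc]; norm_num
  obtain ⟨m1, hm1⟩ := hS1
  have a1 : τ m1 ≠ m1 := Perm.mem_support.1 hm1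
  -- choose m2
  have hS2 : (τ.support \ {m1, τ m1}).Nonempty := by
    rw [← Finset.card_pos]
    have h1 := Finset.le_card_sdiff ({m1, τ m1} : Finset α) τ.support
    have h2 : ({m1, τ m1} : Finset α).card ≤ 2 := Finset.card_le_two
    omega
  obtain ⟨m2, hm2⟩ := hS2
  rw [Finset.mem_sdiff] at hm2
  have a2 : τ m2 ≠ m2 := Perm.mem_support.1 hm2.1
  have b1 : m2 ≠ m1 := fun h => hm2.2 (by simp [h])
  have b2 : m2 ≠ τ m1 := fun h => hm2.2 (by simp [h])
  -- choose m3
  have hS3 : (τ.support \ {m1, τ m1, m2, τ m2}).Nonempty := by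
    rw [← Finset.card_pos]
    have h1 := Finset.le_card_sdiff ({m1, τ m1, m2, τ m2} : Finset α) τ.support
    have h2 : ({m1, τ m1, m2, τ m2} : Finset α).card ≤ 4 := Finset.card_le_four
    omega
  obtain ⟨m3, hm3⟩ := hS3
  rw [Finset.mem_sdiff] at hm3
  have a3 : τ m3 ≠ m3 := Perm.mem_support.1 hm3.1
  have c1 : m3 ≠ m1 := fun h => hm3.2 (by simp [h])
  have c2 : m3 ≠ τ m1 := fun h => hm3.2 (by simp [h])
  have c3 : m3 ≠ m2 := fun h => hm3.2 (by simp [h])
  have c4 : m3 ≠ τ m2 := fun h => hm3.2 (by simp [h])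
  have hT := UP.card6 hτ2 a1 a2 a3 b1 b2 c1 c2 c3 c4
  -- key: an element of C fixing m1 m2 m3 is trivial
  have key : ∀ h ∈ G, h * τ = τ * h → h m1 = m1 → h m2 = m2 → h m3 = m3 → h = 1 := by
    intro h hG hc h1 h2 h3
    have hcomm : ∀ a, h (τ a) = τ (h a) := fun a => by
      have := congrArg (fun f : Perm α => f a) hc
      simpa using this
    apply FAITH hα G hsh hsw hG
    have hsub : h.support ⊆ Finset.univ \ ({m1, τ m1, m2, τ m2, m3, τ m3} : Finset α) := by
      intro a ha
      rw [Finset.mem_sdiff]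
      refine ⟨Finset.mem_univ _, ?_⟩
      intro hmem
      rw [Perm.mem_support] at ha
      simp only [Finset.mem_insert, Finset.mem_singleton] at hmem
      rcases hmem with rfl | rfl | rfl | rfl | rfl | rfl
      · exact ha h1
      · exact ha (by rw [hcomm, h1])
      · exact ha h2
      · exact ha (by rw [hcomm, h2])
      · exact ha h3
      · exact ha (by rw [hcomm, h3])
    have := Finset.card_le_card hsub
    rw [Finset.card_sdiff_of_subset (Finset.subset_univ _), Finset.card_univ, hα, hT] at this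
    exact this
  -- the injection
  have hsupp : ∀ g : Perm α, g * τ = τ * g → ∀ m ∈ τ.support, g m ∈ τ.support := by
    intro g hc m hm
    have hcomm : g (τ m) = τ (g m) := by
      have := congrArg (fun f : Perm α => f m) hc
      simpa using this
    rw [Perm.mem_support] at hm ⊢
    intro h
    rw [← hcomm] at h
    exact hm (g.injective h)
  let S := {a : α // a ∈ τ.support}
  let f : {g : Perm α // g ∈ G ∧ g * τ = τ * g} → S × S × S := fun g =>
    (⟨g.1 m1, hsupp g.1 g.2.2 m1 hm1⟩, ⟨g.1 m2, hsupp g.1 g.2.2 m2 hm2.1⟩,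
      ⟨g.1 m3, hsupp g.1 g.2.2 m3 hm3.1⟩)
  have hf : Function.Injective f := by
    intro g g' hgg
    simp only [f, Prod.mk.injEq] at hgg
    obtain ⟨e1', e2', e3'⟩ := hgg
    have e1 : g.1 m1 = g'.1 m1 := congrArg Subtype.val e1'
    have e2 : g.1 m2 = g'.1 m2 := congrArg Subtype.val e2'
    have e3 : g.1 m3 = g'.1 m3 := congrArg Subtype.val e3'
    have hh : g.1⁻¹ * g'.1 = 1 := by
      apply key _ (G.mul_mem (G.inv_mem g.2.1) g'.2.1)
      · -- commute
        have h1 : g.1⁻¹ * τ = τ * g.1⁻¹ := by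
          have := g.2.2
          calc g.1⁻¹ * τ = g.1⁻¹ * (τ * g.1) * g.1⁻¹ := by group
            _ = g.1⁻¹ * (g.1 * τ) * g.1⁻¹ := by rw [this]
            _ = τ * g.1⁻¹ := by group
        calc g.1⁻¹ * g'.1 * τ = g.1⁻¹ * (g'.1 * τ) := by group
          _ = g.1⁻¹ * (τ * g'.1) := by rw [g'.2.2]
          _ = (g.1⁻¹ * τ) * g'.1 := by group
          _ = τ * g.1⁻¹ * g'.1 := by rw [h1]
          _ = τ * (g.1⁻¹ * g'.1) := by group
      · show g.1⁻¹ (g'.1 m1) = m1
        rw [← e1]; simp
      · show g.1⁻¹ (g'.1 m2) = m2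
        rw [← e2]; simp
      · show g.1⁻¹ (g'.1 m3) = m3
        rw [← e3]; simp
    apply Subtype.ext
    have := inv_mul_eq_one.1 hh
    exact this
  have hcard : Nat.card (S × S × S) = 216 := by
    have hS : Nat.card S = 6 := by
      simp only [S]
      rw [Nat.card_eq_fintype_card, Fintype.card_coe, hτc]
    rw [Nat.card_prod, Nat.card_prod, hS]
  calc Nat.card {g : Perm α // g ∈ G ∧ g * τ = τ * g} ≤ Nat.card (S × S × S) :=
        Nat.card_le_card_of_injective f hf
    _ = 216 := hcard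

end Cfsg.Agent.S0679F
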