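import Mathlib
import Cfsg.Agent.Helper9.S0679TAU
import Cfsg.Agent.Helper23.S0679TYPE
import Cfsg.Agent.Helper22.S0679FLOW
import Cfsg.Agent.Helper19.S0679FUP

set_option autoImplicit false

/-! S0679 chapter (5), assembly (helper19): there is no `G ≤ Sym(11)` without transpositions, not inside `A_11`,
whose even part `G ∩ A_11` is sharply 4-transitive (`240 ≤ |C_G(τ)| ≤ 216`). -/

namespace Cfsg.Agent.S0679F

open Equiv

variable {α : Type*} [Fintype α] [DecidableEq α]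

/-- (5-MAIN) chapter (5). -/
theorem main (hα : Fintype.card α = 11) (G : Subgroup (Perm α))
    (h4 : ∀ x y : Fin 4 ↪ α, ∃ h ∈ G, h ∈ alternatingGroup α ∧ ∀ i, h (x i) = y i)
    (hsh : ∀ h ∈ G, h ∈ alternatingGroup α → h ≠ 1 → 8 ≤ h.support.card)
    (hodd : ¬ G ≤ alternatingGroup α) (hsw : ∀ g ∈ G, ¬ g.IsSwap) : False := by
  have hx : Nonempty (Fin 4 ↪ α) := by
    refine Function.Embedding.nonempty_of_card_le ?_
    simp [hα]
  obtain ⟨x⟩ := hx
  obtain ⟨τ, hτ, hτo, hfx⟩ := TAU G h4 hodd x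
  obtain ⟨h2, hc⟩ := TYPE hα G hsh hsw hτ hτo hfx
  have h1 := LOW hα G h4 hsh hsw hτ hτo hfx
  have h3 := UP hα G hsh hsw h2 hc
  omega

end Cfsg.Agent.S0679F
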