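import Cfsg.Agent.Helper27.S0745Defs
import Cfsg.Agent.Helper4.MultiTrans

/-! Board `s0745pieces`, row RGETWO: semiregular + `|PS G Γ| = n - t` for all `t`-sets gives `(t+1)`-transitivity. -/

set_option autoImplicit false
set_option linter.unusedSectionVars false
set_option linter.unusedVariables false

namespace Cfsg.Agent.S0745P

open Equiv

variable {α : Type*} [Fintype α] [DecidableEq α]

/-- RGETWO -/
theorem trans_succ_of_regular (G : Subgroup (Perm α)) (t : ℕ) (htn : t + 2 ≤ Fintype.card α)
    (hsr : ∀ g ∈ G, ∀ s : Finset α, s.card = t + 1 → (∀ x ∈ s, g x = x) → g = 1)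
    (hc : ∀ Γ : Finset α, Γ.card = t → Nat.card (PS G Γ) = Fintype.card α - t) :
    MulAction.IsMultiplyPretransitive G α (t + 1) := by
  classical
  apply Cfsg.Agent.Helper4.isMultiplyPretransitive_of_fixing_transitive t htn
  intro T hT u v hu hv
  -- the orbit map `PS G T → α ∖ T`
  have hmem : ∀ h : ↥(PS G T), (h : Perm α) u ∉ T := by
    intro h hin
    have h1 : (h : Perm α) ((h : Perm α) u) = (h : Perm α) u := (mem_PS.1 h.2).2 _ hin
    have h2 : (h : Perm α) u = u := (h : Perm α).injective h1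
    exact hu (h2 ▸ hin)
  let f : ↥(PS G T) → {x : α // x ∉ T} := fun h => ⟨(h : Perm α) u, hmem h⟩
  have hinj : Function.Injective f := by
    intro h h' hh
    have e : (h : Perm α) u = (h' : Perm α) u := congrArg Subtype.val hh
    have hk : ((h' : Perm α)⁻¹ * (h : Perm α)) ∈ PS G T := (PS G T).mul_mem ((PS G T).inv_mem h'.2) h.2
    have hone : ((h' : Perm α)⁻¹ * (h : Perm α)) = 1 := by
      apply hsr _ (mem_PS.1 hk).1 (insert u T)
      · rw [Finset.card_insert_of_notMem hu, hT]
      · intro x hx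
        rcases Finset.mem_insert.1 hx with rfl | hxT
        · rw [Perm.mul_apply, e]; simp
        · exact (mem_PS.1 hk).2 x hxT
    apply Subtype.ext
    have : (h : Perm α) = (h' : Perm α) * ((h' : Perm α)⁻¹ * (h : Perm α)) := by group
    rw [this, hone, mul_one]
  have hcard : Nat.card ↥(PS G T) = Nat.card {x : α // x ∉ T} := by
    rw [hc T hT, Nat.card_eq_fintype_card, Fintype.card_subtype_compl, Fintype.card_coe, hT]
  have hbij : Function.Bijective f := (Nat.bijective_iff_injective_and_card f).2 ⟨hinj, hcard⟩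
  obtain ⟨h, hh⟩ := hbij.2 ⟨v, hv⟩
  refine ⟨⟨(h : Perm α), (mem_PS.1 h.2).1⟩, ?_, ?_⟩
  · intro x hx
    exact (mem_PS.1 h.2).2 x hx
  · exact congrArg Subtype.val hh

end Cfsg.Agent.S0745P
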