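import Mathlib
import Cfsg.Agent.Helper2.CT.Defs
import Cfsg.Agent.Helper2.Stb.Main
import Cfsg.Agent.Helper2.Stb.RankOne
import Cfsg.Agent.Helper18.S1164CLOSURE

set_option autoImplicit false
set_option linter.unusedSectionVars false
set_option linter.unusedSimpArgs false
set_option linter.unusedVariables false

/-! S1164 (Curtis–Tits), piece I-RK1 (core): the relations (3), (4) for the roots `±p_i`, from the
same relations for the other roots of a rank two subsystem `Φ_ij` (`j` a neighbour of `i` joined by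
a single bond), by rewriting a root element of `±p_i` as a commutator of root elements of
`±(p_i + p_j)` and `∓p_j`.  The relations for the other roots are hypotheses here (piece I-SOFT). -/

namespace Cfsg.Agent.S1164P

open Cfsg.Lie Cfsg.Agent.Helper6 Cfsg.Agent.Helper2.StPerf Cfsg.Agent.Helper2.Stb

namespace IRK1

/-- the witness pairs `(p_i + p_j, -p_j)` for `p_i` and `(-(p_i + p_j), p_j)` for `-p_i` pass the
witness check, for every neighbour `j` of `i` joined by a single bond -/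
def rk1Chk (D : ChevalleyDatum) : Bool :=
  allLt D.rank fun i => allLt D.rank fun j =>
    !(!Nat.beq j i && decide (cartanF D i (D.simple j) = -1) &&
      decide (cartanF D j (D.simple i) = -1)) ||
    (witChk D i (D.simple i) (wD D j (D.simple i)) (negF D (D.simple j)) &&
     witChk D i (negF D (D.simple i)) (negF D (wD D j (D.simple i))) (D.simple j))

set_option maxRecDepth 100000 in
theorem rk1Chk_of_isCT {D : ChevalleyDatum} (hD : IsCT D) : rk1Chk D = true := by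
  simp only [IsCT, List.mem_cons, List.not_mem_nil, or_false] at hD
  rcases hD with rfl | rfl | rfl | rfl | rfl <;> decide +kernel

variable {D : ChevalleyDatum} {K : Type*} [Field K] {M : Type*} [Group M]
  {X : ℕ → K → M} {π : M →* GL D.Idx K}

/-- the rewriting lemma, for words, with (R2) for the pairs of roots satisfying `P` only -/
theorem rewrite_midP {P : ℕ → ℕ → Prop} (h : R12On D X P) (g : M) (w' : ℕ → ℕ) (ε : ℕ → K)
    {γ δ : ℕ}
    (hγ : γ < D.nroots) (hδ : δ < D.nroots) (h1 : δ ≠ γ) (h2 : δ ≠ D.neg γ) (hP : P γ δ)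
    (hγ' : w' γ < D.nroots) (hδ' : w' δ < D.nroots) (h1' : w' δ ≠ w' γ)
    (h2' : w' δ ≠ D.neg (w' γ)) (hP' : P (w' γ) (w' δ))
    (kγ : ∀ x, g * X γ x * g⁻¹ = X (w' γ) (ε γ * x))
    (kδ : ∀ x, g * X δ x * g⁻¹ = X (w' δ) (ε δ * x))
    {t u : K} {pre post : List (ℕ × K)} {p' : ℕ} {v : K}
    (hW : D.commWord K γ δ t u = pre ++ (p', v) :: post)
    (kpre : ∀ q ∈ pre, g * X q.1 q.2 * g⁻¹ = X (w' q.1) (ε q.1 * q.2))
    (kpost : ∀ q ∈ post, g * X q.1 q.2 * g⁻¹ = X (w' q.1) (ε q.1 * q.2))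
    (hc : D.commWord K (w' γ) (w' δ) (ε γ * t) (ε δ * u) =
      (D.commWord K γ δ t u).map fun q => (w' q.1, ε q.1 * q.2)) :
    g * X p' v * g⁻¹ = X (w' p') (ε p' * v) := by
  have e1 := h.comm γ hγ δ hδ h1 h2 hP t u
  have e2 := h.comm (w' γ) hγ' (w' δ) hδ' h1' h2' hP' (ε γ * t) (ε δ * u)
  rw [hc, hW, List.map_append, List.map_cons, wordX_append, wordX_cons] at e2
  rw [hW, wordX_append, wordX_cons] at e1
  have e3 : g * ((X δ u)⁻¹ * (X γ t)⁻¹ * X δ u * X γ t) * g⁻¹ =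
      (X (w' δ) (ε δ * u))⁻¹ * (X (w' γ) (ε γ * t))⁻¹ * X (w' δ) (ε δ * u) *
        X (w' γ) (ε γ * t) := by
    rw [← kγ t, ← kδ u]
    group
  rw [e1, e2] at e3
  have e4 := conj_wordX g w' ε pre kpre
  have e5 := conj_wordX g w' ε post kpost
  have e6 : g * (wordX X pre * (X p' v * wordX X post)) * g⁻¹ =
      (g * wordX X pre * g⁻¹) * ((g * X p' v * g⁻¹) * (g * wordX X post * g⁻¹)) := by group
  rw [e6, e4, e5] at e3
  exact mul_right_cancel (mul_left_cancel e3)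

/-- the rewriting lemma, for the terms of the commutator formula -/
theorem rewrite_termsP {P : ℕ → ℕ → Prop} (h : R12On D X P) (g : M) (w' : ℕ → ℕ) (ε : ℕ → K)
    {γ δ : ℕ}
    (hγ : γ < D.nroots) (hδ : δ < D.nroots) (h1 : δ ≠ γ) (h2 : δ ≠ D.neg γ) (hP : P γ δ)
    (hγ' : w' γ < D.nroots) (hδ' : w' δ < D.nroots) (h1' : w' δ ≠ w' γ)
    (h2' : w' δ ≠ D.neg (w' γ)) (hP' : P (w' γ) (w' δ))
    (kγ : ∀ x, g * X γ x * g⁻¹ = X (w' γ) (ε γ * x))
    (kδ : ∀ x, g * X δ x * g⁻¹ = X (w' δ) (ε δ * x))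
    {preT postT : List (ℕ × ℤ × ℕ × ℕ)} {p' : ℕ} {c₀ : ℤ} {a₀ : ℕ}
    (hT : D.commTerms γ δ = preT ++ (p', c₀, a₀, 1) :: postT) (hc₀ : c₀ * c₀ = 1)
    (kpre : ∀ c ∈ preT, ∀ x, g * X c.1 x * g⁻¹ = X (w' c.1) (ε c.1 * x))
    (kpost : ∀ c ∈ postT, ∀ x, g * X c.1 x * g⁻¹ = X (w' c.1) (ε c.1 * x))
    (hc : ∀ t u : K, D.commWord K (w' γ) (w' δ) (ε γ * t) (ε δ * u) =
      (D.commWord K γ δ t u).map fun q => (w' q.1, ε q.1 * q.2)) (v : K) :
    g * X p' v * g⁻¹ = X (w' p') (ε p' * v) := by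
  have hc₀F : ((c₀ : ℤ) : K) * ((c₀ : ℤ) : K) = 1 := by
    exact_mod_cast congrArg (fun z : ℤ => (z : K)) hc₀
  obtain ⟨τ, hτ⟩ : ∃ τ : ℕ × ℤ × ℕ × ℕ → ℕ × K, τ = fun c =>
    (c.1, ((c.2.1 : ℤ) : K) * (-(-1 : K)) ^ c.2.2.1 * (((c₀ : ℤ) : K) * v) ^ c.2.2.2) := ⟨_, rfl⟩
  have hW : D.commWord K γ δ (-1) (((c₀ : ℤ) : K) * v) =
      preT.map τ ++ (p', v) :: postT.map τ := by
    unfold ChevalleyDatum.commWord
    rw [hT, List.map_append, List.map_cons, hτ]
    congr 2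
    simp only [neg_neg, one_pow, mul_one, pow_one]
    rw [← mul_assoc, hc₀F, one_mul]
  refine rewrite_midP h g w' ε hγ hδ h1 h2 hP hγ' hδ' h1' h2' hP' kγ kδ hW ?_ ?_ (hc _ _)
  · intro q hq
    rw [List.mem_map] at hq
    obtain ⟨c, hc', rfl⟩ := hq
    rw [hτ]
    exact kpre c hc' _
  · intro q hq
    rw [List.mem_map] at hq
    obtain ⟨c, hc', rfl⟩ := hq
    rw [hτ]
    exact kpost c hc' _

/-- (3) for a root `p' = ±p_i` with a witness pair inside `Φ_ij` -/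
theorem nH_conj_of_witP (hD : IsCT D) (S : CTS hD.tab X π) {i j : ℕ} (hi : i < D.rank)
    (soft : ∀ s : ℕ, D.InRankTwoSub i j s → s ≠ D.simple i → s ≠ D.neg (D.simple i) → ∀ u : K,
      nH X D (D.simple i) 1 * X s u * (nH X D (D.simple i) 1)⁻¹ =
        X (wR D (D.simple i) s) (((etaR D (D.simple i) s : ℤ) : K) * u))
    {p' γ δ : ℕ} (hW : WitOK D i p' γ δ) (rγ : D.InRankTwoSub i j γ) (rδ : D.InRankTwoSub i j δ)
    (v : K) :
    nH X D (D.simple i) 1 * X p' v * (nH X D (D.simple i) 1)⁻¹ =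
      X (wR D (D.simple i) p') (((etaR D (D.simple i) p' : ℤ) : K) * v) := by
  have hB := basicOK_of_tabulated hD.tab
  have hA := simpleAll_of_tabulated hD.tab hi
  have hp := hA.hS.1
  have hwlt : ∀ s < D.nroots, wR D (D.simple i) s < D.nroots := fun s hs => wR_lt hB hp hA.hR hs
  have rT := inR2_commTerms hD rγ rδ hW.h1 hW.h2
  obtain ⟨pre, mid, post, e, m1, m2, m3, m4, m5⟩ := hW.split
  obtain ⟨q1, q2, q3, q4⟩ := mid
  simp only at m1 m2 m3
  subst m1 m3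
  have hc₀ : q2 * q2 = 1 := by rcases m2 with rfl | rfl <;> norm_num
  have hnegγ := hB.neg γ hW.hγ
  refine rewrite_termsP S.r12 (nH X D (D.simple i) 1) (wR D (D.simple i))
    (fun ρ => ((etaR D (D.simple i) ρ : ℤ) : K)) hW.hγ hW.hδ hW.h1 hW.h2 ⟨i, j, rγ, rδ⟩
    (hwlt _ hW.hγ) (hwlt _ hW.hδ) ?_ ?_ ⟨i, j, inR2_wR hD rγ, inR2_wR hD rδ⟩ ?_ ?_ e hc₀ ?_ ?_ ?_ v
  · intro e'
    exact hW.h1 (wR_inj hB hA hW.hδ hW.hγ e')
  · intro e'
    rw [← hA.hC.negw γ hW.hγ] at e'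
    exact hW.h2 (wR_inj hB hA hW.hδ hnegγ.1 e')
  · intro x
    exact soft γ rγ hW.γp hW.γn x
  · intro x
    exact soft δ rδ hW.δp hW.δn x
  · intro c hc x
    obtain ⟨c1, c2, c3⟩ := m4 c hc
    refine soft c.1 (rT c ?_) c2 c3 x
    rw [e]
    exact List.mem_append_left _ hc
  · intro c hc x
    obtain ⟨c1, c2, c3⟩ := m5 c hc
    refine soft c.1 (rT c ?_) c2 c3 x
    rw [e]
    exact List.mem_append_right _ (List.mem_cons_of_mem _ hc)
  · intro t u
    unfold ChevalleyDatum.commWord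
    rw [hW.tw, List.map_map, List.map_map]
    apply List.map_congr_left
    intro c hc
    simp only [Function.comp]
    congr 1
    have hA2 := etaR_sq (F := K) hB hA hW.hγ
    have hB2 := etaR_sq (F := K) hB hA hW.hδ
    obtain ⟨A, hAdef⟩ : ∃ A : K, A = ((etaR D (D.simple i) γ : ℤ) : K) := ⟨_, rfl⟩
    obtain ⟨B, hBdef⟩ : ∃ B : K, B = ((etaR D (D.simple i) δ : ℤ) : K) := ⟨_, rfl⟩
    rw [← hAdef] at hA2
    rw [← hBdef] at hB2
    have hA3 : A ^ c.2.2.1 * A ^ c.2.2.1 = 1 := by rw [← mul_pow, hA2, one_pow]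
    have hB3 : B ^ c.2.2.2 * B ^ c.2.2.2 = 1 := by rw [← mul_pow, hB2, one_pow]
    push_cast
    rw [← hAdef, ← hBdef]
    have e1 : (-(A * t)) ^ c.2.2.1 = A ^ c.2.2.1 * (-t) ^ c.2.2.1 := by
      rw [← mul_pow]; congr 1; ring
    rw [e1, mul_pow]
    linear_combination (((etaR D (D.simple i) c.1 : ℤ) : K) * ((c.2.1 : ℤ) : K) * (-t) ^ c.2.2.1 *
      u ^ c.2.2.2 * B ^ c.2.2.2 * B ^ c.2.2.2) * hA3 +
      (((etaR D (D.simple i) c.1 : ℤ) : K) * ((c.2.1 : ℤ) : K) * (-t) ^ c.2.2.1 *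
      u ^ c.2.2.2) * hB3

/-- (4) for a root `p' = ±p_i` with a witness pair inside `Φ_ij` -/
theorem hH_conj_of_witP (hD : IsCT D) (S : CTS hD.tab X π) {i j : ℕ} (hi : i < D.rank)
    {c : K} (hc : c ≠ 0)
    (soft : ∀ s : ℕ, D.InRankTwoSub i j s → s ≠ D.simple i → s ≠ D.neg (D.simple i) → ∀ u : K,
      hH X D (D.simple i) c * X s u * (hH X D (D.simple i) c)⁻¹ = X s (c ^ (D.cartan i s) * u))
    {p' γ δ : ℕ} (hW : WitOK D i p' γ δ) (rγ : D.InRankTwoSub i j γ) (rδ : D.InRankTwoSub i j δ)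
    (v : K) :
    hH X D (D.simple i) c * X p' v * (hH X D (D.simple i) c)⁻¹ =
      X p' (c ^ (D.cartan i p') * v) := by
  have hB := basicOK_of_tabulated hD.tab
  have hA := simpleAll_of_tabulated hD.tab hi
  have rT := inR2_commTerms hD rγ rδ hW.h1 hW.h2
  obtain ⟨pre, mid, post, e, m1, m2, m3, m4, m5⟩ := hW.split
  obtain ⟨q1, q2, q3, q4⟩ := mid
  simp only at m1 m2 m3
  subst m1 m3
  have hc₀ : q2 * q2 = 1 := by rcases m2 with rfl | rfl <;> norm_num
  refine rewrite_termsP S.r12 (hH X D (D.simple i) c) id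
    (fun ρ => c ^ (D.cartan i ρ)) hW.hγ hW.hδ hW.h1 hW.h2 ⟨i, j, rγ, rδ⟩ hW.hγ hW.hδ hW.h1 hW.h2
    ⟨i, j, rγ, rδ⟩ ?_ ?_ e hc₀ ?_ ?_ ?_ v
  · intro x
    exact soft γ rγ hW.γp hW.γn x
  · intro x
    exact soft δ rδ hW.δp hW.δn x
  · intro c' hc' x
    obtain ⟨c1, c2, c3⟩ := m4 c' hc'
    refine soft c'.1 (rT c' ?_) c2 c3 x
    rw [e]
    exact List.mem_append_left _ hc'
  · intro c' hc' x
    obtain ⟨c1, c2, c3⟩ := m5 c' hc'
    refine soft c'.1 (rT c' ?_) c2 c3 x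
    rw [e]
    exact List.mem_append_right _ (List.mem_cons_of_mem _ hc')
  · intro t u
    unfold ChevalleyDatum.commWord
    rw [List.map_map]
    apply List.map_congr_left
    intro c' hc'
    simp only [Function.comp, id]
    congr 1
    have hadd := hW.add c' hc'
    have e1 : c ^ (D.cartan i c'.1) =
        (c ^ (D.cartan i γ)) ^ c'.2.2.1 * (c ^ (D.cartan i δ)) ^ c'.2.2.2 := by
      rw [hadd, zpow_add₀ hc, ← zpow_natCast (c ^ (D.cartan i γ)) c'.2.2.1, ← zpow_mul,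
        ← zpow_natCast (c ^ (D.cartan i δ)) c'.2.2.2, ← zpow_mul, mul_comm (c'.2.2.1 : ℤ),
        mul_comm (c'.2.2.2 : ℤ)]
    rw [e1]
    have e2 : (-(c ^ (D.cartan i γ) * t)) ^ c'.2.2.1 =
        (c ^ (D.cartan i γ)) ^ c'.2.2.1 * (-t) ^ c'.2.2.1 := by
      rw [← mul_pow]; congr 1; ring
    rw [e2, mul_pow]
    ring

/-- the witnesses: for every node `i` a neighbour `j` and witness pairs inside `Φ_ij` -/
theorem exists_wit (hD : IsCT D) {i : ℕ} (hi : i < D.rank) :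
    ∃ j γ δ γ' δ' : ℕ, D.InRankTwoSub i j γ ∧ D.InRankTwoSub i j δ ∧ D.InRankTwoSub i j γ' ∧
      D.InRankTwoSub i j δ' ∧ WitOK D i (D.simple i) γ δ ∧ WitOK D i (D.neg (D.simple i)) γ' δ' := by
  have hB := basicOK_of_tabulated hD.tab
  have hF := fastOK_of_tabulated hD.tab
  have hn := nroots_le_of_tabulated hD.tab
  obtain ⟨j, hj, hji, c1, c2⟩ := exists_adjacent hD hi
  have hAi := simpleAll_of_tabulated hD.tab hi
  have hAj := simpleAll_of_tabulated hD.tab hj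
  have hwlt : ∀ s < D.nroots, wR D (D.simple j) s < D.nroots :=
    fun s hs => wR_lt hB hAj.hS.1 hAj.hR hs
  have hchk := allLt_iff.1 (allLt_iff.1 (rk1Chk_of_isCT hD) i hi) j hj
  rw [cartanF_eq hF.chk, negF_eq hF.chk, wD_eq hF hn hwlt hAi.hS.1] at hchk
  have hb : (!Nat.beq j i && decide (D.cartan i (D.simple j) = -1) &&
      decide (D.cartan j (D.simple i) = -1)) = true := by
    have : Nat.beq j i = false := by
      cases hb : Nat.beq j i with
      | false => rfl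
      | true => exact absurd (Nat.eq_of_beq_eq_true hb) hji
    rw [this, c1, c2]
    rfl
  rw [hb] at hchk
  simp only [Bool.not_true, Bool.false_or, Bool.and_eq_true] at hchk
  have ri : D.InRankTwoSub i j (D.simple i) := inR2_simple hD hi hj
  have rj : D.InRankTwoSub i j (D.simple j) := inR2_symm (inR2_simple hD hj hi)
  have rγ : D.InRankTwoSub i j (wR D (D.simple j) (D.simple i)) :=
    inR2_symm (inR2_wR hD (inR2_symm ri))
  exact ⟨j, _, _, _, _, rγ, inR2_neg hD rj, inR2_neg hD rγ, rj,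
    witOK_of_chk hD.tab hi hAi.hS.1 hchk.1, witOK_of_chk hD.tab hi (hB.neg _ hAi.hS.1).1 hchk.2⟩

/-- relation (3) for the roots `±p_i`, given the relation (3) for the other roots of the rank two
subsystems -/
theorem nH_conj_self_core (hD : IsCT D) (S : CTS hD.tab X π) {i : ℕ} (hi : i < D.rank)
    (soft : ∀ j s : ℕ, D.InRankTwoSub i j s → s ≠ D.simple i → s ≠ D.neg (D.simple i) → ∀ u : K,
      nH X D (D.simple i) 1 * X s u * (nH X D (D.simple i) 1)⁻¹ =
        X (wR D (D.simple i) s) (((etaR D (D.simple i) s : ℤ) : K) * u))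
    {p' : ℕ} (hp' : p' = D.simple i ∨ p' = D.neg (D.simple i)) (u : K) :
    nH X D (D.simple i) 1 * X p' u * (nH X D (D.simple i) 1)⁻¹ =
      X (wR D (D.simple i) p') (((etaR D (D.simple i) p' : ℤ) : K) * u) := by
  obtain ⟨j, γ, δ, γ', δ', r1, r2, r3, r4, w1, w2⟩ := exists_wit hD hi
  rcases hp' with rfl | rfl
  · exact nH_conj_of_witP hD S hi (soft j) w1 r1 r2 u
  · exact nH_conj_of_witP hD S hi (soft j) w2 r3 r4 u

/-- relation (4) for the roots `±p_i`, given the relation (4) for the other roots of the rank two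
subsystems -/
theorem hH_conj_self_core (hD : IsCT D) (S : CTS hD.tab X π) {i : ℕ} (hi : i < D.rank)
    {c : K} (hc : c ≠ 0)
    (soft : ∀ j s : ℕ, D.InRankTwoSub i j s → s ≠ D.simple i → s ≠ D.neg (D.simple i) → ∀ u : K,
      hH X D (D.simple i) c * X s u * (hH X D (D.simple i) c)⁻¹ = X s (c ^ (D.cartan i s) * u))
    {p' : ℕ} (hp' : p' = D.simple i ∨ p' = D.neg (D.simple i)) (u : K) :
    hH X D (D.simple i) c * X p' u * (hH X D (D.simple i) c)⁻¹ =
      X p' (c ^ (D.cartan i p') * u) := by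
  obtain ⟨j, γ, δ, γ', δ', r1, r2, r3, r4, w1, w2⟩ := exists_wit hD hi
  rcases hp' with rfl | rfl
  · exact hH_conj_of_witP hD S hi hc (soft j) w1 r1 r2 u
  · exact hH_conj_of_witP hD S hi hc (soft j) w2 r3 r4 u

end IRK1

end Cfsg.Agent.S1164P
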