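import Mathlib
import Cfsg.Agent.Helper26.S1237Defs
import Cfsg.Agent.Helper9.S1237CTXF

set_option autoImplicit false

/-! S1237 board, piece POW (blueprint §1): replace `φ` by a power of `3`-power order. -/

namespace Cfsg.Agent.S1237P

/-- POW: replace `φ` by a power of `3`-power order. -/
theorem POW {T : Type*} [Group T] [Finite T] {V : Subgroup T} {φ : MulAut T} (c : Ctx V φ) :
    ∃ (ψ : MulAut T) (a : ℕ), 1 ≤ a ∧ orderOf ψ = 3 ^ a ∧ Ctx V ψ := by
  -- a non-identity element of `V`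
  have hVne : V ≠ ⊥ := by
    intro h
    have := c.card
    rw [h, Subgroup.card_bot] at this
    omega
  obtain ⟨v, hv, hv1⟩ := (Subgroup.bot_or_exists_ne_one V).resolve_left hVne
  have hn0 : 0 < orderOf φ := orderOf_pos φ
  have h3 : 3 ∣ orderOf φ := by
    rw [← CTXF_fix c hv hv1 (orderOf φ), pow_orderOf_eq_one]
    rfl
  obtain ⟨a, m, hm, hnm⟩ := Nat.exists_eq_pow_mul_and_not_dvd hn0.ne' 3 (by norm_num)
  have ha : 1 ≤ a := by
    rcases Nat.eq_zero_or_pos a with h0 | h0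
    · exfalso
      rw [h0, pow_zero, one_mul] at hnm
      exact hm (hnm ▸ h3)
    · exact h0
  have hm0 : m ≠ 0 := by
    rintro rfl
    exact hm (dvd_zero 3)
  refine ⟨φ ^ m, a, ha, ?_, CTXF_pow c m hm⟩
  rw [orderOf_pow' φ hm0, hnm]
  have hg : Nat.gcd (3 ^ a * m) m = m := Nat.gcd_eq_right (Dvd.intro_left _ rfl)
  rw [hg]
  exact Nat.mul_div_cancel _ (Nat.pos_of_ne_zero hm0)

end Cfsg.Agent.S1237P
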