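import Cfsg.Agent.Helper22.S1572Defs

/-! S1572 piece CROSS1 (helper19): an automorphism mapping one vector of the standard cross into
the standard cross preserves the standard cross. -/

set_option autoImplicit false

namespace Cfsg.Agent.S1572P

open Cfsg Cfsg.Agent.Helper27 Cfsg.Agent.Helper22.Co0Mono Cfsg.Agent.Helper22.CrossStab
  Cfsg.Agent.Helper22.Co0Center Cfsg.Agent.Helper22.MinTrans Cfsg.Agent.Helper22.Co0Order
  Cfsg.Agent.Helper22.Census
open scoped Pointwise

namespace CROSS1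

theorem single_comp {σ : Equiv.Perm GolayPt} {i : GolayPt} (hσ : σ (pt 0) = i) (s : ℤ)
    (q : GolayPt) : (Pi.single (pt 0) s : GolayPt → ℤ) (σ.symm q) = (Pi.single i s : GolayPt → ℤ) q := by
  rw [Pi.single_apply, Pi.single_apply]
  by_cases hq : q = i
  · have : σ.symm q = pt 0 := by rw [hq, ← hσ, Equiv.symm_apply_apply]
    rw [if_pos this, if_pos hq]
  · have : σ.symm q ≠ pt 0 := by
      intro h
      apply hq
      rw [← hσ, ← h, Equiv.apply_symm_apply]
    rw [if_neg this, if_neg hq]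

/-- `NN` is transitive on the 48 vectors of the standard cross -/
theorem exists_NN_map (v : ↥leechLattice) (hv : (v : GolayPt → ℤ) ∈ stdCross) :
    ∃ n ∈ NN, n • e = v := by
  obtain ⟨i, s, hs, hv⟩ := hv
  haveI := M24_isPretransitive
  obtain ⟨σ, hσ⟩ := MulAction.exists_smul_eq ↥M24 (pt 0) i
  have hσ' : (σ : Equiv.Perm GolayPt) (pt 0) = i := hσ
  rcases hs with rfl | rfl
  · refine ⟨piCo σ.1 σ.2, piCo_mem_NN _ _, ?_⟩
    apply Subtype.ext
    funext q
    rw [piCo_apply, e_coe, hv]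
    exact single_comp hσ' 8 q
  · refine ⟨negCo * piCo σ.1 σ.2, NN.mul_mem negCo_mem_NN (piCo_mem_NN _ _), ?_⟩
    apply Subtype.ext
    funext q
    rw [mul_smul, negCo_smul]
    show -((piCo σ.1 σ.2 • e : ↥leechLattice) : GolayPt → ℤ) q = _
    rw [piCo_apply, e_coe, hv, single_comp hσ' 8 q, Pi.single_apply, Pi.single_apply]
    split_ifs <;> simp

end CROSS1

/-- CROSS1: an automorphism mapping one vector of the standard cross into the standard cross
preserves the standard cross -/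
theorem mem_NN_of_map (x : ↥Co0) (u : ↥leechLattice) (hu : (u : GolayPt → ℤ) ∈ stdCross)
    (hxu : ((x • u : ↥leechLattice) : GolayPt → ℤ) ∈ stdCross) : x ∈ NN := by
  obtain ⟨n₁, hn₁, h1⟩ := CROSS1.exists_NN_map u hu
  obtain ⟨n₂, hn₂, h2⟩ := CROSS1.exists_NN_map (x • u) hxu
  have hg : (n₂⁻¹ * x * n₁) • e = e := by
    rw [mul_smul, mul_smul, h1, ← h2, inv_smul_smul]
  have hmem : n₂⁻¹ * x * n₁ ∈ NN := presCross_of_stab hg
  have : x = n₂ * (n₂⁻¹ * x * n₁) * n₁⁻¹ := by group
  rw [this]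
  exact NN.mul_mem (NN.mul_mem hn₂ hmem) (NN.inv_mem hn₁)

end Cfsg.Agent.S1572P
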