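import Mathlib

/-! S1572 piece FIXPT (helper19): the fixed point argument, pure group theory. -/

set_option autoImplicit false

namespace Cfsg.Agent.S1572P

open scoped Pointwise

/-- FIXPT (pure group theory): if `g ∈ N` has `g ^ p = 1` and fixes only the trivial coset of `N`
(`x⁻¹ g x ∈ N → x ∈ N`), then `[L : N] ≡ 1 (mod p)` for every `N ≤ L` -/
theorem relIndex_mod_eq_one {G : Type*} [Group G] [Finite G] {p : ℕ} (hp : p.Prime) (N L : Subgroup G)
    (hNL : N ≤ L) (g : G) (hgN : g ∈ N) (hg : g ^ p = 1)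
    (h : ∀ x : G, x⁻¹ * g * x ∈ N → x ∈ N) : N.relIndex L % p = 1 % p := by
  haveI : Fact p.Prime := ⟨hp⟩
  let gL : L := ⟨g, hNL hgN⟩
  have hgL : gL ^ p = 1 := by
    apply Subtype.ext
    simpa using hg
  let P : Subgroup L := Subgroup.zpowers gL
  have hP : IsPGroup p P := by
    intro x
    refine ⟨1, ?_⟩
    obtain ⟨x, hx⟩ := x
    obtain ⟨k, rfl⟩ := Subgroup.mem_zpowers_iff.mp hx
    apply Subtype.ext
    show (gL ^ k) ^ p ^ 1 = 1
    rw [pow_one, ← zpow_natCast, ← zpow_mul, mul_comm, zpow_mul, zpow_natCast, hgL, one_zpow]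
  have hmod := hP.card_modEq_card_fixedPoints (↥L ⧸ N.subgroupOf L)
  have hcard : Nat.card (↥L ⧸ N.subgroupOf L) = N.relIndex L := by
    rw [Subgroup.relIndex, Subgroup.index_eq_card]
  have hfix : Nat.card (MulAction.fixedPoints P (↥L ⧸ N.subgroupOf L)) = 1 := by
    rw [Nat.card_eq_one_iff_unique]
    constructor
    · constructor
      rintro ⟨a, ha⟩ ⟨b, hb⟩
      apply Subtype.ext
      show a = b
      have key : ∀ c : ↥L ⧸ N.subgroupOf L, c ∈ MulAction.fixedPoints P (↥L ⧸ N.subgroupOf L) →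
          c = ((1 : L) : ↥L ⧸ N.subgroupOf L) := by
        intro c hc
        induction c using QuotientGroup.induction_on with
        | H x =>
          have h1 := hc ⟨gL, Subgroup.mem_zpowers gL⟩
          have h2 : ((gL * x : L) : ↥L ⧸ N.subgroupOf L) = (x : ↥L ⧸ N.subgroupOf L) := h1
          rw [QuotientGroup.eq] at h2
          have h3 : ((gL * x)⁻¹ * x : L) ∈ N.subgroupOf L := h2
          rw [Subgroup.mem_subgroupOf] at h3
          have h4 : (x : G)⁻¹ * g * (x : G) ∈ N := by
            have := N.inv_mem h3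
            simpa [gL, mul_assoc] using this
          have h5 := h _ h4
          rw [eq_comm, QuotientGroup.eq]
          show ((1 : L)⁻¹ * x) ∈ N.subgroupOf L
          rw [Subgroup.mem_subgroupOf]
          simpa using h5
      rw [key a ha, key b hb]
    · refine ⟨⟨((1 : L) : ↥L ⧸ N.subgroupOf L), ?_⟩⟩
      rintro ⟨y, hy⟩
      obtain ⟨k, rfl⟩ := Subgroup.mem_zpowers_iff.mp hy
      show ((gL ^ k * 1 : L) : ↥L ⧸ N.subgroupOf L) = ((1 : L) : ↥L ⧸ N.subgroupOf L)
      rw [QuotientGroup.eq]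
      show ((gL ^ k * 1)⁻¹ * 1 : L) ∈ N.subgroupOf L
      rw [Subgroup.mem_subgroupOf]
      have : (gL : G) ∈ N := hgN
      have h6 : ((gL ^ k : L) : G) ∈ N := by
        rw [Subgroup.coe_zpow]
        exact N.zpow_mem this k
      simpa using N.inv_mem h6
  rw [hcard, hfix] at hmod
  exact hmod

end Cfsg.Agent.S1572P
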