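import Cfsg.Agent.Helper22.S1572Defs
import Cfsg.Agent.Helper25.S1572EVENSUB

/-! S1572 piece TRB (helper19): `NN` is transitive on the minimal vectors of shape `(±2^8, 0^16)`. -/

set_option autoImplicit false

namespace Cfsg.Agent.S1572P

open Cfsg Cfsg.Agent.Helper27 Cfsg.Agent.Helper22.Co0Mono Cfsg.Agent.Helper22.CrossStab
  Cfsg.Agent.Helper22.Co0Center Cfsg.Agent.Helper22.MinTrans Cfsg.Agent.Helper22.Co0Order
  Cfsg.Agent.Helper22.Census
open scoped Pointwise

namespace TRB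

/-- a lattice vector with an even entry has coordinate sum divisible by `8` -/
theorem sum_dvd_of_even_entry (x : GolayPt → ℤ) (hx : x ∈ leechLattice) (q : GolayPt)
    (hq : (2 : ℤ) ∣ x q) : (8 : ℤ) ∣ ∑ i, x i := by
  obtain ⟨m, t, ht, h2, -⟩ := (mem_leechLattice_iff x).mp hx
  obtain ⟨c, hc⟩ := hq
  have hm : m = 2 * (c - t q) := by
    have := ht q
    rw [hc] at this
    linarith
  obtain ⟨k, hk⟩ := h2.dvd
  exact ⟨(c - t q) - k, by rw [hm] at hk; linarith⟩

/-- a sum of terms `±4` over a finite set `S` is `4 |S|` modulo `8` -/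
theorem sum_pm_four (x : GolayPt → ℤ) (S : Finset GolayPt) (h : ∀ q ∈ S, x q = 4 ∨ x q = -4) :
    ∃ K : ℤ, ∑ q ∈ S, x q = 4 * (S.card : ℤ) + 8 * K := by
  classical
  induction S using Finset.induction_on with
  | empty => exact ⟨0, by simp⟩
  | insert a S ha ih =>
    obtain ⟨K, hK⟩ := ih (fun q hq => h q (Finset.mem_insert_of_mem hq))
    rw [Finset.sum_insert ha, Finset.card_insert_of_notMem ha, hK]
    rcases h a (Finset.mem_insert_self a S) with h' | h'
    · exact ⟨K, by rw [h']; push_cast; ring⟩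
    · exact ⟨K - 1, by rw [h']; push_cast; ring⟩

end TRB

/-- TRB -/
theorem trans_XB : ∀ v ∈ XB, ∀ w ∈ XB, ∃ g ∈ NN, g • v = w := by
  classical
  intro v hv w hw
  obtain ⟨O, hO, hv1, hv0⟩ := hv
  obtain ⟨O', hO', hw1, hw0⟩ := hw
  obtain ⟨σ, hσ, hσO⟩ := M24_octad_transitive O O' hO hO'
  have hmemO : ∀ q, q ∈ O' ↔ σ.symm q ∈ O := by
    intro q
    rw [← hσO, Finset.mem_smul_finset]
    constructor
    · rintro ⟨y, hy, rfl⟩
      rw [Equiv.Perm.smul_def, Equiv.symm_apply_apply]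
      exact hy
    · intro h
      exact ⟨σ.symm q, h, by rw [Equiv.Perm.smul_def, Equiv.apply_symm_apply]⟩
  -- the vector `v' = piCo σ • v` has the octad `O'`
  have hv'1 : ∀ q ∈ O', ((piCo σ hσ • v : ↥leechLattice) : GolayPt → ℤ) q = 2 ∨
      ((piCo σ hσ • v : ↥leechLattice) : GolayPt → ℤ) q = -2 := by
    intro q hq
    rw [piCo_apply]
    exact hv1 _ ((hmemO q).mp hq)
  have hv'0 : ∀ q, q ∉ O' → ((piCo σ hσ • v : ↥leechLattice) : GolayPt → ℤ) q = 0 := by
    intro q hq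
    rw [piCo_apply]
    exact hv0 _ (fun h => hq ((hmemO q).mpr h))
  set v' : ↥leechLattice := piCo σ hσ • v with hv'def
  -- the set of sign differences
  set S : Finset GolayPt := O'.filter (fun q => (v' : GolayPt → ℤ) q ≠ (w : GolayPt → ℤ) q) with hS
  have hSO : S ⊆ O' := Finset.filter_subset _ _
  have hx : ∀ q, ((v' - w : ↥leechLattice) : GolayPt → ℤ) q =
      (v' : GolayPt → ℤ) q - (w : GolayPt → ℤ) q := fun q => rfl
  have hxS : ∀ q ∈ S, ((v' - w : ↥leechLattice) : GolayPt → ℤ) q = 4 ∨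
      ((v' - w : ↥leechLattice) : GolayPt → ℤ) q = -4 := by
    intro q hq
    rw [hS, Finset.mem_filter] at hq
    obtain ⟨hqO, hne⟩ := hq
    rw [hx]
    rcases hv'1 q hqO with h1 | h1 <;> rcases hw1 q hqO with h2 | h2
    · exact absurd (h1.trans h2.symm) hne
    · left; rw [h1, h2]; norm_num
    · right; rw [h1, h2]; norm_num
    · exact absurd (h1.trans h2.symm) hne
  have hxnS : ∀ q, q ∉ S → ((v' - w : ↥leechLattice) : GolayPt → ℤ) q = 0 := by
    intro q hq
    rw [hx]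
    by_cases hqO : q ∈ O'
    · have : ¬ ((v' : GolayPt → ℤ) q ≠ (w : GolayPt → ℤ) q) := fun h =>
        hq (by rw [hS, Finset.mem_filter]; exact ⟨hqO, h⟩)
      rw [not_not] at this
      rw [this, sub_self]
    · rw [hv'0 q hqO, hw0 q hqO, sub_self]
  have heven : Even S.card := by
    have h8 : (8 : ℤ) ∣ ∑ i, ((v' - w : ↥leechLattice) : GolayPt → ℤ) i := by
      apply TRB.sum_dvd_of_even_entry _ (v' - w).2 (pt 0)
      by_cases h0 : pt 0 ∈ S
      · rcases hxS _ h0 with h | h <;> rw [h] <;> norm_num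
      · rw [hxnS _ h0]; exact dvd_zero _
    have hsum : ∑ i, ((v' - w : ↥leechLattice) : GolayPt → ℤ) i =
        ∑ i ∈ S, ((v' - w : ↥leechLattice) : GolayPt → ℤ) i := by
      symm
      apply Finset.sum_subset (Finset.subset_univ _)
      intro q _ hq
      exact hxnS q hq
    obtain ⟨K, hK⟩ := TRB.sum_pm_four _ S hxS
    rw [hsum, hK] at h8
    obtain ⟨c, hc⟩ := h8
    rw [Nat.even_iff]
    omega
  obtain ⟨u, hu, huS⟩ := exists_word_inter hO' hSO heven
  refine ⟨epsCo u hu * piCo σ hσ, NN.mul_mem (epsCo_mem_NN u hu) (piCo_mem_NN σ hσ), ?_⟩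
  apply Subtype.ext
  funext q
  rw [mul_smul, epsCo_apply]
  show (if q ∈ support₂ u then -(v' : GolayPt → ℤ) q else (v' : GolayPt → ℤ) q) = (w : GolayPt → ℤ) q
  by_cases hqO : q ∈ O'
  · have hiff : q ∈ support₂ u ↔ q ∈ S := by
      rw [← huS, Finset.mem_inter]
      exact ⟨fun h => ⟨h, hqO⟩, fun h => h.1⟩
    by_cases hqS : q ∈ S
    · rw [if_pos (hiff.mpr hqS)]
      have hne : (v' : GolayPt → ℤ) q ≠ (w : GolayPt → ℤ) q := by
        rw [hS, Finset.mem_filter] at hqS
        exact hqS.2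
      rcases hv'1 q hqO with h1 | h1 <;> rcases hw1 q hqO with h2 | h2
      · exact absurd (h1.trans h2.symm) hne
      · rw [h1, h2]
      · rw [h1, h2]; norm_num
      · exact absurd (h1.trans h2.symm) hne
    · rw [if_neg (fun h => hqS (hiff.mp h))]
      have : ¬ ((v' : GolayPt → ℤ) q ≠ (w : GolayPt → ℤ) q) := fun h =>
        hqS (by rw [hS, Finset.mem_filter]; exact ⟨hqO, h⟩)
      rw [not_not] at this
      exact this
  · rw [hv'0 q hqO, hw0 q hqO]
    simp

end Cfsg.Agent.S1572P
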