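import Mathlib
import Cfsg.Agent.Helper9.S1851.Defs

/-! S1851 piece ODDGEN (helper19): a finite perfect subgroup is generated by its elements of odd order. -/

set_option autoImplicit false

namespace Cfsg.Agent.S1851P

open Subgroup Cfsg

namespace ODDGEN

theorem oddGenerated_le {G : Type*} [Group G] (X : Subgroup G) : oddGenerated X ≤ X := by
  unfold oddGenerated
  rw [closure_le]
  intro x hx
  exact hx.1

/-- `oddGenerated X` is normalized by `X` -/
theorem conj_mem_oddGenerated {G : Type*} [Group G] (X : Subgroup G) {g x : G} (hg : g ∈ X)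
    (hx : x ∈ oddGenerated X) : g * x * g⁻¹ ∈ oddGenerated X := by
  unfold oddGenerated at hx ⊢
  induction hx using closure_induction with
  | mem y hy =>
    apply Subgroup.subset_closure
    refine ⟨X.mul_mem (X.mul_mem hg hy.1) (X.inv_mem hg), ?_⟩
    have : orderOf (g * y * g⁻¹) = orderOf y := by
      have := orderOf_injective (MulAut.conj g).toMonoidHom (MulAut.conj g).injective y
      simpa using this
    rw [this]
    exact hy.2
  | one =>
    have : g * 1 * g⁻¹ = 1 := by group
    rw [this]
    exact one_mem _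
  | mul y z _ _ hy hz =>
    have : g * (y * z) * g⁻¹ = (g * y * g⁻¹) * (g * z * g⁻¹) := by group
    rw [this]
    exact mul_mem hy hz
  | inv y _ hy =>
    have : g * y⁻¹ * g⁻¹ = (g * y * g⁻¹)⁻¹ := by group
    rw [this]
    exact inv_mem hy

/-- a `2`-power power of every element of a finite group has odd order -/
theorem exists_pow_odd {G : Type*} [Group G] [Finite G] (x : G) :
    ∃ k : ℕ, Odd (orderOf (x ^ (2 ^ k))) := by
  have h0 : orderOf x ≠ 0 := (orderOf_pos x).ne'
  obtain ⟨k, m, hm, he⟩ := Nat.exists_eq_two_pow_mul_odd h0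
  refine ⟨k, ?_⟩
  have hk : (2 : ℕ) ^ k ≠ 0 := pow_ne_zero _ (by norm_num)
  have hd : 2 ^ k ∣ orderOf x := ⟨m, he⟩
  rw [orderOf_pow_of_dvd hk hd, he, Nat.mul_div_cancel_left _ (Nat.pos_of_ne_zero hk)]
  exact hm

theorem derivedSeries_eq_top_of_perfect {H : Type*} [Group H]
    (h : ⁅(⊤ : Subgroup H), (⊤ : Subgroup H)⁆ = (⊤ : Subgroup H)) (n : ℕ) :
    derivedSeries H n = ⊤ := by
  induction n with
  | zero => exact derivedSeries_zero H
  | succ n ih => rw [derivedSeries_succ, ih, h]

theorem oddGenerated_eq_of_perfect {G : Type*} [Group G] [Finite G] (X : Subgroup G)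
    (h : ⁅X, X⁆ = X) : oddGenerated X = X := by
  apply le_antisymm (oddGenerated_le X)
  set N : Subgroup ↥X := (oddGenerated X).subgroupOf X with hN
  have hNn : N.Normal := by
    constructor
    intro n hn g
    rw [hN, mem_subgroupOf] at hn ⊢
    have := conj_mem_oddGenerated X g.2 hn
    simpa using this
  -- the quotient is a `2`-group
  have hp : IsPGroup 2 (↥X ⧸ N) := by
    intro q
    obtain ⟨x, rfl⟩ := QuotientGroup.mk_surjective q
    obtain ⟨k, hk⟩ := exists_pow_odd (x : G)
    refine ⟨k, ?_⟩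
    rw [← QuotientGroup.mk_pow, QuotientGroup.eq_one_iff, hN, mem_subgroupOf]
    unfold oddGenerated
    apply Subgroup.subset_closure
    refine ⟨?_, ?_⟩
    · exact X.pow_mem x.2 _
    · simpa using hk
  have hnil : Group.IsNilpotent (↥X ⧸ N) := hp.isNilpotent
  have hsolv : Group.IsSolvable (↥X ⧸ N) := inferInstance
  obtain ⟨n, hn⟩ := hsolv.solvable
  -- `↥X` is perfect
  have hperf : ⁅(⊤ : Subgroup ↥X), (⊤ : Subgroup ↥X)⁆ = (⊤ : Subgroup ↥X) := by
    apply map_injective X.subtype_injective
    have ht : (⊤ : Subgroup ↥X).map X.subtype = X := by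
      rw [← MonoidHom.range_eq_map, Subgroup.range_subtype]
    rw [map_commutator, ht, h]
  have htop := derivedSeries_eq_top_of_perfect hperf n
  have hmap := map_derivedSeries_eq (f := QuotientGroup.mk' N) (QuotientGroup.mk'_surjective N) n
  rw [hn, htop, (Subgroup.map_eq_bot_iff _), QuotientGroup.ker_mk'] at hmap
  intro x hx
  have : (⟨x, hx⟩ : ↥X) ∈ N := hmap (mem_top _)
  rw [hN, mem_subgroupOf] at this
  exact this

end ODDGEN

end Cfsg.Agent.S1851P
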