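import Mathlib
import Cfsg.Agent.Helper9.S1851.Defs
import Cfsg.Agent.Lead.ThompsonPQ

/-! S1851 piece TPQG (helper19): Thompson's `P × Q` lemma, with `[P, Q]` only centralizing `U`
(generalisation of `Cfsg.Agent.Lead.thompson_PQ`). -/

set_option autoImplicit false

namespace Cfsg.Agent.S1851P

open Subgroup Cfsg
open scoped commutatorElement

namespace TPQG

/-- a subgroup `R` all of whose elements conjugate `H` into `H` normalizes `H` -/
theorem le_normalizer_of_conj_mem {G : Type*} [Group G] {R H : Subgroup G}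
    (h : ∀ y ∈ R, ∀ x ∈ H, y * x * y⁻¹ ∈ H) : R ≤ normalizer (H : Set G) := by
  intro y hy
  rw [mem_normalizer_iff]
  intro x
  constructor
  · exact h y hy x
  · intro hx
    have := h y⁻¹ (R.inv_mem hy) _ hx
    have e : y⁻¹ * (y * x * y⁻¹) * y⁻¹⁻¹ = x := by group
    rwa [e] at this

/-- If `R`, `S` normalize `U` and `[R, S]` centralizes `U`, then `R` normalizes `[U, S]`. -/
theorem le_normalizer_commutator_of_comm_centralizes {G : Type*} [Group G] {U R S : Subgroup G}
    (hRU : R ≤ normalizer (U : Set G)) (hSU : S ≤ normalizer (U : Set G))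
    (hRS : ⁅R, S⁆ ≤ centralizer (U : Set G)) :
    R ≤ normalizer ((⁅U, S⁆ : Subgroup G) : Set G) := by
  apply le_normalizer_of_conj_mem
  intro y hy
  -- conjugation by `y` maps `⁅U, S⁆` into itself
  have hmap : (⁅U, S⁆ : Subgroup G).map (MulAut.conj y).toMonoidHom ≤ ⁅U, S⁆ := by
    rw [map_commutator, commutator_le]
    rintro g₁ ⟨u, hu, rfl⟩ g₂ ⟨p, hp, rfl⟩
    simp only [MulEquiv.coe_toMonoidHom, MulAut.conj_apply]
    have hu' : y * u * y⁻¹ ∈ U := (mem_normalizer_iff.mp (hRU hy) u).mp hu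
    set u' := y * u * y⁻¹ with hu'def
    have hc : ⁅y, p⁆ ∈ centralizer (U : Set G) := hRS (commutator_mem_commutator hy hp)
    have hw : p * u'⁻¹ * p⁻¹ ∈ U := (mem_normalizer_iff.mp (hSU hp) _).mp (U.inv_mem hu')
    have hcw : (p * u'⁻¹ * p⁻¹) * ⁅y, p⁆ = ⁅y, p⁆ * (p * u'⁻¹ * p⁻¹) :=
      mem_centralizer_iff.mp hc _ hw
    have key : ⁅u', y * p * y⁻¹⁆ = ⁅u', p⁆ := by
      have e1 : y * p * y⁻¹ = ⁅y, p⁆ * p := by rw [commutatorElement_def]; group
      rw [e1, commutatorElement_def u' (⁅y, p⁆ * p), commutatorElement_def u' p]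
      have e2 : u' * (⁅y, p⁆ * p) * u'⁻¹ * (⁅y, p⁆ * p)⁻¹
          = u' * (⁅y, p⁆ * (p * u'⁻¹ * p⁻¹)) * ⁅y, p⁆⁻¹ := by group
      rw [e2, ← hcw]
      group
    rw [key]
    exact commutator_mem_commutator hu' hp
  intro x hx
  exact hmap ⟨x, hx, rfl⟩

theorem thompson_PQ_gen_aux {G : Type*} [Group G] [Finite G] (p : ℕ) [Fact p.Prime]
    (P Q : Subgroup G) (hP : IsPGroup p P) (hQ : (Nat.card Q).Coprime p) (n : ℕ) :
    ∀ U : Subgroup G, Nat.card U = n → IsPGroup p U →
    ⁅P, Q⁆ ≤ centralizer (U : Set G) →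
    P ≤ normalizer (U : Set G) → Q ≤ normalizer (U : Set G) →
    U ⊓ centralizer (P : Set G) ≤ centralizer (Q : Set G) →
    Q ≤ centralizer (U : Set G) := by
  induction n using Nat.strong_induction_on with
  | _ n ih =>
  intro U hn hU hPQ hPU hQU hC
  have hQP : ⁅Q, P⁆ ≤ centralizer (U : Set G) := by rw [commutator_comm]; exact hPQ
  have hcopQU : (Nat.card Q).Coprime (Nat.card U) := by
    obtain ⟨k, hk⟩ := hU.exists_card_eq
    rw [hk]; exact Nat.Coprime.pow_right k hQ
  have hsolvU : Group.IsSolvable Q ∨ Group.IsSolvable U := by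
    right
    have : Group.IsNilpotent U := hU.isNilpotent
    infer_instance
  by_cases hUbot : U = ⊥
  · rw [hUbot]
    intro q _
    rw [mem_centralizer_iff]
    intro h hh
    have : h = 1 := by simpa using hh
    rw [this]; simp
  set W : Subgroup G := ⁅U, Q⁆ with hW
  have hWU : W ≤ U := Cfsg.Agent.Lead.commutator_le_of_le_normalizer hQU
  by_cases hWeq : W = U
  · -- [U,Q] = U
    set V : Subgroup G := ⁅U, P⁆ with hV
    have hVlt : V < U := Cfsg.Agent.Lead.commutator_lt_of_isPGroup hU hP hPU hUbot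
    have hVU : V ≤ U := hVlt.le
    have hVcard : Nat.card V < n := by
      rw [← hn]
      exact lt_of_le_of_ne (card_le_of_le hVU)
        (fun h => hVlt.ne (eq_of_le_of_card_ge hVU (le_of_eq h.symm)))
    have hQV : Q ≤ centralizer (V : Set G) :=
      ih (Nat.card V) hVcard V rfl (hU.to_le hVU)
        (hPQ.trans (centralizer_le (by exact_mod_cast hVU)))
        (Cfsg.Agent.Lead.le_normalizer_commutator_right U P)
        (le_normalizer_commutator_of_comm_centralizes hQU hPU hQP)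
        ((inf_le_inf_right _ hVU).trans hC)
    have h1 : ⁅⁅U, P⁆, Q⁆ = ⊥ := by
      rw [commutator_eq_bot_iff_le_centralizer]; exact le_centralizer_iff.mp hQV
    have h2 : ⁅⁅P, Q⁆, U⁆ = ⊥ := commutator_eq_bot_iff_le_centralizer.mpr hPQ
    have h3 : ⁅⁅Q, U⁆, P⁆ = ⊥ := commutator_commutator_eq_bot_of_rotate h1 h2
    rw [commutator_comm Q U, ← hW, hWeq] at h3
    have h4 : U ≤ centralizer (P : Set G) := commutator_eq_bot_iff_le_centralizer.mp h3
    have h5 : U ≤ centralizer (Q : Set G) := (le_inf le_rfl h4).trans hC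
    exact le_centralizer_iff.mp h5
  · -- [U,Q] < U
    have hWcard : Nat.card W < n := by
      rw [← hn]
      exact lt_of_le_of_ne (card_le_of_le hWU)
        (fun h => hWeq (eq_of_le_of_card_ge hWU (le_of_eq h.symm)))
    have hQW : Q ≤ centralizer (W : Set G) :=
      ih (Nat.card W) hWcard W rfl (hU.to_le hWU)
        (hPQ.trans (centralizer_le (by exact_mod_cast hWU)))
        (le_normalizer_commutator_of_comm_centralizes hPU hQU hPQ)
        (Cfsg.Agent.Lead.le_normalizer_commutator_right U Q)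
        ((inf_le_inf_right _ hWU).trans hC)
    have h1 : ⁅⁅U, Q⁆, Q⁆ = ⊥ := by
      rw [commutator_eq_bot_iff_le_centralizer]; exact le_centralizer_iff.mp hQW
    rw [Cfsg.Agent.Lead.coprime_commutator_commutator Q U hQU hcopQU hsolvU] at h1
    exact le_centralizer_iff.mp (commutator_eq_bot_iff_le_centralizer.mp h1)

theorem thompson_PQ_gen {G : Type*} [Group G] [Finite G] (p : ℕ) [Fact p.Prime]
    (P Q U : Subgroup G) (hP : IsPGroup p P) (hQ : (Nat.card Q).Coprime p) (hU : IsPGroup p U)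
    (hPQ : ⁅P, Q⁆ ≤ centralizer (U : Set G))
    (hPU : P ≤ normalizer (U : Set G)) (hQU : Q ≤ normalizer (U : Set G))
    (hC : U ⊓ centralizer (P : Set G) ≤ centralizer (Q : Set G)) :
    Q ≤ centralizer (U : Set G) :=
  thompson_PQ_gen_aux p P Q hP hQ _ U rfl hU hPQ hPU hQU hC

end TPQG

end Cfsg.Agent.S1851P
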