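import Mathlib
import Cfsg.Agent.Helper8.S1904Defs

/-! Board `s1904pieces`, row T1: no `A`-fixed cosets in an abelian quotient `X/N`
(norm map `ν(y) = ∏_{φ ∈ A} φ(y) N`). -/

set_option autoImplicit false
set_option linter.unusedSectionVars false
set_option linter.unusedVariables false

namespace Cfsg.Agent.S1904P

/-- abstract norm-map core: a hom `f` to a commutative group; if `X` is generated by the `x⁻¹ φ(x)` and
`f (φ x) = f x` for all `φ ∈ A` then `f x ^ |A| = 1`. -/
theorem T1_aux_norm {X Q : Type*} [Group X] [CommGroup Q] (A : Subgroup (MulAut X)) [Fintype A]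
    (f : X →* Q)
    (hgen : Subgroup.closure {g : X | ∃ φ ∈ A, ∃ x : X, g = x⁻¹ * φ x} = ⊤)
    (x : X) (hx : ∀ φ ∈ A, f (φ x) = f x) : f x ^ Fintype.card A = 1 := by
  classical
  -- the norm map
  let ν : X →* Q := ∏ φ : A, f.comp ((φ : MulAut X).toMonoidHom)
  have hν : ∀ y : X, ν y = ∏ φ : A, f ((φ : MulAut X) y) := by
    intro y
    simp [ν]
  have hshift : ∀ (φ₀ : A) (y : X), ν ((φ₀ : MulAut X) y) = ν y := by
    intro φ₀ y
    rw [hν, hν]
    refine Fintype.prod_equiv (Equiv.mulRight φ₀) _ _ ?_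
    intro φ
    simp [MulAut.mul_apply]
  have hker : Subgroup.closure {g : X | ∃ φ ∈ A, ∃ x : X, g = x⁻¹ * φ x} ≤ ν.ker := by
    rw [Subgroup.closure_le]
    rintro g ⟨φ, hφ, y, rfl⟩
    show ν (y⁻¹ * φ y) = 1
    rw [map_mul, map_inv, hshift ⟨φ, hφ⟩ y, inv_mul_cancel]
  have h1 : ν x = 1 := by
    have : x ∈ ν.ker := hker (by rw [hgen]; trivial)
    exact this
  rw [hν] at h1
  rw [← h1]
  rw [Finset.prod_congr rfl (fun φ _ => hx φ.1 φ.2)]
  simp

variable {X : Type*} [Group X] [Finite X] {A : Subgroup (MulAut X)} {B : Subgroup X}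

/-- T1: no `A`-fixed cosets in an abelian invariant quotient `X/N`. -/
theorem T1 (H : Hyp A) (N : Subgroup X) (hN : N.Normal) (hI : Inv A N)
    (hab : ∀ x y : X, x * y * x⁻¹ * y⁻¹ ∈ N) (x : X) (hx : ∀ φ ∈ A, x⁻¹ * φ x ∈ N) : x ∈ N := by
  classical
  have hfinA : Finite A := Nat.finite_of_card_ne_zero (by
    rcases H.oddA with ⟨k, hk⟩; omega)
  have instF : Fintype A := Fintype.ofFinite A
  let instQ : CommGroup (X ⧸ N) :=
    { (QuotientGroup.Quotient.group N) with
      mul_comm := by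
        intro a b
        induction a using QuotientGroup.induction_on with
        | H a =>
          induction b using QuotientGroup.induction_on with
          | H b =>
            rw [← QuotientGroup.mk_mul, ← QuotientGroup.mk_mul, QuotientGroup.eq]
            have h := hab b⁻¹ a⁻¹
            have e : (a * b)⁻¹ * (b * a) = b⁻¹ * a⁻¹ * b⁻¹⁻¹ * a⁻¹⁻¹ := by group
            rw [e]; exact h }
  have key := @T1_aux_norm X (X ⧸ N) _ instQ A instF (QuotientGroup.mk' N) H.gen x (by
    intro φ hφ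
    show ((φ x : X) : X ⧸ N) = (x : X ⧸ N)
    rw [eq_comm, QuotientGroup.eq]
    exact hx φ hφ)
  -- so `x ^ |A| ∈ N`
  have hpowN : x ^ Fintype.card A ∈ N := by
    have : ((x ^ Fintype.card A : X) : X ⧸ N) = 1 := by
      rw [QuotientGroup.mk_pow]; exact key
    exact (QuotientGroup.eq_one_iff _).1 this
  -- `x` is a 2-element
  obtain ⟨k, hk⟩ := H.pX x
  have hodd : Odd (Fintype.card A) := by
    have := H.oddA
    rwa [Nat.card_eq_fintype_card] at this
  have hcop : Nat.Coprime (Fintype.card A) (2 ^ k) :=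
    Nat.Coprime.pow_right k (Nat.coprime_two_right.2 hodd)
  have hgcd := Nat.gcd_eq_gcd_ab (Fintype.card A) (2 ^ k)
  rw [hcop] at hgcd
  have hx1 : x = (x ^ Fintype.card A) ^ (Nat.gcdA (Fintype.card A) (2 ^ k)) *
      (x ^ 2 ^ k) ^ (Nat.gcdB (Fintype.card A) (2 ^ k)) := by
    rw [← zpow_natCast x (Fintype.card A), ← zpow_natCast x (2 ^ k), ← zpow_mul, ← zpow_mul,
      ← zpow_add, ← hgcd]
    simp
  rw [hx1, hk, one_zpow, mul_one]
  exact N.zpow_mem hpowN _

end Cfsg.Agent.S1904P
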