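import Mathlib
import Cfsg.Agent.Helper8.S1906CM

/-! Board `s1906pieces`, row D2 (core): two distinct central involutions of determinant 1 force `P` to be
abelian; the conclusion of row CONJ is a hypothesis. -/

set_option autoImplicit false
set_option linter.unusedSectionVars false
set_option linter.unusedVariables false

namespace Cfsg.Agent.S1906P

variable {F : Type*} [Field F]

/-- matrices with vanishing off-diagonal entries commute -/
theorem D2_aux_diag_comm (M N : Matrix (Fin 3) (Fin 3) F) (hM : ∀ i j : Fin 3, i ≠ j → M i j = 0)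
    (hN : ∀ i j : Fin 3, i ≠ j → N i j = 0) : M * N = N * M := by
  have eM : M = Matrix.diagonal (fun i => M i i) := by
    ext i j
    by_cases h : i = j
    · subst h; simp
    · rw [Matrix.diagonal_apply_ne _ h, hM i j h]
  have eN : N = Matrix.diagonal (fun i => N i i) := by
    ext i j
    by_cases h : i = j
    · subst h; simp
    · rw [Matrix.diagonal_apply_ne _ h, hN i j h]
  rw [eM, eN, Matrix.diagonal_mul_diagonal, Matrix.diagonal_mul_diagonal]
  congr 1
  ext i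
  exact mul_comm _ _

/-- D2 with the conclusion of CONJ (for `f s`, `f t`) as a hypothesis. -/
theorem D2_aux_core {P : Type*} [Group P] (h2 : (2 : F) ≠ 0) (f : P →* GL (Fin 3) F) (hf : Function.Injective f)
    (s t : P) (hs : s ∈ Subgroup.center P) (ht : t ∈ Subgroup.center P)
    (hconj : ∃ g : GL (Fin 3) F,
      ((g⁻¹ * f s * g : GL (Fin 3) F) : Matrix (Fin 3) (Fin 3) F) = !![-1, 0, 0; 0, -1, 0; 0, 0, 1] ∧
      ((g⁻¹ * f t * g : GL (Fin 3) F) : Matrix (Fin 3) (Fin 3) F) = !![1, 0, 0; 0, -1, 0; 0, 0, -1]) :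
    ∀ x y : P, x * y = y * x := by
  obtain ⟨g, hgs, hgt⟩ := hconj
  -- every `g⁻¹ f(x) g` is diagonal
  have hdiag : ∀ x : P, ∀ i j : Fin 3, i ≠ j →
      ((g⁻¹ * f x * g : GL (Fin 3) F) : Matrix (Fin 3) (Fin 3) F) i j = 0 := by
    intro x
    have hxs : x * s = s * x := (Subgroup.mem_center_iff.1 hs x)
    have hxt : x * t = t * x := (Subgroup.mem_center_iff.1 ht x)
    have e1 : (g⁻¹ * f x * g) * (g⁻¹ * f s * g) = (g⁻¹ * f s * g) * (g⁻¹ * f x * g) := by
      have : f x * f s = f s * f x := by rw [← map_mul, ← map_mul, hxs]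
      calc (g⁻¹ * f x * g) * (g⁻¹ * f s * g) = g⁻¹ * (f x * f s) * g := by group
        _ = g⁻¹ * (f s * f x) * g := by rw [this]
        _ = (g⁻¹ * f s * g) * (g⁻¹ * f x * g) := by group
    have e2 : (g⁻¹ * f x * g) * (g⁻¹ * f t * g) = (g⁻¹ * f t * g) * (g⁻¹ * f x * g) := by
      have : f x * f t = f t * f x := by rw [← map_mul, ← map_mul, hxt]
      calc (g⁻¹ * f x * g) * (g⁻¹ * f t * g) = g⁻¹ * (f x * f t) * g := by group
        _ = g⁻¹ * (f t * f x) * g := by rw [this]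
        _ = (g⁻¹ * f t * g) * (g⁻¹ * f x * g) := by group
    have m1' : ((g⁻¹ * f x * g : GL (Fin 3) F) : Matrix (Fin 3) (Fin 3) F) *
        ((g⁻¹ * f s * g : GL (Fin 3) F) : Matrix (Fin 3) (Fin 3) F) =
        ((g⁻¹ * f s * g : GL (Fin 3) F) : Matrix (Fin 3) (Fin 3) F) *
        ((g⁻¹ * f x * g : GL (Fin 3) F) : Matrix (Fin 3) (Fin 3) F) := by
      rw [← Units.val_mul, ← Units.val_mul, e1]
    have m2' : ((g⁻¹ * f x * g : GL (Fin 3) F) : Matrix (Fin 3) (Fin 3) F) *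
        ((g⁻¹ * f t * g : GL (Fin 3) F) : Matrix (Fin 3) (Fin 3) F) =
        ((g⁻¹ * f t * g : GL (Fin 3) F) : Matrix (Fin 3) (Fin 3) F) *
        ((g⁻¹ * f x * g : GL (Fin 3) F) : Matrix (Fin 3) (Fin 3) F) := by
      rw [← Units.val_mul, ← Units.val_mul, e2]
    rw [hgs] at m1'
    rw [hgt] at m2'
    exact MCOMM h2 _ m1' m2'
  intro x y
  apply hf
  rw [map_mul, map_mul]
  have hc : ((g⁻¹ * f x * g : GL (Fin 3) F) : Matrix (Fin 3) (Fin 3) F) *
      ((g⁻¹ * f y * g : GL (Fin 3) F) : Matrix (Fin 3) (Fin 3) F) =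
      ((g⁻¹ * f y * g : GL (Fin 3) F) : Matrix (Fin 3) (Fin 3) F) *
      ((g⁻¹ * f x * g : GL (Fin 3) F) : Matrix (Fin 3) (Fin 3) F) :=
    D2_aux_diag_comm _ _ (hdiag x) (hdiag y)
  have hc' : (g⁻¹ * f x * g) * (g⁻¹ * f y * g) = (g⁻¹ * f y * g) * (g⁻¹ * f x * g) := by
    apply Units.ext
    rw [Units.val_mul, Units.val_mul]
    exact hc
  calc f x * f y = g * ((g⁻¹ * f x * g) * (g⁻¹ * f y * g)) * g⁻¹ := by group
    _ = g * ((g⁻¹ * f y * g) * (g⁻¹ * f x * g)) * g⁻¹ := by rw [hc']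
    _ = f y * f x := by group

end Cfsg.Agent.S1906P
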