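import Mathlib
import Cfsg.Agent.Helper8.S1906CONJ
import Cfsg.Agent.Helper19.S1906D2core

/-! Board `s1906pieces`, row D2 (wrapper of `D2_aux_core` with row CONJ). -/

set_option autoImplicit false
set_option linter.unusedSectionVars false
set_option linter.unusedVariables false

namespace Cfsg.Agent.S1906P

variable {F : Type*} [Field F]

/-- D2: two distinct central involutions of determinant 1 force `P` to be abelian. -/
theorem D2 {P : Type*} [Group P] (h2 : (2 : F) ≠ 0) (f : P →* GL (Fin 3) F) (hf : Function.Injective f)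
    (s t : P) (hs : s ∈ Subgroup.center P) (ht : t ∈ Subgroup.center P) (hs2 : s * s = 1) (ht2 : t * t = 1)
    (hs1 : s ≠ 1) (ht1 : t ≠ 1) (hst : s ≠ t)
    (hds : Matrix.GeneralLinearGroup.det (f s) = 1) (hdt : Matrix.GeneralLinearGroup.det (f t) = 1) :
    ∀ x y : P, x * y = y * x := by
  refine D2_aux_core h2 f hf s t hs ht (CONJ h2 (f s) (f t) ?_ ?_ ?_ ?_ ?_ ?_ hds hdt)
  · rw [← map_mul, hs2, map_one]
  · rw [← map_mul, ht2, map_one]
  · intro h
    exact hs1 (hf (by rw [h, map_one]))
  · intro h
    exact ht1 (hf (by rw [h, map_one]))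
  · intro h
    exact hst (hf h)
  · rw [← map_mul, ← map_mul, Subgroup.mem_center_iff.1 ht s]

end Cfsg.Agent.S1906P
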