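import Mathlib
import Cfsg.Agent.Helper24.S2074ORBINV

set_option autoImplicit false

/-! S2074, piece NORM: the point stabilizer is the full normalizer of `⟨z⟩`. -/

namespace Cfsg.Agent.Helper17.SuzOut

namespace NORM

/-- the elements conjugating `z` to `z` or `z⁻¹` -/
def invNormalizer {J : Type*} [Group J] (z : J) : Subgroup J where
  carrier := {x | x * z * x⁻¹ = z ∨ x * z * x⁻¹ = z⁻¹}
  one_mem' := Or.inl (by simp)
  mul_mem' := by
    intro x y hx hy
    have e : ∀ w : J, x * y * w * (x * y)⁻¹ = x * (y * w * y⁻¹) * x⁻¹ := by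
      intro w; group
    have hxinv : x * z⁻¹ * x⁻¹ = (x * z * x⁻¹)⁻¹ := by group
    show x * y * z * (x * y)⁻¹ = z ∨ x * y * z * (x * y)⁻¹ = z⁻¹
    rw [e]
    rcases hy with hy | hy
    · rw [hy]; exact hx
    · rw [hy, hxinv]
      rcases hx with hx | hx
      · right; rw [hx]
      · left; rw [hx, inv_inv]
  inv_mem' := by
    intro x hx
    show x⁻¹ * z * x⁻¹⁻¹ = z ∨ x⁻¹ * z * x⁻¹⁻¹ = z⁻¹
    rw [inv_inv]
    rcases hx with hx | hx
    · left
      calc x⁻¹ * z * x = x⁻¹ * (x * z * x⁻¹) * x := by rw [hx]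
        _ = z := by group
    · right
      have h1 : x⁻¹ * z⁻¹ * x = z := by
        calc x⁻¹ * z⁻¹ * x = x⁻¹ * (x * z * x⁻¹) * x := by rw [hx]
          _ = z := by group
      calc x⁻¹ * z * x = (x⁻¹ * z⁻¹ * x)⁻¹ := by group
        _ = z⁻¹ := by rw [h1]

theorem mem_invNormalizer {J : Type*} [Group J] (z x : J) :
    x ∈ invNormalizer z ↔ (x * z * x⁻¹ = z ∨ x * z * x⁻¹ = z⁻¹) := Iff.rfl

end NORM

/-- NORM: the point stabilizer `H` is the full normalizer of `⟨z⟩`, given that `H` normalizes `⟨z⟩`,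
that the `oid`-classes are `H`-orbits, and that the representatives `w ∈ W` of the nontrivial
double cosets do not normalize `⟨z⟩`. -/
theorem normalizer_eq_of_double_cosets {J : Type*} [Group J] (N : ℕ) (hN : 0 < N)
    (phi : J →* Equiv.Perm ℕ) (H : Subgroup J) (oid : ℕ → ℕ)
    (hstab : ∀ g : J, phi g 0 = 0 ↔ g ∈ H)
    (hlt : ∀ (g : J) (p : ℕ), p < N → phi g p < N)
    (hreach : ∀ p q, p < N → q < N → oid p = oid q → ∃ h ∈ H, phi h p = q)
    (z : J) (hHz : ∀ h ∈ H, h * z * h⁻¹ = z ∨ h * z * h⁻¹ = z⁻¹)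
    (W : List J) (hW : ∀ p, p < N → p ≠ 0 → ∃ w ∈ W, oid (phi w 0) = oid p)
    (hWz : ∀ w ∈ W, w * z * w⁻¹ ≠ z ∧ w * z * w⁻¹ ≠ z⁻¹) :
    ∀ g : J, g ∈ H ↔ (g * z * g⁻¹ = z ∨ g * z * g⁻¹ = z⁻¹) := by
  intro g
  constructor
  · exact hHz g
  · intro hg
    by_cases hp : phi g 0 = 0
    · exact (hstab g).mp hp
    exfalso
    have hpN : phi g 0 < N := hlt g 0 hN
    obtain ⟨w, hwW, hwoid⟩ := hW (phi g 0) hpN hp
    obtain ⟨h, hhH, hh⟩ := hreach (phi w 0) (phi g 0) (hlt w 0 hN) hpN hwoid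
    -- `h' = (h * w)⁻¹ * g ∈ H`
    have h' : (h * w)⁻¹ * g ∈ H := by
      rw [← hstab, map_mul, map_inv, Equiv.Perm.mul_apply, Equiv.Perm.inv_eq_iff_eq, map_mul,
        Equiv.Perm.mul_apply]
      exact hh.symm
    have hHS : H ≤ NORM.invNormalizer z := fun x hx => hHz x hx
    have hgS : g ∈ NORM.invNormalizer z := hg
    have hw : w = h⁻¹ * g * ((h * w)⁻¹ * g)⁻¹ := by group
    have hwS : w ∈ NORM.invNormalizer z := by
      rw [hw]
      exact Subgroup.mul_mem _ (Subgroup.mul_mem _ (Subgroup.inv_mem _ (hHS hhH)) hgS)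
        (Subgroup.inv_mem _ (hHS h'))
    rcases (NORM.mem_invNormalizer z w).mp hwS with h1 | h1
    · exact (hWz w hwW).1 h1
    · exact (hWz w hwW).2 h1

end Cfsg.Agent.Helper17.SuzOut
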