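import Mathlib
import Cfsg.Agent.Helper2.S2094.DefsA
import Cfsg.Agent.Helper2.PSLM.Main
import Cfsg.Agent.Helper3.S2096HALFSTD
import Cfsg.Agent.Helper19.S2096C2H

set_option autoImplicit false
set_option linter.unusedSectionVars false
set_option linter.unusedVariables false

/-! S2094 chapter A, piece C2H3 (helper19): commuting long root elements of `B_n` have commuting lifts in a
central extension, when `(n, q)` is not exceptional for type `A_{n-1}` (in particular `n = 3`, `q` odd): the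
two long roots lie in a common half, of type `A_{n-1}`, where `Cfsg.Agent.S2086P.MAIN.c2_all` applies. -/

namespace Cfsg.Agent.S2094P

open Matrix Cfsg.Agent.S3352P Cfsg.Agent.S3351P Cfsg.Agent.S2096P Cfsg.Agent.S2086P
open scoped commutatorElement

variable {n : ℕ} {F : Type*} [Field F] [Fintype F] {G : Type*} [Group G] {E : Type*} [Group E]
  {X : J n → J n → F → G} {Ys : J n → F → G}

namespace C2H3

/-- the general form: `DRel X`, `3 ≤ n`, `(n, q)` not exceptional -/
theorem cl_comm_of_not_exc (hn : 3 ≤ n) (hexc : ¬ MAIN.Exc n (Fintype.card F)) (hX : DRel X)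
    (ψ : E →* G) (hψ : Function.Surjective ψ)
    (hc : ψ.ker ≤ Subgroup.center E) {a b c d : J n} (hab : IsRoot a b) (hcd : IsRoot c d)
    (h1 : b ≠ c) (h2 : a ≠ d) (h3 : a ≠ ng c) (h4 : a ≠ ng d) (h5 : b ≠ ng c) (h6 : b ≠ ng d)
    (s t : F) : CL ψ (X a b s) (X c d t) := by
  classical
  -- the half containing `a, b, c, d`
  set B : Finset (Fin n) := Finset.univ.filter
    (fun i => a = Sum.inr i ∨ b = Sum.inr i ∨ c = Sum.inr i ∨ d = Sum.inr i) with hB
  have hmem : ∀ i, i ∈ B ↔ (a = Sum.inr i ∨ b = Sum.inr i ∨ c = Sum.inr i ∨ d = Sum.inr i) := by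
    intro i
    rw [hB, Finset.mem_filter]
    simp
  -- no two of the four indices are opposite
  have key : ∀ x : J n, (x = a ∨ x = b ∨ x = c ∨ x = d) →
      ∀ i, x = Sum.inl i → i ∉ B := by
    intro x hx i hxi hiB
    rw [hmem] at hiB
    have hng : ng x = Sum.inr i := by rw [hxi]; rfl
    -- one of `a b c d` equals `ng x`
    have h' : a = ng x ∨ b = ng x ∨ c = ng x ∨ d = ng x := by
      rw [hng]; exact hiB
    have e1 : a ≠ ng a := (ng_ne a).symm
    have e2 : b ≠ ng b := (ng_ne b).symm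
    have e3 : c ≠ ng c := (ng_ne c).symm
    have e4 : d ≠ ng d := (ng_ne d).symm
    have f1 : b ≠ ng a := fun h => hab.2 (by rw [h, ng_ng])
    have f2 : c ≠ ng a := fun h => h3 (by rw [h, ng_ng])
    have f3 : d ≠ ng a := fun h => h4 (by rw [h, ng_ng])
    have f4 : c ≠ ng b := fun h => h5 (by rw [h, ng_ng])
    have f5 : d ≠ ng b := fun h => h6 (by rw [h, ng_ng])
    have f6 : d ≠ ng c := fun h => hcd.2 (by rw [h, ng_ng])
    rcases hx with rfl | rfl | rfl | rfl
    · rcases h' with h | h | h | h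
      · exact e1 h
      · exact f1 h
      · exact f2 h
      · exact f3 h
    · rcases h' with h | h | h | h
      · exact hab.2 h
      · exact e2 h
      · exact f4 h
      · exact f5 h
    · rcases h' with h | h | h | h
      · exact h3 h
      · exact h5 h
      · exact e3 h
      · exact f6 h
    · rcases h' with h | h | h | h
      · exact h4 h
      · exact h6 h
      · exact hcd.2 h
      · exact e4 h
  have ha : half B (ab a) = a := C2H.half_ab B a
    (fun i h => (hmem i).2 (Or.inl h)) (key a (Or.inl rfl))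
  have hb : half B (ab b) = b := C2H.half_ab B b
    (fun i h => (hmem i).2 (Or.inr (Or.inl h))) (key b (Or.inr (Or.inl rfl)))
  have hc' : half B (ab c) = c := C2H.half_ab B c
    (fun i h => (hmem i).2 (Or.inr (Or.inr (Or.inl h)))) (key c (Or.inr (Or.inr (Or.inl rfl))))
  have hd : half B (ab d) = d := C2H.half_ab B d
    (fun i h => (hmem i).2 (Or.inr (Or.inr (Or.inr h)))) (key d (Or.inr (Or.inr (Or.inr rfl))))
  obtain ⟨S, hS⟩ := exists_half_stD (F := F) (X := X) hn hX B
  have r1 := hS (rt (ab a) (ab b) (isRoot_iff_ab.1 hab)) s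
  have r2 := hS (rt (ab c) (ab d) (isRoot_iff_ab.1 hcd)) t
  rw [rt_fst, rt_snd, ha, hb] at r1
  rw [rt_fst, rt_snd, hc', hd] at r2
  rw [← r1, ← r2]
  exact MAIN.c2_all S ψ hψ hc hn hexc _ _ s t
    (C2H.ab_ne_of_ne h2 h4) (C2H.ab_ne_of_ne h1 h5)

/-- in odd characteristic the field has neither `2` nor `4` elements -/
theorem not_exc_of_two_ne_zero (hn3 : n = 3) (h2 : (2 : F) ≠ 0) :
    ¬ MAIN.Exc n (Fintype.card F) := by
  have hcard : ((Fintype.card F : ℕ) : F) = 0 := Nat.cast_card_eq_zero F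
  rintro (⟨-, hq⟩ | ⟨-, hq⟩ | ⟨h4, -⟩)
  · rw [hq] at hcard
    exact h2 (by exact_mod_cast hcard)
  · rw [hq] at hcard
    have h4 : (2 : F) * 2 = 0 := by
      have : ((4 : ℕ) : F) = 2 * 2 := by norm_num
      rw [← this]; exact hcard
    rcases mul_self_eq_zero.1 h4 with h
    exact h2 h
  · omega

end C2H3

/-- C2H3: the lifts of commuting long root elements commute, rank 3 -/
theorem cl_comm3 (π : G →* Matrix (I n) (I n) F)
    (hπX : ∀ a b, IsRoot a b → ∀ t : F, π (X a b t) = xmB a b t)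
    (hπY : ∀ a, ∀ t : F, π (Ys a t) = ymB a t) (hn3 : n = 3) (h2 : (2 : F) ≠ 0)
    (hB : BRel X Ys) (ψ : E →* G) (hψ : Function.Surjective ψ)
    (hc : ψ.ker ≤ Subgroup.center E) {a b c d : J n} (hab : IsRoot a b) (hcd : IsRoot c d)
    (h1 : b ≠ c) (h2' : a ≠ d) (h3 : a ≠ ng c) (h4 : a ≠ ng d) (h5 : b ≠ ng c) (h6 : b ≠ ng d)
    (s t : F) : CL ψ (X a b s) (X c d t) :=
  C2H3.cl_comm_of_not_exc (by omega) (C2H3.not_exc_of_two_ne_zero hn3 h2) hB.dX ψ hψ hc hab hcd
    h1 h2' h3 h4 h5 h6 s t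

end Cfsg.Agent.S2094P
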