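import Mathlib
import Cfsg.Agent.Helper2.S2096.Defs
import Cfsg.Agent.Helper5.S2096TXID
import Cfsg.Agent.Helper16.S2096DGH
import Cfsg.Agent.Helper24.S2096HABEL

set_option autoImplicit false
set_option linter.unusedSectionVars false
set_option linter.unusedVariables false

/-! S2096/S2097 part Z, piece ZHOM (helper19): `zphi` is multiplicative. -/

namespace Cfsg.Agent.S2096P

open Matrix Cfsg.Agent.S3352P Cfsg.Agent.S3351P Cfsg.Agent.S2086P

variable {n : ℕ} {F : Type*} [Field F] [Fintype F] {M : Type*} [Group M] {X : J n → J n → F → M}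

/-- ZHOM -/
theorem zphi_mul (π : M →* Matrix (J n) (J n) F)
    (hπ : ∀ a b, IsRoot a b → ∀ t : F, π (X a b t) = xm a b t)
    (Θ : Matrix.SpecialLinearGroup (Fin n) F →* M)
    (hΘ : ∀ (i j : Fin n) (hij : i ≠ j) (t : F),
      Θ (Matrix.SpecialLinearGroup.transvection hij t) = X (Sum.inl i) (Sum.inl j) t)
    (hn : 3 ≤ n) (hX : DRel X) {o o1 : Fin n} (ho : o ≠ o1) (p q : ↥(Zpar n F)) :
    zphi Θ X ho (p * q) = zphi Θ X ho p * zphi Θ X ho q := by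
  have hroot : IsRoot (Sum.inl o : J n) (Sum.inr o1) := by
    rw [isRoot_iff_ab, ab_inl, ab_inr]
    exact ho
  have hp0 : ((p.1.2 : Fˣ) : F) ≠ 0 := Units.ne_zero _
  have hq0 : ((q.1.2 : Fˣ) : F) ≠ 0 := Units.ne_zero _
  unfold zphi
  have e1 : (((p * q : ↥(Zpar n F)).1.2 : Fˣ) : F) = ((p.1.2 : Fˣ) : F) * ((q.1.2 : Fˣ) : F) := by
    rw [Subgroup.coe_mul, Prod.snd_mul, Units.val_mul]
  rw [e1, tX_mul hn hX hroot hp0 hq0, map_mul, map_mul, map_mul]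
  have hA : Θ (dgS n F (dpar ho q)) ∈ Hh X := Theta_dgS_mem_Hh Θ hΘ hn hX _
  have hT : tX X (Sum.inl o) (Sum.inr o1) ((p.1.2 : Fˣ) : F) ∈ Hh X :=
    Subgroup.subset_closure ⟨_, _, _, hroot, hp0, rfl⟩
  have hcomm := Hh_comm π hπ hn hX hT hA
  calc Θ (dgS n F (dpar ho p)) * Θ (dgS n F (dpar ho q)) *
        (tX X (Sum.inl o) (Sum.inr o1) ((p.1.2 : Fˣ) : F) *
          tX X (Sum.inl o) (Sum.inr o1) ((q.1.2 : Fˣ) : F))
      = Θ (dgS n F (dpar ho p)) * (Θ (dgS n F (dpar ho q)) *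
          tX X (Sum.inl o) (Sum.inr o1) ((p.1.2 : Fˣ) : F)) *
          tX X (Sum.inl o) (Sum.inr o1) ((q.1.2 : Fˣ) : F) := by
        simp only [mul_assoc]
    _ = Θ (dgS n F (dpar ho p)) * (tX X (Sum.inl o) (Sum.inr o1) ((p.1.2 : Fˣ) : F) *
          Θ (dgS n F (dpar ho q))) *
          tX X (Sum.inl o) (Sum.inr o1) ((q.1.2 : Fˣ) : F) := by
        rw [hcomm]
    _ = Θ (dgS n F (dpar ho p)) * tX X (Sum.inl o) (Sum.inr o1) ((p.1.2 : Fˣ) : F) *
          (Θ (dgS n F (dpar ho q)) * tX X (Sum.inl o) (Sum.inr o1) ((q.1.2 : Fˣ) : F)) := by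
        simp only [mul_assoc]

end Cfsg.Agent.S2096P
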