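import Mathlib
import Cfsg.Prelude.Def_Classical
import Cfsg.Agent.Helper2.S2099.DefsM
import Cfsg.Agent.Helper20.S2099MODELQ
import Cfsg.Agent.Helper28.POmegaCard

set_option autoImplicit false
set_option linter.unusedSectionVars false
set_option linter.unusedVariables false

/-! S2099 chapter F, piece CENTERQ (helper19; driver helper2): the elements of the centre of `Ω⁻_{2n+2}(F)` are `±1`
(`Cfsg.Agent.Helper28.OC.center_Omega_cases` for the minus form). -/

namespace Cfsg.Agent.S2099P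

open Matrix Cfsg.Agent.S3352P Cfsg.Agent.S3351P Cfsg.Agent.S2096P

variable {n : ℕ} {F : Type*} [Field F] [Fintype F]

/-- CENTERQ: the elements of the centre of `Ω⁻_{2n+2}(F)` are `±1` -/
theorem center_OmegaQ_cases (hn : 3 ≤ n) {a b : F}
    (hab : ∀ z₁ z₂ : F, z₁ ^ 2 + a * z₁ * z₂ + b * z₂ ^ 2 = 0 → z₁ = 0 ∧ z₂ = 0)
    (z : ↥(Cfsg.Omega F (Cfsg.quadFormMinus n F a b)))
    (hz : z ∈ Subgroup.center ↥(Cfsg.Omega F (Cfsg.quadFormMinus n F a b))) :
    coeΩQ n a b z = 1 ∨ coeΩQ n a b z = -1 := by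
  have hQ := (MODELQ.Q_gen (F := F) (a := a) (b := b) hn hab).1
  have hcard : Fintype.card (IQ n (Fin 2)) = 2 * n + 2 := by
    rw [Fintype.card_sum, Fintype.card_sum, Fintype.card_fin, Fintype.card_fin]; omega
  have h6 : 6 ≤ Fintype.card (IQ n (Fin 2)) := by rw [hcard]; omega
  exact Cfsg.Agent.Helper28.OC.center_Omega_cases
    (Cfsg.Agent.Helper28.Spin.QfMinus n F a b) hQ h6 z hz

end Cfsg.Agent.S2099P
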