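import Mathlib
import Cfsg.Agent.Helper2.S2099.DefsA
import Cfsg.Agent.Helper2.S2099.DefsZ
import Cfsg.Agent.Helper7.S2096YIND

set_option autoImplicit false
set_option linter.unusedSectionVars false
set_option linter.unusedVariables false

/-! S2099 chapter A, piece FOURQ (helper19; driver helper2): the four index identity for the lifts of the long root
elements, from the commutation `hC2` of the lifts (copy of `YIND.four_index_D` of S2096 with `hC2` as a hypothesis). -/

namespace Cfsg.Agent.S2099P

open Matrix Cfsg.Agent.S3352P Cfsg.Agent.S3351P Cfsg.Agent.S2096P Cfsg.Agent.S2086P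
open Cfsg.Agent.S2094P (LongOK isRoot_ng_right' isRoot_ng_left')
open scoped commutatorElement

section general

variable {n : ℕ} {F : Type*} [Field F] [Fintype F] {P : Type*} [AddCommGroup P] [Module F P]
  {G : Type*} [Group G] {E : Type*} [Group E] {Q0 : QuadraticForm F P}
  {X : J n → J n → F → G} {Ys : J n → P → G} {h₀ : G} {R D : P →ₗ[F] P}

namespace FOURQ

/-- (C2) for the Steinberg datum of a half -/
theorem hC2_half_of_c2 (ψ : E →* G)
    (hC2 : ∀ a b c d, IsRoot a b → IsRoot c d → b ≠ c → a ≠ d → a ≠ ng c → a ≠ ng d → b ≠ ng c →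
      b ≠ ng d → ∀ s t : F, CL ψ (X a b s) (X c d t))
    (B : Finset (Fin n)) (S : StD n F G)
    (hS : ∀ (a : Root n) (t : F), S.T a t = X (half B a.1.1) (half B a.1.2) t)
    (a b : Root n) (t u : F) (h1 : a.1.1 ≠ b.1.2) (h2 : a.1.2 ≠ b.1.1) :
    CL ψ (S.T a t) (S.T b u) := by
  rw [hS, hS]
  exact hC2 _ _ _ _ (YIND.isRoot_half B a.2) (YIND.isRoot_half B b.2) (YIND.half_ne B h2)
    (YIND.half_ne B h1) (YIND.half_ne_ng B _ _) (YIND.half_ne_ng B _ _) (YIND.half_ne_ng B _ _)
    (YIND.half_ne_ng B _ _) t u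

end FOURQ

/-- FOURQ: the four index identity from the commutation of the lifts -/
theorem four_index_of_c2 (hn : 3 ≤ n) (hX : DRel X) (ψ : E →* G)
    (hψ : Function.Surjective ψ) (hc : ψ.ker ≤ Subgroup.center E)
    (hC2 : ∀ a b c d, IsRoot a b → IsRoot c d → b ≠ c → a ≠ d → a ≠ ng c → a ≠ ng d → b ≠ ng c →
      b ≠ ng d → ∀ s t : F, CL ψ (X a b s) (X c d t))
    {a b c m : J n} (hab : ab a ≠ ab b) (hbc : ab b ≠ ab c) (ham : ab a ≠ ab m)
    (hmc : ab m ≠ ab c) (hac : ab a ≠ ab c) (hbm : ab b ≠ ab m) (s t : F) :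
    cl ψ hψ (X a b s) (X b c t) = cl ψ hψ (X a m (s * t)) (X m c 1) := by
  set l : List (J n) := [a, b, c, m] with hl
  have hinj : ∀ x ∈ l, ∀ y ∈ l, ab x = ab y → x = y := by
    intro x hx y hy hxy
    simp only [hl, List.mem_cons, List.not_mem_nil, or_false] at hx hy
    rcases hx with rfl | rfl | rfl | rfl <;> rcases hy with rfl | rfl | rfl | rfl <;>
      first
        | rfl
        | exact absurd hxy hab | exact absurd hxy.symm hab
        | exact absurd hxy hbc | exact absurd hxy.symm hbc
        | exact absurd hxy ham | exact absurd hxy.symm ham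
        | exact absurd hxy hmc | exact absurd hxy.symm hmc
        | exact absurd hxy hac | exact absurd hxy.symm hac
        | exact absurd hxy hbm | exact absurd hxy.symm hbm
  obtain ⟨S, hS⟩ := exists_half_stD (F := F) hn hX (YIND.hB l)
  have ha : half (YIND.hB l) (ab a) = a := YIND.half_hB l hinj a (by simp [hl])
  have hb : half (YIND.hB l) (ab b) = b := YIND.half_hB l hinj b (by simp [hl])
  have hc' : half (YIND.hB l) (ab c) = c := YIND.half_hB l hinj c (by simp [hl])
  have hm : half (YIND.hB l) (ab m) = m := YIND.half_hB l hinj m (by simp [hl])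
  have key := four_index S ψ hψ hc (FOURQ.hC2_half_of_c2 ψ hC2 (YIND.hB l) S hS) (ab a) (ab b)
    (ab c) (ab m) hab hbc ham hmc hac hbm s t
  rw [hS, hS, hS, hS] at key
  simp only [rt_fst, rt_snd] at key
  rw [ha, hb, hc', hm] at key
  exact key

end general

end Cfsg.Agent.S2099P
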