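import Cfsg.Agent.Helper28.S2258Defs
import Cfsg.Agent.Helper18.Dickson45
import Cfsg.Agent.Helper28.S2258NOEIG1
import Cfsg.Agent.Helper9.S2258NFC

/-! S2258 piece NF1 (helper19): an involution of `PSL₂(F)` is conjugate to `π (cM 0)`. -/

set_option autoImplicit false

namespace Cfsg.Agent.S2258P

open Cfsg.Agent.Helper18.Dickson

variable {F : Type*} [Field F] [Fintype F] {p : ℕ}

local notation "SF" => Matrix.SpecialLinearGroup (Fin 2) F
local notation "MF" => Matrix (Fin 2) (Fin 2) F
local notation "PF" => Matrix.ProjectiveSpecialLinearGroup (Fin 2) F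
local notation "π" => QuotientGroup.mk' (Subgroup.center SF)
local notation "q" => Fintype.card F

/-- NF1 (S; NOEIG1 + NFC). -/
theorem nf_invol (h : Hyp F p) (x : PF) (hx : orderOf x = 2) :
    ∃ g : PF, g * x * g⁻¹ = π (cM 0) := by
  obtain ⟨X, rfl⟩ := QuotientGroup.mk'_surjective (Subgroup.center SF) x
  obtain ⟨htr, hne⟩ := noEig_of_invol h X hx
  obtain ⟨-, g, hg⟩ := exists_conj_cM h X hne
  refine ⟨π g, ?_⟩
  rw [← map_inv, ← map_mul, ← map_mul, hg, htr]

end Cfsg.Agent.S2258P
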