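import Cfsg.Agent.Helper21.S2286DEFS
import Cfsg.Agent.Helper19.S2286PW

/-! S2286 piece EVENC (helper19): in characteristic 2 the relation `∏ A_i^{c_i} = h^N` (`c` the coefficients
of the minimal polynomial `m` of `lam`) together with `A_k = u A_1` (`lam^k = 1 + lam`) forces `h^N = 1`. -/

set_option autoImplicit false

namespace Cfsg.Agent.Helper21.S2286

open Polynomial Multiplicative

variable {G : Type*} [Group G]

namespace EVENC

theorem zmod2_mul_eq_one : ∀ a b : ZMod 2, a * b = 1 → b = 1 := by decide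

theorem zmod2_eval_one (k : ℕ) : (X ^ k - (1 + X) : (ZMod 2)[X]).eval 1 = 1 := by
  rw [eval_sub, eval_pow, eval_X, one_pow, eval_add, eval_one, eval_X]
  decide

/-- `ψ (X^n) = cj h u n` -/
theorem psi_X_pow (h u : G) (ψ : Multiplicative (ZMod 2)[X] →* G) (h1 : ψ (ofAdd 1) = u)
    (h2 : ∀ f : (ZMod 2)[X], ψ (ofAdd (X * f)) = h * ψ (ofAdd f) * h⁻¹) (n : ℕ) :
    ψ (ofAdd (X ^ n)) = cj h u (n : ℤ) := by
  induction n with
  | zero =>
    rw [pow_zero, h1]
    exact (cj_zero h u).symm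
  | succ n ih =>
    rw [pow_succ', h2, ih, conj_cj]
    push_cast
    rfl

end EVENC

/-! ## piece EVENC -/
theorem even_hN {F : Type*} [Field F] [Finite F] [CharP F 2] (lam : F)
    (hadj : letI := ZMod.algebra F 2; Algebra.adjoin (ZMod 2) {lam} = ⊤)
    (k : ℕ) (hk : lam ^ k = 1 + lam)
    (h u : G) (hu2 : u ^ 2 = 1) (hcomm : ∀ i j : ℤ, Commute (cj h u i) (cj h u j))
    (hrel3 : cj h u k = u * cj h u 1) (N : ℕ)
    (hm : prodA h u (mcoef 2 lam) (mdeg 2 lam + 1) = h ^ N) : h ^ N = 1 := by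
  obtain ⟨ψ, h1, h2, h3, h4⟩ := exists_pw 2 h u hu2 hcomm
  letI := ZMod.algebra F 2
  set m : (ZMod 2)[X] := mpoly 2 lam with hmdef
  -- `ψ m = h ^ N`
  have hψm : ψ (ofAdd m) = h ^ N := by
    have e : m = ∑ i ∈ Finset.range (mdeg 2 lam + 1), C ((mcoef 2 lam i : ℕ) : ZMod 2) * X ^ i := by
      have h0 := m.as_sum_range_C_mul_X_pow
      rw [h0]
      unfold mdeg
      rw [← hmdef, ← h0]
      nth_rewrite 1 [h0]
      refine Finset.sum_congr rfl (fun i _ => ?_)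
      unfold mcoef
      rw [← hmdef, ZMod.natCast_zmod_val]
    rw [e, h3, hm]
  -- `ψ ((X - 1) m) = 1`
  set f0 : (ZMod 2)[X] := X * m - m with hf0
  have hψf0 : ψ (ofAdd f0) = 1 := by
    rw [hf0, ofAdd_sub, _root_.map_div, h2, hψm, div_eq_one, ← pow_succ', pow_succ,
      mul_inv_cancel_right]
  -- `ψ (X^k - (1 + X)) = 1`
  set r : (ZMod 2)[X] := X ^ k - (1 + X) with hr
  have hψr : ψ (ofAdd r) = 1 := by
    rw [hr, ofAdd_sub, _root_.map_div, ofAdd_add, map_mul, EVENC.psi_X_pow h u ψ h1 h2 k, h1]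
    have hX : ψ (ofAdd X) = cj h u 1 := by
      have := EVENC.psi_X_pow h u ψ h1 h2 1
      rwa [pow_one, Nat.cast_one] at this
    rw [hX, hrel3, div_self']
  -- `m ∣ r`
  have hdvd : m ∣ r := by
    rw [hmdef]
    unfold mpoly
    apply minpoly.dvd
    rw [hr, map_sub, map_pow, aeval_X, map_add, map_one, aeval_X, hk, sub_self]
  obtain ⟨g, hg⟩ := hdvd
  -- `g(1) = 1`
  have hg1 : g.eval 1 = 1 := by
    have h5 : r.eval 1 = 1 := EVENC.zmod2_eval_one k
    rw [hg, eval_mul] at h5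
    exact EVENC.zmod2_mul_eq_one _ _ h5
  obtain ⟨g1, hg1'⟩ : X - C (1 : ZMod 2) ∣ g - C (g.eval 1) := X_sub_C_dvd_sub_C_eval
  rw [hg1, C_1] at hg1'
  -- `m = r - g1 * f0`
  have hm_eq : m = r - g1 * f0 := by
    have hg' : g = 1 + (X - 1) * g1 := by
      rw [← hg1']
      ring
    rw [hg, hf0, hg']
    ring
  rw [← hψm, hm_eq, ofAdd_sub, _root_.map_div, hψr, h4 f0 g1 hψf0, div_one]

end Cfsg.Agent.Helper21.S2286
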