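import Cfsg.Agent.Helper21.S2287DEFS
import Cfsg.Agent.Helper21.S2286FIN

/-! S2287 piece TORUS (helper19): the torus `T = ⟨h, s⟩` of an `A2Data` is abelian; `c`, `t` act on
`tor i j = h^i s^j` by `(i, j) ↦ (j, -i-j)`, `(-i-j, j)`; `tor i j` acts on `φ` by `ω^(2i+j)`. -/

namespace Cfsg.Agent.Helper21.S2287

open Multiplicative Cfsg.Agent.Helper21.S2286

variable {F : Type*} [Field F] {P : Type*} [Group P] (D : A2Data F P)

namespace A2Data

namespace TORUS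

/-- `g` acts on the root group `φ` by the unit `lam` -/
def Act (g : P) (lam : Fˣ) : Prop :=
  ∀ a : F, g * D.φ (ofAdd a) * g⁻¹ = D.φ (ofAdd ((lam : F) * a))

theorem act_one : Act D 1 1 := by
  intro a
  rw [one_mul, inv_one, mul_one, Units.val_one, one_mul]

theorem act_mul {g g' : P} {lam lam' : Fˣ} (hg : Act D g lam) (hg' : Act D g' lam') :
    Act D (g * g') (lam * lam') := by
  intro a
  have e : g * g' * D.φ (ofAdd a) * (g * g')⁻¹ = g * (g' * D.φ (ofAdd a) * g'⁻¹) * g⁻¹ := by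
    group
  rw [e, hg', hg, Units.val_mul, mul_assoc]

theorem act_inv {g : P} {lam : Fˣ} (hg : Act D g lam) : Act D g⁻¹ lam⁻¹ := by
  intro a
  have h1 := hg (((lam⁻¹ : Fˣ) : F) * a)
  rw [← mul_assoc, ← Units.val_mul, mul_inv_cancel, Units.val_one, one_mul] at h1
  rw [← h1, inv_inv]
  group

theorem act_zpow {g : P} {lam : Fˣ} (hg : Act D g lam) (n : ℤ) : Act D (g ^ n) (lam ^ n) := by
  induction n using Int.induction_on with
  | zero =>
    rw [zpow_zero, zpow_zero]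
    exact act_one D
  | succ n ih =>
    rw [zpow_add_one, zpow_add_one]
    exact act_mul D ih hg
  | pred n ih =>
    rw [zpow_sub_one, zpow_sub_one]
    exact act_mul D ih (act_inv D hg)

theorem conj_zpow (g x : P) (n : ℤ) : g * x ^ n * g⁻¹ = (g * x * g⁻¹) ^ n := by
  exact (_root_.conj_zpow).symm

theorem conj_mul (g x y : P) : g * (x * y) * g⁻¹ = (g * x * g⁻¹) * (g * y * g⁻¹) := by
  group

end TORUS

theorem s_phi (a : F) : D.s * D.φ (ofAdd a) * D.s⁻¹ = D.φ (ofAdd ((D.ω : F) * a)) := by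
  unfold s
  rw [inv_inv]
  exact D.s_conj a

theorem hs_comm : Commute D.h D.s := by
  unfold s
  exact D.hhc.inv_right

theorem c_h : D.c * D.h * D.c⁻¹ = D.s⁻¹ := by
  unfold s
  rw [inv_inv]

theorem c_s : D.c * D.s * D.c⁻¹ = D.h * D.s⁻¹ := by
  have h1 : D.c * D.s * D.c⁻¹ = (D.c * D.c * D.h * D.c⁻¹ * D.c⁻¹)⁻¹ := by
    unfold s
    rw [← conj_inv]
    congr 1
    simp only [mul_assoc]
  have h2 : D.c * D.c * D.h * D.c⁻¹ * D.c⁻¹ = (D.h * (D.c * D.h * D.c⁻¹))⁻¹ :=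
    eq_inv_of_mul_eq_one_right D.hprod
  rw [h1, h2, inv_inv, c_h]

theorem t_s : D.t * D.s * D.t⁻¹ = D.h⁻¹ * D.s := by
  have h1 : D.t * D.s * D.t⁻¹ = (D.t * (D.c * D.h * D.c⁻¹) * D.t⁻¹)⁻¹ := by
    unfold s
    rw [← conj_inv]
  rw [h1, D.thc, mul_inv_rev]
  have h2 : (D.c * D.h * D.c⁻¹)⁻¹ = D.s := rfl
  rw [h2]
  exact ((hs_comm D).inv_left).symm.eq

theorem tor_mul (i j i' j' : ℤ) : D.tor i j * D.tor i' j' = D.tor (i + i') (j + j') := by
  unfold tor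
  have hc : D.s ^ j * D.h ^ i' = D.h ^ i' * D.s ^ j := ((hs_comm D).zpow_zpow i' j).symm.eq
  calc D.h ^ i * D.s ^ j * (D.h ^ i' * D.s ^ j')
      = D.h ^ i * (D.s ^ j * D.h ^ i') * D.s ^ j' := by simp only [mul_assoc]
    _ = D.h ^ i * (D.h ^ i' * D.s ^ j) * D.s ^ j' := by rw [hc]
    _ = (D.h ^ i * D.h ^ i') * (D.s ^ j * D.s ^ j') := by simp only [mul_assoc]
    _ = D.h ^ (i + i') * D.s ^ (j + j') := by rw [zpow_add, zpow_add]

theorem tor_zero : D.tor 0 0 = 1 := by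
  unfold tor
  rw [zpow_zero, zpow_zero, one_mul]

theorem tor_inv (i j : ℤ) : (D.tor i j)⁻¹ = D.tor (-i) (-j) := by
  apply inv_eq_of_mul_eq_one_right
  rw [tor_mul, add_neg_cancel, add_neg_cancel, tor_zero]

theorem c_tor (i j : ℤ) : D.c * D.tor i j * D.c⁻¹ = D.tor j (-i - j) := by
  unfold tor
  rw [TORUS.conj_mul, TORUS.conj_zpow, TORUS.conj_zpow, c_h, c_s,
    ((hs_comm D).inv_right).mul_zpow, inv_zpow', inv_zpow']
  have hc : D.s ^ (-i) * D.h ^ j = D.h ^ j * D.s ^ (-i) := ((hs_comm D).zpow_zpow j (-i)).symm.eq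
  calc D.s ^ (-i) * (D.h ^ j * D.s ^ (-j))
      = (D.s ^ (-i) * D.h ^ j) * D.s ^ (-j) := by rw [mul_assoc]
    _ = D.h ^ j * (D.s ^ (-i) * D.s ^ (-j)) := by rw [hc, mul_assoc]
    _ = D.h ^ j * D.s ^ (-i - j) := by rw [← zpow_add, sub_eq_add_neg]

theorem t_tor (i j : ℤ) : D.t * D.tor i j * D.t⁻¹ = D.tor (-i - j) j := by
  unfold tor
  rw [TORUS.conj_mul, TORUS.conj_zpow, TORUS.conj_zpow, D.th, t_s,
    ((hs_comm D).inv_left).mul_zpow, inv_zpow', inv_zpow', ← mul_assoc, ← zpow_add,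
    sub_eq_add_neg]

theorem tor_phi (i j : ℤ) (a : F) :
    D.tor i j * D.φ (ofAdd a) * (D.tor i j)⁻¹ = D.φ (ofAdd ((D.ω : F) ^ (2 * i + j) * a)) := by
  have hh : TORUS.Act D D.h (D.ω ^ 2) := by
    intro a
    rw [Units.val_pow_eq_pow_val]
    exact D.h_conj a
  have hs : TORUS.Act D D.s D.ω := s_phi D
  have h1 := TORUS.act_mul D (TORUS.act_zpow D hh i) (TORUS.act_zpow D hs j)
  have h2 := h1 a
  have e : (((D.ω ^ 2) ^ i * D.ω ^ j : Fˣ) : F) = (D.ω : F) ^ (2 * i + j) := by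
    rw [← Units.val_zpow_eq_zpow_val]
    congr 1
    rw [zpow_add, zpow_mul]
    rfl
  rw [e] at h2
  exact h2

end A2Data

end Cfsg.Agent.Helper21.S2287
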