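import Cfsg.Agent.Helper21.S2287DEFS
import Cfsg.Agent.Helper21.S2286FIN
import Cfsg.Agent.Helper9.S2286WEYL
import Cfsg.Agent.Helper19.S2287TORUS

/-! S2287 piece WEYL3 (helper19): the Weyl relation for all `a ≠ 0` (conjugate `w1` by `s⁻¹`, then
`Cfsg.Agent.Helper21.S2286.weyl_odd`), `tor i j = 1` when `ω^i = ω^j = 1`, `t² = tor (-M) 0`. -/

namespace Cfsg.Agent.Helper21.S2287

open Multiplicative Cfsg.Agent.Helper21.S2286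

variable {F : Type*} [Field F] {P : Type*} [Group P] (D : A2Data F P)

namespace A2Data

namespace WEYL3

/-- `s⁻¹ t s = h⁻¹ t` -/
theorem sinv_t : D.s⁻¹ * D.t * (D.s⁻¹)⁻¹ = D.h⁻¹ * D.t := by
  have h1 : D.t * D.s = D.h⁻¹ * D.s * D.t := by
    rw [← t_s D]
    group
  have h2 : D.h⁻¹ * D.s = D.s * D.h⁻¹ := ((hs_comm D).inv_left).eq
  rw [inv_inv, mul_assoc, h1, h2]
  group

/-- the second seed of `weyl_odd` -/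
theorem hw2 : D.t * D.φ (ofAdd ((D.ω⁻¹ : Fˣ) : F)) * D.t⁻¹ =
    D.φ (ofAdd (-(D.ω : F))) * D.h * D.t * D.φ (ofAdd (-(D.ω : F))) := by
  have hact : TORUS.Act D D.s⁻¹ D.ω⁻¹ := TORUS.act_inv D (s_phi D)
  -- conjugate `w1` by `g = s⁻¹`
  have hA : D.s⁻¹ * D.φ (ofAdd 1) * (D.s⁻¹)⁻¹ = D.φ (ofAdd ((D.ω⁻¹ : Fˣ) : F)) := by
    rw [hact 1, mul_one]
  have hN : D.s⁻¹ * D.φ (ofAdd (-1)) * (D.s⁻¹)⁻¹ = D.φ (ofAdd (-((D.ω⁻¹ : Fˣ) : F))) := by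
    rw [hact (-1), mul_neg, mul_one]
  have key : (D.h⁻¹ * D.t) * D.φ (ofAdd ((D.ω⁻¹ : Fˣ) : F)) * (D.h⁻¹ * D.t)⁻¹ =
      D.φ (ofAdd (-((D.ω⁻¹ : Fˣ) : F))) * (D.h⁻¹ * D.t) * D.φ (ofAdd (-((D.ω⁻¹ : Fˣ) : F))) := by
    rw [← sinv_t D, ← hA, ← hN]
    have e1 : D.s⁻¹ * D.t * (D.s⁻¹)⁻¹ * (D.s⁻¹ * D.φ (ofAdd 1) * (D.s⁻¹)⁻¹) *
        (D.s⁻¹ * D.t * (D.s⁻¹)⁻¹)⁻¹ =
        D.s⁻¹ * (D.t * D.φ (ofAdd 1) * D.t⁻¹) * (D.s⁻¹)⁻¹ := by group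
    have e2 : D.s⁻¹ * D.φ (ofAdd (-1)) * (D.s⁻¹)⁻¹ * (D.s⁻¹ * D.t * (D.s⁻¹)⁻¹) *
        (D.s⁻¹ * D.φ (ofAdd (-1)) * (D.s⁻¹)⁻¹) =
        D.s⁻¹ * (D.φ (ofAdd (-1)) * D.t * D.φ (ofAdd (-1))) * (D.s⁻¹)⁻¹ := by group
    rw [e1, e2, D.w1]
  have hW : D.h * D.φ (ofAdd (-((D.ω⁻¹ : Fˣ) : F))) * D.h⁻¹ = D.φ (ofAdd (-(D.ω : F))) := by
    rw [D.h_conj]
    congr 2
    have h0 : (D.ω : F) ≠ 0 := Units.ne_zero _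
    rw [Units.val_inv_eq_inv_val]
    field_simp
  have hth' : D.t * D.h⁻¹ = D.h * D.t := by
    have := D.th
    have e : D.t * D.h⁻¹ = (D.t * D.h * D.t⁻¹)⁻¹ * D.t := by group
    rw [e, this, inv_inv]
  have e1 : D.t * D.φ (ofAdd ((D.ω⁻¹ : Fˣ) : F)) * D.t⁻¹ =
      D.h * ((D.h⁻¹ * D.t) * D.φ (ofAdd ((D.ω⁻¹ : Fˣ) : F)) * (D.h⁻¹ * D.t)⁻¹) * D.h⁻¹ := by group
  rw [e1, key]
  have e2 : D.h * (D.φ (ofAdd (-((D.ω⁻¹ : Fˣ) : F))) * (D.h⁻¹ * D.t) *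
      D.φ (ofAdd (-((D.ω⁻¹ : Fˣ) : F)))) * D.h⁻¹ =
      (D.h * D.φ (ofAdd (-((D.ω⁻¹ : Fˣ) : F))) * D.h⁻¹) * (D.t * D.h⁻¹) *
        (D.h * D.φ (ofAdd (-((D.ω⁻¹ : Fˣ) : F))) * D.h⁻¹) := by group
  rw [e2, hW, hth']
  simp only [mul_assoc]

end WEYL3

/-! ## piece WEYL3 -/
theorem weyl3 (M : ℤ) (hM : D.ω ^ M = -1) :
    (∀ a : F, a ≠ 0 → ∃ (a' : F) (j : ℤ) (b' : F),
      D.t * D.φ (ofAdd a) * D.t⁻¹ = D.φ (ofAdd a') * D.h ^ j * D.t * D.φ (ofAdd b')) ∧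
    (∀ j : ℤ, D.ω ^ j = 1 → D.h ^ j = 1) ∧
    D.t * D.t = D.h ^ (-M) ∧ (∀ a : F, Commute (D.h ^ (-M)) (D.φ (ofAdd a))) :=
  weyl_odd D.ω D.hω D.φ D.h D.t D.h_conj D.th D.w1 (WEYL3.hw2 D) M hM

theorem tor_eq_one (i j : ℤ) (hi : D.ω ^ i = 1) (hj : D.ω ^ j = 1) : D.tor i j = 1 := by
  obtain ⟨M, hM⟩ := Subgroup.mem_zpowers_iff.mp (D.hω (-1))
  have hker := (weyl3 D M hM).2.1
  unfold tor
  rw [hker i hi, one_mul]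
  have h1 : D.s ^ j = D.c * D.h ^ (-j) * D.c⁻¹ := by
    unfold s
    rw [TORUS.conj_zpow, inv_zpow']
  have h2 : D.ω ^ (-j) = 1 := by rw [zpow_neg, hj, inv_one]
  rw [h1, hker (-j) h2, mul_one, mul_inv_cancel]

/-- `t² = tor(-M, 0)` is in the torus and `t⁻¹ = t * tor M 0`. -/
theorem t_sq (M : ℤ) (hM : D.ω ^ M = -1) : D.t * D.t = D.tor (-M) 0 := by
  unfold tor
  rw [zpow_zero, mul_one]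
  exact (weyl3 D M hM).2.2.1

end A2Data

end Cfsg.Agent.Helper21.S2287
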