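import Mathlib
import Cfsg.Prelude.Def_Classical
import Cfsg.Agent.Helper21.S2286DEFS
import Cfsg.Agent.Helper21.S2289DEFS
import Cfsg.Agent.Helper21.S2289UDEFS
import Cfsg.Agent.Helper21.S2289WORDS
import Cfsg.Agent.Helper21.S2289UCL
import Cfsg.Agent.Helper18.S2286FIELD2

/-! S2289 wave 3, piece RELU (helper19; driver helper21): `u^p` and the minimal polynomial word of `μ` are words in
the conjugates of `z`: their `a`-coordinates vanish. -/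

set_option autoImplicit false

namespace Cfsg.Agent.Helper21.S2289

open Cfsg.Agent.Helper21.S2286 Polynomial Multiplicative

section rel
variable {F : Type*} [Field F] [Fintype F] {q : ℕ} {G : Type*} [Group G] (D : U3Data F q G)

theorem rel_u (p : ℕ) [Fact p.Prime] [CharP F p] (hF : Fintype.card F = q ^ 2) (h2 : q ≠ 2)
    (h3 : q ≠ 3) (ζ : Fˣ) (hζ : ∀ y : Fˣ, y ∈ Subgroup.zpowers ζ) (β₀ : F) (hβ : β₀ + β₀ ^ q = -1) :
    (∃ (zc1 : ℕ → ℕ) (zn1 : ℕ), D.uG 1 β₀ ^ p =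
      prodA (D.hG (ζ : F)) (zW (D.hG (ζ : F)) (D.uG 1 β₀)) zc1 zn1) ∧
    (∃ (zc3 : ℕ → ℕ) (zn3 : ℕ),
      prodA (D.hG (ζ : F)) (D.uG 1 β₀) (mcoef p ((ζ : F) ^ 2 / (ζ : F) ^ q))
        (mdeg p ((ζ : F) ^ 2 / (ζ : F) ^ q) + 1) =
      prodA (D.hG (ζ : F)) (zW (D.hG (ζ : F)) (D.uG 1 β₀)) zc3 zn3) := by
  have hu : InU D 1 (D.uG 1 β₀) := inU_uG D (val_base β₀ hβ)
  refine ⟨?_, ?_⟩
  · have h1 : InU D 0 (D.uG 1 β₀ ^ p) :=
      (inU_pow D hF hu p).congr (by rw [CharP.cast_eq_zero, zero_mul])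
    exact inU_zero_word D p hF h2 h3 ζ hζ β₀ hβ h1
  · have hev := (mcoef_facts p ((ζ : F) ^ 2 / (ζ : F) ^ q)).2.2
    have h1 : InU D 0 (prodA (D.hG (ζ : F)) (D.uG 1 β₀) (mcoef p ((ζ : F) ^ 2 / (ζ : F) ^ q))
        (mdeg p ((ζ : F) ^ 2 / (ζ : F) ^ q) + 1)) :=
      (inU_prodA D hF ζ hu _ _).congr (by rw [hev, zero_mul])
    exact inU_zero_word D p hF h2 h3 ζ hζ β₀ hβ h1

end rel

end Cfsg.Agent.Helper21.S2289
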