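import Mathlib
import Cfsg.Agent.Helper2.S2400.Defs
import Cfsg.Agent.Helper2.Stein.Tab
import Cfsg.Agent.Helper11.StCenterA
import Cfsg.Prelude.Def_KGroupFacts
import Cfsg.Prelude.Def_Steinberg

set_option autoImplicit false
set_option linter.unusedSectionVars false
set_option linter.unusedVariables false

/-! S2400, piece FINITE: the Steinberg group of a tabulated Chevalley datum over a finite field is
finite (its centre is the image of a finite set of torus parameters, and the central quotient is the
Chevalley group). -/

namespace Cfsg.Agent.S2400P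

open scoped commutatorElement
open Cfsg.Lie Cfsg.Agent.Helper2.Stb Cfsg.Agent.Helper2.StPerf Cfsg.Agent.Helper2.Stein
open Cfsg.Agent.S2086P (CL cl map_cl cl_eq commute_comm CL_of_comm)

universe u

theorem finite_steinbergGroup {K : Type*} [Field K] [Finite K] (D : ChevalleyDatum)
    (hD : D ∈ [chevG2, chevB2, chevD4, chevF4, chevE6, chevE7, chevE8]) :
    Finite (D.SteinbergGroup K) := by
  classical
  have hD' : Cfsg.Agent.Helper6.IsTabulated D := hD
  have hθ : ∀ (r : ℕ) (t : K), r < D.nroots →
      ((thetaABC hD' K (pX D (D.steinbergRels K) r t) : GL D.Idx K) : Matrix D.Idx D.Idx K) =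
        D.x K r t := fun r t hr => thetaABC_apply hD' r t hr
  have hsurj : Function.Surjective (thetaABC hD' K) :=
    surjective_pres (Cfsg.Agent.Helper11.StCenter.sub_rels (D := D) (F := K)) _ hθ
  haveI : Fintype K := Fintype.ofFinite K
  haveI : Finite ↥(D.group K) := inferInstance
  -- the centre is finite
  have hcen : Finite ↥(Subgroup.center (D.SteinbergGroup K)) := by
    let f : (Fin D.rank → K) → D.SteinbergGroup K := fun t =>
      prodH (Cfsg.Agent.Helper11.StCenter.XS D K) D (fun i => if h : i < D.rank then t ⟨i, h⟩ else 1)
    have hsub : (Subgroup.center (D.SteinbergGroup K) : Set (D.SteinbergGroup K)) ⊆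
        Set.range f := by
      intro z hz
      obtain ⟨t, ht, rfl, -⟩ := Cfsg.Agent.Helper11.StCenter.exists_of_mem_center hD' hz
      refine ⟨fun i => t i.val, ?_⟩
      show prodH _ D _ = prodH _ D t
      unfold prodH
      congr 1
      apply List.map_congr_left
      intro i hi
      rw [List.mem_range] at hi
      simp only [hi, dite_true]
    exact ((Set.finite_range f).subset hsub).to_subtype
  rw [Cfsg.Agent.Helper11.StCenter.center_eq_ker hD'] at hcen
  haveI : Finite ↥(thetaABC hD' K).ker := hcen
  haveI : Finite (D.SteinbergGroup K ⧸ (thetaABC hD' K).ker) :=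
    Finite.of_equiv _
      (QuotientGroup.quotientKerEquivOfSurjective (thetaABC hD' K) hsurj).symm.toEquiv
  exact Finite.of_subgroup_quotient (thetaABC hD' K).ker

end Cfsg.Agent.S2400P
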