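import Mathlib
import Cfsg.Agent.Helper14.GLk.Defs
import Cfsg.Agent.Helper15.S2478COUNTMON

/-!
Piece COUNTT of the S2478 project: the set `T F r n` is finite of cardinality `A q r n`.
-/

set_option autoImplicit false
set_option linter.style.haveILetI false

namespace Cfsg.Agent.S2478P

open Polynomial DirectSum

universe u

namespace COUNTT

variable (F : Type u) [Field F]

theorem top_deg_lt (r n : ℕ) (h : ℕ → F[X]) (hh : h ∈ T F (r + 1) n) :
    (h (r + 1)).natDegree < n / (r + 1) + 1 := by
  obtain ⟨_, _, hs⟩ := hh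
  rw [Finset.sum_range_succ] at hs
  have h1 : (h (r + 1)).natDegree * (r + 1) ≤ n := by
    rw [mul_comm]; omega
  rw [Nat.lt_succ_iff, Nat.le_div_iff_mul_le (Nat.succ_pos r)]
  exact h1

theorem update_one_mem (r n a : ℕ) (h : ℕ → F[X]) (hh : h ∈ T F (r + 1) n)
    (ha : (h (r + 1)).natDegree = a) :
    Function.update h (r + 1) 1 ∈ T F r (n - (r + 1) * a) := by
  obtain ⟨h1, h2, hs⟩ := hh
  refine ⟨?_, ?_, ?_⟩
  · intro m
    rw [Function.update_apply]
    split_ifs with hm
    · exact ⟨monic_one, by rw [coeff_one_zero]; exact one_ne_zero⟩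
    · exact h1 m
  · intro m hm
    rw [Function.update_apply]
    split_ifs with hm'
    · rfl
    · apply h2 m
      omega
  · rw [Finset.sum_range_succ, ha] at hs
    have h3 : ∑ m ∈ Finset.range (r + 1), m * (Function.update h (r + 1) 1 m).natDegree
        = ∑ m ∈ Finset.range (r + 1), m * (h m).natDegree := by
      apply Finset.sum_congr rfl
      intro m hm
      rw [Finset.mem_range] at hm
      rw [Function.update_of_ne (by omega)]
    rw [h3]
    omega

theorem update_mem (r n a : ℕ) (ha : (r + 1) * a ≤ n) (h' : ℕ → F[X])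
    (hh : h' ∈ T F r (n - (r + 1) * a)) (f : F[X]) (hf : f.Monic) (hfa : f.natDegree = a)
    (hf0 : f.coeff 0 ≠ 0) :
    Function.update h' (r + 1) f ∈ T F (r + 1) n := by
  obtain ⟨h1, h2, hs⟩ := hh
  refine ⟨?_, ?_, ?_⟩
  · intro m
    rw [Function.update_apply]
    split_ifs with hm
    · exact ⟨hf, hf0⟩
    · exact h1 m
  · intro m hm
    rw [Function.update_apply]
    split_ifs with hm'
    · omega
    · apply h2 m
      omega
  · rw [Finset.sum_range_succ, Function.update_self, hfa]
    have h3 : ∑ m ∈ Finset.range (r + 1), m * (Function.update h' (r + 1) f m).natDegree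
        = ∑ m ∈ Finset.range (r + 1), m * (h' m).natDegree := by
      apply Finset.sum_congr rfl
      intro m hm
      rw [Finset.mem_range] at hm
      rw [Function.update_of_ne (by omega)]
    rw [h3, hs]
    omega

/-- The fibre of `T F (r+1) n` over a fixed degree `a` of the top component. -/
noncomputable def fiberEquiv (r n a : ℕ) (ha : (r + 1) * a ≤ n) :
    {h : T F (r + 1) n // (h.1 (r + 1)).natDegree = a} ≃
      {f : F[X] // f.Monic ∧ f.natDegree = a ∧ f.coeff 0 ≠ 0} × T F r (n - (r + 1) * a) where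
  toFun h := (⟨h.1.1 (r + 1), (h.1.2.1 (r + 1)).1, h.2, (h.1.2.1 (r + 1)).2⟩,
    ⟨Function.update h.1.1 (r + 1) 1, update_one_mem F r n a h.1.1 h.1.2 h.2⟩)
  invFun x := ⟨⟨Function.update x.2.1 (r + 1) x.1.1,
      update_mem F r n a ha x.2.1 x.2.2 x.1.1 x.1.2.1 x.1.2.2.1 x.1.2.2.2⟩, by
    show (Function.update x.2.1 (r + 1) x.1.1 (r + 1)).natDegree = a
    rw [Function.update_self]; exact x.1.2.2.1⟩
  left_inv h := by
    apply Subtype.ext; apply Subtype.ext
    show Function.update (Function.update h.1.1 (r + 1) 1) (r + 1) (h.1.1 (r + 1)) = h.1.1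
    rw [Function.update_idem, Function.update_eq_self]
  right_inv x := by
    apply Prod.ext
    · apply Subtype.ext
      show Function.update x.2.1 (r + 1) x.1.1 (r + 1) = x.1.1
      rw [Function.update_self]
    · apply Subtype.ext
      show Function.update (Function.update x.2.1 (r + 1) x.1.1) (r + 1) 1 = x.2.1
      rw [Function.update_idem]
      have : x.2.1 (r + 1) = 1 := x.2.2.2.1 (r + 1) (Or.inr (Nat.lt_succ_self r))
      rw [← this, Function.update_eq_self]

theorem card_T_zero (n : ℕ) :
    (T F 0 n).Finite ∧ Nat.card (T F 0 n) = if n = 0 then 1 else 0 := by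
  by_cases hn : n = 0
  · have hT : T F 0 n = {fun _ => 1} := by
      ext h
      rw [Set.mem_singleton_iff]
      constructor
      · rintro ⟨_, h2, _⟩
        funext m
        apply h2 m
        omega
      · rintro rfl
        refine ⟨fun m => ⟨monic_one, by rw [coeff_one_zero]; exact one_ne_zero⟩,
          fun m _ => rfl, ?_⟩
        rw [hn]
        simp
    rw [hT, if_pos hn]
    refine ⟨Set.finite_singleton _, ?_⟩
    rw [Nat.card_coe_set_eq, Set.ncard_singleton]
  · have hT : T F 0 n = ∅ := by
      ext h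
      simp only [Set.mem_empty_iff_false, iff_false]
      rintro ⟨_, _, hs⟩
      apply hn
      rw [← hs]
      simp
    rw [hT, if_neg hn]
    refine ⟨Set.finite_empty, ?_⟩
    rw [Nat.card_coe_set_eq, Set.ncard_empty]

end COUNTT

theorem card_T (F : Type u) [Field F] [Fintype F] (r n : ℕ) :
    (T F r n).Finite ∧ Nat.card (T F r n) = A (Fintype.card F) r n := by
  induction r generalizing n with
  | zero => exact COUNTT.card_T_zero F n
  | succ r ih =>
    haveI : ∀ k, Finite (T F r k) := fun k => (ih k).1.to_subtype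
    have hq : 2 ≤ Fintype.card F := by
      have := Fintype.one_lt_card (α := F)
      omega
    haveI : ∀ a, Finite {f : F[X] // f.Monic ∧ f.natDegree = a ∧ f.coeff 0 ≠ 0} := by
      intro a
      apply Nat.finite_of_card_ne_zero
      rw [card_monic, N]
      split_ifs with ha
      · exact one_ne_zero
      · have h1 : Fintype.card F ^ (a - 1) < Fintype.card F ^ a :=
          Nat.pow_lt_pow_right hq (by omega)
        omega
    let f : T F (r + 1) n → Fin (n / (r + 1) + 1) :=
      fun h => ⟨(h.1 (r + 1)).natDegree, COUNTT.top_deg_lt F r n h.1 h.2⟩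
    have hle : ∀ a : Fin (n / (r + 1) + 1), (r + 1) * (a : ℕ) ≤ n := by
      intro a
      have h1 : (a : ℕ) ≤ n / (r + 1) := Nat.lt_succ_iff.mp a.2
      rw [Nat.le_div_iff_mul_le (Nat.succ_pos r)] at h1
      rw [mul_comm]; exact h1
    let e1 : T F (r + 1) n ≃ Σ a : Fin (n / (r + 1) + 1), {h : T F (r + 1) n // f h = a} :=
      (Equiv.sigmaFiberEquiv f).symm
    let e2 : ∀ a : Fin (n / (r + 1) + 1), {h : T F (r + 1) n // f h = a} ≃
        {f : F[X] // f.Monic ∧ f.natDegree = (a : ℕ) ∧ f.coeff 0 ≠ 0} ×
          T F r (n - (r + 1) * (a : ℕ)) := fun a =>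
      (Equiv.subtypeEquivRight (fun h => Fin.ext_iff)).trans
        (COUNTT.fiberEquiv F r n (a : ℕ) (hle a))
    let e := e1.trans (Equiv.sigmaCongrRight e2)
    haveI : Finite (T F (r + 1) n) := Finite.of_equiv _ e.symm
    refine ⟨Set.toFinite _, ?_⟩
    rw [Nat.card_congr e, Nat.card_sigma, A, Finset.sum_range]
    apply Finset.sum_congr rfl
    intro a _
    rw [Nat.card_prod, card_monic, (ih _).2]

end Cfsg.Agent.S2478P
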