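import Mathlib
import Cfsg.Agent.Helper14.S2481.Defs
import Cfsg.Agent.Helper14.S2481.DefsM
import Cfsg.Agent.S0755
import Cfsg.Agent.Helper21.S2481MODISO

set_option autoImplicit false
set_option linter.unusedVariables false

/-! S2481 piece A2R (helper19): from abstract Hermitian spaces to unitary matrices, through an
orthonormal basis (S0755). -/

namespace Cfsg.Agent.S2481P

open Polynomial DirectSum Matrix Cfsg.Agent.S2478P Cfsg.Agent.S2479P

universe u

variable {F : Type u} [Field F] {σ : F →+* F}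

namespace A2R

variable {V : Type*} [AddCommGroup V] [Module F V] {n : ℕ}

/-- the form in the coordinates of an orthonormal basis -/
theorem form_eq_sum (B : V →ₛₗ[σ] V →ₗ[F] F) (b : Module.Basis (Fin n) F V)
    (hb : ∀ i j, B (b i) (b j) = if i = j then 1 else 0) (v u : V) :
    B v u = ∑ i, σ (b.repr v i) * b.repr u i := by
  conv_lhs => rw [← b.sum_repr v, ← b.sum_repr u]
  simp only [map_sum, LinearMap.sum_apply, map_smulₛₗ, LinearMap.smul_apply, hb, smul_eq_mul,
    RingHom.id_apply, mul_ite, mul_one, mul_zero]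
  apply Finset.sum_congr rfl
  intro x _
  rw [Finset.sum_ite_eq', if_pos (Finset.mem_univ x), mul_comm]

/-- the matrix of an isometry in an orthonormal basis is unitary -/
theorem isU_toMatrix (B : V →ₛₗ[σ] V →ₗ[F] F) (b : Module.Basis (Fin n) F V)
    (hb : ∀ i j, B (b i) (b j) = if i = j then 1 else 0) (c : V →ₗ[F] V)
    (hc : ∀ v w, B (c v) (c w) = B v w) : IsU σ (LinearMap.toMatrix b b c) := by
  unfold IsU
  ext i j
  rw [Matrix.mul_apply, Matrix.one_apply, ← hb i j, ← hc (b i) (b j),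
    form_eq_sum B b hb (c (b i)) (c (b j))]
  apply Finset.sum_congr rfl
  intro k _
  rw [ct_apply, LinearMap.toMatrix_apply, LinearMap.toMatrix_apply]

end A2R

-- piece A2R (uses `Cfsg.Agent.S0755.result` = orthonormal basis, and MODISO; as in
-- `Helper11/S2496ONB.lean`; `IsU (toMatrix b b g)` for an isometry `g` and an orthonormal basis `b`)
theorem real_of_realA [Finite F] (hσ : IsInvol σ) {n : ℕ} {t : ℕ → F[X]} (h : RealA σ n t) :
    Real σ n t := by
  classical
  obtain ⟨V, iV1, iV2, iV3, B, g, hS, hB, hfin, hiso, ⟨ι, iι, p, e, hpe, hsum, ⟨φ⟩, ht⟩, hchar,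
    hcent⟩ := h
  obtain ⟨b0, hb0⟩ := Cfsg.Agent.S0755.result σ hσ.ne hσ.sq B hS hB
  let b : Module.Basis (Fin n) F V := b0.reindex (finCongr hfin)
  have hb : ∀ i j, B (b i) (b j) = if i = j then 1 else 0 := by
    intro i j
    simp only [b, Module.Basis.reindex_apply]
    rw [hb0]
    simp
  refine ⟨LinearMap.toMatrix b b g, A2R.isU_toMatrix B b hb g hiso, ?_, ?_, ?_⟩
  · obtain ⟨ψ⟩ := aeval_toMatrix_equiv b g
    exact ⟨ι, iι, p, e, hpe, hsum, ⟨ψ.trans φ⟩, ht⟩
  · rw [LinearMap.charpoly_toMatrix]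
    exact hchar
  · intro m hm z hz
    obtain ⟨c, hc1, hc2, hc3⟩ := hcent m hm z hz
    refine ⟨LinearMap.toMatrix b b c, A2R.isU_toMatrix B b hb c hc1, ?_, ?_⟩
    · rw [← LinearMap.toMatrix_comp, ← LinearMap.toMatrix_comp, hc2]
    · rw [LinearMap.det_toMatrix]
      exact hc3

end Cfsg.Agent.S2481P
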