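import Mathlib
import Cfsg.Agent.Helper14.S2481.Defs
import Cfsg.Agent.Helper28.Herm

set_option autoImplicit false
set_option linter.unusedVariables false

/-! S2481 piece BAR (helper19): `x ↦ x^q` is an involution of the field with `q^2` elements. -/

namespace Cfsg.Agent.S2481P

open Polynomial DirectSum Matrix Cfsg.Agent.S2478P Cfsg.Agent.S2479P

universe u

section bridge

variable {F : Type u} [Field F]

-- piece BAR
theorem exists_bar [Fintype F] (q : ℕ) (hF : Fintype.card F = q ^ 2) :
    ∃ σ : F →+* F, IsInvol σ ∧ ∀ x, σ x = x ^ q := by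
  classical
  obtain ⟨σ, hσq, hσσ⟩ := Cfsg.Agent.Helper28.exists_frob hF
  refine ⟨σ, ⟨hσσ, ?_⟩, hσq⟩
  intro hid
  have hq2 : 1 < q := by
    have h1 : 1 < Fintype.card F := Fintype.one_lt_card
    rw [hF] at h1
    rcases Nat.lt_or_ge 1 q with h | h
    · exact h
    · interval_cases q <;> simp at h1
  have hne := FiniteField.X_pow_card_sub_X_ne_zero F hq2
  apply hne
  apply Polynomial.eq_zero_of_natDegree_lt_card_of_eval_eq_zero' _ (Finset.univ : Finset F)
  · intro x _
    rw [eval_sub, eval_pow, eval_X, ← hσq, hid]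
    simp
  · rw [FiniteField.X_pow_card_sub_X_natDegree_eq F hq2, Finset.card_univ, hF]
    nlinarith

end bridge

end Cfsg.Agent.S2481P
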