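import Cfsg.Agent.Helper28.S2510Defs

/-! S2510 piece MKPOW (helper19): `(π A)^j = 1` iff the minimal polynomial of `A` divides some
`X^j - c`, `c ≠ 0`. -/

set_option autoImplicit false

namespace Cfsg.Agent.S2510P

open Polynomial

variable {F : Type*} [Field F] [Fintype F] {n : ℕ} {p : ℕ}

local notation "SLn" => Matrix.SpecialLinearGroup (Fin n) F
local notation "PSLn" => Matrix.ProjectiveSpecialLinearGroup (Fin n) F
local notation "Mn" => Matrix (Fin n) (Fin n) F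
local notation "π" => QuotientGroup.mk' (Subgroup.center SLn)
local notation "q" => Fintype.card F

namespace MKPOW

theorem aeval_X_pow_sub_C (A : Mn) (j : ℕ) (c : F) :
    aeval A (X ^ j - C c : F[X]) = A ^ j - c • (1 : Mn) := by
  rw [map_sub, map_pow, aeval_X, aeval_C, Algebra.algebraMap_eq_smul_one]

end MKPOW

/-- MKPOW (S; `S2495.mk_pow_eq_one_iff`, `minpoly.dvd_iff`/`minpoly.dvd`). -/
theorem mk_pow_eq_one_iff_dvd (hn : 1 ≤ n) (A : SLn) (j : ℕ) :
    (π A : PSLn) ^ j = 1 ↔ ∃ c : F, c ≠ 0 ∧ minpoly F (A : Mn) ∣ X ^ j - C c := by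
  have h0 : (π A : PSLn) ^ j = 1 ↔ ∃ c : F, (A : Mn) ^ j = c • (1 : Mn) :=
    Cfsg.Agent.S2495.mk_pow_eq_one_iff A j
  rw [h0]
  constructor
  · rintro ⟨c, hc⟩
    refine ⟨c, ?_, ?_⟩
    · rintro rfl
      have h1 : ((A ^ j : SLn) : Mn).det = 1 := (A ^ j).2
      haveI : Nonempty (Fin n) := ⟨⟨0, by omega⟩⟩
      rw [Matrix.SpecialLinearGroup.coe_pow, hc, zero_smul, Matrix.det_zero] at h1
      exact zero_ne_one h1
    · apply minpoly.dvd
      rw [MKPOW.aeval_X_pow_sub_C, hc, sub_self]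
  · rintro ⟨c, -, hdvd⟩
    refine ⟨c, ?_⟩
    obtain ⟨g, hg⟩ := hdvd
    have h1 : aeval (A : Mn) (X ^ j - C c : F[X]) = 0 := by
      rw [hg, map_mul, minpoly.aeval, zero_mul]
    rw [MKPOW.aeval_X_pow_sub_C, sub_eq_zero] at h1
    exact h1

end Cfsg.Agent.S2510P
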