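import Mathlib
import Cfsg.Prelude.Def_Classical
import Cfsg.Agent.Helper28.S2512Defs
import Cfsg.Agent.Helper19.S2264REVFAC
import Cfsg.Agent.Helper7.S2264FACS

/-! S2512 piece SPLITR (helper19): a self-reciprocal polynomial with more than one `recip`-orbit of
irreducible factors splits as a product of two coprime non-units, both `recip`-stable.
Port of `Helper19/S2511SPLITU`. -/

set_option autoImplicit false

universe u

namespace Cfsg.Agent.S2512P

open Polynomial Matrix
open Cfsg.Agent.S2264P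

section layerG

namespace SPLITR

variable {F : Type*} [Field F]

/-- `recip` as a monoid homomorphism -/
noncomputable def recipHom : F[X] →* F[X] where
  toFun := recip
  map_one' := recip_one
  map_mul' := recip_mul

theorem recip_prod {ι : Type*} (S : Finset ι) (f : ι → F[X]) :
    recip (∏ i ∈ S, f i) = ∏ i ∈ S, recip (f i) :=
  map_prod (recipHom (F := F)) f S

theorem recip_recip_of_mem {μ φ : F[X]} (hμ : Good μ) (hφ : φ ∈ facs μ) : recip (recip φ) = φ := by
  have hμ0 : μ ≠ 0 := hμ.monic.ne_zero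
  obtain ⟨-, hmon, -⟩ := (mem_facs hμ0).mp hφ
  exact recip_recip hmon (coeff_zero_ne_zero_of_mem_facs hμ.coeff0 hφ)

/-- the product of the primary parts over a `recip`-stable set of factors is `recip`-stable -/
theorem recip_prod_stable {μ : F[X]} (hμ : Good μ) (S : Finset F[X]) (hS : S ⊆ facs μ)
    (hst : ∀ φ ∈ S, recip φ ∈ S) :
    recip (∏ φ ∈ S, φ ^ mult μ φ) = ∏ φ ∈ S, φ ^ mult μ φ := by
  rw [recip_prod]
  refine Finset.prod_bij' (fun φ _ => recip φ) (fun φ _ => recip φ) hst hst ?_ ?_ ?_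
  · intro a ha
    exact recip_recip_of_mem hμ (hS ha)
  · intro a ha
    exact recip_recip_of_mem hμ (hS ha)
  · intro a ha
    rw [recip_pow, mult_recip hμ (hS ha)]

end SPLITR

/-- SPLITR (M): port of `Cfsg/Agent/Helper19/S2511SPLITU.lean` (`dag σ` ↦ `recip`), with
`recip_mem_facs`, `mult_recip` (`Cfsg.Agent.Helper?.S2264REVFAC`), `recip_mul`, `recip_pow`, `recip_recip`.
`¬ SingleR`: pick `f g' ∈ facs μ` with `g' ≠ f`, `g' ≠ recip f`; `g := f ^ mult μ f` (times
`(recip f) ^ mult μ (recip f)` if `recip f ≠ f`), `h := μ / g`. -/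
theorem exists_split_r {F : Type*} [Field F] {μ : F[X]} (hμ : Good μ) (hns : ¬ SingleR μ) :
    ∃ g h : F[X], ¬ IsUnit g ∧ ¬ IsUnit h ∧ IsCoprime g h ∧ μ = g * h ∧ recip g = g ∧
      recip h = h := by
  classical
  have hμ0 : μ ≠ 0 := hμ.monic.ne_zero
  unfold SingleR at hns
  push Not at hns
  obtain ⟨f, hf, g', hg', hne1, hne2⟩ := hns
  have hrf : recip f ∈ facs μ := recip_mem_facs hμ hf
  have hrrf : recip (recip f) = f := SPLITR.recip_recip_of_mem hμ hf
  set S : Finset F[X] := {f, recip f} with hSdef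
  have hS : S ⊆ facs μ := by
    intro φ hφ
    rw [hSdef, Finset.mem_insert, Finset.mem_singleton] at hφ
    rcases hφ with rfl | rfl
    · exact hf
    · exact hrf
  have hSst : ∀ φ ∈ S, recip φ ∈ S := by
    intro φ hφ
    rw [hSdef, Finset.mem_insert, Finset.mem_singleton] at hφ ⊢
    rcases hφ with rfl | rfl
    · right; rfl
    · left; exact hrrf
  set T : Finset F[X] := facs μ \ S with hTdef
  have hT : T ⊆ facs μ := Finset.sdiff_subset
  have hTst : ∀ φ ∈ T, recip φ ∈ T := by
    intro φ hφ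
    rw [hTdef, Finset.mem_sdiff] at hφ ⊢
    refine ⟨recip_mem_facs hμ hφ.1, fun hin => hφ.2 ?_⟩
    have := hSst _ hin
    rwa [SPLITR.recip_recip_of_mem hμ hφ.1] at this
  have hfS : f ∈ S := by
    rw [hSdef]; exact Finset.mem_insert_self _ _
  have hgT : g' ∈ T := by
    rw [hTdef, Finset.mem_sdiff]
    refine ⟨hg', fun hin => ?_⟩
    rw [hSdef, Finset.mem_insert, Finset.mem_singleton] at hin
    rcases hin with h | h
    · exact hne1 h
    · exact hne2 h
  refine ⟨∏ φ ∈ S, φ ^ mult μ φ, ∏ φ ∈ T, φ ^ mult μ φ, ?_, ?_, ?_, ?_,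
    SPLITR.recip_prod_stable hμ S hS hSst, SPLITR.recip_prod_stable hμ T hT hTst⟩
  · intro hu
    have h1 : f ∣ ∏ φ ∈ S, φ ^ mult μ φ :=
      (dvd_pow_self f (by have := mult_pos hf; omega)).trans (Finset.dvd_prod_of_mem _ hfS)
    exact ((mem_facs hμ0).1 hf).1.not_isUnit (isUnit_of_dvd_unit h1 hu)
  · intro hu
    have h1 : g' ∣ ∏ φ ∈ T, φ ^ mult μ φ :=
      (dvd_pow_self g' (by have := mult_pos hg'; omega)).trans (Finset.dvd_prod_of_mem _ hgT)
    exact ((mem_facs hμ0).1 hg').1.not_isUnit (isUnit_of_dvd_unit h1 hu)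
  · apply IsCoprime.prod_left
    intro φ hφ
    apply IsCoprime.prod_right
    intro ψ hψ
    apply IsCoprime.pow
    apply facs_coprime (hS hφ) (hT hψ)
    rintro rfl
    rw [hTdef, Finset.mem_sdiff] at hψ
    exact hψ.2 hφ
  · rw [mul_comm, hTdef, Finset.prod_sdiff hS, prod_facs hμ.monic]

end layerG

end Cfsg.Agent.S2512P
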