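import Mathlib
import Cfsg.Prelude.Def_Classical
import Cfsg.Agent.Helper28.S2512Defs
import Cfsg.Agent.Helper28.Symp
import Cfsg.Agent.Helper25.S5955TRANSPORT

/-! S2512 piece TRANSPORTSP (helper19): an abstract nondegenerate symplectic space `(V, B)` of dimension
`2n` (`2 ≠ 0`) is isometric to the standard one, so `End V ≃ₐ M_{2n}(F)` maps the isometries of `B` into
`Matrix.symplecticGroup`.  (Isometry with the standard space: `Cfsg.Agent.S5955P.exists_sp_of_ysp`.) -/

set_option autoImplicit false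

universe u

namespace Cfsg.Agent.S2512P

open Polynomial Matrix
open Cfsg.Agent.S2264P

namespace TRANSPORTSP

variable {F : Type*} [Field F] {V : Type*} [AddCommGroup V] [Module F V]

theorem add_right {B : V → V → F} (hB : IsSymp B) (u v v' : V) :
    B u (v + v') = B u v + B u v' := by
  rw [hB.skew (v + v') u, hB.add_left, hB.skew v u, hB.skew v' u]
  ring

theorem smul_right {B : V → V → F} (hB : IsSymp B) (c : F) (u v : V) :
    B u (c • v) = c * B u v := by
  rw [hB.skew (c • v) u, hB.smul_left, hB.skew v u]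
  ring

/-- the bundled bilinear form -/
noncomputable def bil {B : V → V → F} (hB : IsSymp B) : LinearMap.BilinForm F V :=
  LinearMap.mk₂ F B hB.add_left hB.smul_left (add_right hB) (smul_right hB)

theorem bil_apply {B : V → V → F} (hB : IsSymp B) (u v : V) : bil hB u v = B u v := rfl

theorem alt (h2 : (2 : F) ≠ 0) {B : V → V → F} (hB : IsSymp B) (v : V) : B v v = 0 := by
  have h := hB.skew v v
  have h3 : (2 : F) * B v v = 0 := by
    rw [two_mul]
    nth_rewrite 1 [h]
    exact neg_add_cancel _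
  rcases mul_eq_zero.mp h3 with h4 | h4
  · exact absurd h4 h2
  · exact h4

/-- an isometry onto the standard symplectic space -/
theorem exists_std (h2 : (2 : F) ≠ 0) [FiniteDimensional F V] {n : ℕ}
    (hd : Module.finrank F V = 2 * n) {B : V → V → F} (hB : IsSymp B) :
    ∃ e : V ≃ₗ[F] (Fin n ⊕ Fin n → F), ∀ u v, Cfsg.sympForm n F (e u) (e v) = B u v := by
  have hY : Cfsg.Agent.S5955P.IsYSp (bil hB) (1 : Module.End F V) 0 := by
    refine ⟨fun v => alt h2 hB v, ?_, fun u v => rfl, pow_zero _⟩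
    intro m _ hm
    by_contra hcon
    push Not at hcon
    exact hm (hB.nondeg m (fun v => hcon v Submodule.mem_top))
  obtain ⟨-, e, he, -⟩ := Cfsg.Agent.S5955P.exists_sp_of_ysp (bil hB) 1 0 hY n hd
  exact ⟨e, he⟩

end TRANSPORTSP

section layerT

variable {F : Type*} [Field F]

/-- TRANSPORTSP (M-L): bilinear form from `B` (right-linearity from `skew`), alternating as `2 ≠ 0`;
`Cfsg.Agent.S0752.result` gives a basis indexed by `(Fin m ⊕ Fin m) ⊕ Fin k`; nondegeneracy forces `k = 0`,
`finrank` forces `m = n`; `e := LinearMap.toMatrixAlgEquiv` of the reindexed basis; in coordinates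
`B u v = - Cfsg.sympForm n F (coords u) (coords v)`; `Cfsg.Agent.Helper28.mem_symplecticGroup_iff_preserves`
(`Cfsg/Agent/Helper28/Symp.lean`).  Cf. `Cfsg/Agent/Helper28/S2511TRANSPORT.lean`. -/
theorem exists_algEquiv_symp (h2 : (2 : F) ≠ 0) {V : Type*} [AddCommGroup V] [Module F V]
    [FiniteDimensional F V] {n : ℕ} (hd : Module.finrank F V = 2 * n) {B : V → V → F}
    (hB : IsSymp B) :
    ∃ e : Module.End F V ≃ₐ[F] Matrix (Fin n ⊕ Fin n) (Fin n ⊕ Fin n) F,
      ∀ X : Module.End F V, (∀ u v, B (X u) (X v) = B u v) →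
        e X ∈ Matrix.symplecticGroup (Fin n) F := by
  obtain ⟨e₀, he₀⟩ := TRANSPORTSP.exists_std h2 hd hB
  refine ⟨(e₀.conjAlgEquiv F).trans LinearMap.toMatrixAlgEquiv', ?_⟩
  intro X hX
  rw [Cfsg.Agent.Helper28.mem_symplecticGroup_iff_preserves]
  intro u v
  have hmv : ∀ w : Fin n ⊕ Fin n → F,
      (((e₀.conjAlgEquiv F).trans LinearMap.toMatrixAlgEquiv') X) *ᵥ w = e₀ (X (e₀.symm w)) := by
    intro w
    rw [AlgEquiv.trans_apply]
    have h1 : LinearMap.toMatrixAlgEquiv' ((e₀.conjAlgEquiv F) X) =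
        LinearMap.toMatrix' ((e₀.conjAlgEquiv F) X) := rfl
    rw [h1, LinearMap.toMatrix'_mulVec, LinearEquiv.conjAlgEquiv_apply]
    rfl
  rw [hmv, hmv, he₀, hX, ← he₀, LinearEquiv.apply_symm_apply, LinearEquiv.apply_symm_apply]

end layerT

end Cfsg.Agent.S2512P
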