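import Mathlib
import Cfsg.Agent.Helper29.S2558DDefs
import Cfsg.Agent.Helper26.S2558GRAMDET
import Cfsg.Agent.Helper25.S2558SUMGRAM

/-! # S2558 chapter (D) DISCRIMINANTS, piece FINDISC (helper19): square classes of discriminants over a finite
field. -/

set_option autoImplicit false

namespace Cfsg.Agent.S2558P

open Cfsg.Agent.Helper2.SympInvol Cfsg.Agent.S2482P

universe u

namespace DISC

/-- FINDISC (0): over a finite field, for `a b ≠ 0`: `IsSquare (a * b) ↔ (IsSquare a ↔ IsSquare b)`. -/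
theorem isSquare_mul_iff {F : Type*} [Field F] [Fintype F] {a b : F} (ha : a ≠ 0) (hb : b ≠ 0) :
    IsSquare (a * b) ↔ (IsSquare a ↔ IsSquare b) := by
  classical
  rw [← quadraticChar_one_iff_isSquare ha, ← quadraticChar_one_iff_isSquare hb,
    ← quadraticChar_one_iff_isSquare (mul_ne_zero ha hb), map_mul]
  rcases quadraticChar_dichotomy ha with h1 | h1 <;> rcases quadraticChar_dichotomy hb with h2 | h2 <;>
    rw [h1, h2] <;> norm_num

/-- multiplying by a nonzero square does not change the square class -/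
theorem isSquare_sq_mul_iff {F : Type*} [Field F] {p d : F} (hp : p ≠ 0) :
    IsSquare (p ^ 2 * d) ↔ IsSquare d := by
  constructor
  · rintro ⟨r, hr⟩
    refine ⟨r / p, ?_⟩
    field_simp
    linear_combination hr
  · rintro ⟨r, rfl⟩
    exact ⟨p * r, by ring⟩

/-- two bases indexed by `Fin k`, `Fin k'` have `k = k'` -/
theorem card_eq_of_bases {F V : Type*} [Field F] [AddCommGroup V] [Module F V] {k k' : ℕ}
    (b : Module.Basis (Fin k) F V) (b' : Module.Basis (Fin k') F V) : k = k' := by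
  have h1 := Module.finrank_eq_card_basis b
  have h2 := Module.finrank_eq_card_basis b'
  rw [Fintype.card_fin] at h1 h2
  omega

/-- FINDISC (1): `SqDisc` does not depend on the basis -/
theorem sqDisc_iff {F : Type u} [Field F] {S : SpSpace F} {k : ℕ}
    (b : Module.Basis (Fin k) F S.V) :
    SqDisc S ↔ IsSquare (LinearMap.BilinForm.toMatrix b S.B).det := by
  constructor
  · rintro ⟨k', b', h⟩
    obtain rfl := card_eq_of_bases b b'
    obtain ⟨p, hp, hpe⟩ := det_basis_change S.B b b'
    rw [hpe] at h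
    exact (isSquare_sq_mul_iff hp).mp h
  · intro h
    exact ⟨k, b, h⟩

/-- FINDISC (2) -/
theorem sameDisc_iff {F : Type u} [Field F] [Fintype F] {S S' : SpSpace F} (h : S.IsOrth)
    (h' : S'.IsOrth) :
    S.SameDisc S' ↔
      (Module.finrank F S.V = Module.finrank F S'.V ∧ (SqDisc S ↔ SqDisc S')) := by
  constructor
  · rintro ⟨k, b, b', hsq⟩
    have h1 := Module.finrank_eq_card_basis b
    have h2 := Module.finrank_eq_card_basis b'
    rw [Fintype.card_fin] at h1 h2
    refine ⟨by omega, ?_⟩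
    rw [sqDisc_iff b, sqDisc_iff b']
    exact (isSquare_mul_iff (det_ne_zero S.B h.nondeg b) (det_ne_zero S'.B h'.nondeg b')).mp hsq
  · rintro ⟨hr, hsq⟩
    set b := Module.finBasis F S.V with hb
    set b' : Module.Basis (Fin (Module.finrank F S.V)) F S'.V :=
      (Module.finBasis F S'.V).reindex (finCongr hr.symm) with hb'
    refine ⟨Module.finrank F S.V, b, b', ?_⟩
    rw [sqDisc_iff b, sqDisc_iff b'] at hsq
    exact (isSquare_mul_iff (det_ne_zero S.B h.nondeg b) (det_ne_zero S'.B h'.nondeg b')).mpr hsq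

/-- FINDISC (3) -/
theorem sqDisc_sum {F : Type u} [Field F] [Fintype F] {S S₁ S₂ : SpSpace F} (h₁ : S₁.IsOrth)
    (h₂ : S₂.IsOrth) (hs : S.IsSum S₁ S₂) : SqDisc S ↔ (SqDisc S₁ ↔ SqDisc S₂) := by
  set b₁ := Module.finBasis F S₁.V with hb₁
  set b₂ := Module.finBasis F S₂.V with hb₂
  obtain ⟨b, hb⟩ := exists_basis_sum hs b₁ b₂
  rw [sqDisc_iff b, sqDisc_iff b₁, sqDisc_iff b₂, hb]
  exact isSquare_mul_iff (det_ne_zero S₁.B h₁.nondeg b₁) (det_ne_zero S₂.B h₂.nondeg b₂)

end DISC

end Cfsg.Agent.S2558P
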