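import Mathlib
import Cfsg.Prelude.Def_ClassicalGeometry
import Cfsg.Agent.Helper7.S2676Defs

/-! S2676, piece MODEL: the explicit model `(V, B, X, g)` attached to `(a, K)`.
`V = ((j : ι) × Fin (a j)) → F` with standard basis `e_(j,i)`, `X e_(j,i) = e_(j,i+1)` (zero if
`i + 1 = a j`), `B e_(j,i) e_(j',l) = (-1)^i K j j'` if `i + l + 1 = a j` and `0` otherwise. -/

set_option autoImplicit false

universe u

namespace Cfsg.Agent.S2676P

open Cfsg.Agent.Helper2.SympInvol Cfsg.Agent.Helper2.SympUnits Cfsg.Agent.S5961P Cfsg.Agent.S5956P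

namespace MODEL

/-- the index type of the standard basis -/
abbrev Idx {ι : Type} (a : ι → ℕ) : Type := (j : ι) × Fin (a j)

variable (F : Type u) [Field F] {ι : Type} [Fintype ι] [DecidableEq ι]

/-- the basis vector `e_(j,i)`, extended by zero for `i ≥ a j` -/
def E (a : ι → ℕ) (j : ι) (i : ℕ) : Idx a → F :=
  if h : i < a j then Pi.single (⟨j, ⟨i, h⟩⟩ : Idx a) (1 : F) else 0

/-- the shift -/
noncomputable def XX (a : ι → ℕ) : Module.End F (Idx a → F) :=
  (Pi.basisFun F (Idx a)).constr F (fun x => E F a x.1 ((x.2 : ℕ) + 1))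

variable {F}

/-- the Gram matrix -/
def Mm (a : ι → ℕ) (K : Matrix ι ι F) : Matrix (Idx a) (Idx a) F :=
  Matrix.of fun x y =>
    if (x.2 : ℕ) + (y.2 : ℕ) + 1 = a x.1 then (-1) ^ (x.2 : ℕ) * K x.1 y.1 else 0

/-- the form -/
noncomputable def BB (a : ι → ℕ) (K : Matrix ι ι F) : LinearMap.BilinForm F (Idx a → F) :=
  Matrix.toBilin' (Mm a K)

theorem E_of_lt (a : ι → ℕ) (j : ι) (i : ℕ) (h : i < a j) :
    E F a j i = Pi.single (⟨j, ⟨i, h⟩⟩ : Idx a) (1 : F) := dif_pos h

theorem E_of_ge (a : ι → ℕ) (j : ι) (i : ℕ) (h : a j ≤ i) : E F a j i = 0 :=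
  dif_neg (by omega)

theorem single_eq_E (a : ι → ℕ) (j : ι) (i : Fin (a j)) :
    Pi.single (⟨j, i⟩ : Idx a) (1 : F) = E F a j (i : ℕ) :=
  (E_of_lt a j i i.2).symm

theorem XX_E (a : ι → ℕ) (j : ι) (i : ℕ) : XX F a (E F a j i) = E F a j (i + 1) := by
  by_cases h : i < a j
  · rw [E_of_lt a j i h, ← Pi.basisFun_apply, XX, Module.Basis.constr_basis]
  · rw [E_of_ge a j i (by omega), map_zero, E_of_ge a j (i + 1) (by omega)]

theorem XX_pow_E (a : ι → ℕ) (j : ι) (i n : ℕ) :
    (XX F a ^ n) (E F a j i) = E F a j (i + n) := by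
  induction n with
  | zero => simp
  | succ n ih =>
    rw [pow_succ', Module.End.mul_apply, ih, XX_E]
    rfl

theorem BB_E (a : ι → ℕ) (K : Matrix ι ι F) (hoff : ∀ j j', a j ≠ a j' → K j j' = 0)
    (j : ι) (i : ℕ) (j' : ι) (l : ℕ) :
    BB a K (E F a j i) (E F a j' l) = if i + l + 1 = a j then (-1) ^ i * K j j' else 0 := by
  by_cases hi : i < a j
  · by_cases hl : l < a j'
    · rw [E_of_lt a j i hi, E_of_lt a j' l hl, BB, Matrix.toBilin'_single]
      rfl
    · rw [E_of_ge a j' l (by omega), map_zero]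
      split_ifs with h
      · rw [hoff j j' (by omega), mul_zero]
      · rfl
  · rw [E_of_ge a j i (by omega), map_zero, LinearMap.zero_apply, if_neg (by omega)]

theorem Mm_antisymm (a : ι → ℕ) (K : Matrix ι ι F) (hoff : ∀ j j', a j ≠ a j' → K j j' = 0)
    (hsymm : ∀ j j', K j' j = (-1) ^ (a j) * K j j') (x y : Idx a) :
    Mm a K y x = - Mm a K x y := by
  obtain ⟨j, i⟩ := x
  obtain ⟨j', l⟩ := y
  simp only [Mm, Matrix.of_apply]
  by_cases haj : a j = a j'
  · by_cases h : (i : ℕ) + (l : ℕ) + 1 = a j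
    · have hs : K j' j = (-1) ^ ((i : ℕ) + (l : ℕ) + 1) * K j j' := by
        rw [h]
        exact hsymm j j'
      have e1 : ((-1 : F)) ^ (l : ℕ) * (-1) ^ (l : ℕ) = 1 := by
        rw [← mul_pow]
        simp
      rw [if_pos (by omega), if_pos h, hs, pow_add, pow_add, pow_one]
      linear_combination (-(-1) ^ (i : ℕ) * K j j') * e1
    · rw [if_neg (by omega), if_neg h, neg_zero]
  · rw [hoff j j' haj, hoff j' j (Ne.symm haj)]
    simp

theorem alt_of_antisymm (h2 : (2 : F) ≠ 0) {σ : Type} [Fintype σ] [DecidableEq σ]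
    (M : Matrix σ σ F) (hM : ∀ x y, M y x = - M x y) (v : σ → F) :
    Matrix.toBilin' M v v = 0 := by
  have h : Matrix.toBilin' M v v = - Matrix.toBilin' M v v := by
    rw [Matrix.toBilin'_apply]
    conv_lhs => rw [Finset.sum_comm]
    rw [← Finset.sum_neg_distrib]
    apply Finset.sum_congr rfl
    intro i _
    rw [← Finset.sum_neg_distrib]
    apply Finset.sum_congr rfl
    intro j _
    rw [hM]
    ring
  have h' : (2 : F) * Matrix.toBilin' M v v = 0 := by linear_combination h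
  exact (mul_eq_zero.mp h').resolve_left h2

theorem skew_BB (a : ι → ℕ) (K : Matrix ι ι F) (hoff : ∀ j j', a j ≠ a j' → K j j' = 0) :
    Skew (BB a K) (XX F a) := by
  have h : (BB a K).compLeft (XX F a) = -((BB a K).compRight (XX F a)) := by
    apply LinearMap.BilinForm.ext_basis (Pi.basisFun F (Idx a))
    rintro ⟨j, i⟩ ⟨j', l⟩
    rw [LinearMap.BilinForm.compLeft_apply, LinearMap.neg_apply, LinearMap.neg_apply,
      LinearMap.BilinForm.compRight_apply, Pi.basisFun_apply, Pi.basisFun_apply,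
      single_eq_E a j i, single_eq_E a j' l, XX_E, XX_E, BB_E a K hoff, BB_E a K hoff]
    split_ifs with h1 h2 h2
    · ring
    · omega
    · omega
    · rw [neg_zero]
  intro u v
  have h1 := LinearMap.congr_fun₂ h u v
  rw [LinearMap.BilinForm.compLeft_apply, LinearMap.neg_apply, LinearMap.neg_apply,
    LinearMap.BilinForm.compRight_apply] at h1
  exact h1

theorem XX_pow_eq_zero (a : ι → ℕ) (N : ℕ) (hN : ∀ j, a j ≤ N) : XX F a ^ N = 0 := by
  apply (Pi.basisFun F (Idx a)).ext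
  rintro ⟨j, i⟩
  rw [Pi.basisFun_apply, single_eq_E a j i, XX_pow_E,
    E_of_ge a j _ (by have := hN j; omega), LinearMap.zero_apply]

theorem frame (a : ι → ℕ) (K : Matrix ι ι F) (hpos : ∀ j, 0 < a j)
    (hoff : ∀ j j', a j ≠ a j' → K j j' = 0)
    (hunit : ∀ s : ℕ, IsUnit (K.toSquareBlock a s).det) :
    IsFrame (BB a K) (XX F a) ⊤ a K (fun j => E F a j 0) where
  pos := hpos
  kill j := by
    rw [XX_pow_E, E_of_ge a j _ (by omega)]
  gram j j' i l := by
    rw [XX_pow_E, XX_pow_E, BB_E a K hoff, zero_add, zero_add]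
  span := by
    have h : fvec (XX F a) a (fun j => E F a j 0) = Pi.basisFun F (Idx a) := by
      funext x
      obtain ⟨j, i⟩ := x
      rw [fvec_mk, XX_pow_E, zero_add, E_of_lt a j i i.2, Pi.basisFun_apply]
    rw [h]
    exact (Pi.basisFun F (Idx a)).span_eq
  offdiag := hoff
  unit := hunit

end MODEL

open MODEL in
theorem exists_model {F : Type u} [Field F] (h2 : (2 : F) ≠ 0) {ι : Type} [Fintype ι]
    [DecidableEq ι] (a : ι → ℕ) (K : Matrix ι ι F) (hpos : ∀ j, 0 < a j)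
    (hoff : ∀ j j', a j ≠ a j' → K j j' = 0)
    (hsymm : ∀ j j', K j' j = (-1) ^ (a j) * K j j')
    (hunit : ∀ s : ℕ, IsUnit (K.toSquareBlock a s).det) (N : ℕ) (hN : ∀ j, a j ≤ N) :
    ∃ (V : Type u) (_ : AddCommGroup V) (_ : Module F V) (_ : FiniteDimensional F V)
      (B : LinearMap.BilinForm F V) (X : Module.End F V) (g : ι → V),
      (∀ v, B v v = 0) ∧ Skew B X ∧ X ^ N = 0 ∧ IsFrame B X ⊤ a K g :=
  ⟨Idx a → F, inferInstance, inferInstance, inferInstance, BB a K, XX F a, fun j => E F a j 0,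
    alt_of_antisymm h2 (Mm a K) (Mm_antisymm a K hoff hsymm), skew_BB a K hoff,
    XX_pow_eq_zero a N hN, frame a K hpos hoff hunit⟩

end Cfsg.Agent.S2676P
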