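import Mathlib
import Cfsg.Prelude
import Cfsg.Agent.Helper7.S2788Defs
import Cfsg.Agent.Helper18.S2788CONJ2

/-! S2788 piece PRODEVEN (helper19): characteristic 2, `F` finite.  For `x ∈ SL₂(F)` of odd order
`m > 1` and `l ≠ 0`, the product `upr l * lwr (t / l)`, `t = tr x ≠ 0`, has the trace of `x`, hence
is `GL₂`-conjugate to `x`; and `lwr (t / l)` is an `SL₂`-conjugate of `upr l` (squares exist). -/

set_option autoImplicit false

namespace Cfsg.Agent.S2788P

open Matrix

namespace PRODEVEN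

variable {F : Type*} [Field F]

theorem neg_one_eq_one (h2 : (2 : F) = 0) : (-1 : F) = 1 := by
  linear_combination (-1 : F) * h2

/-- in characteristic 2, an element of `SL₂(F)` of trace `0` squares to `1` -/
theorem sq_eq_one_of_trace_zero (h2 : (2 : F) = 0) (x : SpecialLinearGroup (Fin 2) F)
    (ht : (x : Matrix (Fin 2) (Fin 2) F).trace = 0) : x ^ 2 = 1 := by
  have hdet : (x : Matrix (Fin 2) (Fin 2) F) 0 0 * (x : Matrix (Fin 2) (Fin 2) F) 1 1 -
      (x : Matrix (Fin 2) (Fin 2) F) 0 1 * (x : Matrix (Fin 2) (Fin 2) F) 1 0 = 1 := by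
    have := x.2
    rw [Matrix.det_fin_two] at this
    exact this
  rw [Matrix.trace_fin_two] at ht
  apply Subtype.ext
  rw [pow_two]
  show (x : Matrix (Fin 2) (Fin 2) F) * (x : Matrix (Fin 2) (Fin 2) F) = 1
  generalize (x : Matrix (Fin 2) (Fin 2) F) = A at hdet ht
  ext i j
  fin_cases i <;> fin_cases j <;> simp [Matrix.mul_apply, Fin.sum_univ_two]
  · linear_combination A 0 0 * ht - hdet - h2
  · linear_combination A 0 1 * ht
  · linear_combination A 1 0 * ht
  · linear_combination A 1 1 * ht - hdet - h2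

/-- the conjugating element `[[0, c⁻¹], [c, 0]]` (determinant `-1 = 1`) -/
def sig (h2 : (2 : F) = 0) (c : F) (hc : c ≠ 0) : SpecialLinearGroup (Fin 2) F :=
  ⟨!![0, c⁻¹; c, 0], by
    rw [Matrix.det_fin_two_of, inv_mul_cancel₀ hc]
    linear_combination (-1 : F) * h2⟩

theorem sig_conj (h2 : (2 : F) = 0) (c : F) (hc : c ≠ 0) (l s : F) (hs : c * c * l = s) :
    sig h2 c hc * upr l * (sig h2 c hc)⁻¹ = lwr s := by
  rw [mul_inv_eq_iff_eq_mul]
  apply Subtype.ext
  show (!![0, c⁻¹; c, 0] : Matrix (Fin 2) (Fin 2) F) * !![1, l; 0, 1] =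
    !![1, 0; s, 1] * !![0, c⁻¹; c, 0]
  ext i j
  fin_cases i <;> fin_cases j <;> simp [Matrix.mul_apply, Fin.sum_univ_two]
  rw [← hs]
  field_simp

theorem prod_even [Finite F] (h2 : (2 : F) = 0) (l : F) (hl : l ≠ 0)
    (x : SpecialLinearGroup (Fin 2) F) (m : ℕ) (hx : orderOf x = m) (hm : Odd m) (hm1 : 1 < m) :
    ∃ (σ : SpecialLinearGroup (Fin 2) F) (k : ℕ),
      orderOf ((upr l * (σ * upr l * σ⁻¹)) ^ k) = m := by
  classical
  obtain ⟨t, ht⟩ : ∃ t : F, t = (x : Matrix (Fin 2) (Fin 2) F).trace := ⟨_, rfl⟩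
  have hx1 : x ≠ 1 := by
    intro h
    rw [h, orderOf_one] at hx
    omega
  -- the trace is nonzero
  have ht0 : t ≠ 0 := by
    intro h0
    have hsq := sq_eq_one_of_trace_zero h2 x (by rw [← ht, h0])
    have hdvd := orderOf_dvd_of_pow_eq_one hsq
    rw [hx] at hdvd
    have hle : m ≤ 2 := Nat.le_of_dvd (by norm_num) hdvd
    have hm2 : m = 2 := by omega
    rw [hm2] at hm
    exact absurd hm (by decide)
  -- a square root of `t`
  haveI : CharP F 2 := CharTwo.of_one_ne_zero_of_two_eq_zero one_ne_zero h2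
  obtain ⟨c₀, hc₀⟩ := FiniteField.isSquare_of_char_two (ringChar.eq F 2) t
  have hc₀0 : c₀ ≠ 0 := by
    rintro rfl
    exact ht0 (by rw [hc₀]; ring)
  have hc0 : c₀ / l ≠ 0 := div_ne_zero hc₀0 hl
  have hconj := sig_conj h2 (c₀ / l) hc0 l (t / l) (by rw [hc₀]; field_simp)
  refine ⟨sig h2 (c₀ / l) hc0, 1, ?_⟩
  rw [pow_one, hconj]
  -- `y = upr l * lwr (t / l)` has the trace of `x`
  have hyval : ((upr l * lwr (t / l) : SpecialLinearGroup (Fin 2) F) :
      Matrix (Fin 2) (Fin 2) F) = !![1 + t, l; t / l, 1] := by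
    show (!![1, l; 0, 1] : Matrix (Fin 2) (Fin 2) F) * !![1, 0; t / l, 1] = _
    ext i j
    fin_cases i <;> fin_cases j <;> simp [Matrix.mul_apply, Fin.sum_univ_two]
    field_simp
  have hxns : ∀ c : F, (x : Matrix (Fin 2) (Fin 2) F) ≠ c • (1 : Matrix (Fin 2) (Fin 2) F) := by
    intro c hc
    have hdet := x.2
    rw [hc, Matrix.det_fin_two] at hdet
    simp at hdet
    -- `c * c = 1`, so `c = 1`
    have hc1 : (c - 1) * (c - 1) = 0 := by linear_combination hdet - c * h2 + h2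
    have hc1' : c = 1 := by
      rcases mul_eq_zero.mp hc1 with h | h <;> exact sub_eq_zero.mp h
    apply hx1
    apply Subtype.ext
    rw [hc, hc1', one_smul]
    rfl
  have hyns : ∀ c : F, ((upr l * lwr (t / l) : SpecialLinearGroup (Fin 2) F) :
      Matrix (Fin 2) (Fin 2) F) ≠ c • (1 : Matrix (Fin 2) (Fin 2) F) := by
    intro c hc
    rw [hyval] at hc
    have h01 := congrFun (congrFun hc 0) 1
    simp at h01
    exact hl h01
  have htr : (x : Matrix (Fin 2) (Fin 2) F).trace =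
      ((upr l * lwr (t / l) : SpecialLinearGroup (Fin 2) F) : Matrix (Fin 2) (Fin 2) F).trace := by
    rw [hyval, Matrix.trace_fin_two_of, ← ht]
    linear_combination (-1 : F) * h2
  obtain ⟨g, hg⟩ := CONJ2.conj_of_trace_eq x (upr l * lwr (t / l)) hxns hyns htr
  rw [← orderOf_injective SpecialLinearGroup.toGL SpecialLinearGroup.toGL_injective, hg,
    ← MulAut.conj_apply, MulEquiv.orderOf_eq,
    orderOf_injective SpecialLinearGroup.toGL SpecialLinearGroup.toGL_injective, hx]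

end PRODEVEN

end Cfsg.Agent.S2788P
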