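import Mathlib
import Cfsg.Agent.Helper7.S2862Defs
import Cfsg.Agent.Helper7.S2862B1
import Cfsg.Agent.Helper22.S2862CP4
import Cfsg.Agent.Helper22.S2862CP7

/-! s2862pieces B5 (order count), core: `C_X(D) = [X,Y]`, with the results of CP10 (`card_between`, for the two pairs used),
B2.1, B3, B4.1 as hypotheses.  `F ≤ F_D` (B1), `C' ∩ F_D = 1` (B2), `|C'||F| = |C||F'| = |X|` (B3, B4, CP7, CP10).
The official `B5` is
`B5_aux_core K C hh (card_between C ..) (card_between C ..) (B2 K C hnc hh hh0).1 (B3 K C hnc hh hh0) (B4 K C hnc hh hh0).1`. -/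

set_option autoImplicit false
set_option linter.unusedVariables false

namespace Cfsg.Agent.S2862P

open Cfsg
open Cfsg.Agent.Helper14 (cj)
open Subgroup
open scoped commutatorElement

variable {G : Type*} [Group G] [Finite G] {p : ℕ} [Fact p.Prime]
variable {H Y D L L0 Vt Vb : Subgroup G}

/-- B5 core -/
theorem B5_aux_core (K : KHyp p H Y D L L0) (C : ChiefPair p H Vt Vb) {h : G} (hh : h ∈ L)
    (hp1 : Nat.card ↥(fixP Vt Vb Y ⊔ commP Vt Vb (cjs h Y)) * Nat.card ↥(fixP Vt Vb Y ⊓ commP Vt Vb (cjs h Y))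
      = Nat.card ↥(fixP Vt Vb Y) * Nat.card ↥(commP Vt Vb (cjs h Y)))
    (hp2 : Nat.card ↥(fixP Vt Vb (cjs h Y) ⊔ fixP Vt Vb D) * Nat.card ↥(fixP Vt Vb (cjs h Y) ⊓ fixP Vt Vb D)
      = Nat.card ↥(fixP Vt Vb (cjs h Y)) * Nat.card ↥(fixP Vt Vb D))
    (h2 : fixP Vt Vb (cjs h Y) ⊓ fixP Vt Vb D = Vb)
    (h3 : fixP Vt Vb Y ⊓ commP Vt Vb (cjs h Y) = Vb)
    (h4 : fixP Vt Vb Y ⊔ commP Vt Vb (cjs h Y) = Vt) :
    fixP Vt Vb D = commP Vt Vb Y := by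
  have hYH : Y ≤ H := K.hYD.trans K.hDH
  have hhH : h ∈ H := K.hLH hh
  have hcYH : cjs h Y ≤ H := by
    rintro _ ⟨y, hy, rfl⟩
    exact H.mul_mem (H.mul_mem hhH (hYH hy)) (H.inv_mem hhH)
  -- `F ≤ F_D`
  have hle : commP Vt Vb Y ≤ fixP Vt Vb D := (B1 K C).1
  -- `|C'| = |C|`, `|F'| = |F|`
  have hcC : Nat.card ↥(fixP Vt Vb (cjs h Y)) = Nat.card ↥(fixP Vt Vb Y) := by
    rw [fixP_cjs C hYH hhH, card_cjs]
  have hcF : Nat.card ↥(commP Vt Vb (cjs h Y)) = Nat.card ↥(commP Vt Vb Y) := by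
    rw [commP_cjs C hYH hhH, card_cjs]
  -- `|C||F'| = |Vt||Vb|`
  rw [h3, h4] at hp1
  -- `|C'||F_D| = |C' ⊔ F_D||Vb| ≤ |Vt||Vb|`
  rw [h2] at hp2
  have hsup : fixP Vt Vb (cjs h Y) ⊔ fixP Vt Vb D ≤ Vt := sup_le (fixP_le C hcYH) (fixP_le C K.hDH)
  have hcs : Nat.card ↥(fixP Vt Vb (cjs h Y) ⊔ fixP Vt Vb D) ≤ Nat.card ↥Vt := Subgroup.card_le_of_le hsup
  have hpos : 0 < Nat.card ↥(fixP Vt Vb (cjs h Y)) := Nat.card_pos
  have hVb : 0 < Nat.card ↥Vb := Nat.card_pos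
  -- `|F_D| ≤ |F|`
  have hcard : Nat.card ↥(fixP Vt Vb D) ≤ Nat.card ↥(commP Vt Vb Y) := by
    have e1 : Nat.card ↥(fixP Vt Vb (cjs h Y)) * Nat.card ↥(fixP Vt Vb D)
        ≤ Nat.card ↥(fixP Vt Vb (cjs h Y)) * Nat.card ↥(commP Vt Vb Y) := by
      calc Nat.card ↥(fixP Vt Vb (cjs h Y)) * Nat.card ↥(fixP Vt Vb D)
          = Nat.card ↥(fixP Vt Vb (cjs h Y) ⊔ fixP Vt Vb D) * Nat.card ↥Vb := hp2.symm
        _ ≤ Nat.card ↥Vt * Nat.card ↥Vb := Nat.mul_le_mul_right _ hcs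
        _ = Nat.card ↥(fixP Vt Vb Y) * Nat.card ↥(commP Vt Vb (cjs h Y)) := hp1
        _ = Nat.card ↥(fixP Vt Vb (cjs h Y)) * Nat.card ↥(commP Vt Vb Y) := by rw [hcC, hcF]
    exact Nat.le_of_mul_le_mul_left e1 hpos
  exact (Subgroup.eq_of_le_of_card_ge hle hcard).symm

end Cfsg.Agent.S2862P
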