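import Mathlib
import Cfsg.Agent.Helper7.S2862Defs
import Cfsg.Agent.Helper22.S2862CP7

/-! s2862pieces S3c, core: `n ∈ L0` fixes `F = [X,Y]` and `C = C_X(Y)`, with the results of S3b, B7c.1, B8.1 as
hypotheses.  The official `S3c` is `S3c_aux_core` fed with `S3b`, `(B7c ..).1`, `(B8 ..).1` (for some `h` from `K.hfar`). -/

set_option autoImplicit false
set_option linter.unusedVariables false

namespace Cfsg.Agent.S2862P

open Cfsg
open Cfsg.Agent.Helper14 (cj)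
open Subgroup
open scoped commutatorElement

variable {G : Type*} [Group G] [Finite G] {p : ℕ} [Fact p.Prime]
variable {H Y D L L0 Vt Vb : Subgroup G}

/-- S3c core: from `F_n = F` (S3b), `C = F C_L` (B7c.1) and `C_X(Y^n) = F_n C_L` (B8.1). -/
theorem S3c_aux_core (K : KHyp p H Y D L L0) (C : ChiefPair p H Vt Vb) {n : G} (hn : n ∈ L0)
    (hS3b : commP Vt Vb (cjs n Y) = commP Vt Vb Y)
    (hB7c : commP Vt Vb Y ⊔ fixP Vt Vb L = fixP Vt Vb Y)
    (hB8 : fixP Vt Vb (cjs n Y) = commP Vt Vb (cjs n Y) ⊔ fixP Vt Vb L) :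
    cjs n (commP Vt Vb Y) = commP Vt Vb Y ∧ cjs n (fixP Vt Vb Y) = fixP Vt Vb Y := by
  have hYH : Y ≤ H := K.hYD.trans K.hDH
  have hnH : n ∈ H := K.hLH (K.hL0L hn)
  refine ⟨(commP_cjs C hYH hnH).symm.trans hS3b, ?_⟩
  refine (fixP_cjs C hYH hnH).symm.trans ?_
  rw [hB8, hS3b, hB7c]

end Cfsg.Agent.S2862P
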