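import Mathlib
import Cfsg.Agent.Helper5.S2932Defs

/-! Board `s2932pieces`, row TRANS: `SL₂(F)` is transitive on the non-zero vectors. -/

set_option autoImplicit false
set_option linter.unusedSectionVars false

namespace Cfsg.Agent.S2932P

open Matrix

namespace Dat

variable {F : Type} [Field F] [Fintype F] {Γ : Type*} [Group Γ] [Finite Γ] (D : Dat F Γ)
  {p : ℕ} [Fact p.Prime] [CharP F p]

/-- A matrix of `SL₂(F)` with prescribed non-zero first column. -/
theorem trans_vec_aux_mat (v : Fin 2 → F) (hv : v ≠ 0) :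
    ∃ M : SpecialLinearGroup (Fin 2) F, (M : Matrix (Fin 2) (Fin 2) F).mulVec ![1, 0] = v := by
  by_cases h0 : v 0 = 0
  · have h1 : v 1 ≠ 0 := by
      intro h1
      apply hv
      funext i
      fin_cases i
      · exact h0
      · exact h1
    refine ⟨⟨!![0, -(v 1)⁻¹; v 1, 0], ?_⟩, ?_⟩
    · rw [Matrix.det_fin_two_of]
      field_simp
      ring
    · funext i
      fin_cases i
      · simp [Matrix.mulVec, dotProduct, Fin.sum_univ_two, h0]
      · simp [Matrix.mulVec, dotProduct, Fin.sum_univ_two]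
  · refine ⟨⟨!![v 0, 0; v 1, (v 0)⁻¹], ?_⟩, ?_⟩
    · rw [Matrix.det_fin_two_of]
      field_simp
      ring
    · funext i
      fin_cases i
      · simp [Matrix.mulVec, dotProduct, Fin.sum_univ_two]
      · simp [Matrix.mulVec, dotProduct, Fin.sum_univ_two]

/-- For `v ≠ 0` there is `l ∈ Λ` with `v ∈ l • e1`. -/
theorem trans_vec (v : Fin 2 → F) (hv : v ≠ 0) : ∃ l ∈ D.Λ, v ∈ D.img l := by
  obtain ⟨M, hM⟩ := trans_vec_aux_mat v hv
  obtain ⟨l, hl⟩ := D.ρ_surj M
  refine ⟨(l : Γ), l.2, ?_⟩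
  have h1 : (![1, 0] : Fin 2 → F) ∈ e1 F := by
    rw [mem_e1]
    simp
  have h2 : D.A (l : Γ) ![1, 0] = v := by rw [D.hA l, hl, hM]
  exact ⟨![1, 0], h1, h2⟩

end Dat

end Cfsg.Agent.S2932P
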