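import Mathlib
import Cfsg.Agent.Helper5.S2932Defs
import Cfsg.Agent.Helper19.S2932TRANS

/-! Board `s2932pieces`, row SPREAD (core): if every translate `g • e1` equals `e1` or meets it trivially, then `Λ` is
normal.  The rows GEN (`gen`), NU (`img_eq_e1_iff`) and BASIC_tt (`T_le`) enter as hypotheses. -/

set_option autoImplicit false
set_option linter.unusedSectionVars false

namespace Cfsg.Agent.S2932P

open Matrix

namespace Dat

variable {F : Type} [Field F] [Fintype F] {Γ : Type*} [Group Γ] [Finite Γ] (D : Dat F Γ)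
  {p : ℕ} [Fact p.Prime] [CharP F p]

/-- Key step: a conjugate of `T` by `g * l` (`l ∈ Λ`) lies in `Λ`. -/
theorem normal_of_spread_aux_key
    (hNU : ∀ g : Γ, D.img g = e1 F → g ∈ Subgroup.normalizer (D.T : Set Γ))
    (hTle : D.T ≤ D.Λ)
    (h : ∀ g : Γ, D.img g = e1 F ∨ D.img g ⊓ e1 F = ⊥)
    (g l : Γ) (_hl : l ∈ D.Λ) (t : Γ) (ht : t ∈ D.T) : (g * l) * t * (g * l)⁻¹ ∈ D.Λ := by
  obtain ⟨v, hv⟩ : ∃ v, v = D.A (g * l) ![1, 0] := ⟨_, rfl⟩
  have hv0 : v ≠ 0 := by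
    intro h0
    have h1 : D.A (g * l) ![1, 0] = D.A (g * l) 0 := by rw [← hv, h0, D.A_zero]
    have h2 := congrFun (D.A_injective (g * l) h1) 0
    simp at h2
  obtain ⟨l', hl', hvl'⟩ := D.trans_vec v hv0
  obtain ⟨u, hu, huv⟩ := hvl'
  have huv' : D.A l' u = v := huv
  obtain ⟨k, hk⟩ : ∃ k, k = l'⁻¹ * g * l := ⟨_, rfl⟩
  have hku : u ∈ D.img k := by
    have h1 : (![1, 0] : Fin 2 → F) ∈ e1 F := by
      rw [mem_e1]
      simp
    have h2 : D.A k ![1, 0] = u := by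
      have h3 : D.A k ![1, 0] = D.A l'⁻¹ v := by
        rw [hk, hv, ← D.A_mul, mul_assoc]
      rw [h3, ← huv', D.A_inv_A]
    exact ⟨![1, 0], h1, h2⟩
  have hu0 : u ≠ 0 := by
    intro h0
    apply hv0
    rw [← huv', h0, D.A_zero]
  have hke1 : D.img k = e1 F := by
    rcases h k with h1 | h1
    · exact h1
    · exfalso
      have h2 : u ∈ D.img k ⊓ e1 F := ⟨hku, hu⟩
      rw [h1] at h2
      exact hu0 (AddSubgroup.mem_bot.1 h2)
  have hkN := hNU k hke1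
  have hkt : k * t * k⁻¹ ∈ D.T := (Subgroup.mem_normalizer_iff.1 hkN t).1 ht
  have h4 : (g * l) * t * (g * l)⁻¹ = l' * (k * t * k⁻¹) * l'⁻¹ := by
    rw [hk]
    group
  rw [h4]
  exact D.Λ.mul_mem (D.Λ.mul_mem hl' (hTle hkt)) (D.Λ.inv_mem hl')

/-- Core of row SPREAD. -/
theorem normal_of_spread_aux_core
    (hgen : D.Λ ≤ Subgroup.closure {x : Γ | ∃ l ∈ D.Λ, x ∈ D.Tc l})
    (hNU : ∀ g : Γ, D.img g = e1 F → g ∈ Subgroup.normalizer (D.T : Set Γ))
    (hTle : D.T ≤ D.Λ)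
    (h : ∀ g : Γ, D.img g = e1 F ∨ D.img g ⊓ e1 F = ⊥) : D.Λ.Normal := by
  refine ⟨fun n hn g => ?_⟩
  have hn' := hgen hn
  refine Subgroup.closure_induction (p := fun n _ => g * n * g⁻¹ ∈ D.Λ) ?_ ?_ ?_ ?_ hn'
  · rintro x ⟨l, hl, hxl⟩
    obtain ⟨t, ht, rfl⟩ := hxl
    have h1 := D.normal_of_spread_aux_key hNU hTle h g l hl t ht
    have h2 : g * ((MulAut.conj l).toMonoidHom t) * g⁻¹ = (g * l) * t * (g * l)⁻¹ := by
      simp only [MulEquiv.coe_toMonoidHom, MulAut.conj_apply]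
      group
    rw [h2]
    exact h1
  · simp
  · intro x y _ _ hx hy
    have h1 : g * (x * y) * g⁻¹ = (g * x * g⁻¹) * (g * y * g⁻¹) := by group
    rw [h1]
    exact D.Λ.mul_mem hx hy
  · intro x _ hx
    have h1 : g * x⁻¹ * g⁻¹ = (g * x * g⁻¹)⁻¹ := by group
    rw [h1]
    exact D.Λ.inv_mem hx

end Dat

end Cfsg.Agent.S2932P
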