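import Mathlib
import Cfsg.Agent.Helper12.S2999Basic
import Cfsg.Agent.Helper20.S2999OPP
import Cfsg.Agent.Helper6.S2999QUAD

/-!
# S2999 board, piece SPLIT, core (helper19): `|Y|·|V₀| = |Y ∩ U(A)|²` with STRONG as a hypothesis.
-/

set_option autoImplicit false

namespace Cfsg.Agent.S2999P

open Cfsg.Agent.S2789P
open scoped commutatorElement

variable {G : Type*} [Group G] [Finite G] {p : ℕ} [Fact p.Prime] {V P Mg Tg R A : Subgroup G}

omit [Finite G] [Fact (Nat.Prime p)] in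
/-- the commutator map `y ↦ ⁅a, y⁆` is multiplicative on the abelian group `V` -/
theorem SPLIT_h19_comm_mul (S : Setup p V P Mg Tg R A) {a y z : G} (ha : a ∈ P) (hy : y ∈ V) (hz : z ∈ V) :
    ⁅a, y * z⁆ = ⁅a, y⁆ * ⁅a, z⁆ := by
  have hs : a * y * a⁻¹ ∈ V := S.conj_mem_V hy ha
  have ht : a * z * a⁻¹ ∈ V := S.conj_mem_V hz ha
  rw [commutatorElement_def, commutatorElement_def, commutatorElement_def]
  have e1 : a * (y * z) * a⁻¹ * (y * z)⁻¹ = (a * y * a⁻¹) * ((a * z * a⁻¹) * z⁻¹) * y⁻¹ := by group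
  rw [e1]
  have h3 : (a * z * a⁻¹) * z⁻¹ ∈ V := V.mul_mem ht (V.inv_mem hz)
  have h4 : ((a * z * a⁻¹) * z⁻¹) * y⁻¹ = y⁻¹ * ((a * z * a⁻¹) * z⁻¹) := S.V_comm h3 (V.inv_mem hy)
  rw [mul_assoc (a * y * a⁻¹), h4]
  group

/-- upper bound: `|Y|·|V₀| ≤ |Y ∩ U(A)|²` from one element `a ∈ A` that is strong on `Y` -/
theorem SPLIT_h19_upper (S : Setup p V P Mg Tg R A) (Y : Subgroup G)
    (hYP : P ≤ Subgroup.normalizer (Y : Set G)) (hY0 : fixV V P ≤ Y) (hYV : Y ≤ V)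
    {a : G} (haA : a ∈ A) (hstrong : ∀ y ∈ Y, ⁅a, y⁆ ∈ fixV V P → y ∈ fixV V A) :
    Nat.card ↥Y * Nat.card ↥(fixV V P) ≤ Nat.card ↥(Y ⊓ fixV V A : Subgroup G) ^ 2 := by
  have haP : a ∈ P := S.hAP haA
  have hQ := QUAD S
  have hmemY : ∀ y ∈ Y, ⁅a, y⁆ ∈ Y := by
    intro y hy
    have h1 : a * y * a⁻¹ ∈ Y := (Subgroup.mem_normalizer_iff.mp (hYP haP) y).mp hy
    rw [commutatorElement_def]
    exact Y.mul_mem h1 (Y.inv_mem hy)
  have hmemU : ∀ y ∈ Y, ⁅a, y⁆ ∈ fixV V A := by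
    intro y hy
    have h1 : ⁅y, a⁆ ∈ ⁅V, A⁆ := Subgroup.commutator_mem_commutator (hYV hy) haA
    have h2 : ⁅a, y⁆ = ⁅y, a⁆⁻¹ := (commutatorElement_inv y a).symm
    rw [h2]
    exact Subgroup.inv_mem _ (hQ h1)
  -- the homomorphism `φ : Y → Y ∩ U(A)`
  let φ : ↥Y →* ↥(Y ⊓ fixV V A : Subgroup G) :=
    MonoidHom.mk' (fun y => ⟨⁅a, (y : G)⁆, ⟨hmemY y y.2, hmemU y y.2⟩⟩) (by
      intro y z
      apply Subtype.ext
      exact SPLIT_h19_comm_mul S haP (hYV y.2) (hYV z.2))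
  have hφ : ∀ y : ↥Y, ((φ y : ↥(Y ⊓ fixV V A : Subgroup G)) : G) = ⁅a, (y : G)⁆ := fun y => rfl
  have hV0le : fixV V P ≤ Y ⊓ fixV V A := le_inf hY0 (S.V0_le_fix S.hAP)
  let H : Subgroup ↥(Y ⊓ fixV V A : Subgroup G) := (fixV V P).subgroupOf (Y ⊓ fixV V A)
  let K : Subgroup ↥Y := H.comap φ
  have hKeq : K = (Y ⊓ fixV V A).subgroupOf Y := by
    ext y
    change φ y ∈ H ↔ _
    rw [Subgroup.mem_subgroupOf, Subgroup.mem_subgroupOf, hφ]
    constructor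
    · intro h
      exact ⟨y.2, hstrong y y.2 h⟩
    · intro h
      have hc : ⁅a, (y : G)⁆ = 1 := by
        rw [commutatorElement_eq_one_iff_mul_comm]
        exact (mem_fix.mp h.2).2 a haA
      rw [hc]; exact Subgroup.one_mem _
  have hKcard : Nat.card ↥K = Nat.card ↥(Y ⊓ fixV V A : Subgroup G) := by
    rw [hKeq]
    exact Nat.card_congr (Subgroup.subgroupOfEquivOfLe inf_le_left).toEquiv
  have hHcard : Nat.card ↥H = Nat.card ↥(fixV V P) :=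
    Nat.card_congr (Subgroup.subgroupOfEquivOfLe hV0le).toEquiv
  have hKidx : K.index ≤ H.index := by
    have h1 : K.index = H.relIndex φ.range := Subgroup.index_comap H φ
    rw [h1, ← Subgroup.relIndex_top_right H]
    apply Subgroup.relIndex_le_of_le_right le_top
    rw [Subgroup.relIndex_top_right]
    exact Subgroup.index_ne_zero_of_finite
  have h1 : Nat.card ↥K * K.index = Nat.card ↥Y := Subgroup.card_mul_index K
  have h2 : Nat.card ↥H * H.index = Nat.card ↥(Y ⊓ fixV V A : Subgroup G) := Subgroup.card_mul_index H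
  calc Nat.card ↥Y * Nat.card ↥(fixV V P)
      = Nat.card ↥K * K.index * Nat.card ↥H := by rw [h1, hHcard]
    _ ≤ Nat.card ↥K * H.index * Nat.card ↥H :=
        Nat.mul_le_mul_right _ (Nat.mul_le_mul_left _ hKidx)
    _ = Nat.card ↥K * (Nat.card ↥H * H.index) := by ring
    _ = Nat.card ↥(Y ⊓ fixV V A : Subgroup G) ^ 2 := by rw [h2, hKcard, sq]

/-- lower bound: `|Y ∩ U(A)|² ≤ |Y|·|V₀|` from an opposite conjugate -/
theorem SPLIT_h19_lower (S : Setup p V P Mg Tg R A) (Y : Subgroup G)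
    (hYP : P ≤ Subgroup.normalizer (Y : Set G)) (hY0 : fixV V P ≤ Y) (hYV : Y ≤ V)
    {x : G} (hx : x ∈ P) (hxM : x ∉ Mg) :
    Nat.card ↥(Y ⊓ fixV V A : Subgroup G) ^ 2 ≤ Nat.card ↥Y * Nat.card ↥(fixV V P) := by
  have hopp : (1 : G)⁻¹ * x ∉ Mg := by simpa using hxM
  have hO := (OPP S P.one_mem hx hopp).2
  rw [cj_one] at hO
  have hcj : cjs x (Y ⊓ fixV V A) = Y ⊓ fixV V (cjs x A) := by
    rw [cj_inf, cj_norm (hYP hx), S.cjfix A hx]
  have hcard : Nat.card ↥(Y ⊓ fixV V (cjs x A) : Subgroup G) = Nat.card ↥(Y ⊓ fixV V A : Subgroup G) := by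
    rw [← hcj, cj_card]
  have hE : (Y ⊓ fixV V A : Subgroup G) ≤ V := inf_le_left.trans hYV
  have hF : (Y ⊓ fixV V (cjs x A) : Subgroup G) ≤ V := inf_le_left.trans hYV
  have hinf : (Y ⊓ fixV V A) ⊓ (Y ⊓ fixV V (cjs x A)) = fixV V P := by
    apply le_antisymm
    · intro v hv
      rw [← hO]
      exact ⟨hv.1.2, hv.2.2⟩
    · exact le_inf (le_inf hY0 (S.V0_le_fix S.hAP)) (le_inf hY0 (S.V0_le_fix (S.cjA_le hx)))
  have h1 := S.card_sup hE hF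
  rw [hinf, hcard] at h1
  have hle : (Y ⊓ fixV V A) ⊔ (Y ⊓ fixV V (cjs x A)) ≤ Y := sup_le inf_le_left inf_le_left
  have h2 : Nat.card ↥((Y ⊓ fixV V A) ⊔ (Y ⊓ fixV V (cjs x A)) : Subgroup G) ≤ Nat.card ↥Y :=
    Nat.le_of_dvd Nat.card_pos (Subgroup.card_dvd_of_le hle)
  rw [sq, ← h1]
  exact Nat.mul_le_mul_right _ h2

/-- SPLIT with STRONG as a hypothesis. -/
theorem SPLIT_h19_core (S : Setup p V P Mg Tg R A)
    (hSTRONG : ∀ {g h c v : G}, g ∈ P → h ∈ P → g⁻¹ * h ∉ Mg → c ∈ cjs g A → c ∉ cjs h Mg →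
      v ∈ V1 V P A → ⁅c, v⁆ ∈ fixV V P → v ∈ fixV V (cjs g A))
    (Y : Subgroup G) (hYP : P ≤ Subgroup.normalizer (Y : Set G))
    (hY0 : fixV V P ≤ Y) (hY1 : Y ≤ V1 V P A) :
    Nat.card ↥Y * Nat.card ↥(fixV V P) = Nat.card ↥(Y ⊓ fixV V A : Subgroup G) ^ 2 := by
  obtain ⟨x, hx, hxM⟩ := S.hMne
  have hopp : (1 : G)⁻¹ * x ∉ Mg := by simpa using hxM
  obtain ⟨a, ha, haM⟩ := MOVE S P.one_mem hx hopp
  rw [cj_one] at ha
  have hYV : Y ≤ V := hY1.trans (V1_le V P A)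
  apply le_antisymm
  · apply SPLIT_h19_upper S Y hYP hY0 hYV ha
    intro y hy hcy
    have := hSTRONG P.one_mem hx hopp (by rw [cj_one]; exact ha) haM (hY1 hy) hcy
    rwa [cj_one] at this
  · exact SPLIT_h19_lower S Y hYP hY0 hYV hx hxM

end Cfsg.Agent.S2999P
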