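import Mathlib
import Cfsg.Agent.Helper27.S3001TOP
import Cfsg.Agent.Helper2.SL2Sylow

/-! s3001pieces CARDSL2: `|SL₂(F)| = 6` for `|F| = 2` (from `Helper2.SL2.card_SL2`). -/

set_option autoImplicit false

namespace Cfsg.Agent.S3001P

open Cfsg.Agent.S2789P Cfsg.Agent.S2999P Cfsg.Agent.S3000P Cfsg.Agent.S3001P

/-- CARDSL2 (S): `|SL₂(F)| = 6` for `|F| = 2`. -/
theorem CARDSL2 {F : Type} [Field F] [Fintype F] (hF : Fintype.card F = 2) :
    Nat.card (Matrix.SpecialLinearGroup (Fin 2) F) = 6 := by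
  rw [Cfsg.Agent.Helper2.SL2.card_SL2, hF]
  norm_num

end Cfsg.Agent.S3001P
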