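import Mathlib

set_option autoImplicit false

/-! # S3154 piece PULL -/

namespace Cfsg.Agent.S3154P

/-- PULL: pull a presentation `N_L(H̄)/H̄ ≅ P` back along a surjection `π` with `ker π ≤ H`. -/
theorem PULL {X L P : Type*} [Group X] [Group L] [Group P] (π : X →* L)
    (hπ : Function.Surjective π) (H : Subgroup X) (hker : π.ker ≤ H)
    (φ : Subgroup.normalizer ((H.map π : Subgroup L) : Set L) →* P) (hφ : Function.Surjective φ)
    (hφk : φ.ker = (H.map π).subgroupOf (Subgroup.normalizer ((H.map π : Subgroup L) : Set L))) :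
    ∃ ψ : Subgroup.normalizer (H : Set X) →* P, Function.Surjective ψ ∧
      ψ.ker = H.subgroupOf (Subgroup.normalizer (H : Set X)) := by
  classical
  have hcm : (H.map π).comap π = H := Subgroup.comap_map_eq_self hker
  have hnorm : (Subgroup.normalizer ((H.map π : Subgroup L) : Set L)).comap π =
      Subgroup.normalizer (H : Set X) := by
    rw [Subgroup.comap_normalizer_eq_of_surjective _ hπ, hcm]
  have hmem : ∀ g : X, g ∈ Subgroup.normalizer (H : Set X) →
      π g ∈ Subgroup.normalizer ((H.map π : Subgroup L) : Set L) := by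
    intro g hg
    rw [← hnorm] at hg
    exact hg
  let ρ : Subgroup.normalizer (H : Set X) →* Subgroup.normalizer ((H.map π : Subgroup L) : Set L) :=
    (π.comp (Subgroup.normalizer (H : Set X)).subtype).codRestrict _ (fun g => hmem g g.2)
  have hρ : ∀ g : Subgroup.normalizer (H : Set X), ((ρ g : _) : L) = π g := fun g => rfl
  refine ⟨φ.comp ρ, ?_, ?_⟩
  · intro p
    obtain ⟨n, hn⟩ := hφ p
    obtain ⟨g, hg⟩ := hπ (n : L)
    have hgN : g ∈ Subgroup.normalizer (H : Set X) := by
      rw [← hnorm, Subgroup.mem_comap, hg]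
      exact n.2
    refine ⟨⟨g, hgN⟩, ?_⟩
    rw [MonoidHom.comp_apply]
    have : ρ ⟨g, hgN⟩ = n := Subtype.ext (by rw [hρ]; exact hg)
    rw [this, hn]
  · ext g
    rw [MonoidHom.mem_ker, MonoidHom.comp_apply, ← MonoidHom.mem_ker, hφk, Subgroup.mem_subgroupOf,
      Subgroup.mem_subgroupOf, hρ]
    constructor
    · intro h
      have : (g : X) ∈ (H.map π).comap π := h
      rwa [hcm] at this
    · intro h
      exact Subgroup.mem_map_of_mem π h

end Cfsg.Agent.S3154P
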