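import Mathlib
import Cfsg.Agent.Helper16.S3161Defs
import Cfsg.Agent.Helper25.S3161FM
import Cfsg.Agent.Helper25.S3161LAYER
import Cfsg.Agent.Helper3.S3161NFG
import Cfsg.Agent.Helper4.S3161SPLIT
import Cfsg.Agent.Helper20.S3161ABEL
import Cfsg.Agent.Helper20.S3161F0

set_option autoImplicit false

/-! # S3161 board, piece COORD: coordinates of a type (c) group -/

namespace Cfsg.Agent.S3161P

open scoped commutatorElement

universe u

section general

variable {T : Type*} [Group T]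

/-- if all squares are central, commutators are products of squares -/
theorem COORD_aux_comm_eq (x y : T) (hx : ∀ g : T, g * (x * x) = (x * x) * g) :
    ⁅x, y⁆ = (x * y) * (x * y) * (x * x)⁻¹ * (y * y)⁻¹ := by
  rw [commutatorElement_def]
  have h1 : x⁻¹ = x * (x * x)⁻¹ := by group
  have h2 : y⁻¹ = y * (y * y)⁻¹ := by group
  have hx' : ∀ g : T, g * (x * x)⁻¹ = (x * x)⁻¹ * g := by
    intro g
    have h3 : Commute g (x * x) := hx g
    exact h3.inv_right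
  calc x * y * x⁻¹ * y⁻¹ = x * y * (x * (x * x)⁻¹) * (y * (y * y)⁻¹) := by rw [← h1, ← h2]
    _ = x * y * x * ((x * x)⁻¹ * y) * (y * y)⁻¹ := by group
    _ = x * y * x * (y * (x * x)⁻¹) * (y * y)⁻¹ := by rw [hx' y]
    _ = (x * y) * (x * y) * (x * x)⁻¹ * (y * y)⁻¹ := by group

/-- commutators are multiplicative in the first variable when `⁅y, z⁆` is central -/
theorem COORD_aux_comm_mul_left (x y z : T) (hc : ∀ g : T, g * ⁅y, z⁆ = ⁅y, z⁆ * g) :
    ⁅x * y, z⁆ = ⁅x, z⁆ * ⁅y, z⁆ := by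
  have h1 : ⁅x * y, z⁆ = x * ⁅y, z⁆ * z * x⁻¹ * z⁻¹ := by
    simp only [commutatorElement_def]; group
  have h2 : ⁅x, z⁆ = x * z * x⁻¹ * z⁻¹ := commutatorElement_def x z
  rw [h1, hc x, hc ⁅x, z⁆, h2]
  simp only [mul_assoc]

/-- commutators are multiplicative in the second variable when `⁅x, z⁆` is central -/
theorem COORD_aux_comm_mul_right (x y z : T) (hc : ∀ g : T, g * ⁅x, z⁆ = ⁅x, z⁆ * g) :
    ⁅x, y * z⁆ = ⁅x, y⁆ * ⁅x, z⁆ := by
  have h1 : ⁅x, y * z⁆ = ⁅x, y⁆ * (y * ⁅x, z⁆) * y⁻¹ := by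
    simp only [commutatorElement_def]; group
  rw [h1, hc y]
  group

/-- `(xy)² = ⁅y, x⁆ x² y²` when `⁅y, x⁆` is central -/
theorem COORD_aux_sq_mul (x y : T) (hc : ∀ g : T, g * ⁅y, x⁆ = ⁅y, x⁆ * g) :
    (x * y) * (x * y) = ⁅y, x⁆ * (x * x) * (y * y) := by
  have h1 : (x * y) * (x * y) = x * ⁅y, x⁆ * x * y * y := by
    simp only [commutatorElement_def]; group
  rw [h1, hc x]
  group

/-- a `ζ`-equivariant additive map vanishing on the kernel of `p` is a multiple of `p` -/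
theorem COORD_aux_lin {F : Type*} [Field F] (ζ : Fˣ) (hζ : ∀ w : Fˣ, ∃ k : ℕ, w = ζ ^ k)
    {M : Type*} [Group M] (r : M → M) (p g : M → F)
    (hp : ∀ x y, p (x * y) = p x + p y) (hg : ∀ x y, g (x * y) = g x + g y)
    (hs : Function.Surjective p) (hr : ∀ x, p (r x) = ζ * p x) (hgr : ∀ x, g (r x) = ζ * g x)
    (hk : ∀ x, p x = 0 → g x = 0) : ∃ l : F, ∀ x, g x = l * p x := by
  obtain ⟨x₁, hx₁⟩ := hs 1
  refine ⟨g x₁, fun x => ?_⟩
  have hp1 : p 1 = 0 := by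
    have := hp 1 1
    rw [mul_one] at this
    exact left_eq_add.mp this
  have hg1 : g 1 = 0 := by
    have := hg 1 1
    rw [mul_one] at this
    exact left_eq_add.mp this
  have hpinv : ∀ y, p y⁻¹ = - p y := by
    intro y
    have := hp y y⁻¹
    rw [mul_inv_cancel, hp1] at this
    exact (neg_eq_of_add_eq_zero_right this.symm).symm
  have hginv : ∀ y, g y⁻¹ = - g y := by
    intro y
    have := hg y y⁻¹
    rw [mul_inv_cancel, hg1] at this
    exact (neg_eq_of_add_eq_zero_right this.symm).symm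
  -- equal `p` gives equal `g`
  have hwd : ∀ x y, p x = p y → g x = g y := by
    intro x y hxy
    have h1 : p (x * y⁻¹) = 0 := by rw [hp, hpinv, hxy, add_neg_cancel]
    have h2 := hk _ h1
    rw [hg, hginv] at h2
    exact eq_of_sub_eq_zero (by rw [sub_eq_add_neg]; exact h2)
  have hpow : ∀ k : ℕ, p (r^[k] x₁) = (ζ : F) ^ k ∧ g (r^[k] x₁) = (ζ : F) ^ k * g x₁ := by
    intro k
    induction k with
    | zero => simp [hx₁]
    | succ k ih =>
      rw [Function.iterate_succ_apply', hr, hgr, ih.1, ih.2]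
      constructor <;> ring
  by_cases h0 : p x = 0
  · rw [hk x h0, h0, mul_zero]
  · obtain ⟨k, hk'⟩ := hζ (Units.mk0 (p x) h0)
    have h1 : p x = (ζ : F) ^ k := by
      have := congrArg (fun u : Fˣ => (u : F)) hk'
      simpa using this
    rw [hwd x (r^[k] x₁) (by rw [(hpow k).1, h1]), (hpow k).2, h1, mul_comm]

end general


section P

variable {T : Type u} [Group T] [Finite T] {α ρ : MulAut T} {C : Subgroup T} {n : ℕ}

/-- COORD: coordinates of a type (c) group. -/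
theorem COORD (hT : IsPGroup 2 T) (h : PData α ρ C n) (hc : TypeC T C n)
    (F : Type*) [Field F] [Fintype F] (hF : Fintype.card F = 2 ^ n) :
    ∃ (θ x₁ x₂ : T → F) (l D : F), CData C θ x₁ x₂ l D := by
  classical
  have : CharP F 2 := charP_two_of_card hF
  have hsq : ∀ x : T, x * x ∈ C := hc.2.1
  have hcard : Nat.card T = 2 ^ n * 2 ^ n * 2 ^ n := hc.2.2
  have hcen : ∀ c ∈ C, ∀ g : T, g * c = c * g := fun c hc' g => (h.comm_mul hc' g).symm
  have hcomC : ∀ x y : T, ⁅x, y⁆ ∈ C := by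
    intro x y
    rw [COORD_aux_comm_eq x y (hcen _ (hsq x))]
    exact C.mul_mem (C.mul_mem (hsq _) (C.inv_mem (hsq x))) (C.inv_mem (hsq y))
  have hcomcen : ∀ x y g : T, g * ⁅x, y⁆ = ⁅x, y⁆ * g := fun x y g => hcen _ (hcomC x y) g
  have hinvC : ∀ c ∈ C, c⁻¹ = c := fun c hc' => h.inv_eq hc'
  have hq4 : 4 ≤ 2 ^ n := by
    have := Nat.pow_le_pow_right (by norm_num : 1 ≤ 2) h.two_le
    simpa using this
  have hCne : C ≠ ⊤ := by
    intro htop
    have h1 : Nat.card C = Nat.card T := by rw [htop]; exact Subgroup.card_top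
    rw [h.card, hcard] at h1
    nlinarith
  have hNcard := N_card hT h hCne
  have hNne : h.N ≠ ⊤ := by
    intro htop
    have h1 : Nat.card h.N = Nat.card T := by rw [htop]; exact Subgroup.card_top
    rw [hNcard, hcard] at h1
    nlinarith
  obtain ⟨θ, ζ, hθmul, hθsurj, hθinj, hθρ, hζ⟩ := FM h F hF
  have hθ1 : θ 1 = 0 := by
    have := hθmul 1 C.one_mem 1 C.one_mem
    rw [mul_one] at this
    exact left_eq_add.mp this
  have hθeq : ∀ a ∈ C, ∀ b ∈ C, θ a = θ b → a = b := by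
    intro a ha b hb hab
    have h1 : θ (a * b) = 0 := by
      rw [hθmul a ha b hb, hab]
      exact CharTwo.add_self_eq_zero _
    have h2 := hθinj _ (C.mul_mem ha hb) h1
    rw [← hinvC b hb]
    exact eq_inv_of_mul_eq_one_left h2
  obtain ⟨p₁, hp₁C, hp₁mul, hp₁ρ, hp₁N⟩ := SPLIT hT h hc
  have hp₁one : p₁ 1 = 1 := by
    have := hp₁mul 1 1
    rw [mul_one] at this
    exact left_eq_mul.mp this
  have hp₁inv : ∀ t, p₁ t⁻¹ = (p₁ t)⁻¹ := by
    intro t
    have := hp₁mul t⁻¹ t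
    rw [inv_mul_cancel, hp₁one] at this
    exact eq_inv_of_mul_eq_one_left this.symm
  -- `N` is abelian
  have hNab : ∀ x ∈ h.N, ∀ y ∈ h.N, x * y = y * x :=
    ABEL hT h h.N le_rfl (fun x hx => alpha_mem_N h hx) (fun x hx => rho_mem_N h hx)
      (fun x _ y _ => hcomC x y) (fun x hx _ => hx)
  -- `ee t ∈ N`
  have heeee : ∀ t : T, ee α (ee α t) = ee α t * ee α t := by
    intro t
    have h1 : ee α (ee α t) = (ee α t * ee α t)⁻¹ := by
      show (ee α t)⁻¹ * α (ee α t) = _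
      rw [alpha_ee h, mul_inv_rev]
    rw [h1, hinvC _ (hsq _)]
  have heeN : ∀ t : T, ee α t ∈ h.N := by
    intro t
    rw [mem_N, heeee]
    exact hsq _
  -- the second coordinate map `d₂ t = (ee t)²`
  have hd₂mul : ∀ s t : T, ee α (s * t) * ee α (s * t) =
      (ee α s * ee α s) * (ee α t * ee α t) := by
    intro s t
    have h1 : ee α (s * t) = ⁅t⁻¹, ee α s⁆ * (ee α s * ee α t) := by
      simp only [ee, map_mul, commutatorElement_def]; group
    have hc1 := hcomC t⁻¹ (ee α s)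
    have hcc := h.exp _ hc1
    have hcomm := hNab _ (heeN s) _ (heeN t)
    have hz := h.comm_mul hc1 (ee α s * ee α t)
    rw [h1]
    calc ⁅t⁻¹, ee α s⁆ * (ee α s * ee α t) * (⁅t⁻¹, ee α s⁆ * (ee α s * ee α t))
        = ⁅t⁻¹, ee α s⁆ * ((ee α s * ee α t) * ⁅t⁻¹, ee α s⁆) * (ee α s * ee α t) := by group
      _ = ⁅t⁻¹, ee α s⁆ * (⁅t⁻¹, ee α s⁆ * (ee α s * ee α t)) * (ee α s * ee α t) := by rw [hz]
      _ = (⁅t⁻¹, ee α s⁆ * ⁅t⁻¹, ee α s⁆) * ((ee α s * ee α t) * (ee α s * ee α t)) := by group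
      _ = (ee α s * ee α t) * (ee α s * ee α t) := by rw [hcc, one_mul]
      _ = ee α s * (ee α t * ee α s) * ee α t := by group
      _ = ee α s * (ee α s * ee α t) * ee α t := by rw [hcomm]
      _ = (ee α s * ee α s) * (ee α t * ee α t) := by group
  have hd₂ker : ∀ t : T, ee α t * ee α t = 1 ↔ t ∈ h.N := by
    intro t
    constructor
    · intro h1
      exact F0 hT h hNne (ee α t) (heeN t) h1
    · intro ht
      exact h.exp _ ht
  have hd₂ρ : ∀ t : T, ee α (ρ t) * ee α (ρ t) = ρ (ee α t * ee α t) := by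
    intro t
    rw [ee_rho h, map_mul]
  have hd₂ρpow : ∀ (k : ℕ) (t : T),
      ee α ((ρ ^ k) t) * ee α ((ρ ^ k) t) = (ρ ^ k) (ee α t * ee α t) := by
    intro k t
    rw [ee_rho_pow h, map_mul]
  have hd₂surj : ∀ c ∈ C, ∃ t : T, ee α t * ee α t = c := by
    intro c hcC
    by_cases hc1 : c = 1
    · exact ⟨1, by rw [ee_one, hc1, mul_one]⟩
    · obtain ⟨t₀, ht₀⟩ : ∃ t₀ : T, t₀ ∉ h.N := by
        by_contra hcon
        apply hNne
        rw [eq_top_iff]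
        intro x _
        by_contra hx
        exact hcon ⟨x, hx⟩
      have h1 : ee α t₀ * ee α t₀ ≠ 1 := fun h1 => ht₀ ((hd₂ker t₀).1 h1)
      obtain ⟨k, hk⟩ := h.trans _ (hsq _) _ hcC h1 hc1
      exact ⟨(ρ ^ k) t₀, by rw [hd₂ρpow, hk]⟩
  -- the coordinates
  have hx₁mul : ∀ s t : T, θ (p₁ (s * t)) = θ (p₁ s) + θ (p₁ t) := by
    intro s t
    rw [hp₁mul, hθmul _ (hp₁C s) _ (hp₁C t)]
  have hx₂mul : ∀ s t : T, θ (ee α (s * t) * ee α (s * t)) =
      θ (ee α s * ee α s) + θ (ee α t * ee α t) := by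
    intro s t
    rw [hd₂mul, hθmul _ (hsq _) _ (hsq _)]
  have hx₁ρ : ∀ t : T, θ (p₁ (ρ t)) = ζ * θ (p₁ t) := by
    intro t
    rw [hp₁ρ, hθρ _ (hp₁C t)]
  have hx₂ρ : ∀ t : T, θ (ee α (ρ t) * ee α (ρ t)) = ζ * θ (ee α t * ee α t) := by
    intro t
    rw [hd₂ρ, hθρ _ (hsq _)]
  -- decomposition `t = n * w`
  have hdec : ∀ t : T, ∃ x ∈ h.N, ∃ w : T, p₁ w = 1 ∧ t = x * w := by
    intro t
    obtain ⟨x, hx, hxe⟩ := ee_surj hT h hCne (p₁ t) (hp₁C t)
    refine ⟨x, hx, x⁻¹ * t, ?_, by group⟩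
    rw [hp₁mul, hp₁inv, hp₁N x hx, hxe, inv_mul_cancel]
  -- the complement `W = ker p₁`
  let W : Subgroup T :=
    { carrier := {t | p₁ t = 1}
      one_mem' := hp₁one
      mul_mem' := by
        intro a b ha hb
        show p₁ (a * b) = 1
        rw [hp₁mul, ha, hb, one_mul]
      inv_mem' := by
        intro a ha
        show p₁ a⁻¹ = 1
        rw [hp₁inv, ha, inv_one] }
  have hWmem : ∀ t, t ∈ W ↔ p₁ t = 1 := fun t => Iff.rfl
  have hWN : ∀ t ∈ W, t ∈ h.N → t ∈ C := by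
    intro t htW htN
    have h1 : ee α t = 1 := by
      rw [← hp₁N t htN]
      exact htW
    exact (ee_eq_one_iff h t).1 h1
  have hρW : ∀ t ∈ W, ρ t ∈ W := by
    intro t ht
    show p₁ (ρ t) = 1
    rw [hp₁ρ, (hWmem t).1 ht, map_one]
  have hx₂Wsurj : ∀ f : F, ∃ w ∈ W, θ (ee α w * ee α w) = f := by
    intro f
    obtain ⟨c, hcC, hcf⟩ := hθsurj f
    obtain ⟨t, ht⟩ := hd₂surj c hcC
    obtain ⟨x, hx, w, hw, rfl⟩ := hdec t
    refine ⟨w, hw, ?_⟩
    have h1 : ee α (x * w) * ee α (x * w) = ee α w * ee α w := by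
      rw [hd₂mul, (hd₂ker x).2 hx, one_mul]
    rw [← h1, ht, hcf]
  have hx₁Nsurj : ∀ f : F, ∃ x ∈ h.N, θ (p₁ x) = f := by
    intro f
    obtain ⟨c, hcC, hcf⟩ := hθsurj f
    obtain ⟨x, hx, hxc⟩ := ee_surj hT h hCne c hcC
    exact ⟨x, hx, by rw [hp₁N x hx, hxc, hcf]⟩
  have hx₁Nker : ∀ x ∈ h.N, θ (p₁ x) = 0 → x ∈ C := by
    intro x hx h0
    rw [hp₁N x hx] at h0
    exact (ee_eq_one_iff h x).1 (hθinj _ hx h0)
  have hx₂Wker : ∀ w ∈ W, θ (ee α w * ee α w) = 0 → w ∈ C := by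
    intro w hw h0
    exact hWN w hw ((hd₂ker w).1 (hθinj _ (hsq _) h0))
  -- the commutator form
  have hβ1 : ∀ x x' y : T, θ ⁅x * x', y⁆ = θ ⁅x, y⁆ + θ ⁅x', y⁆ := by
    intro x x' y
    rw [COORD_aux_comm_mul_left x x' y (hcomcen x' y), hθmul _ (hcomC _ _) _ (hcomC _ _)]
  have hβ2 : ∀ x y y' : T, θ ⁅x, y * y'⁆ = θ ⁅x, y⁆ + θ ⁅x, y'⁆ := by
    intro x y y'
    rw [COORD_aux_comm_mul_right x y y' (hcomcen x y'), hθmul _ (hcomC _ _) _ (hcomC _ _)]
  have hβρ : ∀ x y : T, θ ⁅ρ x, ρ y⁆ = ζ * θ ⁅x, y⁆ := by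
    intro x y
    have h1 : ⁅ρ x, ρ y⁆ = ρ ⁅x, y⁆ := by
      simp only [commutatorElement_def, map_mul, map_inv]
    rw [h1, hθρ _ (hcomC x y)]
  have hβC : ∀ c ∈ C, ∀ y : T, θ ⁅c, y⁆ = 0 := by
    intro c hcC y
    have h1 : ⁅c, y⁆ = 1 := commutatorElement_eq_one_iff_mul_comm.2 (h.comm_mul hcC y)
    rw [h1, hθ1]
  have hβC' : ∀ c ∈ C, ∀ x : T, θ ⁅x, c⁆ = 0 := by
    intro c hcC x
    have h1 : ⁅x, c⁆ = 1 := commutatorElement_eq_one_iff_mul_comm.2 (h.comm_mul hcC x).symm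
    rw [h1, hθ1]
  have hcardF : 2 < Fintype.card F := by rw [hF]; omega
  -- `W` is abelian
  have hWab : ∀ x ∈ W, ∀ y ∈ W, x * y = y * x := by
    obtain ⟨c, hc'⟩ := NFG hcardF ζ hζ (M₁ := ↥W) (M₂ := ↥W)
      (fun x => ⟨ρ x, hρW x x.2⟩) (fun x => ⟨ρ x, hρW x x.2⟩)
      (fun x => θ (ee α (x : T) * ee α (x : T))) (fun x => θ (ee α (x : T) * ee α (x : T)))
      (fun x y => hx₂mul x y) (fun x y => hx₂mul x y)
      (fun f => by obtain ⟨w, hw, hwf⟩ := hx₂Wsurj f; exact ⟨⟨w, hw⟩, hwf⟩)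
      (fun f => by obtain ⟨w, hw, hwf⟩ := hx₂Wsurj f; exact ⟨⟨w, hw⟩, hwf⟩)
      (fun x => hx₂ρ x) (fun x => hx₂ρ x)
      (fun x y => θ ⁅(x : T), (y : T)⁆)
      (fun x x' y => hβ1 x x' y) (fun x y y' => hβ2 x y y') (fun x y => hβρ x y)
      (fun x y hx => hβC _ (hx₂Wker x x.2 hx) y) (fun x y hy => hβC' _ (hx₂Wker y y.2 hy) x)
    obtain ⟨w₁, hw₁, hw₁f⟩ := hx₂Wsurj 1
    have hc0 : c = 0 := by
      have := hc' ⟨w₁, hw₁⟩ ⟨w₁, hw₁⟩
      simp only [commutatorElement_self, hθ1, hw₁f, mul_one] at this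
      rw [← this]
      simp
    intro x hx y hy
    have h1 := hc' ⟨x, hx⟩ ⟨y, hy⟩
    rw [hc0, zero_mul] at h1
    have h2 : θ ⁅x, y⁆ = 0 := by simpa using h1
    exact commutatorElement_eq_one_iff_mul_comm.1 (hθinj _ (hcomC x y) h2)
  -- squaring on `N`
  obtain ⟨l, hl⟩ := COORD_aux_lin ζ hζ (M := ↥h.N) (fun x => ⟨ρ x, rho_mem_N h x.2⟩)
    (fun x => θ (p₁ (x : T))) (fun x => θ ((x : T) * (x : T)))
    (fun x y => hx₁mul x y)
    (fun x y => by
      have h1 : ((x : T) * (y : T)) * ((x : T) * (y : T)) =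
          ((x : T) * (x : T)) * ((y : T) * (y : T)) := by
        have hcomm := hNab _ x.2 _ y.2
        calc ((x : T) * (y : T)) * ((x : T) * (y : T))
            = (x : T) * ((y : T) * (x : T)) * (y : T) := by group
          _ = (x : T) * ((x : T) * (y : T)) * (y : T) := by rw [hcomm]
          _ = ((x : T) * (x : T)) * ((y : T) * (y : T)) := by group
      show θ (((x : T) * (y : T)) * ((x : T) * (y : T))) = _
      rw [h1, hθmul _ (hsq _) _ (hsq _)])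
    (fun f => by obtain ⟨x, hx, hxf⟩ := hx₁Nsurj f; exact ⟨⟨x, hx⟩, hxf⟩)
    (fun x => hx₁ρ x)
    (fun x => by
      show θ (ρ (x : T) * ρ (x : T)) = _
      rw [← map_mul, hθρ _ (hsq _)])
    (fun x hx => by
      have hxC := hx₁Nker x x.2 hx
      show θ ((x : T) * (x : T)) = 0
      rw [h.exp _ hxC, hθ1])
  -- squaring on `W`
  obtain ⟨l₂, hl₂⟩ := COORD_aux_lin ζ hζ (M := ↥W) (fun x => ⟨ρ x, hρW x x.2⟩)
    (fun x => θ (ee α (x : T) * ee α (x : T))) (fun x => θ ((x : T) * (x : T)))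
    (fun x y => hx₂mul x y)
    (fun x y => by
      have h1 : ((x : T) * (y : T)) * ((x : T) * (y : T)) =
          ((x : T) * (x : T)) * ((y : T) * (y : T)) := by
        have hcomm := hWab _ x.2 _ y.2
        calc ((x : T) * (y : T)) * ((x : T) * (y : T))
            = (x : T) * ((y : T) * (x : T)) * (y : T) := by group
          _ = (x : T) * ((x : T) * (y : T)) * (y : T) := by rw [hcomm]
          _ = ((x : T) * (x : T)) * ((y : T) * (y : T)) := by group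
      show θ (((x : T) * (y : T)) * ((x : T) * (y : T))) = _
      rw [h1, hθmul _ (hsq _) _ (hsq _)])
    (fun f => by obtain ⟨w, hw, hwf⟩ := hx₂Wsurj f; exact ⟨⟨w, hw⟩, hwf⟩)
    (fun x => hx₂ρ x)
    (fun x => by
      show θ (ρ (x : T) * ρ (x : T)) = _
      rw [← map_mul, hθρ _ (hsq _)])
    (fun x hx => by
      have hxC := hx₂Wker x x.2 hx
      show θ ((x : T) * (x : T)) = 0
      rw [h.exp _ hxC, hθ1])
  -- the mixed commutators
  obtain ⟨a, ha⟩ := NFG hcardF ζ hζ (M₁ := ↥h.N) (M₂ := ↥W)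
    (fun x => ⟨ρ x, rho_mem_N h x.2⟩) (fun x => ⟨ρ x, hρW x x.2⟩)
    (fun x => θ (p₁ (x : T))) (fun x => θ (ee α (x : T) * ee α (x : T)))
    (fun x y => hx₁mul x y) (fun x y => hx₂mul x y)
    (fun f => by obtain ⟨x, hx, hxf⟩ := hx₁Nsurj f; exact ⟨⟨x, hx⟩, hxf⟩)
    (fun f => by obtain ⟨w, hw, hwf⟩ := hx₂Wsurj f; exact ⟨⟨w, hw⟩, hwf⟩)
    (fun x => hx₁ρ x) (fun x => hx₂ρ x)
    (fun x y => θ ⁅(x : T), (y : T)⁆)
    (fun x x' y => hβ1 x x' y) (fun x y y' => hβ2 x y y') (fun x y => hβρ x y)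
    (fun x y hx => hβC _ (hx₁Nker x x.2 hx) y) (fun x y hy => hβC' _ (hx₂Wker y y.2 hy) x)
  -- `a = l²`
  have hal : a = l ^ 2 := by
    obtain ⟨w, hw, hwf⟩ := hx₂Wsurj 1
    have heN := heeN w
    -- `⁅e, w⁆ = e * e`
    have hew : ⁅ee α w, w⁆ = ee α w * ee α w := by
      have h1 : α (w * w) = w * w := (h.fix _).2 (hsq w)
      have h2 : α w = w * ee α w := by simp [ee]
      rw [map_mul, h2, COORD_aux_sq_mul w (ee α w) (hcomcen _ _)] at h1
      have hz := h.comm_mul (hsq (ee α w)) (w * w)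
      have h3 : ⁅ee α w, w⁆ * (ee α w * ee α w) * (w * w) = w * w := by
        rw [mul_assoc, hz, ← mul_assoc]
        exact h1
      have h4 : ⁅ee α w, w⁆ * (ee α w * ee α w) = 1 :=
        mul_right_cancel (b := w * w) (by rw [h3, one_mul])
      rw [eq_inv_of_mul_eq_one_left h4, hinvC _ (hsq _)]
    have h5 := hl ⟨ee α w, heN⟩
    have h6 : θ (p₁ (ee α w)) = 1 := by
      rw [hp₁N _ heN, heeee, hwf]
    have h7 := ha ⟨ee α w, heN⟩ ⟨w, hw⟩
    simp only at h5 h7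
    have hl1 : l = 1 := by
      rw [hwf, h6, mul_one] at h5
      exact h5.symm
    have ha1 : a = 1 := by
      rw [hew, hwf, h6] at h7
      simpa using h7.symm
    rw [ha1, hl1, one_pow]
  -- `l ≠ 0`
  have hl0 : l ≠ 0 := by
    obtain ⟨x, hx, hxf⟩ := hx₁Nsurj 1
    intro h0
    have h1 := hl ⟨x, hx⟩
    simp only at h1
    rw [h0, zero_mul] at h1
    have h2 : x * x = 1 := hθinj _ (hsq x) h1
    have h3 : x ∈ C := F0 hT h hNne x hx h2
    rw [hp₁N x hx, (ee_eq_one_iff h x).2 h3, hθ1] at hxf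
    exact zero_ne_one hxf
  refine ⟨θ, fun t => θ (p₁ t), fun t => θ (ee α t * ee α t), l, l₂ ^ 2 / l ^ 2, ?_⟩
  refine
    { central := h.central
      exp := h.exp
      theta_mul := hθmul
      theta_surj := hθsurj
      theta_inj := hθinj
      x1_mul := hx₁mul
      x2_mul := hx₂mul
      x_C := ?_
      ker := ?_
      surj := ?_
      l_ne := hl0
      sq_mem := hsq
      sq := ?_ }
  · intro c hcC
    constructor
    · show θ (p₁ c) = 0
      rw [hp₁N c (C_le_N h hcC), (ee_eq_one_iff h c).2 hcC, hθ1]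
    · show θ (ee α c * ee α c) = 0
      rw [(ee_eq_one_iff h c).2 hcC, mul_one, hθ1]
  · intro t h1 h2
    have h3 : t ∈ h.N := (hd₂ker t).1 (hθinj _ (hsq _) h2)
    exact hx₁Nker t h3 h1
  · intro u v
    obtain ⟨x, hx, hxf⟩ := hx₁Nsurj u
    obtain ⟨w, hw, hwf⟩ := hx₂Wsurj v
    refine ⟨x * w, ?_, ?_⟩
    · show θ (p₁ (x * w)) = u
      rw [hx₁mul, hxf, (hWmem w).1 hw, hθ1, add_zero]
    · show θ (ee α (x * w) * ee α (x * w)) = v
      rw [hx₂mul, (hd₂ker x).2 hx, hθ1, zero_add, hwf]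
  · intro t
    obtain ⟨x, hx, w, hw, rfl⟩ := hdec t
    have h1 : (x * w) * (x * w) = ⁅w, x⁆ * (x * x) * (w * w) :=
      COORD_aux_sq_mul x w (hcomcen _ _)
    have h2 : ⁅w, x⁆ = ⁅x, w⁆ := by
      rw [← commutatorElement_inv, hinvC _ (hcomC _ _)]
    have h3 : θ ((x * w) * (x * w)) = θ ⁅x, w⁆ + θ (x * x) + θ (w * w) := by
      rw [h1, h2, hθmul _ (C.mul_mem (hcomC _ _) (hsq _)) _ (hsq _),
        hθmul _ (hcomC _ _) _ (hsq _)]
    have h4 := hl ⟨x, hx⟩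
    have h5 := hl₂ ⟨w, hw⟩
    have h6 := ha ⟨x, hx⟩ ⟨w, hw⟩
    simp only at h4 h5 h6
    have h7 : θ (p₁ (x * w)) = θ (p₁ x) := by
      rw [hx₁mul, (hWmem w).1 hw, hθ1, add_zero]
    have h8 : θ (ee α (x * w) * ee α (x * w)) = θ (ee α w * ee α w) := by
      rw [hx₂mul, (hd₂ker x).2 hx, hθ1, zero_add]
    show θ ((x * w) * (x * w)) ^ 2 = l ^ 2 * (θ (p₁ (x * w)) ^ 2 +
      θ (p₁ (x * w)) * θ (ee α (x * w) * ee α (x * w)) +
      l₂ ^ 2 / l ^ 2 * θ (ee α (x * w) * ee α (x * w)) ^ 2)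
    rw [h3, h7, h8, CharTwo.add_sq, CharTwo.add_sq, h6, h4, h5, hal]
    field_simp
    ring

end P

end Cfsg.Agent.S3161P
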