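import Mathlib

set_option autoImplicit false
set_option linter.unusedSectionVars false
set_option linter.unusedVariables false

/-! # S3206 piece CENTER16 -/

namespace Cfsg.Agent.S3206P

/-- commutators are central: the map `u ↦ [u, v]` is a homomorphism into `Z`. -/
theorem CENTER16.aux_mul {P : Type*} [Group P] (Z : Subgroup P) (hZ : Z ≤ Subgroup.center P)
    (hκ : ∀ u v : P, u * v * u⁻¹ * v⁻¹ ∈ Z) (v a b : P) :
    a * b * v * (a * b)⁻¹ * v⁻¹ = (a * v * a⁻¹ * v⁻¹) * (b * v * b⁻¹ * v⁻¹) := by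
  have hc : ∀ u : P, (b * v * b⁻¹ * v⁻¹) * u = u * (b * v * b⁻¹ * v⁻¹) :=
    fun u => (Subgroup.mem_center_iff.1 (hZ (hκ b v)) u).symm
  calc a * b * v * (a * b)⁻¹ * v⁻¹ = a * ((b * v * b⁻¹ * v⁻¹) * (v * a⁻¹ * v⁻¹)) := by group
    _ = a * ((v * a⁻¹ * v⁻¹) * (b * v * b⁻¹ * v⁻¹)) := by rw [hc]
    _ = (a * v * a⁻¹ * v⁻¹) * (b * v * b⁻¹ * v⁻¹) := by group

/-- CENTER16: a non-abelian group of order 16 with a central subgroup `Z` of order 2 such that `P/Z` has
exponent 2 has a central element outside `Z`. -/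
theorem CENTER16 {P : Type*} [Group P] [Finite P] (hcard : Nat.card P = 16) (Z : Subgroup P)
    (hZ : Z ≤ Subgroup.center P) (hZ2 : Nat.card ↥Z = 2) (hsq : ∀ x : P, x ^ 2 ∈ Z)
    (hnab : ∃ x y : P, x * y ≠ y * x) : ∃ w ∈ Subgroup.center P, w ∉ Z := by
  classical
  obtain ⟨x, y, hxy⟩ := hnab
  have hκ : ∀ u v : P, u * v * u⁻¹ * v⁻¹ ∈ Z := by
    intro u v
    have : u * v * u⁻¹ * v⁻¹ = u ^ 2 * (u⁻¹ * v) ^ 2 * (v⁻¹) ^ 2 := by
      rw [sq, sq, sq]; group
    rw [this]
    exact Z.mul_mem (Z.mul_mem (hsq _) (hsq _)) (hsq _)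
  let φ : P → P →* ↥Z := fun v => MonoidHom.mk' (fun u => ⟨u * v * u⁻¹ * v⁻¹, hκ u v⟩) (by
    intro a b
    apply Subtype.ext
    exact CENTER16.aux_mul Z hZ hκ v a b)
  have hφ : ∀ v u : P, ((φ v u : ↥Z) : P) = u * v * u⁻¹ * v⁻¹ := fun v u => rfl
  let ψ : P →* ↥Z × ↥Z := (φ x).prod (φ y)
  -- the two elements of Z
  obtain ⟨z1, z2, hz12, hzuniv⟩ := Nat.card_eq_two_iff.1 hZ2
  -- kernel
  have hker : ∀ u : P, u ∈ ψ.ker ↔ u * x = x * u ∧ u * y = y * u := by
    intro u
    rw [MonoidHom.mem_ker]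
    show (φ x u, φ y u) = 1 ↔ _
    rw [Prod.ext_iff]
    constructor
    · rintro ⟨h1, h2⟩
      have h1' := congrArg Subtype.val h1
      have h2' := congrArg Subtype.val h2
      simp only [Prod.fst_one, Prod.snd_one, OneMemClass.coe_one] at h1' h2'
      rw [hφ] at h1' h2'
      constructor
      · calc u * x = (u * x * u⁻¹ * x⁻¹) * (x * u) := by group
          _ = x * u := by rw [h1', one_mul]
      · calc u * y = (u * y * u⁻¹ * y⁻¹) * (y * u) := by group
          _ = y * u := by rw [h2', one_mul]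
    · rintro ⟨h1, h2⟩
      constructor
      · apply Subtype.ext
        show u * x * u⁻¹ * x⁻¹ = 1
        rw [h1]; group
      · apply Subtype.ext
        show u * y * u⁻¹ * y⁻¹ = 1
        rw [h2]; group
  -- values
  have hzne : φ y x ≠ 1 := by
    intro h
    have h' := congrArg Subtype.val h
    rw [hφ] at h'
    apply hxy
    calc x * y = (x * y * x⁻¹ * y⁻¹) * (y * x) := by group
      _ = y * x := by rw [h', OneMemClass.coe_one, one_mul]
  have hself : ∀ v : P, φ v v = 1 := by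
    intro v
    apply Subtype.ext
    rw [hφ]; simp
  have hinv : φ x y = (φ y x)⁻¹ := by
    apply Subtype.ext
    rw [Subgroup.coe_inv, hφ, hφ]; group
  have htwo : ∀ c : ↥Z, c = 1 ∨ c = φ y x := by
    intro c
    by_contra hcon
    push Not at hcon
    -- three distinct elements in a type of card 2
    have h3 : (1 : ↥Z) ≠ φ y x := fun h => hzne h.symm
    have hle : 3 ≤ Nat.card ↥Z := by
      have hinj : Function.Injective (fun i : Fin 3 => ![c, 1, φ y x] i) := by
        intro i j hij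
        fin_cases i <;> fin_cases j <;> simp_all
      have := Nat.card_le_card_of_injective _ hinj
      simpa using this
    omega
  have hsqz : φ y x * φ y x = 1 := by
    have := pow_card_eq_one' (G := ↥Z) (x := φ y x)
    rw [hZ2, sq] at this
    exact this
  -- surjectivity
  have hsurj : Function.Surjective ψ := by
    rintro ⟨c, d⟩
    have hψ : ∀ u, ψ u = (φ x u, φ y u) := fun u => rfl
    have hinv' : φ x y = φ y x := by
      rw [hinv]; exact inv_eq_of_mul_eq_one_left hsqz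
    rcases htwo c with rfl | rfl <;> rcases htwo d with rfl | rfl
    · exact ⟨1, map_one ψ⟩
    · refine ⟨x, ?_⟩
      rw [hψ, hself]
    · refine ⟨y, ?_⟩
      rw [hψ, hself, hinv']
    · refine ⟨x * y, ?_⟩
      rw [hψ, map_mul, map_mul, hself, hself, hinv', one_mul, mul_one]
  -- card of the kernel
  have hidx : ψ.ker.index = 4 := by
    rw [Subgroup.index_ker, MonoidHom.range_eq_top.2 hsurj, Subgroup.card_top, Nat.card_prod, hZ2]
  have hMcard : Nat.card ψ.ker = 4 := by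
    have := ψ.ker.card_mul_index
    rw [hidx, hcard] at this
    omega
  -- M abelian
  have hMab : ∀ a b : ψ.ker, a * b = b * a := by
    have : Fact (Nat.Prime 2) := ⟨Nat.prime_two⟩
    exact IsPGroup.commutative_of_card_eq_prime_sq (p := 2) (by rw [hMcard]; norm_num)
  -- Z ≤ M
  have hZM : ∀ c ∈ Z, c ∈ ψ.ker := by
    intro c hc
    rw [hker]
    exact ⟨(Subgroup.mem_center_iff.1 (hZ hc) x).symm, (Subgroup.mem_center_iff.1 (hZ hc) y).symm⟩
  -- element of M outside Z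
  have hex : ∃ w ∈ ψ.ker, w ∉ Z := by
    by_contra hcon
    push Not at hcon
    have hle : ψ.ker ≤ Z := hcon
    have := Subgroup.card_le_of_le hle
    omega
  obtain ⟨w, hwM, hwZ⟩ := hex
  refine ⟨w, ?_, hwZ⟩
  rw [Subgroup.mem_center_iff]
  intro u
  obtain ⟨hwx, hwy⟩ := (hker w).1 hwM
  -- u = m * g with g ∈ {1, x, y, xy}
  have hdec : ∃ m ∈ ψ.ker, ∃ g : P, w * g = g * w ∧ u = m * g := by
    have hψu : ∀ g : P, ψ g = ψ u → ∃ m ∈ ψ.ker, u = m * g := by
      intro g hg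
      refine ⟨u * g⁻¹, ?_, by group⟩
      rw [MonoidHom.mem_ker, map_mul, map_inv, hg, mul_inv_cancel]
    have hψ : ∀ u, ψ u = (φ x u, φ y u) := fun u => rfl
    have hinv' : φ x y = φ y x := by
      rw [hinv]; exact inv_eq_of_mul_eq_one_left hsqz
    rcases htwo (φ x u) with h1 | h1 <;> rcases htwo (φ y u) with h2 | h2
    · obtain ⟨m, hm, hu⟩ := hψu 1 (by rw [hψ u, h1, h2, map_one]; rfl)
      exact ⟨m, hm, 1, by simp, hu⟩
    · obtain ⟨m, hm, hu⟩ := hψu x (by rw [hψ u, h1, h2, hψ, hself])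
      exact ⟨m, hm, x, hwx, hu⟩
    · obtain ⟨m, hm, hu⟩ := hψu y (by rw [hψ u, h1, h2, hψ, hself, hinv'])
      exact ⟨m, hm, y, hwy, hu⟩
    · obtain ⟨m, hm, hu⟩ := hψu (x * y) (by
        rw [hψ u, h1, h2, hψ, map_mul, map_mul, hself, hself, hinv', one_mul, mul_one])
      refine ⟨m, hm, x * y, ?_, hu⟩
      rw [← mul_assoc, hwx, mul_assoc, hwy, mul_assoc]
  obtain ⟨m, hm, g, hwg, rfl⟩ := hdec
  have hwm : w * m = m * w := congrArg Subtype.val (hMab ⟨w, hwM⟩ ⟨m, hm⟩)
  rw [mul_assoc, ← hwg, ← mul_assoc, ← hwm, mul_assoc]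

end Cfsg.Agent.S3206P
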