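import Mathlib
import Cfsg.Agent.Helper18.L2Max9

set_option autoImplicit false
set_option linter.unusedSectionVars false
set_option linter.unusedVariables false

namespace Cfsg.Agent.S3206P

theorem EVEN {F : Type*} [Field F] [Fintype F] (hFo : Odd (Fintype.card F)) :
    2 ∣ Nat.card (Matrix.ProjectiveSpecialLinearGroup (Fin 2) F) := by
  have hchar : ringChar F ≠ 2 := by
    intro h
    have := FiniteField.even_card_iff_char_two.1 h
    rw [Nat.odd_iff] at hFo
    omega
  have h2 : (2 : F) ≠ 0 := Ring.two_ne_zero hchar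
  have h := Cfsg.Agent.Helper18.L2Max.two_mul_card_psl (F := F) h2
  obtain ⟨m, hm⟩ := hFo
  rw [hm] at h
  have h1 : 2 * m + 1 - 1 = 2 * m := by omega
  rw [h1] at h
  have h3 : (2 * m + 1 + 1) * (2 * m * (2 * m + 1)) = 2 * (2 * ((m + 1) * m * (2 * m + 1))) := by ring
  rw [h3] at h
  have h4 := Nat.eq_of_mul_eq_mul_left (by norm_num : 0 < 2) h
  rw [h4]
  exact Dvd.intro _ rfl

end Cfsg.Agent.S3206P
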