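import Mathlib
import Cfsg.Agent.Helper12.S3222Defs
import Cfsg.Agent.Helper7.PPrimeCore
import Cfsg.Agent.Helper19.Cores

set_option autoImplicit false

/-! # S3222 piece ODD (helper19): the case `M = C_M(z) O(M)` is impossible. -/

namespace Cfsg.Agent.S3222P

theorem ODD {G : Type*} [Group G] [Finite G] (t : G) (T : Sylow 2 G)
    (L : Local t T) (M : Subgroup G) [M.Normal] (hM : M.index = 2) (htM : t ∉ M)
    (zM : ↥M) (hzM : orderOf zM = 2)
    (e : ↥(Subgroup.centralizer ({zM} : Set ↥M)) ≃* DihedralGroup 4)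
    (h : Subgroup.centralizer ({zM} : Set ↥M) ⊔ Cfsg.oddCore ↥M = ⊤) : False := by
  obtain ⟨OM, hOMdef⟩ : ∃ OM : Subgroup ↥M, OM = Cfsg.oddCore ↥M := ⟨_, rfl⟩
  haveI hOMchar : OM.Characteristic := by
    rw [hOMdef]; exact Cfsg.Agent.Helper7.pPrimeCore_characteristic 2 ↥M
  haveI hOMn : OM.Normal := Subgroup.normal_of_characteristic OM
  obtain ⟨O, hOdef⟩ : ∃ O : Subgroup G, O = OM.map M.subtype := ⟨_, rfl⟩
  haveI hOn : O.Normal := by rw [hOdef]; exact ConjAct.normal_of_characteristic_of_normal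
  have hOcard : Nat.card O = Nat.card OM := by
    rw [hOdef]
    exact (Nat.card_congr (OM.equivMapOfInjective _ M.subtype_injective).toEquiv).symm
  have hOMcop : (Nat.card OM).Coprime 2 := by
    rw [hOMdef]; exact Cfsg.Agent.Helper19.pPrimeCore_coprime 2
  have hOodd : Odd (Nat.card O) := by rw [hOcard]; exact hOMcop.odd_of_right
  obtain ⟨C, hCdef⟩ : ∃ C : Subgroup G, C = Subgroup.centralizer ({t} : Set G) := ⟨_, rfl⟩
  have hK : O ⊓ C = ⊥ := by
    apply L.oddC (O ⊓ C) (by rw [← hCdef]; exact inf_le_right)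
    · intro g hg x hx
      rw [← hCdef] at hg
      exact ⟨hOn.conj_mem x hx.1 g, C.mul_mem (C.mul_mem hg hx.2) (C.inv_mem hg)⟩
    · have hdvd : Nat.card ↥(O ⊓ C) ∣ Nat.card O := Subgroup.card_dvd_of_le inf_le_left
      exact Odd.of_dvd_nat hOodd hdvd
  have hCcard : Nat.card C = 48 := by rw [hCdef]; exact L.cardC
  -- lower bound
  have hlow : 48 * Nat.card O ≤ Nat.card G := by
    rw [← hCcard, ← Nat.card_prod]
    apply Nat.card_le_card_of_injective (fun x : ↥C × ↥O => (x.1 : G) * (x.2 : G))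
    rintro ⟨⟨c1, hc1⟩, ⟨o1, ho1⟩⟩ ⟨⟨c2, hc2⟩, ⟨o2, ho2⟩⟩ heq
    have heq' : c1 * o1 = c2 * o2 := heq
    have hmem : c2⁻¹ * c1 ∈ O ⊓ C := by
      refine ⟨?_, C.mul_mem (C.inv_mem hc2) hc1⟩
      have h1 : c2⁻¹ * c1 = o2 * o1⁻¹ := by
        rw [inv_mul_eq_iff_eq_mul, ← mul_assoc, ← heq', mul_inv_cancel_right]
      rw [h1]; exact O.mul_mem ho2 (O.inv_mem ho1)
    rw [hK, Subgroup.mem_bot, inv_mul_eq_one] at hmem
    subst hmem
    have h2 : o1 = o2 := mul_left_cancel heq'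
    subst h2
    rfl
  -- upper bound
  have hup : Nat.card ↥M ≤ 8 * Nat.card OM := by
    have h8 : Nat.card ↥(Subgroup.centralizer ({zM} : Set ↥M)) = 8 := by
      rw [Nat.card_congr e.toEquiv, DihedralGroup.nat_card]
    rw [← h8, ← Nat.card_prod]
    apply Nat.card_le_card_of_surjective
      (fun x : ↥(Subgroup.centralizer ({zM} : Set ↥M)) × ↥OM => (x.1 : ↥M) * (x.2 : ↥M))
    intro m
    have hm : m ∈ Subgroup.centralizer ({zM} : Set ↥M) ⊔ OM := by
      rw [hOMdef, h]; trivial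
    rw [Subgroup.mem_sup_of_normal_right] at hm
    obtain ⟨c, hc, o, ho, rfl⟩ := hm
    exact ⟨(⟨c, hc⟩, ⟨o, ho⟩), rfl⟩
  have hG : Nat.card G = 2 * Nat.card M := by
    rw [← hM, mul_comm]; exact (Subgroup.card_mul_index M).symm
  have hpos : 0 < Nat.card O := Nat.card_pos
  rw [hOcard] at hlow hpos
  omega

end Cfsg.Agent.S3222P
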