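import Mathlib
import Cfsg.Prelude.Def_Classical
import Cfsg.Agent.Helper6.S3439.Defs

/-! S3439 piece A2 (helper19; driver helper6): in a semidirect product `N ⋊[φ] G` with `N` of exponent 9, an element
over an involution `g` whose fixed points in `N` have exponent 3 has order dividing 6. -/

set_option autoImplicit false

namespace Cfsg.Agent.S3439P

open N7

namespace A2

theorem pow_nine_of_sq {G : Type*} [Group G] (g : G) (hg : g ^ 2 = 1) : g ^ 9 = g := by
  have : g ^ 9 = (g ^ 2) ^ 4 * g := by rw [← pow_mul, ← pow_succ]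
  rw [this, hg, one_pow, one_mul]

end A2

/-- A2 (M): `h = ⟨n, g⟩`, `g² = 1`, all `n⁹ = 1`, `C_N(g)` of exponent 3 ⇒ `h⁶ = 1`. -/
theorem semi_pow_six {N G : Type*} [Group N] [Group G] (φ : G →* MulAut N) (h9 : ∀ n : N, n ^ 9 = 1)
    (g : G) (hg : g ^ 2 = 1) (hfix : ∀ x : N, φ g x = x → x ^ 3 = 1) (n : N) :
    ((⟨n, g⟩ : N ⋊[φ] G)) ^ 6 = 1 := by
  set h : N ⋊[φ] G := ⟨n, g⟩ with hh
  have hgg : g * g = 1 := by rw [← pow_two]; exact hg
  -- `h² = inl m`
  have h2 : h ^ 2 = SemidirectProduct.inl (n * φ g n) := by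
    rw [pow_two]
    apply SemidirectProduct.ext
    · rw [SemidirectProduct.mul_left, SemidirectProduct.left_inl]
    · rw [SemidirectProduct.mul_right, SemidirectProduct.right_inl]
      exact hgg
  set m : N := n * φ g n with hm
  have h18 : h ^ 18 = 1 := by
    have e : h ^ 18 = (h ^ 2) ^ 9 := by rw [← pow_mul]
    rw [e, h2, ← map_pow, h9, map_one]
  -- the involution `i = h⁹`
  set i : N ⋊[φ] G := h ^ 9 with hi
  have hi2 : i * i = 1 := by
    rw [hi, ← pow_add]
    exact h18
  have hir : i.right = g := by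
    have e : i.right = g ^ 9 := by
      rw [hi, ← SemidirectProduct.rightHom_eq_right, map_pow, SemidirectProduct.rightHom_eq_right]
    rw [e, A2.pow_nine_of_sq g hg]
  set n' : N := i.left with hn'
  have hφ : φ g n' = n'⁻¹ := by
    have e := congrArg SemidirectProduct.left hi2
    rw [SemidirectProduct.mul_left, SemidirectProduct.one_left, hir] at e
    exact eq_inv_of_mul_eq_one_right e
  set y : N := n' ^ 5 with hy
  have hyy : y * y = n' := by
    rw [hy, ← pow_add]
    have e : n' ^ (5 + 5) = n' ^ 9 * n' := by rw [← pow_succ]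
    rw [e, h9, one_mul]
  have hφy : φ g y = y⁻¹ := by
    rw [hy, map_pow, hφ, inv_pow]
  have hconj : i = SemidirectProduct.inl y * SemidirectProduct.inr g *
      (SemidirectProduct.inl y)⁻¹ := by
    apply SemidirectProduct.ext
    · simp only [SemidirectProduct.mul_left, SemidirectProduct.mul_right,
        SemidirectProduct.inv_left, SemidirectProduct.left_inl, SemidirectProduct.right_inl,
        SemidirectProduct.left_inr, SemidirectProduct.right_inr, map_one, inv_one, one_mul,
        mul_one, MulAut.one_apply, map_inv, hφy, inv_inv]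
      exact hyy.symm
    · simp only [SemidirectProduct.mul_right, SemidirectProduct.inv_right,
        SemidirectProduct.right_inl, SemidirectProduct.right_inr, inv_one, one_mul, mul_one]
      exact hir
  -- `w = h¹⁰ = inl v`
  have h10 : h ^ 10 = SemidirectProduct.inl (m ^ 5) := by
    have e : h ^ 10 = (h ^ 2) ^ 5 := by rw [← pow_mul]
    rw [e, h2, ← map_pow]
  set v : N := m ^ 5 with hv
  have hcomm : (SemidirectProduct.inl v : N ⋊[φ] G) * i = i * SemidirectProduct.inl v := by
    rw [← h10, hi, ← pow_add, ← pow_add]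
  -- `y⁻¹ v y` is fixed by `g`
  have hx : φ g (y⁻¹ * v * y) = y⁻¹ * v * y := by
    apply SemidirectProduct.inl_injective (φ := φ)
    rw [SemidirectProduct.inl_aut, map_inv]
    have e1 : (SemidirectProduct.inr g : N ⋊[φ] G) =
        (SemidirectProduct.inl y)⁻¹ * i * SemidirectProduct.inl y := by
      rw [hconj]; group
    have e2 : (SemidirectProduct.inl (y⁻¹ * v * y) : N ⋊[φ] G) =
        (SemidirectProduct.inl y)⁻¹ * SemidirectProduct.inl v * SemidirectProduct.inl y := by
      rw [map_mul, map_mul, map_inv]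
    have e3 : i * SemidirectProduct.inl v * i⁻¹ = (SemidirectProduct.inl v : N ⋊[φ] G) := by
      rw [← hcomm]; group
    rw [e1, e2]
    calc (SemidirectProduct.inl y)⁻¹ * i * SemidirectProduct.inl y *
          ((SemidirectProduct.inl y)⁻¹ * SemidirectProduct.inl v * SemidirectProduct.inl y) *
          ((SemidirectProduct.inl y)⁻¹ * i * SemidirectProduct.inl y)⁻¹
        = (SemidirectProduct.inl y)⁻¹ * (i * SemidirectProduct.inl v * i⁻¹) *
            SemidirectProduct.inl y := by group
      _ = _ := by rw [e3]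
  have hx3 : (y⁻¹ * v * y) ^ 3 = 1 := hfix _ hx
  have hv3 : v ^ 3 = 1 := by
    have e : v ^ 3 = y * (y⁻¹ * v * y) ^ 3 * y⁻¹ := by
      rw [pow_three, pow_three]; group
    rw [e, hx3, mul_one, mul_inv_cancel]
  -- conclusion
  have h54 : h ^ 54 = 1 := by
    have e : h ^ 54 = (h ^ 18) ^ 3 := by rw [← pow_mul]
    rw [e, h18, one_pow]
  have h60 : h ^ 60 = h ^ 6 := by
    have e : h ^ 60 = h ^ 54 * h ^ 6 := by rw [← pow_add]
    rw [e, h54, one_mul]
  have h60' : h ^ 60 = 1 := by
    have e : h ^ 60 = (h ^ 10) ^ 6 := by rw [← pow_mul]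
    have e' : v ^ 6 = (v ^ 3) ^ 2 := pow_mul v 3 2
    rw [e, h10, ← map_pow, e', hv3, one_pow, map_one]
  rw [← h60, h60']

end Cfsg.Agent.S3439P
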