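import Mathlib

set_option autoImplicit false

/-! S3501 piece NONCENTRAL (helper19): in a non-abelian simple group a non-identity element fails to
commute with something. -/

namespace Cfsg.Agent.S3501P

theorem NONCENTRAL {T : Type*} [Group T] [IsSimpleGroup T] (hT : ¬ IsMulCommutative T) (t : T) (ht : t ≠ 1) :
    ∃ s : T, s * t ≠ t * s := by
  by_contra hcon
  push Not at hcon
  have hmem : t ∈ Subgroup.center T := by
    rw [Subgroup.mem_center_iff]
    intro g
    exact hcon g
  rcases (inferInstance : (Subgroup.center T).Normal).eq_bot_or_eq_top with hbot | htop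
  · rw [hbot, Subgroup.mem_bot] at hmem
    exact ht hmem
  · apply hT
    refine ⟨⟨fun a b => ?_⟩⟩
    have : a ∈ Subgroup.center T := by rw [htop]; trivial
    rw [Subgroup.mem_center_iff] at this
    exact (this b).symm
  
end Cfsg.Agent.S3501P
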