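import Mathlib

set_option autoImplicit false
set_option linter.unusedSectionVars false
set_option linter.unusedVariables false

/-! # S3520 piece PNOT -/

namespace Cfsg.Agent.S3520P

open MulAction

variable {G : Type*} [Group G] [Finite G] {Ω : Type*} [Fintype Ω] [MulAction G Ω]

/-- PNOT: if `G` has no non-trivial abelian normal subgroup, a non-trivial normal subgroup is not a
`p`-group. -/
theorem PNOT (hA : ¬ ∃ N : Subgroup G, N.Normal ∧ N ≠ ⊥ ∧ IsMulCommutative N)
    (N : Subgroup G) [N.Normal] (hN : N ≠ ⊥) (p : ℕ) (hp : p.Prime) : ¬ IsPGroup p N := by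
  intro hpN
  haveI : Fact p.Prime := ⟨hp⟩
  haveI : Nontrivial N := (Subgroup.nontrivial_iff_ne_bot N).2 hN
  haveI : Nontrivial (Subgroup.center N) := hpN.center_nontrivial
  apply hA
  refine ⟨(Subgroup.center N).map N.subtype, inferInstance, ?_, ?_⟩
  · rw [Ne, Subgroup.map_eq_bot_iff_of_injective _ N.subtype_injective]
    exact (Subgroup.nontrivial_iff_ne_bot _).1 inferInstance
  · refine ⟨⟨fun a b => ?_⟩⟩
    obtain ⟨a, ha⟩ := a
    obtain ⟨b, hb⟩ := b
    obtain ⟨a', ha', rfl⟩ := ha
    obtain ⟨b', hb', rfl⟩ := hb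
    apply Subtype.ext
    show N.subtype a' * N.subtype b' = N.subtype b' * N.subtype a'
    rw [← map_mul, ← map_mul]
    congr 1
    exact (Subgroup.mem_center_iff.1 ha' b').symm
end Cfsg.Agent.S3520P
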