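import Mathlib
import Cfsg.Prelude.Def_Classical
import Cfsg.Agent.Helper5.S3590Defs

/-! S3590 piece CARD (driver helper5): the affine group `(Fin (M+1) → ι → F) ⋊ G` is finite of order `> M`. -/

set_option autoImplicit false

namespace Cfsg.Agent.S3590P

open Module Polynomial Matrix
open Cfsg.Agent.S5973P Cfsg.Agent.S3589P
open scoped Classical

noncomputable section

/-- CARD: the group is finite and large. -/
theorem aff_finite_card {G : Type*} [Group G] [Finite G] {ι : Type*} [Fintype ι] [DecidableEq ι]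
    [Nonempty ι] {F : Type*} [Field F] [Finite F] (ρ : G →* Matrix ι ι F) (M : ℕ) :
    Finite (Aff ρ (Fin (M + 1))) ∧ M < Nat.card (Aff ρ (Fin (M + 1))) := by
  have e : Aff ρ (Fin (M + 1)) ≃ Multiplicative (Fin (M + 1) → ι → F) × G :=
    SemidirectProduct.equivProd
  haveI : Finite (Multiplicative (Fin (M + 1) → ι → F)) :=
    inferInstanceAs (Finite (Fin (M + 1) → ι → F))
  haveI hfin : Finite (Aff ρ (Fin (M + 1))) := Finite.of_equiv _ e.symm
  refine ⟨hfin, ?_⟩
  rw [Nat.card_congr e, Nat.card_prod]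
  have hG : 0 < Nat.card G := Nat.card_pos
  have hF : 2 ≤ Nat.card F := by
    haveI : Nontrivial F := inferInstance
    exact Finite.one_lt_card
  have hι : 0 < Nat.card ι := Nat.card_pos
  have hV : Nat.card (Multiplicative (Fin (M + 1) → ι → F)) = (Nat.card F ^ Nat.card ι) ^ (M + 1) := by
    show Nat.card (Fin (M + 1) → ι → F) = _
    rw [Nat.card_fun, Nat.card_fun, Nat.card_fin]
  rw [hV]
  have h1 : 2 ≤ Nat.card F ^ Nat.card ι :=
    le_trans hF (Nat.le_self_pow (Nat.pos_iff_ne_zero.mp hι) _)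
  have h2 : M < (Nat.card F ^ Nat.card ι) ^ (M + 1) :=
    calc M < 2 ^ M := Nat.lt_two_pow_self
      _ ≤ 2 ^ (M + 1) := Nat.pow_le_pow_right (by norm_num) (Nat.le_succ M)
      _ ≤ (Nat.card F ^ Nat.card ι) ^ (M + 1) := Nat.pow_le_pow_left h1 _
  calc M < (Nat.card F ^ Nat.card ι) ^ (M + 1) := h2
    _ = (Nat.card F ^ Nat.card ι) ^ (M + 1) * 1 := (mul_one _).symm
    _ ≤ (Nat.card F ^ Nat.card ι) ^ (M + 1) * Nat.card G := Nat.mul_le_mul_left _ hG

end

end Cfsg.Agent.S3590P
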