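import Cfsg.Agent.Helper11.S3786Defs
import Cfsg.Agent.Helper19.S3786Ynorm

/-! Board `s3786pieces`, row Y_c_triv (core): if `c = [z,b]` commutes with `z` then `c` is trivial on
`L = ker N_{Y₁}`; the statement of row Y_D_zero (for this `b`) is a hypothesis. -/

set_option autoImplicit false
set_option linter.unusedSectionVars false
set_option linter.unusedVariables false

namespace Cfsg.Agent.S3786P

open Subgroup

universe u

/-- an element of odd prime power order acting trivially with its square acts trivially -/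
theorem Y_c_triv_aux_odd {Γ : Type*} [Group Γ] {M : Type*} [AddCommGroup M] [DistribMulAction Γ M]
    {p : ℕ} (hp : p.Prime) (hp2 : p ≠ 2) (g : Γ) (j : ℕ) (hg : g ^ p ^ j = 1) (x : M)
    (hx : (g * g) • x = x) : g • x = x := by
  have hodd : Odd (p ^ j) := (hp.odd_of_ne_two hp2).pow
  obtain ⟨k, hk⟩ := hodd
  have hpow : ∀ i : ℕ, ((g * g) ^ i) • x = x := by
    intro i
    induction i with
    | zero => simp
    | succ i ih => rw [pow_succ, mul_smul, hx, ih]
  have e : g = (g * g) ^ (k + 1) := by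
    have h1 : (g * g) ^ (k + 1) = g ^ (2 * k + 1) * g := by
      rw [← pow_two, ← pow_mul, ← pow_succ]
      congr 1
    rw [h1, ← hk, hg, one_mul]
  calc g • x = ((g * g) ^ (k + 1)) • x := by rw [← e]
    _ = x := hpow _

section Y

variable {p : ℕ} [Fact p.Prime] {Γ : Type*} [Group Γ] {M : Type*} [AddCommGroup M] [DistribMulAction Γ M] {Z : Type*}
  [AddCommGroup Z] {B : Subgroup Γ} {w z : Γ} {N : ℕ} {β : M → M → Z}

/-- Y4 with the conclusion of Y3 (`D_b = 0` on `L`) as a hypothesis. -/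
theorem Y_c_triv_aux_core (S : YSet p B w z N β) [Fintype ↥B] (Y₁ : Subgroup Γ) [Fintype ↥Y₁] (hY₁B : Y₁ ≤ B)
    (hY₁z : ∀ y ∈ Y₁, z * y = y * z)
    {b : Γ} (hb : b ∈ B) (hc : z * (z * b * z⁻¹ * b⁻¹) = (z * b * z⁻¹ * b⁻¹) * z)
    (hD : ∀ m : M, ∑ y : ↥Y₁, (y : Γ) • m = 0 →
      (z * b * z⁻¹) • m + (z * b⁻¹ * z⁻¹) • m + b • m + b⁻¹ • m = 0)
    (m : M) (hm : ∑ y : ↥Y₁, (y : Γ) • m = 0) : (z * b * z⁻¹ * b⁻¹) • m = m := by
  classical
  have hp : p.Prime := Fact.out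
  obtain ⟨-, hzB, -⟩ := Y_norm S
  set c : Γ := z * b * z⁻¹ * b⁻¹ with hcdef
  have hcB : c ∈ B := B.mul_mem (hzB b hb) (B.inv_mem hb)
  have hcb : c * b = b * c := S.Bcomm c hcB b hb
  -- `c` has odd prime power order
  obtain ⟨j, hj⟩ := S.Bp ⟨c, hcB⟩
  have hcj : c ^ p ^ j = 1 := by
    have := congrArg Subtype.val hj
    simpa using this
  -- characteristic 2
  have hchar : ∀ x y : M, x + y = 0 → x = y := by
    intro x y h
    calc x = x + (y + y) := by rw [S.two y, add_zero]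
      _ = (x + y) + y := by rw [add_assoc]
      _ = y := by rw [h, zero_add]
  -- `L` is invariant under elements commuting with `Y₁`, and additive
  have hLsmul : ∀ g : Γ, (∀ y ∈ Y₁, g * y = y * g) → ∀ m : M, ∑ y : ↥Y₁, (y : Γ) • m = 0 →
      ∑ y : ↥Y₁, (y : Γ) • (g • m) = 0 := by
    intro g hg m hm
    have : ∑ y : ↥Y₁, (y : Γ) • (g • m) = g • ∑ y : ↥Y₁, (y : Γ) • m := by
      rw [Finset.smul_sum]
      apply Finset.sum_congr rfl
      intro y _
      rw [← mul_smul, ← mul_smul, hg y y.2]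
    rw [this, hm, smul_zero]
  have hLadd : ∀ m₁ m₂ : M, ∑ y : ↥Y₁, (y : Γ) • m₁ = 0 → ∑ y : ↥Y₁, (y : Γ) • m₂ = 0 →
      ∑ y : ↥Y₁, (y : Γ) • (m₁ + m₂) = 0 := by
    intro m₁ m₂ h1 h2
    simp only [smul_add, Finset.sum_add_distrib, h1, h2, add_zero]
  have hBY : ∀ g ∈ B, ∀ y ∈ Y₁, g * y = y * g := fun g hg y hy => S.Bcomm g hg y (hY₁B hy)
  have hzinvY : ∀ y ∈ Y₁, z⁻¹ * y = y * z⁻¹ := by
    intro y hy
    have h := hY₁z y hy
    calc z⁻¹ * y = z⁻¹ * (y * z) * z⁻¹ := by group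
      _ = z⁻¹ * (z * y) * z⁻¹ := by rw [h]
      _ = y * z⁻¹ := by group
  -- `m + c m ∈ L`
  have hL1 : ∀ m : M, ∑ y : ↥Y₁, (y : Γ) • m = 0 → ∑ y : ↥Y₁, (y : Γ) • (m + c • m) = 0 :=
    fun m hm => hLadd _ _ hm (hLsmul c (hBY c hcB) m hm)
  -- conjugates of `b`
  have e1 : z * b * z⁻¹ = c * b := by rw [hcdef]; group
  have e2 : z * b⁻¹ * z⁻¹ = b⁻¹ * c⁻¹ := by rw [hcdef]; group
  -- Step A: `e = c b b` fixes `m + c m`
  have hA : ∀ m : M, ∑ y : ↥Y₁, (y : Γ) • m = 0 → (c * b * b) • (m + c • m) = m + c • m := by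
    intro m hm
    have h0 := hD m hm
    rw [e1, e2] at h0
    -- `b m₁ + b⁻¹ c⁻¹ m₁ = 0`
    have h1 : b • (m + c • m) + (b⁻¹ * c⁻¹) • (m + c • m) = 0 := by
      have x1 : b • (c • m) = (c * b) • m := by rw [← mul_smul, hcb]
      have x2 : (b⁻¹ * c⁻¹) • (c • m) = b⁻¹ • m := by
        rw [← mul_smul]; congr 1; group
      rw [smul_add, smul_add, x1, x2]
      rw [← h0]; abel
    have h2 : b • (m + c • m) = (b⁻¹ * c⁻¹) • (m + c • m) := hchar _ _ h1
    have h3 : (c * b) • (b • (m + c • m)) = (c * b) • ((b⁻¹ * c⁻¹) • (m + c • m)) := by rw [h2]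
    rw [← mul_smul, ← mul_smul] at h3
    have x3 : c * b * (b⁻¹ * c⁻¹) = 1 := by group
    rw [x3, one_smul] at h3
    exact h3
  -- Step B: conjugating by `z`
  have hczinv : c * z⁻¹ = z⁻¹ * c := by
    calc c * z⁻¹ = z⁻¹ * (z * c) * z⁻¹ := by group
      _ = z⁻¹ * (c * z) * z⁻¹ := by rw [hc]
      _ = z⁻¹ * c := by group
  have hB' : ∀ m : M, ∑ y : ↥Y₁, (y : Γ) • m = 0 →
      (z * (c * b * b) * z⁻¹) • (m + c • m) = m + c • m := by
    intro m hm
    have hm' := hLsmul z⁻¹ hzinvY m hm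
    have h1 := hA (z⁻¹ • m) hm'
    have x1 : z⁻¹ • m + c • z⁻¹ • m = z⁻¹ • (m + c • m) := by
      rw [smul_add, ← mul_smul, ← mul_smul, hczinv]
    rw [x1] at h1
    have h2 : z • ((c * b * b) • z⁻¹ • (m + c • m)) = z • z⁻¹ • (m + c • m) := by rw [h1]
    rw [← mul_smul, ← mul_smul, ← mul_smul, mul_inv_cancel, one_smul] at h2
    exact h2
  have hconj : z * (c * b * b) * z⁻¹ = c * c * (c * b * b) := by
    have hzc : z * c * z⁻¹ = c := by rw [hc]; group
    calc z * (c * b * b) * z⁻¹ = (z * c * z⁻¹) * (z * b * z⁻¹) * (z * b * z⁻¹) := by group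
      _ = c * (c * b) * (c * b) := by rw [hzc, e1]
      _ = c * c * (b * c) * b := by group
      _ = c * c * (c * b) * b := by rw [hcb]
      _ = c * c * (c * b * b) := by group
  -- `c² = 1` on `m + c m`, hence `c = 1` there
  have hC : ∀ m : M, ∑ y : ↥Y₁, (y : Γ) • m = 0 → c • (m + c • m) = m + c • m := by
    intro m hm
    apply Y_c_triv_aux_odd hp S.p_odd c j hcj
    have h1 := hB' m hm
    rw [hconj, mul_smul, hA m hm] at h1
    exact h1
  -- `c² = 1` on `L`, hence `c = 1` on `L`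
  apply Y_c_triv_aux_odd hp S.p_odd c j hcj
  have h1 := hC m hm
  rw [smul_add, ← mul_smul] at h1
  -- `c m + c² m = m + c m`
  have h2 : c • m + (c * c) • m = c • m + m := by rw [h1, add_comm]
  exact add_left_cancel h2

end Y

end Cfsg.Agent.S3786P
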