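import Mathlib
import Cfsg.Agent.Helper19.Metacyclic
import Cfsg.Agent.Helper1.Metacyclic
import Cfsg.Agent.Helper23.PGroup
import Cfsg.Agent.Helper11.S4330B2

/-!
# S4079 board, piece KP (helper19): on `M = {g | g^(p²) = 1}` the `p`-th power map is a homomorphism onto
`E = {x | x^p = 1}`, and `E` is central in `M`.
-/

set_option autoImplicit false
open Cfsg

namespace Cfsg.Agent.S4079P

/-- a normal subgroup `zpowers c`, `c ^ p = 1`, of a finite `p`-group is central -/
theorem KP_aux_central {X : Type*} [Group X] [Finite X] {p : ℕ} [Fact p.Prime] (hX : IsPGroup p X)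
    (c : X) (hc : c ^ p = 1) (hn : (Subgroup.zpowers c).Normal) : c ∈ Subgroup.center X := by
  have hpp : p.Prime := Fact.out
  by_cases h1 : c = 1
  · rw [h1]; exact Subgroup.one_mem _
  have hne : Subgroup.zpowers c ≠ ⊥ := by
    intro h
    apply h1
    have : c ∈ (⊥ : Subgroup X) := h ▸ Subgroup.mem_zpowers c
    exact Subgroup.mem_bot.mp this
  have hord : orderOf c = p := by
    rcases (Nat.dvd_prime hpp).mp (orderOf_dvd_of_pow_eq_one hc) with h | h
    · exact absurd (orderOf_eq_one_iff.mp h) h1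
    · exact h
  obtain ⟨b, hbH, hbZ, hb1⟩ := Cfsg.Agent.Helper23.exists_mem_inf_center_ne_one hX (Subgroup.zpowers c) hne
  have hle : Subgroup.zpowers b ≤ Subgroup.zpowers c := by rw [Subgroup.zpowers_le]; exact hbH
  have hcardc : Nat.card (Subgroup.zpowers c) = p := by rw [Nat.card_zpowers, hord]
  have hcardb : Nat.card (Subgroup.zpowers b) = p := by
    rw [Nat.card_zpowers]
    have h2 : orderOf b ∣ p := by
      have h3 : orderOf (⟨b, hbH⟩ : Subgroup.zpowers c) ∣ Nat.card (Subgroup.zpowers c) := orderOf_dvd_natCard _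
      rw [Subgroup.orderOf_mk, hcardc] at h3
      exact h3
    rcases (Nat.dvd_prime hpp).mp h2 with h | h
    · exact absurd (orderOf_eq_one_iff.mp h) hb1
    · exact h
  have heq : Subgroup.zpowers b = Subgroup.zpowers c :=
    Subgroup.eq_of_le_of_card_ge hle (by rw [hcardb, hcardc])
  have hcb : c ∈ Subgroup.zpowers b := heq ▸ Subgroup.mem_zpowers c
  have hbz : Subgroup.zpowers b ≤ Subgroup.center X := by rw [Subgroup.zpowers_le]; exact hbZ
  exact hbz hcb

/-- KP for a group type `X` of order `p⁴` and exponent dividing `p²` -/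
theorem KP_aux_core {X : Type*} [Group X] [Finite X] {p : ℕ} [Fact p.Prime] (hp : p ≠ 2)
    (hX : IsPGroup p X) (hmc : Cfsg.IsMetacyclic X) (hXc : Nat.card X = p ^ 4)
    (hX2 : ∀ g : X, g ^ (p ^ 2) = 1)
    (E : Subgroup X) (hE : ∀ x, x ∈ E ↔ x ^ p = 1) (hEc : Nat.card E = p ^ 2) :
    (∀ g h : X, (g * h) ^ p = g ^ p * h ^ p) ∧ (∀ g : X, ∀ e ∈ E, g * e = e * g) ∧
      (∀ e ∈ E, ∃ g : X, g ^ p = e) := by
  have hpp : p.Prime := Fact.out
  have hEn : E.Normal := by
    constructor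
    intro n hn g
    rw [hE] at hn ⊢
    rw [conj_pow, hn, mul_one, mul_inv_cancel]
  -- the quotient has order `p²`, so it is commutative
  have hq : Nat.card (X ⧸ E) = p ^ 2 := by
    have h1 := Subgroup.card_eq_card_quotient_mul_card_subgroup E
    rw [hXc, hEc] at h1
    have hpos : 0 < p ^ 2 := pow_pos hpp.pos 2
    have : p ^ 4 = p ^ 2 * p ^ 2 := by ring
    rw [this] at h1
    exact (Nat.eq_of_mul_eq_mul_right hpos h1).symm
  have hqc : IsMulCommutative (X ⧸ E) := IsPGroup.isMulCommutative_of_card_eq_prime_sq hq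
  have hcommE : ∀ a b : X, a * b * a⁻¹ * b⁻¹ ∈ E := by
    intro a b
    rw [← QuotientGroup.eq_one_iff]
    have h1 : ((a : X) : X ⧸ E) * (b : X) = (b : X) * (a : X) := hqc.is_comm.comm _ _
    simp only [QuotientGroup.mk_mul, QuotientGroup.mk_inv]
    rw [h1]
    group
  -- the commutator subgroup is cyclic, generated by a commutator
  obtain ⟨a, b, han, hgen⟩ := Cfsg.Agent.Helper19.Metacyclic.exists_gens hmc
  have hmem : b * a * b⁻¹ ∈ Subgroup.zpowers a := han.conj_mem a (Subgroup.mem_zpowers a) b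
  obtain ⟨u, hu⟩ := Subgroup.mem_zpowers_iff.mp hmem
  have hconj : b * a * b⁻¹ = a ^ u := hu.symm
  have hcomm := Cfsg.Agent.Helper19.Metacyclic.commutator_eq a b u hconj hgen
  have hc0 : a ^ (1 - u) = a * b * a⁻¹ * b⁻¹ := Cfsg.Agent.Helper19.Metacyclic.zpow_one_sub_eq a b u hconj
  have hc0p : (a ^ (1 - u)) ^ p = 1 := by
    rw [hc0]; exact (hE _).mp (hcommE a b)
  have hzn : (Subgroup.zpowers (a ^ (1 - u))).Normal := by
    rw [← hcomm]; infer_instance
  have hc0Z : a ^ (1 - u) ∈ Subgroup.center X := KP_aux_central hX _ hc0p hzn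
  have hcomZ : ∀ x y : X, x * y * x⁻¹ * y⁻¹ ∈ Subgroup.center X := by
    intro x y
    have h1 : x * y * x⁻¹ * y⁻¹ ∈ commutator X := by
      rw [_root_.commutator_def]
      have := Subgroup.commutator_mem_commutator (Subgroup.mem_top x) (Subgroup.mem_top y)
      rwa [commutatorElement_def] at this
    rw [hcomm] at h1
    have hle : Subgroup.zpowers (a ^ (1 - u)) ≤ Subgroup.center X := by
      rw [Subgroup.zpowers_le]; exact hc0Z
    exact hle h1
  -- multiplicativity
  have hmul : ∀ g h : X, (g * h) ^ p = g ^ p * h ^ p := by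
    intro g h
    exact Cfsg.Agent.Helper5.S4330.mul_pow_p_of_class_two hp (⊤ : Subgroup X) (by
      intro x _ y _
      refine ⟨fun c _ => ?_, (hE _).mp (hcommE x y)⟩
      exact (Subgroup.mem_center_iff.mp (hcomZ x y) c).symm) g (Subgroup.mem_top g) h (Subgroup.mem_top h)
  -- the power map `X → E`
  have hpowE : ∀ g : X, g ^ p ∈ E := by
    intro g
    rw [hE, ← pow_mul, ← sq]
    exact hX2 g
  let P : X →* ↥E := MonoidHom.mk' (fun g => ⟨g ^ p, hpowE g⟩) (by
    intro g h
    apply Subtype.ext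
    exact hmul g h)
  have hP : ∀ g : X, ((P g : ↥E) : X) = g ^ p := fun g => rfl
  have hker : P.ker = E := by
    ext g
    rw [MonoidHom.mem_ker, hE]
    constructor
    · intro h
      have := congrArg Subtype.val h
      rwa [hP] at this
    · intro h
      apply Subtype.ext
      rw [hP, h]; rfl
  have hrange : P.range = ⊤ := by
    apply Subgroup.eq_top_of_card_eq
    have h1 : P.ker.index = Nat.card P.range := Subgroup.index_ker P
    rw [← h1, hker, hEc]
    have h2 := Subgroup.card_mul_index E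
    rw [hXc, hEc] at h2
    have hpos : 0 < p ^ 2 := pow_pos hpp.pos 2
    have : p ^ 4 = p ^ 2 * p ^ 2 := by ring
    rw [this] at h2
    exact Nat.eq_of_mul_eq_mul_left hpos h2
  have hsurj : ∀ e ∈ E, ∃ g : X, g ^ p = e := by
    intro e he
    have h1 : (⟨e, he⟩ : ↥E) ∈ P.range := by rw [hrange]; exact Subgroup.mem_top _
    obtain ⟨g, hg⟩ := h1
    refine ⟨g, ?_⟩
    have := congrArg Subtype.val hg
    rwa [hP] at this
  refine ⟨hmul, ?_, hsurj⟩
  -- `E` is central
  intro h e he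
  obtain ⟨g, rfl⟩ := hsurj e he
  have h1 : h * g ^ p * h⁻¹ = (h * g * h⁻¹) ^ p := (conj_pow).symm
  have h2 : h * g * h⁻¹ = (h * g * h⁻¹ * g⁻¹) * g := by group
  have h3 : (h * g * h⁻¹ * g⁻¹) ^ p = 1 := (hE _).mp (hcommE h g)
  have h4 : h * g ^ p * h⁻¹ = g ^ p := by
    rw [h1, h2, hmul, h3, one_mul]
  calc h * g ^ p = (h * g ^ p * h⁻¹) * h := by group
    _ = g ^ p * h := by rw [h4]

/-- KP: on `M` the `p`-th power map is a homomorphism onto `E`, and `E` is central in `M`. -/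
theorem KP {L : Type*} [Group L] [Finite L] {p : ℕ} [Fact p.Prime]
    (hp : p ≠ 2) (hL : IsPGroup p L) (hmc : Cfsg.IsMetacyclic L)
    (E M : Subgroup L) (hE : ∀ x, x ∈ E ↔ x ^ p = 1) (hEc : Nat.card E = p ^ 2)
    (hM : ∀ g, g ∈ M ↔ g ^ (p ^ 2) = 1) (hMc : Nat.card M = p ^ 4) :
    (∀ g ∈ M, ∀ h ∈ M, (g * h) ^ p = g ^ p * h ^ p) ∧ (∀ g ∈ M, ∀ e ∈ E, g * e = e * g) ∧
      (∀ e ∈ E, ∃ g ∈ M, g ^ p = e) := by
  have hEM : E ≤ M := by
    intro x hx
    rw [hM, sq, pow_mul, (hE x).mp hx, one_pow]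
  have hmcM : Cfsg.IsMetacyclic ↥M := Cfsg.Agent.Helper1.Metacyclic.isMetacyclic_subgroup hmc M
  have hE' : ∀ x : ↥M, x ∈ E.subgroupOf M ↔ x ^ p = 1 := by
    intro x
    rw [Subgroup.mem_subgroupOf, hE]
    constructor
    · intro h
      apply Subtype.ext
      rw [Subgroup.coe_pow]; exact h
    · intro h
      have := congrArg Subtype.val h
      rwa [Subgroup.coe_pow] at this
  have hE'c : Nat.card ↥(E.subgroupOf M) = p ^ 2 := by
    rw [Nat.card_congr (Subgroup.subgroupOfEquivOfLe hEM).toEquiv]; exact hEc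
  have hX2 : ∀ g : ↥M, g ^ (p ^ 2) = 1 := by
    intro g
    apply Subtype.ext
    rw [Subgroup.coe_pow]
    exact (hM g).mp g.2
  obtain ⟨h1, h2, h3⟩ := KP_aux_core hp (hL.to_subgroup M) hmcM hMc hX2 (E.subgroupOf M) hE' hE'c
  refine ⟨?_, ?_, ?_⟩
  · intro g hg h hh
    have := congrArg Subtype.val (h1 ⟨g, hg⟩ ⟨h, hh⟩)
    simpa using this
  · intro g hg e he
    have hmem : (⟨e, hEM he⟩ : ↥M) ∈ E.subgroupOf M := by
      rw [Subgroup.mem_subgroupOf]; exact he
    have := congrArg Subtype.val (h2 ⟨g, hg⟩ ⟨e, hEM he⟩ hmem)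
    simpa using this
  · intro e he
    have hmem : (⟨e, hEM he⟩ : ↥M) ∈ E.subgroupOf M := by
      rw [Subgroup.mem_subgroupOf]; exact he
    obtain ⟨g, hg⟩ := h3 ⟨e, hEM he⟩ hmem
    refine ⟨(g : L), g.2, ?_⟩
    have := congrArg Subtype.val hg
    simpa using this

end Cfsg.Agent.S4079P
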