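import Mathlib
import Cfsg.Agent.Helper9.S4091Defs

/-! # S4091 piece PIB: the Brauer–Wielandt equality for two commuting automorphisms of order
dividing `p` of a `p'`-group (blueprint `departures/helper9_S4091_blueprint.md`, section 2). -/

set_option autoImplicit false

namespace Cfsg.Agent.S4091P

open Cfsg.Agent.Helper7 (subFinset mem_subFinset wform WForm)

universe u

variable {p : ℕ} [Fact p.Prime]

section

variable {N : Type u} [Group N]

theorem PIB_aux_pow_fix (c : MulAut N) (n : N) (h : c n = n) (k : ℕ) : (c ^ k) n = n := by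
  induction k with
  | zero => simp
  | succ k ih => rw [pow_succ, MulAut.mul_apply, h, ih]

omit [Fact p.Prime] in
/-- a power prime to `p` of an automorphism of order dividing `p` has the same fixed points -/
theorem PIB_aux_fix_pow (b : MulAut N) (hb : b ^ p = 1) {m : ℕ} (hm : Nat.Coprime m p) :
    fixSub (b ^ m) = fixSub b := by
  apply le_antisymm
  · intro n hn
    have ho : orderOf b ∣ p := orderOf_dvd_of_pow_eq_one hb
    have hcop : Nat.Coprime m (orderOf b) := Nat.Coprime.coprime_dvd_right ho hm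
    obtain ⟨k, hk⟩ := exists_pow_eq_self_of_coprime hcop
    have := PIB_aux_pow_fix (b ^ m) n hn k
    rw [hk] at this
    exact this
  · intro n hn
    exact PIB_aux_pow_fix b n hn m

theorem PIB_aux_fx_one : fx (1 : MulAut N) = Nat.card N := by
  unfold fx
  have : fixSub (1 : MulAut N) = ⊤ := by
    ext n
    simp [mem_fixSub]
  rw [this, Subgroup.card_top]

/-- the action of `Z_p × Z_p` through `(i,j) ↦ a^i z^j` -/
noncomputable def PIB_aux_phi (a z : MulAut N) (hc : Commute a z) (ha : a ^ p = 1)
    (hz : z ^ p = 1) :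
    Multiplicative (ZMod p) × Multiplicative (ZMod p) →* MulAut N where
  toFun e := a ^ (Multiplicative.toAdd e.1).val * z ^ (Multiplicative.toAdd e.2).val
  map_one' := by
    have : NeZero p := ⟨(Fact.out : p.Prime).ne_zero⟩
    simp
  map_mul' e f := by
    have : NeZero p := ⟨(Fact.out : p.Prime).ne_zero⟩
    have h1 : a ^ (Multiplicative.toAdd (e * f).1).val
        = a ^ (Multiplicative.toAdd e.1).val * a ^ (Multiplicative.toAdd f.1).val := by
      rw [← pow_add, pow_eq_pow_mod ((Multiplicative.toAdd e.1).val + (Multiplicative.toAdd f.1).val) ha]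
      congr 1
      show (Multiplicative.toAdd e.1 + Multiplicative.toAdd f.1).val = _
      rw [ZMod.val_add]
    have h2 : z ^ (Multiplicative.toAdd (e * f).2).val
        = z ^ (Multiplicative.toAdd e.2).val * z ^ (Multiplicative.toAdd f.2).val := by
      rw [← pow_add, pow_eq_pow_mod ((Multiplicative.toAdd e.2).val + (Multiplicative.toAdd f.2).val) hz]
      congr 1
      show (Multiplicative.toAdd e.2 + Multiplicative.toAdd f.2).val = _
      rw [ZMod.val_add]
    rw [h1, h2]
    have h3 := (hc.pow_pow (Multiplicative.toAdd f.1).val (Multiplicative.toAdd e.2).val).eq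
    calc a ^ (Multiplicative.toAdd e.1).val * a ^ (Multiplicative.toAdd f.1).val *
          (z ^ (Multiplicative.toAdd e.2).val * z ^ (Multiplicative.toAdd f.2).val)
        = a ^ (Multiplicative.toAdd e.1).val * (a ^ (Multiplicative.toAdd f.1).val *
          z ^ (Multiplicative.toAdd e.2).val) * z ^ (Multiplicative.toAdd f.2).val := by
          simp only [mul_assoc]
      _ = a ^ (Multiplicative.toAdd e.1).val * (z ^ (Multiplicative.toAdd e.2).val *
          a ^ (Multiplicative.toAdd f.1).val) * z ^ (Multiplicative.toAdd f.2).val := by rw [h3]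
      _ = _ := by simp only [mul_assoc]

theorem PIB_aux_phi_apply (a z : MulAut N) (hc : Commute a z) (ha : a ^ p = 1) (hz : z ^ p = 1)
    (e : Multiplicative (ZMod p) × Multiplicative (ZMod p)) :
    PIB_aux_phi a z hc ha hz e
      = a ^ (Multiplicative.toAdd e.1).val * z ^ (Multiplicative.toAdd e.2).val := rfl

end

section semidirect

variable {N : Type u} [Group N]

open SemidirectProduct

/-- `C_K(inr e)` in `N ⋊ E` is the image of the fixed subgroup of `φ e` -/
theorem PIB_aux_cent_single {E : Type} [Group E] (φ : E →* MulAut N) (e : E) :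
    (inl : N →* N ⋊[φ] E).range ⊓ Subgroup.centralizer ({(inr e : N ⋊[φ] E)} : Set (N ⋊[φ] E))
      = (fixSub (φ e)).map (inl : N →* N ⋊[φ] E) := by
  ext g
  constructor
  · rintro ⟨⟨n, rfl⟩, hg⟩
    refine ⟨n, ?_, rfl⟩
    have h := Subgroup.mem_centralizer_iff.1 hg (inr e) rfl
    have h2 := congrArg SemidirectProduct.left h
    simp only [SemidirectProduct.mul_left, SemidirectProduct.left_inr, SemidirectProduct.right_inr,
      SemidirectProduct.left_inl, SemidirectProduct.right_inl, one_mul, map_one, mul_one] at h2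
    exact h2
  · rintro ⟨n, hn, rfl⟩
    refine Subgroup.mem_inf.2 ⟨⟨n, rfl⟩, Subgroup.mem_centralizer_iff.2 (fun h hh => ?_)⟩
    rw [Set.mem_singleton_iff] at hh
    subst hh
    apply SemidirectProduct.ext
    · simp only [SemidirectProduct.mul_left, SemidirectProduct.left_inr, SemidirectProduct.right_inr,
        SemidirectProduct.left_inl, SemidirectProduct.right_inl, one_mul, map_one, mul_one]
      exact hn
    · simp

/-- `C_K(A)` in `N ⋊ (Z_p × Z_p)` is the image of the common fixed subgroup of `a` and `z` -/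
theorem PIB_aux_cent_all (a z : MulAut N) (hc : Commute a z) (ha : a ^ p = 1) (hz : z ^ p = 1) :
    (inl : N →* N ⋊[PIB_aux_phi a z hc ha hz] _).range ⊓
        Subgroup.centralizer
          (((inr : _ →* N ⋊[PIB_aux_phi a z hc ha hz] _).range : Subgroup _) : Set _)
      = (fixSub a ⊓ fixSub z).map (inl : N →* N ⋊[PIB_aux_phi a z hc ha hz] _) := by
  have hp1 : Fact (1 < p) := ⟨(Fact.out : p.Prime).one_lt⟩
  ext g
  constructor
  · rintro ⟨⟨n, rfl⟩, hg⟩
    refine ⟨n, ?_, rfl⟩
    have key : ∀ e, (PIB_aux_phi a z hc ha hz e) n = n := by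
      intro e
      have h := Subgroup.mem_centralizer_iff.1 hg (inr e) ⟨e, rfl⟩
      have h2 := congrArg SemidirectProduct.left h
      simp only [SemidirectProduct.mul_left, SemidirectProduct.left_inr,
        SemidirectProduct.right_inr, SemidirectProduct.left_inl, SemidirectProduct.right_inl,
        one_mul, map_one, mul_one] at h2
      exact h2
    refine Subgroup.mem_inf.2 ⟨?_, ?_⟩
    · have := key (Multiplicative.ofAdd 1, 1)
      rw [PIB_aux_phi_apply] at this
      rw [mem_fixSub]
      simpa [ZMod.val_one] using this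
    · have := key (1, Multiplicative.ofAdd 1)
      rw [PIB_aux_phi_apply] at this
      rw [mem_fixSub]
      simpa [ZMod.val_one] using this
  · rintro ⟨n, hn, rfl⟩
    obtain ⟨hna, hnz⟩ := Subgroup.mem_inf.1 hn
    refine Subgroup.mem_inf.2 ⟨⟨n, rfl⟩, Subgroup.mem_centralizer_iff.2 (fun h hh => ?_)⟩
    obtain ⟨e, rfl⟩ := hh
    apply SemidirectProduct.ext
    · simp only [SemidirectProduct.mul_left, SemidirectProduct.left_inr,
        SemidirectProduct.right_inr, SemidirectProduct.left_inl, SemidirectProduct.right_inl,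
        one_mul, map_one, mul_one]
      rw [PIB_aux_phi_apply, MulAut.mul_apply,
        PIB_aux_pow_fix z n (mem_fixSub.1 hnz), PIB_aux_pow_fix a n (mem_fixSub.1 hna)]
    · simp

end semidirect

section main

variable {N : Type u} [Group N] [Finite N]

open SemidirectProduct

/-- products over `ZMod p` as products over `range p` -/
theorem PIB_aux_prod_zmod (F : ℕ → ℕ) :
    ∏ i : ZMod p, F i.val = ∏ i ∈ Finset.range p, F i := by
  have : NeZero p := ⟨(Fact.out : p.Prime).ne_zero⟩
  refine Finset.prod_nbij' (fun i => i.val) (fun m => (m : ZMod p)) ?_ ?_ ?_ ?_ ?_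
  · intro i _
    exact Finset.mem_range.2 (ZMod.val_lt i)
  · intro m _
    exact Finset.mem_univ _
  · intro i _
    exact ZMod.natCast_zmod_val i
  · intro m hm
    exact ZMod.val_cast_of_lt (Finset.mem_range.1 hm)
  · intro i _
    rfl

omit [Finite N] in
/-- the row of `a^i z^j`, `i ≠ 0` -/
theorem PIB_aux_row (a z : MulAut N) (hc : Commute a z) (ha : a ^ p = 1) (hz : z ^ p = 1)
    (i : ZMod p) (hi : i ≠ 0) :
    ∏ j : ZMod p, fx (a ^ i.val * z ^ j.val) = ∏ c : ZMod p, fx (a * z ^ c.val) := by
  have hpp : p.Prime := Fact.out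
  have : NeZero p := ⟨hpp.ne_zero⟩
  have hcop : Nat.Coprime i.val p := by
    rw [Nat.coprime_comm, hpp.coprime_iff_not_dvd]
    intro hd
    have h0 : i.val = 0 := Nat.eq_zero_of_dvd_of_lt hd (ZMod.val_lt i)
    exact hi ((ZMod.val_eq_zero i).1 h0)
  rw [← Equiv.prod_comp (Equiv.mulLeft₀ i hi) (fun j : ZMod p => fx (a ^ i.val * z ^ j.val))]
  apply Finset.prod_congr rfl
  intro c _
  have hb : (a * z ^ c.val) ^ p = 1 := by
    rw [(hc.pow_right c.val).mul_pow, ha, ← pow_mul, mul_comm, pow_mul, hz, one_pow, one_mul]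
  have h1 : z ^ (i * c).val = (z ^ c.val) ^ i.val := by
    rw [ZMod.val_mul, ← pow_eq_pow_mod _ hz, ← pow_mul, mul_comm]
  show fx (a ^ i.val * z ^ (i * c).val) = fx (a * z ^ c.val)
  rw [h1, ← (hc.pow_right c.val).mul_pow]
  unfold fx
  rw [PIB_aux_fix_pow _ hb hcop]

omit [Finite N] in
/-- the row `i = 0` -/
theorem PIB_aux_row_zero (z : MulAut N) (hz : z ^ p = 1) :
    ∏ j : ZMod p, fx (z ^ j.val) = Nat.card N * fx z ^ (p - 1) := by
  classical
  have hpp : p.Prime := Fact.out
  have : NeZero p := ⟨hpp.ne_zero⟩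
  rw [← Finset.mul_prod_erase Finset.univ _ (Finset.mem_univ (0 : ZMod p))]
  congr 1
  · rw [ZMod.val_zero, pow_zero, PIB_aux_fx_one]
  · rw [Finset.prod_congr rfl (g := fun _ => fx z)]
    · rw [Finset.prod_const, Finset.card_erase_of_mem (Finset.mem_univ _), Finset.card_univ,
        ZMod.card]
    · intro j hj
      have hj0 : j ≠ 0 := Finset.ne_of_mem_erase hj
      have hcop : Nat.Coprime j.val p := by
        rw [Nat.coprime_comm, hpp.coprime_iff_not_dvd]
        intro hd
        have h0 : j.val = 0 := Nat.eq_zero_of_dvd_of_lt hd (ZMod.val_lt j)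
        exact hj0 ((ZMod.val_eq_zero j).1 h0)
      unfold fx
      rw [PIB_aux_fix_pow _ hz hcop]

/-- PIB: (Pi) for `a ^ p = 1`; `Helper7.wform` in `N ⋊ (Z_p × Z_p)` -/
theorem PIB {N : Type u} [Group N] [Finite N] (a z : MulAut N) (hc : Commute a z)
    (ha : a ^ p = 1) (hz : z ^ p = 1) (hN : ¬ p ∣ Nat.card N) :
    fx z * ∏ i ∈ Finset.range p, fx (a * z ^ i) ≤ Nat.card N * fx2 a z ^ p := by
  classical
  have hpp : p.Prime := Fact.out
  have : NeZero p := ⟨hpp.ne_zero⟩
  let φ := PIB_aux_phi a z hc ha hz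
  have : Finite (N ⋊[φ] (Multiplicative (ZMod p) × Multiplicative (ZMod p))) :=
    Finite.of_equiv _ SemidirectProduct.equivProd.symm
  have hinl : Function.Injective (inl : N →* N ⋊[φ] _) := SemidirectProduct.inl_injective
  have hinr : Function.Injective (inr : _ →* N ⋊[φ] _) := SemidirectProduct.inr_injective
  have hcardM : Nat.card (Multiplicative (ZMod p)) = p := by
    rw [Nat.card_congr Multiplicative.toAdd, Nat.card_zmod]
  have hA : Cfsg.IsElementaryAbelian p ((inr : _ →* N ⋊[φ] _).range) := by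
    refine ⟨⟨⟨?_⟩⟩, ?_⟩
    · rintro ⟨x, e, rfl⟩ ⟨y, f, rfl⟩
      apply Subtype.ext
      show inr e * inr f = inr f * inr e
      rw [← map_mul, ← map_mul, mul_comm]
    · rintro x ⟨e, rfl⟩
      rw [← map_pow]
      have he : e ^ p = 1 := by
        apply Prod.ext
        · show e.1 ^ p = 1
          have := pow_card_eq_one' (G := Multiplicative (ZMod p)) (x := e.1)
          rwa [hcardM] at this
        · show e.2 ^ p = 1
          have := pow_card_eq_one' (G := Multiplicative (ZMod p)) (x := e.2)
          rwa [hcardM] at this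
      rw [he, map_one]
  have hA2 : Nat.card ((inr : _ →* N ⋊[φ] _).range) = p ^ 2 := by
    rw [Nat.card_congr (MonoidHom.ofInjective hinr).symm.toEquiv, Nat.card_prod, hcardM, sq]
  have hKn : ((inl : N →* N ⋊[φ] _).range).Normal := by
    rw [SemidirectProduct.range_inl_eq_ker_rightHom]
    infer_instance
  have hAK : (inr : _ →* N ⋊[φ] _).range ≤
      Subgroup.normalizer (((inl : N →* N ⋊[φ] _).range : Subgroup _) : Set _) := by
    rw [Subgroup.normalizer_eq_top]
    exact le_top
  have hKcard : Nat.card ((inl : N →* N ⋊[φ] _).range) = Nat.card N :=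
    Nat.card_congr (MonoidHom.ofInjective hinl).symm.toEquiv
  have hK : ¬ p ∣ Nat.card ((inl : N →* N ⋊[φ] _).range) := by
    rw [hKcard]
    exact hN
  have hW := wform hA hA2 hAK hK
  unfold WForm at hW
  -- left side
  rw [hKcard, PIB_aux_cent_all a z hc ha hz, Subgroup.card_map_of_injective hinl] at hW
  -- right side
  have hsub : subFinset ((inr : _ →* N ⋊[φ] _).range) = Finset.univ.image (inr : _ →* N ⋊[φ] _) := by
    ext g
    rw [mem_subFinset, Finset.mem_image]
    constructor
    · rintro ⟨e, rfl⟩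
      exact ⟨e, Finset.mem_univ _, rfl⟩
    · rintro ⟨e, _, rfl⟩
      exact ⟨e, rfl⟩
  rw [hsub, Finset.prod_image (fun x _ y _ h => hinr h)] at hW
  have hterm : ∀ e : Multiplicative (ZMod p) × Multiplicative (ZMod p),
      Nat.card ↥((inl : N →* N ⋊[φ] _).range ⊓
        Subgroup.centralizer ({(inr e : N ⋊[φ] _)} : Set (N ⋊[φ] _)))
        = fx (a ^ (Multiplicative.toAdd e.1).val * z ^ (Multiplicative.toAdd e.2).val) := by
    intro e
    rw [PIB_aux_cent_single φ e, Subgroup.card_map_of_injective hinl]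
    rfl
  rw [Finset.prod_congr rfl (fun e _ => hterm e), Fintype.prod_prod_type] at hW
  -- products over `Multiplicative (ZMod p)` are products over `ZMod p`
  have hconv : ∀ F : ZMod p → ℕ, ∏ x : Multiplicative (ZMod p), F (Multiplicative.toAdd x)
      = ∏ i : ZMod p, F i := fun F => Equiv.prod_comp Multiplicative.toAdd F
  have hW2 : Nat.card N ^ p * fx2 a z ^ (p * (p - 1))
      = ∏ i : ZMod p, ∏ j : ZMod p, fx (a ^ i.val * z ^ j.val) := by
    rw [← hconv (fun i => ∏ j : ZMod p, fx (a ^ i.val * z ^ j.val))]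
    have : ∀ x : Multiplicative (ZMod p),
        ∏ y : Multiplicative (ZMod p), fx (a ^ (Multiplicative.toAdd x).val *
          z ^ (Multiplicative.toAdd y).val)
        = ∏ j : ZMod p, fx (a ^ (Multiplicative.toAdd x).val * z ^ j.val) :=
      fun x => hconv (fun j => fx (a ^ (Multiplicative.toAdd x).val * z ^ j.val))
    rw [← Finset.prod_congr rfl (fun x _ => this x)]
    exact hW
  -- regroup
  set Q := ∏ c : ZMod p, fx (a * z ^ c.val) with hQ
  have hrows : ∏ i : ZMod p, ∏ j : ZMod p, fx (a ^ i.val * z ^ j.val)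
      = Nat.card N * fx z ^ (p - 1) * Q ^ (p - 1) := by
    rw [← Finset.mul_prod_erase Finset.univ _ (Finset.mem_univ (0 : ZMod p))]
    congr 1
    · have : ∀ j : ZMod p, fx (a ^ (0 : ZMod p).val * z ^ j.val) = fx (z ^ j.val) := by
        intro j
        rw [ZMod.val_zero, pow_zero, one_mul]
      rw [Finset.prod_congr rfl (fun j _ => this j), PIB_aux_row_zero z hz]
    · rw [Finset.prod_congr rfl (g := fun _ => Q)]
      · rw [Finset.prod_const, Finset.card_erase_of_mem (Finset.mem_univ _), Finset.card_univ,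
          ZMod.card]
      · intro i hi
        exact PIB_aux_row a z hc ha hz i (Finset.ne_of_mem_erase hi)
  have hQ' : Q = ∏ i ∈ Finset.range p, fx (a * z ^ i) :=
    PIB_aux_prod_zmod (fun i => fx (a * z ^ i))
  rw [hrows] at hW2
  -- arithmetic
  have hNpos : 0 < Nat.card N := Nat.card_pos
  have hp1 : p - 1 ≠ 0 := Nat.sub_ne_zero_of_lt hpp.one_lt
  have heq : Nat.card N * (Nat.card N * fx2 a z ^ p) ^ (p - 1)
      = Nat.card N * (fx z * Q) ^ (p - 1) := by
    rw [mul_pow, mul_pow, ← pow_mul, ← mul_assoc, ← pow_succ', ← mul_assoc]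
    have : p - 1 + 1 = p := Nat.sub_add_cancel hpp.one_le
    rw [this]
    exact hW2
  have heq2 := Nat.eq_of_mul_eq_mul_left hNpos heq
  have heq3 := Nat.pow_left_injective hp1 heq2
  rw [← hQ', ← heq3]

end main

end Cfsg.Agent.S4091P
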