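import Mathlib
import Cfsg.Agent.Helper2.S4130Defs
import Cfsg.Agent.Helper9.Burnside
import Cfsg.Agent.Helper18.FocalFusion

set_option autoImplicit false

/-! Board `s4130pieces`, piece A0: every element is uniquely (p-element)*(p'-element), commuting. -/

namespace Cfsg.Agent.S4130P

open Subgroup

/-- if `z` is a `p`-element, `y` a `p'`-element and they commute then `z` is a power of `z * y` -/
theorem A0_aux_left {G : Type*} [Group G] {p : ℕ} [Fact p.Prime] {z y : G} (hz : IsPEl p z)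
    (hy : IsPpEl p y) (hc : z * y = y * z) : ∃ n : ℕ, (z * y) ^ n = z := by
  obtain ⟨k, hk⟩ := hz
  have hcop : Nat.Coprime (orderOf y) (orderOf z) := by
    rw [hk]; exact Nat.Coprime.pow_right k hy
  obtain ⟨m, hm⟩ := exists_pow_eq_self_of_coprime hcop
  refine ⟨orderOf y * m, ?_⟩
  have hcm : Commute z y := hc
  rw [pow_mul, hcm.mul_pow, pow_orderOf_eq_one, mul_one, hm]

/-- if `z` is a `p`-element, `y` a `p'`-element and they commute then `y` is a power of `z * y` -/
theorem A0_aux_right {G : Type*} [Group G] {p : ℕ} [Fact p.Prime] {z y : G} (hz : IsPEl p z)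
    (hy : IsPpEl p y) (hc : z * y = y * z) : ∃ n : ℕ, (z * y) ^ n = y := by
  obtain ⟨k, hk⟩ := hz
  have hcop : Nat.Coprime (orderOf z) (orderOf y) := by
    rw [hk]; exact (Nat.Coprime.pow_right k hy).symm
  obtain ⟨m, hm⟩ := exists_pow_eq_self_of_coprime hcop
  refine ⟨orderOf z * m, ?_⟩
  have hcm : Commute z y := hc
  rw [pow_mul, hcm.mul_pow, pow_orderOf_eq_one, one_mul, hm]

/-- uniqueness of the decomposition -/
theorem A0_aux_unique {G : Type*} [Group G] [Finite G] {p : ℕ} [Fact p.Prime] {z y z' y' : G}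
    (hz : IsPEl p z) (hy : IsPpEl p y) (hc : z * y = y * z)
    (hz' : IsPEl p z') (hy' : IsPpEl p y') (hc' : z' * y' = y' * z')
    (h : z * y = z' * y') : z = z' ∧ y = y' := by
  have hp : p.Prime := Fact.out
  obtain ⟨n1, hn1⟩ := A0_aux_left hz' hy' hc'
  obtain ⟨n2, hn2⟩ := A0_aux_right hz' hy' hc'
  -- z and y commute with h = z * y, hence with z' and y'
  have hzh : Commute z (z * y) := by
    show z * (z * y) = z * y * z
    rw [mul_assoc, hc]
  have hyh : Commute y (z * y) := by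
    show y * (z * y) = z * y * y
    rw [← mul_assoc, ← hc]
  have hzz' : Commute z z' := by
    rw [← hn1, ← h]; exact hzh.pow_right n1
  have hyy' : Commute y y' := by
    rw [← hn2, ← h]; exact hyh.pow_right n2
  -- w = z'⁻¹ z = y' y⁻¹
  have hw : z'⁻¹ * z = y' * y⁻¹ := by
    have : z = z' * y' * y⁻¹ := by rw [← h]; group
    calc z'⁻¹ * z = z'⁻¹ * (z' * y' * y⁻¹) := by rw [← this]
      _ = y' * y⁻¹ := by group
  obtain ⟨k, hk⟩ := hz
  obtain ⟨k', hk'⟩ := hz'
  have h1 : (z'⁻¹ * z) ^ (p ^ (k + k')) = 1 := by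
    have hcm : Commute z'⁻¹ z := hzz'.symm.inv_left
    rw [hcm.mul_pow, inv_pow]
    have e1 : z' ^ (p ^ (k + k')) = 1 := by
      rw [pow_add, mul_comm, pow_mul, ← hk', pow_orderOf_eq_one, one_pow]
    have e2 : z ^ (p ^ (k + k')) = 1 := by
      rw [pow_add, pow_mul, ← hk, pow_orderOf_eq_one, one_pow]
    rw [e1, e2, inv_one, one_mul]
  have h2 : (z'⁻¹ * z) ^ (orderOf y * orderOf y') = 1 := by
    rw [hw]
    have hcm : Commute y' y⁻¹ := hyy'.symm.inv_right
    rw [hcm.mul_pow, inv_pow]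
    have e1 : y' ^ (orderOf y * orderOf y') = 1 := by
      rw [mul_comm, pow_mul, pow_orderOf_eq_one, one_pow]
    have e2 : y ^ (orderOf y * orderOf y') = 1 := by
      rw [pow_mul, pow_orderOf_eq_one, one_pow]
    rw [e1, e2, inv_one, mul_one]
  have hd1 : orderOf (z'⁻¹ * z) ∣ p ^ (k + k') := orderOf_dvd_of_pow_eq_one h1
  have hd2 : orderOf (z'⁻¹ * z) ∣ orderOf y * orderOf y' := orderOf_dvd_of_pow_eq_one h2
  have hcop : Nat.Coprime (p ^ (k + k')) (orderOf y * orderOf y') :=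
    Nat.Coprime.pow_left _ (Nat.Coprime.mul_right hy.symm hy'.symm)
  have h1' : orderOf (z'⁻¹ * z) = 1 :=
    Nat.eq_one_of_dvd_coprimes hcop hd1 hd2
  have hwz : z'⁻¹ * z = 1 := orderOf_eq_one_iff.1 h1'
  have hzz : z = z' := by
    have := congrArg (fun t => z' * t) hwz
    simpa using this
  refine ⟨hzz, ?_⟩
  rw [hzz] at h
  exact mul_left_cancel h

/-- A0: every element is uniquely (p-element)*(p'-element), commuting. -/
theorem A0 (p : ℕ) [Fact p.Prime] (G : Type*) [Group G] [Finite G] :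
    Nat.card (Pall p G) = Nat.card G := by
  apply Nat.card_congr
  refine Equiv.ofBijective (fun zy : Pall p G => zy.1.1 * zy.1.2) ⟨?_, ?_⟩
  · rintro ⟨⟨z, y⟩, hz, hy, hc⟩ ⟨⟨z', y'⟩, hz', hy', hc'⟩ h
    obtain ⟨e1, e2⟩ := A0_aux_unique hz hy hc hz' hy' hc' h
    apply Subtype.ext
    exact Prod.ext e1 e2
  · intro g
    obtain ⟨x, y, hxy, hx, hy, hxp, hyp⟩ := Cfsg.Agent.Helper18.exists_pPart_decomp p g
    have hcomm : x * y = y * x := by
      obtain ⟨i, rfl⟩ := Subgroup.mem_zpowers_iff.1 hx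
      obtain ⟨j, rfl⟩ := Subgroup.mem_zpowers_iff.1 hy
      rw [← zpow_add, ← zpow_add, add_comm]
    exact ⟨⟨(x, y), hxp, hyp, hcomm⟩, hxy.symm⟩

end Cfsg.Agent.S4130P
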