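import Mathlib
import Cfsg.Agent.Helper2.S4130Defs
import Cfsg.Agent.Helper7.S4130DIV
import Cfsg.Agent.Helper19.S4130A0

/-! Board `s4130pieces`, piece PK2a. -/

set_option autoImplicit false

namespace Cfsg.Agent.S4130P

universe u

open Subgroup

/-- (PK2a) `x` a `q'`-element not centralizing the normal `q`-subgroup `Q` of an (SQ)-group:
`C_Q(x)` is abelian. -/
theorem PK2a {G : Type*} [Group G] [Finite G] (h : SqfCls G) (q : ℕ) [Fact q.Prime]
    (Q : Subgroup G) [Q.Normal] (hQ : IsPGroup q Q) (x : G) (hx : (orderOf x).Coprime q)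
    (hxQ : x ∉ centralizer (Q : Set G)) :
    ∀ y ∈ Q ⊓ centralizer ({x} : Set G), ∀ z ∈ Q ⊓ centralizer ({x} : Set G), y * z = z * y := by
  have hq : q.Prime := Fact.out
  -- `|Q : C_Q(x)| = q`
  have hidx : (centralizer ({x} : Set G)).relIndex Q = q := by
    rcases DIVR h Q q hQ x with h1 | h1
    · exfalso
      apply hxQ
      rw [relIndex_eq_one] at h1
      rw [mem_centralizer_iff]
      intro y hy
      have := h1 hy
      rw [mem_centralizer_iff] at this
      exact (this x rfl).symm
    · exact h1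
  intro y hy z hz
  obtain ⟨hyQ, hyx⟩ := Subgroup.mem_inf.1 hy
  obtain ⟨hzQ, hzx⟩ := Subgroup.mem_inf.1 hz
  -- `y` is a `q`-element commuting with the `q'`-element `x`
  have hyq : IsPEl q y := by
    obtain ⟨k, hk⟩ := hQ ⟨y, hyQ⟩
    have hk' : y ^ (q ^ k) = 1 := by
      have := congrArg Subtype.val hk
      simpa using this
    obtain ⟨j, -, hj⟩ := (Nat.dvd_prime_pow hq).1 (orderOf_dvd_of_pow_eq_one hk')
    exact ⟨j, hj⟩
  have hcomm : y * x = x * y := by
    rw [mem_centralizer_iff] at hyx
    exact (hyx x rfl).symm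
  obtain ⟨n, hn⟩ := A0_aux_left hyq (show IsPpEl q x from hx) hcomm
  obtain ⟨m, hm⟩ := A0_aux_right hyq (show IsPpEl q x from hx) hcomm
  -- `C(y x) ≤ C(x)` and `C(y x) ≤ C(y)`
  have hle_x : centralizer ({y * x} : Set G) ≤ centralizer ({x} : Set G) := by
    intro g hg
    rw [mem_centralizer_iff] at hg ⊢
    intro t ht
    rw [Set.mem_singleton_iff] at ht
    have h1 : (y * x) * g = g * (y * x) := hg _ rfl
    have h2 : Commute g (y * x) := h1.symm
    have h3 : Commute g x := by rw [← hm]; exact h2.pow_right m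
    rw [ht]
    exact h3.symm
  have hle_y : centralizer ({y * x} : Set G) ≤ centralizer ({y} : Set G) := by
    intro g hg
    rw [mem_centralizer_iff] at hg ⊢
    intro t ht
    rw [Set.mem_singleton_iff] at ht
    have h1 : (y * x) * g = g * (y * x) := hg _ rfl
    have h2 : Commute g (y * x) := h1.symm
    have h3 : Commute g y := by rw [← hn]; exact h2.pow_right n
    rw [ht]
    exact h3.symm
  -- `|Q : C_Q(y x)| = q`
  have hidx2 : (centralizer ({y * x} : Set G)).relIndex Q = q := by
    have hdvd : (centralizer ({x} : Set G)).relIndex Q ∣ (centralizer ({y * x} : Set G)).relIndex Q :=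
      relIndex_dvd_of_le_left Q hle_x
    rw [hidx] at hdvd
    rcases DIVR h Q q hQ (y * x) with h1 | h1
    · rw [h1] at hdvd
      exact absurd (Nat.dvd_one.1 hdvd) hq.one_lt.ne'
    · exact h1
  -- hence `C_Q(x) ≤ C(y x)`
  have hle : (centralizer ({y * x} : Set G)).subgroupOf Q ≤ (centralizer ({x} : Set G)).subgroupOf Q :=
    subgroupOf_mono Q hle_x
  have hsub : (centralizer ({x} : Set G)).subgroupOf Q ≤ (centralizer ({y * x} : Set G)).subgroupOf Q := by
    rw [← relIndex_eq_one]
    have h1 := relIndex_mul_index hle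
    have e1 : ((centralizer ({x} : Set G)).subgroupOf Q).index = q := hidx
    have e2 : ((centralizer ({y * x} : Set G)).subgroupOf Q).index = q := hidx2
    rw [e1, e2] at h1
    exact Nat.eq_of_mul_eq_mul_right hq.pos (by rw [h1, one_mul])
  have hzw : z ∈ centralizer ({y * x} : Set G) := by
    have : (⟨z, hzQ⟩ : Q) ∈ (centralizer ({x} : Set G)).subgroupOf Q := by
      rw [mem_subgroupOf]; exact hzx
    have := hsub this
    rw [mem_subgroupOf] at this
    exact this
  have hzy := hle_y hzw
  rw [mem_centralizer_iff] at hzy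
  exact hzy y rfl

end Cfsg.Agent.S4130P
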