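import Mathlib
import Cfsg.Agent.Helper2.S4130Defs
import Cfsg.Agent.Helper9.Burnside

set_option autoImplicit false

/-! Board `s4130pieces`, piece SPLIT: pairs with central p-part are (P ∩ Z(G)) x U. -/

namespace Cfsg.Agent.S4130P

open Subgroup
open scoped Pointwise

/-- a central `p`-element lies in every Sylow `p`-subgroup -/
theorem SPLIT_aux_mem {G : Type*} [Group G] [Finite G] {p : ℕ} [Fact p.Prime] (P : Sylow p G)
    {z : G} (hz : IsPEl p z) (hzc : z ∈ center G) : z ∈ (P : Subgroup G) := by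
  obtain ⟨k, hk⟩ := hz
  have hpg : IsPGroup p (Subgroup.zpowers z) := by
    apply IsPGroup.of_card (n := k)
    rw [Nat.card_zpowers, hk]
  obtain ⟨Q, hQ⟩ := hpg.exists_le_sylow
  obtain ⟨g, hg⟩ := MulAction.exists_smul_eq G Q P
  have hzQ : z ∈ (Q : Subgroup G) := hQ (Subgroup.mem_zpowers z)
  have h1 : MulAut.conj g • z ∈ MulAut.conj g • (Q : Subgroup G) :=
    Subgroup.smul_mem_pointwise_smul _ _ _ hzQ
  rw [← Sylow.coe_subgroup_smul, hg] at h1
  have h2 : MulAut.conj g • z = z := by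
    rw [MulAut.smul_def, MulAut.conj_apply]
    have := Subgroup.mem_center_iff.1 hzc g
    rw [this, mul_inv_cancel_right]
  rwa [h2] at h1

/-- the elements of a Sylow `p`-subgroup are `p`-elements -/
theorem SPLIT_aux_isPEl {G : Type*} [Group G] {p : ℕ} [Fact p.Prime] (P : Sylow p G)
    {z : G} (hz : z ∈ (P : Subgroup G)) : IsPEl p z := by
  have hp : p.Prime := Fact.out
  obtain ⟨k, hk⟩ := P.2 ⟨z, hz⟩
  have hk' : z ^ (p ^ k) = 1 := by
    have := congrArg Subtype.val hk
    simpa using this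
  obtain ⟨j, -, hj⟩ := (Nat.dvd_prime_pow hp).1 (orderOf_dvd_of_pow_eq_one hk')
  exact ⟨j, hj⟩

/-- `Pin ≃ (P ⊓ Z(G)) × Uset` -/
theorem SPLIT_aux_pin {G : Type*} [Group G] [Finite G] {p : ℕ} [Fact p.Prime] (P : Sylow p G) :
    Nat.card (Pin p G) =
      Nat.card ((P : Subgroup G) ⊓ center G : Subgroup G) * Nat.card (Uset p G) := by
  rw [← Nat.card_prod]
  apply Nat.card_congr
  refine
    { toFun := fun zy => (⟨zy.1.1, Subgroup.mem_inf.2 ⟨SPLIT_aux_mem P zy.2.1.1 zy.2.2, zy.2.2⟩⟩,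
        ⟨zy.1.2, zy.2.1.2.1⟩)
      invFun := fun ab => ⟨(ab.1.1, ab.2.1),
        ⟨SPLIT_aux_isPEl P (Subgroup.mem_inf.1 ab.1.2).1, ab.2.2,
          ((Subgroup.mem_center_iff.1 (Subgroup.mem_inf.1 ab.1.2).2 ab.2.1)).symm⟩,
        (Subgroup.mem_inf.1 ab.1.2).2⟩
      left_inv := fun zy => by
        apply Subtype.ext
        rfl
      right_inv := fun ab => by
        apply Prod.ext
        · apply Subtype.ext; rfl
        · apply Subtype.ext; rfl }

/-- SPLIT: pairs with central p-part are (P ∩ Z(G)) x U. -/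
theorem SPLIT {G : Type*} [Group G] [Finite G] {p : ℕ} [Fact p.Prime] (P : Sylow p G) :
    Nat.card (Pall p G) =
      Nat.card ((P : Subgroup G) ⊓ center G : Subgroup G) * Nat.card (Uset p G) +
        Nat.card (Pout p G) := by
  rw [← SPLIT_aux_pin P]
  have hU : Pall p G = Pin p G ∪ Pout p G := by
    ext zy
    constructor
    · intro h
      by_cases hc : zy.1 ∈ center G
      · exact Or.inl ⟨h, hc⟩
      · exact Or.inr ⟨h, hc⟩
    · rintro (h | h)
      · exact h.1
      · exact h.1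
  have hD : Disjoint (Pin p G) (Pout p G) := by
    rw [Set.disjoint_left]
    intro zy h1 h2
    exact h2.2 h1.2
  rw [Nat.card_coe_set_eq, Nat.card_coe_set_eq, Nat.card_coe_set_eq, hU]
  exact Set.ncard_union_eq hD (Set.toFinite _) (Set.toFinite _)

end Cfsg.Agent.S4130P
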