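import Mathlib
import Cfsg.Agent.Helper27.S4150Defs

/-!
# S4150 piece PRIMQ (helper19)

A permutation group of prime degree `q` containing an element of order `q` is primitive:
the element is a full `q`-cycle (`Equiv.Perm.isCycle_of_prime_order''`), hence the group is
transitive, and a transitive group of prime degree is primitive
(`MulAction.IsPreprimitive.of_prime_card`).
-/

set_option autoImplicit false

namespace Cfsg.Agent.S4150P

open Equiv Equiv.Perm MulAction

section
variable {α : Type*} [Fintype α] [DecidableEq α]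

namespace PRIMQ

theorem isCycle_full {q : ℕ} (hq : q.Prime) (hcard : Fintype.card α = q) (y : Perm α)
    (hyo : orderOf y = q) : y.IsCycle ∧ y.support = Finset.univ := by
  have hc : y.IsCycle := Equiv.Perm.isCycle_of_prime_order'' (hcard ▸ hq) (by rw [hyo, hcard])
  refine ⟨hc, ?_⟩
  apply Finset.eq_univ_of_card
  rw [← hc.orderOf, hyo, hcard]

theorem pretransitive {q : ℕ} (hq : q.Prime) (hcard : Fintype.card α = q)
    (G : Subgroup (Perm α)) (y : Perm α) (hy : y ∈ G) (hyo : orderOf y = q) :
    IsPretransitive G α := by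
  obtain ⟨hc, hs⟩ := isCycle_full hq hcard y hyo
  refine ⟨fun a b => ?_⟩
  have ha : y a ≠ a := by
    rw [← Equiv.Perm.mem_support, hs]; exact Finset.mem_univ a
  have hb : y b ≠ b := by
    rw [← Equiv.Perm.mem_support, hs]; exact Finset.mem_univ b
  obtain ⟨i, hi⟩ := hc.sameCycle ha hb
  exact ⟨⟨y ^ i, G.zpow_mem hy i⟩, hi⟩

end PRIMQ

/-- PRIMQ [S]: a group of prime degree `q` containing an element of order `q` is primitive. -/
theorem PRIMQ.main (H : Subgroup (Perm α)) {q : ℕ} (hq : q.Prime) (hα : Fintype.card α = q)
    {y : Perm α} (hy : y ∈ H) (hyo : orderOf y = q) : IsPreprimitive H α := by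
  haveI := PRIMQ.pretransitive hq hα H y hy hyo
  apply IsPreprimitive.of_prime_card
  rw [Nat.card_eq_fintype_card, hα]; exact hq

end

end Cfsg.Agent.S4150P
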