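import Mathlib
import Cfsg.Agent.Helper27.S4150Defs
import Cfsg.Agent.Helper19.S4150PRIMQ
import Cfsg.Agent.Helper4.DegreeSeven
import Cfsg.Agent.Helper4.PrimeDegreeIndex
import Cfsg.Agent.Helper11.PermSylow

/-!
# S4150 piece T7 (helper19)

A permutation group `H` of degree 7 containing an element of order 5 and an element of order 7
contains `A₇`.  `H` is transitive (the element of order 7 is a 7-cycle).  If `H` is not solvable
and does not contain `A₇`, then `|H| = 168` (`Helper4.DegreeSeven.card_eq`, i.e. S0678), which is
not divisible by 5.  If `H` is solvable, its Sylow 7-subgroup `P` is normal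
(`Helper4.PrimeDegreeIndex.sylow_normal_of_solvable`), `P` is a Sylow 7-subgroup of `Perm α`, so
`H ≤ N(P)` of order 42 (`Helper11.card_normalizer_sylow_perm`, i.e. S0989), again not divisible
by 5.
-/

set_option autoImplicit false

namespace Cfsg.Agent.S4150P

open Equiv Equiv.Perm MulAction

section
variable {α : Type*} [Fintype α] [DecidableEq α]

namespace T7

/-- A solvable transitive group of degree 7 has order dividing 42. -/
theorem card_dvd_of_solvable (hα : Fintype.card α = 7) (H : Subgroup (Perm α))
    [IsPretransitive H α] (hsolv : Group.IsSolvable H) : Nat.card H ∣ 42 := by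
  haveI : Fact (Nat.Prime 7) := ⟨by norm_num⟩
  have P : Sylow 7 H := default
  haveI hPn : (P : Subgroup H).Normal :=
    Cfsg.Agent.Helper4.PrimeDegreeIndex.sylow_normal_of_solvable hα H hsolv P
  have hPc : Nat.card (P : Subgroup H) = 7 := Cfsg.Agent.Helper4.PrimeDegree3.sylow_card hα H P
  have hQc : Nat.card ((P : Subgroup H).map H.subtype) = 7 := by
    rw [Subgroup.card_subtype]; exact hPc
  have hfac : (Nat.card (Perm α)).factorization 7 = 1 := by
    rw [Nat.card_perm, Nat.card_eq_fintype_card, hα]
    have h1 : (7 : ℕ).factorial = 7 ^ 1 * 720 := by decide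
    rw [h1, Nat.factorization_mul (by norm_num) (by norm_num), Nat.Prime.factorization_pow (by norm_num)]
    simp only [Finsupp.coe_add, Pi.add_apply, Finsupp.single_eq_same]
    have : (720 : ℕ).factorization 7 = 0 := by
      apply Nat.factorization_eq_zero_of_not_dvd; norm_num
    rw [this]
  let Q : Sylow 7 (Perm α) := Sylow.ofCard ((P : Subgroup H).map H.subtype) (by rw [hQc, hfac, pow_one])
  have hN := (Cfsg.Agent.Helper11.card_normalizer_sylow_perm 7 (Or.inl hα) Q).2
  have hle : H ≤ Subgroup.normalizer ((Q : Subgroup (Perm α)) : Set (Perm α)) := by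
    have h1 : (Subgroup.normalizer ((P : Subgroup H) : Set H)).map H.subtype ≤
        Subgroup.normalizer (((P : Subgroup H).map H.subtype : Subgroup (Perm α)) : Set (Perm α)) :=
      Subgroup.le_normalizer_map H.subtype
    rw [Subgroup.normalizer_eq_top] at h1
    have h2 : (⊤ : Subgroup H).map H.subtype = H := by
      rw [← MonoidHom.range_eq_map, Subgroup.range_subtype]
    rw [h2] at h1
    exact h1
  have := Subgroup.card_dvd_of_le hle
  rw [hN] at this
  exact this

end T7

/-- T7 [M]: `Cfsg.Agent.S0678.result` (non-solvable, no `A₇` ⇒ order 168) and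
`Helper4.PrimeDegreeIndex.sylow_normal_of_solvable` + `Cfsg.Agent.S0989.result` (solvable ⇒ order
divides 42); `5 ∣ |H|`. -/
theorem T7.main (hα : Fintype.card α = 7) (H : Subgroup (Perm α)) {x y : Perm α} (hx : x ∈ H)
    (hy : y ∈ H) (hxo : orderOf x = 5) (hyo : orderOf y = 7) : alternatingGroup α ≤ H := by
  haveI : IsPretransitive H α := PRIMQ.pretransitive (by norm_num) hα H y hy hyo
  have h5 : 5 ∣ Nat.card H := by
    have := Subgroup.orderOf_dvd_natCard H hx
    rwa [hxo] at this
  by_contra hA
  by_cases hsolv : Group.IsSolvable H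
  · have h42 := T7.card_dvd_of_solvable hα H hsolv
    have := h5.trans h42
    norm_num at this
  · have h168 := (Cfsg.Agent.Helper4.DegreeSeven.card_eq hα H hsolv hA).2.1
    rw [h168] at h5
    norm_num at h5

end

end Cfsg.Agent.S4150P
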