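import Mathlib
import Cfsg.Agent.Helper26.S4394Defs

/-! # S4394 piece GQ: `GoodZ` passes to the quotient by a subgroup of `Z`. -/

set_option autoImplicit false

namespace Cfsg.Agent.S4394P

open Cfsg

/-- GQ (M): `GoodZ` passes to the quotient by a subgroup of `Z`. -/
theorem GQ {p : ℕ} {T : Type*} [Group T] (Z N : Subgroup T) [N.Normal] (hNZ : N ≤ Z)
    (h : GoodZ p T Z) : GoodZ p (T ⧸ N) (Z.map (QuotientGroup.mk' N)) := by
  obtain ⟨h1, h2, h3, h4, h5⟩ := h
  have hsurj : Function.Surjective (QuotientGroup.mk' N) := QuotientGroup.mk'_surjective N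
  have hker : (QuotientGroup.mk' N).ker = N := QuotientGroup.ker_mk' N
  have hcm : (Z.map (QuotientGroup.mk' N)).comap (QuotientGroup.mk' N) = Z := by
    rw [Subgroup.comap_map_eq, hker, sup_eq_left.2 hNZ]
  refine ⟨?_, ?_, ?_, ?_, ?_⟩
  · rintro _ ⟨z, hz, rfl⟩
    rw [Subgroup.mem_center_iff]
    intro g
    obtain ⟨g, rfl⟩ := hsurj g
    rw [← map_mul, ← map_mul, Subgroup.mem_center_iff.1 (h1 hz) g]
  · intro x y
    obtain ⟨x, rfl⟩ := hsurj x
    obtain ⟨y, rfl⟩ := hsurj y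
    exact ⟨x * y * x⁻¹ * y⁻¹, h2 x y, by simp⟩
  · intro x
    obtain ⟨x, rfl⟩ := hsurj x
    exact ⟨x ^ p, h3 x, by simp⟩
  · intro x hx z hz
    obtain ⟨x, rfl⟩ := hsurj x
    obtain ⟨z, hzZ, rfl⟩ := hz
    have hxZ : x ∉ Z := fun hxZ => hx ⟨x, hxZ, rfl⟩
    obtain ⟨t, ht⟩ := h4 x hxZ z hzZ
    exact ⟨QuotientGroup.mk' N t, by rw [← ht]; simp⟩
  · intro hp3 hidx A hZA hA N' hN'Z hN'ne
    have hidxZ : Z.index = p ^ 2 := by
      rw [← hidx, ← hcm, Subgroup.index_comap_of_surjective _ hsurj, hcm]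
    have hZA' : Z ≤ A.comap (QuotientGroup.mk' N) := by
      rw [← hcm]
      exact Subgroup.comap_mono hZA
    have hA' : (A.comap (QuotientGroup.mk' N)).index = p := by
      rw [Subgroup.index_comap_of_surjective _ hsurj, hA]
    have hN'Z' : N'.comap (QuotientGroup.mk' N) ≤ Z := by
      rw [← hcm]
      exact Subgroup.comap_mono hN'Z
    have hN'ne' : N'.comap (QuotientGroup.mk' N) ≠ Z := by
      intro he
      apply hN'ne
      rw [← Subgroup.map_comap_eq_self_of_surjective hsurj N', he]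
    obtain ⟨a, haA, hap⟩ := h5 hp3 hidxZ (A.comap (QuotientGroup.mk' N)) hZA' hA'
      (N'.comap (QuotientGroup.mk' N)) hN'Z' hN'ne'
    refine ⟨QuotientGroup.mk' N a, haA, ?_⟩
    intro hmem
    apply hap
    rw [Subgroup.mem_comap, map_pow]
    exact hmem

end Cfsg.Agent.S4394P
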