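import Mathlib
import Cfsg.Agent.Helper26.S4395Defs

set_option autoImplicit false

/-! Board `s4395pieces` (BND sub-board of helper27), piece BF1. -/

namespace Cfsg.Agent.S4395P

open Cfsg Cfsg.Agent.S4394P

/-- BF1 (M): the additive span `S` of the elements `ζ^k + ζ^(-k)` is closed under multiplication
and under inverses of nonzero elements, and is nonzero. -/
theorem BF1 (p q : ℕ) [Fact p.Prime] [Fact q.Prime] (hpq : p ≠ q)
    {F : Type*} [Field F] [Finite F] [CharP F p] (ζ : F) (hζ : orderOf ζ = q)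
    (S : AddSubgroup F)
    (hS : S = AddSubgroup.closure (Set.range fun k : ℤ => ζ ^ k + ζ ^ (-k))) :
    (∀ s ∈ S, ∀ t ∈ S, s * t ∈ S) ∧ (∀ s ∈ S, s ≠ 0 → s⁻¹ ∈ S) ∧ S ≠ ⊥ ∧ ζ + ζ⁻¹ ∈ S := by
  classical
  have hp : p.Prime := Fact.out
  have hq : q.Prime := Fact.out
  have hζ0 : ζ ≠ 0 := by
    intro h0
    rw [h0, orderOf_zero] at hζ
    exact hq.ne_zero hζ.symm
  have hgen : ∀ k : ℤ, ζ ^ k + ζ ^ (-k) ∈ S := by
    intro k
    rw [hS]
    exact AddSubgroup.subset_closure ⟨k, rfl⟩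
  -- products of generators
  have h1 : ∀ k l : ℤ, (ζ ^ k + ζ ^ (-k)) * (ζ ^ l + ζ ^ (-l)) ∈ S := by
    intro k l
    have e : (ζ ^ k + ζ ^ (-k)) * (ζ ^ l + ζ ^ (-l))
        = (ζ ^ (k + l) + ζ ^ (-(k + l))) + (ζ ^ (k - l) + ζ ^ (-(k - l))) := by
      have a1 : ζ ^ (k + l) = ζ ^ k * ζ ^ l := zpow_add₀ hζ0 k l
      have a2 : ζ ^ (-(k + l)) = ζ ^ (-k) * ζ ^ (-l) := by
        rw [neg_add, zpow_add₀ hζ0]
      have a3 : ζ ^ (k - l) = ζ ^ k * ζ ^ (-l) := by
        rw [sub_eq_add_neg, zpow_add₀ hζ0]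
      have a4 : ζ ^ (-(k - l)) = ζ ^ (-k) * ζ ^ l := by
        rw [neg_sub, sub_eq_add_neg, add_comm, zpow_add₀ hζ0]
      rw [a1, a2, a3, a4]
      ring
    rw [e]
    exact S.add_mem (hgen _) (hgen _)
  have h2 : ∀ k : ℤ, ∀ t ∈ S, (ζ ^ k + ζ ^ (-k)) * t ∈ S := by
    intro k
    have hle : AddSubgroup.closure (Set.range fun k : ℤ => ζ ^ k + ζ ^ (-k))
        ≤ AddSubgroup.comap (AddMonoidHom.mulLeft (ζ ^ k + ζ ^ (-k))) S := by
      rw [AddSubgroup.closure_le]
      rintro _ ⟨l, rfl⟩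
      exact h1 k l
    intro t ht
    rw [hS] at ht
    exact hle ht
  have hmul : ∀ s ∈ S, ∀ t ∈ S, s * t ∈ S := by
    intro s hs t ht
    have hle : AddSubgroup.closure (Set.range fun k : ℤ => ζ ^ k + ζ ^ (-k))
        ≤ AddSubgroup.comap (AddMonoidHom.mulRight t) S := by
      rw [AddSubgroup.closure_le]
      rintro _ ⟨k, rfl⟩
      exact h2 k t ht
    rw [hS] at hs
    exact hle hs
  have hone : ζ + ζ⁻¹ ∈ S := by
    have := hgen 1
    rwa [zpow_one, zpow_neg_one] at this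
  refine ⟨hmul, ?_, ?_, hone⟩
  · intro s hs hs0
    have hpow : ∀ m : ℕ, s ^ (m + 1) ∈ S := by
      intro m
      induction m with
      | zero => simpa using hs
      | succ m ih => rw [pow_succ]; exact hmul _ ih _ hs
    let _inst : Fintype F := Fintype.ofFinite F
    have hN : s ^ (Fintype.card F - 1) = 1 := FiniteField.pow_card_sub_one_eq_one s hs0
    have hcard : 2 ≤ Fintype.card F := Fintype.one_lt_card
    obtain ⟨n, hn⟩ : ∃ n, Fintype.card F - 1 = n + 1 := ⟨Fintype.card F - 2, by omega⟩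
    rw [hn] at hN
    -- s⁻¹ = s ^ (2 n + 1)
    have e : s⁻¹ = s ^ (2 * n + 1 + 0) := by
      have h3 : s ^ (2 * n + 1) * s = 1 := by
        rw [← pow_succ]
        have : 2 * n + 1 + 1 = (n + 1) * 2 := by ring
        rw [this, pow_mul, hN, one_pow]
      rw [add_zero]
      exact (eq_inv_of_mul_eq_one_left h3).symm
    rw [e, add_zero]
    exact hpow (2 * n)
  · intro hbot
    have h20 : (ζ ^ (0 : ℤ) + ζ ^ (-(0 : ℤ))) ∈ S := hgen 0
    rw [hbot, AddSubgroup.mem_bot] at h20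
    rw [hbot, AddSubgroup.mem_bot] at hone
    have h2 : (2 : F) = 0 := by
      have : (1 : F) + 1 = 0 := by simpa using h20
      rw [← this]; norm_num
    have hp2 : p = 2 := by
      have : ((2 : ℕ) : F) = 0 := by exact_mod_cast h2
      have hd : p ∣ 2 := (CharP.cast_eq_zero_iff F p 2).1 this
      exact (Nat.prime_dvd_prime_iff_eq hp Nat.prime_two).1 hd
    have hz2 : ζ ^ 2 = 1 := by
      have e1 : ζ * ζ + 1 = 0 := by
        have : ζ * (ζ + ζ⁻¹) = 0 := by rw [hone, mul_zero]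
        rw [mul_add, mul_inv_cancel₀ hζ0] at this
        exact this
      have e2 : ζ * ζ = -1 := eq_neg_of_add_eq_zero_left e1
      have e3 : (-1 : F) = 1 := by
        have : (1 : F) + 1 = 0 := by rw [← h2]; norm_num
        exact (eq_neg_of_add_eq_zero_left this).symm
      rw [pow_two, e2, e3]
    have hd : q ∣ 2 := by
      rw [← hζ]
      exact orderOf_dvd_of_pow_eq_one hz2
    have hq2 : q = 2 := (Nat.prime_dvd_prime_iff_eq hq Nat.prime_two).1 hd
    exact hpq (hp2.trans hq2.symm)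

end Cfsg.Agent.S4395P
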