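import Mathlib
import Cfsg.Agent.Helper26.S4395Defs

set_option autoImplicit false

/-! Board `s4395pieces`, piece ZETA: an element of order `q` in the field of order `p^a`,
`a` the multiplicative order of `p` modulo `q`. -/

namespace Cfsg.Agent.S4395P

open Cfsg

universe u

/-- ZETA (S): an element of order `q` in the field of order `p^a`. -/
theorem ZETA (p q : ℕ) [Fact p.Prime] [Fact q.Prime] (hpq : p ≠ q) :
    ∃ ζ : GaloisField p (orderOf (p : ZMod q)), orderOf ζ = q := by
  have hp : p.Prime := Fact.out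
  have hq : q.Prime := Fact.out
  have hpne : (p : ZMod q) ≠ 0 := by
    intro h
    have hdvd : q ∣ p := (ZMod.natCast_eq_zero_iff p q).1 h
    rcases (Nat.dvd_prime hp).1 hdvd with h1 | h1
    · exact hq.one_lt.ne' h1
    · exact hpq h1.symm
  have hfin : IsOfFinOrder (p : ZMod q) :=
    isOfFinOrder_iff_pow_eq_one.2 ⟨q - 1, Nat.sub_pos_of_lt hq.one_lt, ZMod.pow_card_sub_one_eq_one hpne⟩
  have ha0 : 0 < orderOf (p : ZMod q) := orderOf_pos_iff.2 hfin
  set a := orderOf (p : ZMod q) with ha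
  have hpa : (p : ZMod q) ^ a = 1 := pow_orderOf_eq_one _
  have h1le : 1 ≤ p ^ a := Nat.one_le_pow _ _ hp.pos
  have hdvd : q ∣ p ^ a - 1 := by
    rw [← ZMod.natCast_eq_zero_iff, Nat.cast_sub h1le, Nat.cast_pow, hpa, Nat.cast_one, sub_self]
  have hcard : Nat.card (GaloisField p a)ˣ = p ^ a - 1 := by
    rw [Nat.card_units, GaloisField.card p a ha0.ne']
  obtain ⟨x, hx⟩ := exists_prime_orderOf_dvd_card' (G := (GaloisField p a)ˣ) q (by rw [hcard]; exact hdvd)
  exact ⟨(x : GaloisField p a), by rw [orderOf_units]; exact hx⟩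

end Cfsg.Agent.S4395P
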