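import Mathlib

/-! s4404pieces EXL73, abstract core.  `A` a finite additive group of exponent `2` and order `64`, `ζ : A →+ A` with `ζ^7 = 1` and
no nonzero fixed point; a `7`-group `Γ` acts on `A` commuting with `ζ`.  Then `A` has two `Γ`-invariant subgroups of order `8`
meeting trivially: with `φ₁ = ζ³+ζ+1`, `φ₂ = ζ³+ζ²+1` (`φ₁φ₂ = 0`) either both kernels have order `8`, or one `φᵢ` vanishes,
the nine `ζ`-invariant subgroups of order `8` partition `A ∖ 0`, and `9 ≡ 2` mod `7`. -/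

set_option autoImplicit false

namespace Cfsg.Agent.S4404P

open scoped Pointwise

variable {A : Type*} [AddCommGroup A] [Finite A]

/-- hypotheses on `ζ` -/
structure EXL73_aux_Z (ζ : A →+ A) : Prop where
  h2 : ∀ a : A, a + a = 0
  h7 : ∀ a : A, ζ (ζ (ζ (ζ (ζ (ζ (ζ a)))))) = a
  hfix : ∀ a : A, ζ a = a → a = 0
  hcard : Nat.card A = 64

variable {ζ : A →+ A}

/-- a `ζ`-invariant subgroup has order `≡ 1` mod `7` -/
theorem EXL73_aux_card_modEq (Z : EXL73_aux_Z ζ) (X : AddSubgroup A) (hX : ∀ x ∈ X, ζ x ∈ X) :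
    Nat.card ↥X ≡ 1 [MOD 7] := by
  classical
  have : Fact (Nat.Prime 7) := ⟨by norm_num⟩
  let _ : Fintype ↥X := Fintype.ofFinite _
  let f : Function.End ↥X := fun x => ⟨ζ x, hX x x.2⟩
  have hf : f ^ 7 ^ 1 = 1 := by
    rw [pow_one]
    funext x
    apply Subtype.ext
    simp only [pow_succ, pow_zero, one_mul, Function.End.mul_def]
    exact Z.h7 x
  have h := Equiv.Perm.card_fixedPoints_modEq (p := 7) (n := 1) hf
  have hfp : Fintype.card ↥(Function.fixedPoints f) = 1 := by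
    rw [Fintype.card_eq_one_iff]
    refine ⟨⟨0, ?_⟩, ?_⟩
    · show f 0 = 0
      apply Subtype.ext
      show ζ ((0 : ↥X) : A) = ((0 : ↥X) : A)
      simp
    · rintro ⟨x, hx⟩
      apply Subtype.ext
      have h0 : f x = x := hx
      have h1 : ζ (x : A) = (x : A) := congrArg Subtype.val h0
      exact Subtype.ext (Z.hfix _ h1)
  rw [Nat.card_eq_fintype_card]
  rw [hfp] at h
  exact h

/-- a `ζ`-invariant subgroup has order `1`, `8` or `64` -/
theorem EXL73_aux_card_cases (Z : EXL73_aux_Z ζ) (X : AddSubgroup A) (hX : ∀ x ∈ X, ζ x ∈ X) :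
    Nat.card ↥X = 1 ∨ Nat.card ↥X = 8 ∨ Nat.card ↥X = 64 := by
  have h1 := EXL73_aux_card_modEq Z X hX
  have h2 : Nat.card ↥X ∣ 64 := Z.hcard ▸ AddSubgroup.card_addSubgroup_dvd_card X
  generalize Nat.card ↥X = n at h1 h2
  have hle : n ≤ 64 := Nat.le_of_dvd (by norm_num) h2
  unfold Nat.ModEq at h1
  interval_cases n <;> omega

/-- `φ₁ = ζ³ + ζ + 1` -/
def EXL73_aux_phi1 (ζ : A →+ A) : A →+ A := ζ.comp (ζ.comp ζ) + ζ + AddMonoidHom.id A

/-- `φ₂ = ζ³ + ζ² + 1` -/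
def EXL73_aux_phi2 (ζ : A →+ A) : A →+ A := ζ.comp (ζ.comp ζ) + ζ.comp ζ + AddMonoidHom.id A

omit [Finite A] in
theorem EXL73_aux_phi1_apply (a : A) : EXL73_aux_phi1 ζ a = ζ (ζ (ζ a)) + ζ a + a := rfl

omit [Finite A] in
theorem EXL73_aux_phi2_apply (a : A) : EXL73_aux_phi2 ζ a = ζ (ζ (ζ a)) + ζ (ζ a) + a := rfl

omit [Finite A] in
/-- the norm `1 + ζ + … + ζ⁶` vanishes -/
theorem EXL73_aux_norm_zero (Z : EXL73_aux_Z ζ) (a : A) :
    a + ζ a + ζ (ζ a) + ζ (ζ (ζ a)) + ζ (ζ (ζ (ζ a))) + ζ (ζ (ζ (ζ (ζ a)))) + ζ (ζ (ζ (ζ (ζ (ζ a))))) = 0 := by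
  apply Z.hfix
  simp only [map_add, Z.h7]
  abel

omit [Finite A] in
theorem EXL73_aux_phi12 (Z : EXL73_aux_Z ζ) (a : A) : EXL73_aux_phi1 ζ (EXL73_aux_phi2 ζ a) = 0 := by
  have hN := EXL73_aux_norm_zero Z a
  have h3 := Z.h2 (ζ (ζ (ζ a)))
  simp only [EXL73_aux_phi1_apply, EXL73_aux_phi2_apply, map_add]
  calc _ = (a + ζ a + ζ (ζ a) + ζ (ζ (ζ a)) + ζ (ζ (ζ (ζ a))) + ζ (ζ (ζ (ζ (ζ a)))) + ζ (ζ (ζ (ζ (ζ (ζ a))))))
        + (ζ (ζ (ζ a)) + ζ (ζ (ζ a))) := by abel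
    _ = 0 := by rw [hN, h3, add_zero]

omit [Finite A] in
theorem EXL73_aux_phi21 (Z : EXL73_aux_Z ζ) (a : A) : EXL73_aux_phi2 ζ (EXL73_aux_phi1 ζ a) = 0 := by
  have hN := EXL73_aux_norm_zero Z a
  have h3 := Z.h2 (ζ (ζ (ζ a)))
  simp only [EXL73_aux_phi1_apply, EXL73_aux_phi2_apply, map_add]
  calc _ = (a + ζ a + ζ (ζ a) + ζ (ζ (ζ a)) + ζ (ζ (ζ (ζ a))) + ζ (ζ (ζ (ζ (ζ a)))) + ζ (ζ (ζ (ζ (ζ (ζ a))))))
        + (ζ (ζ (ζ a)) + ζ (ζ (ζ a))) := by abel
    _ = 0 := by rw [hN, h3, add_zero]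

omit [Finite A] in
/-- `ζ` is injective -/
theorem EXL73_aux_eq_zero (Z : EXL73_aux_Z ζ) {a : A} (h : ζ a = 0) : a = 0 := by
  have := Z.h7 a
  rw [h] at this
  simpa using this.symm

omit [Finite A] in
/-- the kernels meet trivially -/
theorem EXL73_aux_ker_inf (Z : EXL73_aux_Z ζ) : (EXL73_aux_phi1 ζ).ker ⊓ (EXL73_aux_phi2 ζ).ker = ⊥ := by
  rw [eq_bot_iff]
  intro a ha
  have h1 : a ∈ (EXL73_aux_phi1 ζ).ker := ha.1
  have h2 : a ∈ (EXL73_aux_phi2 ζ).ker := ha.2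
  rw [AddMonoidHom.mem_ker, EXL73_aux_phi1_apply] at h1
  rw [AddMonoidHom.mem_ker, EXL73_aux_phi2_apply] at h2
  rw [AddSubgroup.mem_bot]
  have h3 : ζ (ζ a) = ζ a := by
    have : ζ (ζ a) - ζ a = (ζ (ζ (ζ a)) + ζ (ζ a) + a) - (ζ (ζ (ζ a)) + ζ a + a) := by abel
    rw [h1, h2, sub_zero] at this
    exact sub_eq_zero.1 this
  exact EXL73_aux_eq_zero Z (Z.hfix _ h3)

omit [Finite A] in
/-- the kernels are invariant under every endomorphism commuting with `ζ` -/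
theorem EXL73_aux_ker1_inv {γ : A → A} (hγ0 : γ 0 = 0) (hγa : ∀ a b, γ (a + b) = γ a + γ b) (hγ : ∀ a, γ (ζ a) = ζ (γ a))
    {a : A} (ha : a ∈ (EXL73_aux_phi1 ζ).ker) : γ a ∈ (EXL73_aux_phi1 ζ).ker := by
  rw [AddMonoidHom.mem_ker, EXL73_aux_phi1_apply] at ha ⊢
  rw [← hγ, ← hγ, ← hγ, ← hγa, ← hγa, ha, hγ0]

omit [Finite A] in
theorem EXL73_aux_ker2_inv {γ : A → A} (hγ0 : γ 0 = 0) (hγa : ∀ a b, γ (a + b) = γ a + γ b) (hγ : ∀ a, γ (ζ a) = ζ (γ a))
    {a : A} (ha : a ∈ (EXL73_aux_phi2 ζ).ker) : γ a ∈ (EXL73_aux_phi2 ζ).ker := by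
  rw [AddMonoidHom.mem_ker, EXL73_aux_phi2_apply] at ha ⊢
  rw [← hγ, ← hγ, ← hγ, ← hγa, ← hγa, ha, hγ0]

/-- the trichotomy -/
theorem EXL73_aux_split (Z : EXL73_aux_Z ζ) :
    (Nat.card ↥(EXL73_aux_phi1 ζ).ker = 8 ∧ Nat.card ↥(EXL73_aux_phi2 ζ).ker = 8) ∨
      (∀ a, EXL73_aux_phi1 ζ a = 0) ∨ (∀ a, EXL73_aux_phi2 ζ a = 0) := by
  by_cases h1 : ∀ a, EXL73_aux_phi1 ζ a = 0
  · exact Or.inr (Or.inl h1)
  by_cases h2 : ∀ a, EXL73_aux_phi2 ζ a = 0
  · exact Or.inr (Or.inr h2)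
  left
  rw [not_forall] at h1 h2
  obtain ⟨a, ha⟩ := h1
  obtain ⟨b, hb⟩ := h2
  have hz : ∀ x, ζ x = ζ x := fun _ => rfl
  constructor
  · have hinv : ∀ x ∈ (EXL73_aux_phi1 ζ).ker, ζ x ∈ (EXL73_aux_phi1 ζ).ker := fun x hx =>
      EXL73_aux_ker1_inv (map_zero ζ) (map_add ζ) (fun _ => rfl) hx
    rcases EXL73_aux_card_cases Z _ hinv with h | h | h
    · exfalso
      have hbot := AddSubgroup.eq_bot_of_card_eq _ h
      have hm : EXL73_aux_phi2 ζ b ∈ (EXL73_aux_phi1 ζ).ker := by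
        rw [AddMonoidHom.mem_ker]; exact EXL73_aux_phi12 Z b
      rw [hbot, AddSubgroup.mem_bot] at hm
      exact hb hm
    · exact h
    · exfalso
      have htop := AddSubgroup.eq_top_of_card_eq _ (h.trans Z.hcard.symm)
      have hm : a ∈ (EXL73_aux_phi1 ζ).ker := by rw [htop]; exact AddSubgroup.mem_top a
      rw [AddMonoidHom.mem_ker] at hm
      exact ha hm
  · have hinv : ∀ x ∈ (EXL73_aux_phi2 ζ).ker, ζ x ∈ (EXL73_aux_phi2 ζ).ker := fun x hx =>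
      EXL73_aux_ker2_inv (map_zero ζ) (map_add ζ) (fun _ => rfl) hx
    rcases EXL73_aux_card_cases Z _ hinv with h | h | h
    · exfalso
      have hbot := AddSubgroup.eq_bot_of_card_eq _ h
      have hm : EXL73_aux_phi1 ζ a ∈ (EXL73_aux_phi2 ζ).ker := by
        rw [AddMonoidHom.mem_ker]; exact EXL73_aux_phi21 Z a
      rw [hbot, AddSubgroup.mem_bot] at hm
      exact ha hm
    · exact h
    · exfalso
      have htop := AddSubgroup.eq_top_of_card_eq _ (h.trans Z.hcard.symm)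
      have hm : b ∈ (EXL73_aux_phi2 ζ).ker := by rw [htop]; exact AddSubgroup.mem_top b
      rw [AddMonoidHom.mem_ker] at hm
      exact hb hm

/-- a subgroup generated by three elements has order at most `8` -/
theorem EXL73_aux_card_closure_le (h2 : ∀ a : A, a + a = 0) (a b c : A) :
    Nat.card ↥(AddSubgroup.closure ({a, b, c} : Set A)) ≤ 8 := by
  classical
  have : Fact (Nat.Prime 2) := ⟨Nat.prime_two⟩
  let _ : Module (ZMod 2) A := AddCommGroup.zmodModule (n := 2) (fun x => by rw [two_nsmul]; exact h2 x)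
  let W : Submodule (ZMod 2) A := Submodule.span (ZMod 2) ((({a, b, c} : Finset A)) : Set A)
  have hle : AddSubgroup.closure ({a, b, c} : Set A) ≤ W.toAddSubgroup := by
    rw [AddSubgroup.closure_le]
    intro x hx
    exact Submodule.subset_span (by simpa using hx)
  have h1 : Nat.card ↥(AddSubgroup.closure ({a, b, c} : Set A)) ≤ Nat.card ↥W.toAddSubgroup :=
    AddSubgroup.card_le_of_le hle
  have h3 : Module.finrank (ZMod 2) ↥W ≤ 3 := (finrank_span_finset_le_card _).trans Finset.card_le_three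
  have h4 : Nat.card ↥W = 2 ^ Module.finrank (ZMod 2) ↥W := by
    rw [Module.natCard_eq_pow_finrank (K := ZMod 2), Nat.card_zmod]
  have h5 : Nat.card ↥W.toAddSubgroup = Nat.card ↥W := rfl
  calc _ ≤ Nat.card ↥W.toAddSubgroup := h1
    _ = 2 ^ Module.finrank (ZMod 2) ↥W := by rw [h5, h4]
    _ ≤ 2 ^ 3 := Nat.pow_le_pow_right (by norm_num) h3
    _ = 8 := by norm_num

/-- the line through `a` -/
def EXL73_aux_line (ζ : A →+ A) (a : A) : AddSubgroup A := AddSubgroup.closure ({a, ζ a, ζ (ζ a)} : Set A)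

omit [Finite A] in
theorem EXL73_aux_mem_line (a : A) : a ∈ EXL73_aux_line ζ a :=
  AddSubgroup.subset_closure (by simp)

omit [Finite A] in
/-- in the degenerate case the line is `ζ`-invariant -/
theorem EXL73_aux_line_inv (hdeg : ∀ a, ζ (ζ (ζ a)) ∈ EXL73_aux_line ζ a) (a : A) :
    ∀ x ∈ EXL73_aux_line ζ a, ζ x ∈ EXL73_aux_line ζ a := by
  intro x hx
  unfold EXL73_aux_line at hx
  induction hx using AddSubgroup.closure_induction with
  | mem y hy =>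
    rcases hy with rfl | rfl | hy
    · exact AddSubgroup.subset_closure (by simp)
    · exact AddSubgroup.subset_closure (by simp)
    · rw [Set.mem_singleton_iff] at hy
      subst hy
      exact hdeg a
  | zero => rw [map_zero]; exact AddSubgroup.zero_mem _
  | add y z _ _ hy hz => rw [map_add]; exact AddSubgroup.add_mem _ hy hz
  | neg y _ hy => rw [map_neg]; exact AddSubgroup.neg_mem _ hy

/-- in the degenerate case the line through `a ≠ 0` has order `8` -/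
theorem EXL73_aux_line_card (Z : EXL73_aux_Z ζ) (hdeg : ∀ a, ζ (ζ (ζ a)) ∈ EXL73_aux_line ζ a) {a : A} (ha : a ≠ 0) :
    Nat.card ↥(EXL73_aux_line ζ a) = 8 := by
  have hle : Nat.card ↥(EXL73_aux_line ζ a) ≤ 8 := EXL73_aux_card_closure_le Z.h2 _ _ _
  rcases EXL73_aux_card_cases Z _ (EXL73_aux_line_inv hdeg a) with h | h | h
  · exfalso
    have hbot := AddSubgroup.eq_bot_of_card_eq _ h
    have hm := EXL73_aux_mem_line (ζ := ζ) a
    rw [hbot, AddSubgroup.mem_bot] at hm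
    exact ha hm
  · exact h
  · omega

/-- uniqueness of the invariant subgroup of order `8` through `a ≠ 0` -/
theorem EXL73_aux_line_unique (Z : EXL73_aux_Z ζ) (hdeg : ∀ a, ζ (ζ (ζ a)) ∈ EXL73_aux_line ζ a) {a : A} (ha : a ≠ 0)
    (X : AddSubgroup A) (hX : ∀ x ∈ X, ζ x ∈ X) (hc : Nat.card ↥X = 8) (haX : a ∈ X) : EXL73_aux_line ζ a = X := by
  have hle : EXL73_aux_line ζ a ≤ X := by
    unfold EXL73_aux_line
    rw [AddSubgroup.closure_le]
    intro x hx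
    rcases hx with rfl | rfl | hx
    · exact haX
    · exact hX _ haX
    · rw [Set.mem_singleton_iff] at hx
      subst hx
      exact hX _ (hX _ haX)
  exact AddSubgroup.eq_of_le_of_card_ge hle (by rw [hc, EXL73_aux_line_card Z hdeg ha])

/-- two distinct invariant subgroups of order `8` meet trivially -/
theorem EXL73_aux_inf_bot (Z : EXL73_aux_Z ζ) {X Y : AddSubgroup A} (hX : ∀ x ∈ X, ζ x ∈ X) (hY : ∀ x ∈ Y, ζ x ∈ Y)
    (hcX : Nat.card ↥X = 8) (hcY : Nat.card ↥Y = 8) (hne : X ≠ Y) : X ⊓ Y = ⊥ := by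
  have hinv : ∀ x ∈ X ⊓ Y, ζ x ∈ X ⊓ Y := fun x hx => ⟨hX x hx.1, hY x hx.2⟩
  have hle : Nat.card ↥(X ⊓ Y) ≤ 8 := hcX ▸ AddSubgroup.card_le_of_le inf_le_left
  rcases EXL73_aux_card_cases Z _ hinv with h | h | h
  · exact AddSubgroup.eq_bot_of_card_eq _ h
  · exfalso
    have e1 : X ⊓ Y = X := AddSubgroup.eq_of_le_of_card_ge inf_le_left (by rw [hcX, h])
    have e2 : X ⊓ Y = Y := AddSubgroup.eq_of_le_of_card_ge inf_le_right (by rw [hcY, h])
    exact hne (e1.symm.trans e2)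
  · omega

/-- in the degenerate case there are nine invariant subgroups of order `8` -/
theorem EXL73_aux_card_alpha (Z : EXL73_aux_Z ζ) (hdeg : ∀ a, ζ (ζ (ζ a)) ∈ EXL73_aux_line ζ a) :
    Nat.card {X : AddSubgroup A // (∀ x ∈ X, ζ x ∈ X) ∧ Nat.card ↥X = 8} = 9 := by
  classical
  let α := {X : AddSubgroup A // (∀ x ∈ X, ζ x ∈ X) ∧ Nat.card ↥X = 8}
  let _ : Fintype A := Fintype.ofFinite A
  let _ : Fintype α := Fintype.ofFinite α
  let L : {x : A // x ≠ 0} → α := fun x =>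
    ⟨EXL73_aux_line ζ x.1, EXL73_aux_line_inv hdeg x.1, EXL73_aux_line_card Z hdeg x.2⟩
  have h1 : Fintype.card {x : A // x ≠ 0} = 63 := by
    have := Set.card_ne_eq (0 : A)
    rw [← Nat.card_eq_fintype_card (α := A), Z.hcard] at this
    exact this
  have h2 : Fintype.card {x : A // x ≠ 0} = ∑ X : α, Fintype.card {x : {x : A // x ≠ 0} // L x = X} := by
    rw [← Fintype.card_sigma]
    exact Fintype.card_congr (Equiv.sigmaFiberEquiv L).symm
  have h3 : ∀ X : α, Fintype.card {x : {x : A // x ≠ 0} // L x = X} = 7 := by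
    intro X
    have hX8 : Nat.card ↥X.1 = 8 := X.2.2
    let _ : Fintype ↥X.1 := Fintype.ofFinite _
    have h7 : Fintype.card {x : ↥X.1 // x ≠ 0} = 7 := by
      have := Set.card_ne_eq (0 : ↥X.1)
      rw [← Nat.card_eq_fintype_card (α := ↥X.1), hX8] at this
      exact this
    rw [← h7]
    refine Fintype.card_congr ⟨fun x => ⟨⟨x.1.1, ?_⟩, ?_⟩, fun x => ⟨⟨x.1.1, ?_⟩, ?_⟩, ?_, ?_⟩
    · have hL : EXL73_aux_line ζ x.1.1 = X.1 := congrArg Subtype.val x.2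
      rw [← hL]
      exact EXL73_aux_mem_line _
    · intro h
      exact x.1.2 (congrArg Subtype.val h)
    · intro h
      exact x.2 (Subtype.ext h)
    · apply Subtype.ext
      exact EXL73_aux_line_unique Z hdeg (fun h => x.2 (Subtype.ext h)) X.1 X.2.1 X.2.2 x.1.2
    · intro x
      rfl
    · intro x
      rfl
  rw [h1] at h2
  simp only [h3, Finset.sum_const, Finset.card_univ, smul_eq_mul] at h2
  have h9 : Fintype.card α = 9 := by omega
  rw [Nat.card_eq_fintype_card]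
  exact h9

/-- the degenerate case: two invariant lines -/
theorem EXL73_aux_degenerate {Γ : Type*} [Group Γ] (hΓ : IsPGroup 7 Γ) [DistribMulAction Γ A] (Z : EXL73_aux_Z ζ)
    (hcomm : ∀ (g : Γ) (a : A), g • ζ a = ζ (g • a)) (hdeg : ∀ a, ζ (ζ (ζ a)) ∈ EXL73_aux_line ζ a) :
    ∃ X₁ X₂ : AddSubgroup A, (∀ g : Γ, ∀ x ∈ X₁, g • x ∈ X₁) ∧ (∀ g : Γ, ∀ x ∈ X₂, g • x ∈ X₂) ∧ X₁ ⊓ X₂ = ⊥ ∧
      Nat.card ↥X₁ = 8 ∧ Nat.card ↥X₂ = 8 := by
  classical
  have : Fact (Nat.Prime 7) := ⟨by norm_num⟩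
  let α := {X : AddSubgroup A // (∀ x ∈ X, ζ x ∈ X) ∧ Nat.card ↥X = 8}
  have hα : Nat.card α = 9 := EXL73_aux_card_alpha Z hdeg
  let act : MulAction Γ α :=
    { smul := fun g X => ⟨g • X.1, by
        intro x hx
        rw [AddSubgroup.mem_smul_pointwise_iff_exists] at hx
        obtain ⟨s, hs, rfl⟩ := hx
        rw [← hcomm]
        exact AddSubgroup.smul_mem_pointwise_smul _ _ _ (X.2.1 s hs), by
        show Nat.card ↥(AddSubgroup.map (DistribSMul.toAddMonoidHom A g) X.1) = 8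
        rw [AddSubgroup.card_map_of_injective (MulAction.injective g)]
        exact X.2.2⟩
      one_smul := fun X => Subtype.ext (one_smul Γ X.1)
      mul_smul := fun g h X => Subtype.ext (mul_smul g h X.1) }
  have hfp := hΓ.card_modEq_card_fixedPoints α
  have h2 : 1 < Nat.card ↥(MulAction.fixedPoints Γ α) := by
    rw [hα] at hfp
    unfold Nat.ModEq at hfp
    omega
  obtain ⟨⟨X₁, hX₁⟩, ⟨X₂, hX₂⟩, hne⟩ := (Finite.one_lt_card_iff_nontrivial.1 h2).exists_pair_ne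
  have hne' : X₁.1 ≠ X₂.1 := fun h => hne (Subtype.ext (Subtype.ext h))
  have hinv : ∀ X : α, X ∈ MulAction.fixedPoints Γ α → ∀ g : Γ, ∀ x ∈ X.1, g • x ∈ X.1 := by
    intro X hX g x hx
    have h1 : g • X = X := hX g
    have h3 : g • X.1 = X.1 := congrArg Subtype.val h1
    rw [← h3]
    exact AddSubgroup.smul_mem_pointwise_smul _ _ _ hx
  exact ⟨X₁.1, X₂.1, hinv X₁ hX₁, hinv X₂ hX₂,
    EXL73_aux_inf_bot Z X₁.2.1 X₂.2.1 X₁.2.2 X₂.2.2 hne', X₁.2.2, X₂.2.2⟩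

/-- the abstract statement -/
theorem EXL73_aux_main {Γ : Type*} [Group Γ] (hΓ : IsPGroup 7 Γ) [DistribMulAction Γ A] (Z : EXL73_aux_Z ζ)
    (hcomm : ∀ (g : Γ) (a : A), g • ζ a = ζ (g • a)) :
    ∃ X₁ X₂ : AddSubgroup A, (∀ g : Γ, ∀ x ∈ X₁, g • x ∈ X₁) ∧ (∀ g : Γ, ∀ x ∈ X₂, g • x ∈ X₂) ∧ X₁ ⊓ X₂ = ⊥ ∧
      Nat.card ↥X₁ = 8 ∧ Nat.card ↥X₂ = 8 := by
  rcases EXL73_aux_split Z with ⟨h1, h2⟩ | h | h
  · refine ⟨_, _, ?_, ?_, EXL73_aux_ker_inf Z, h1, h2⟩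
    · intro g x hx
      exact EXL73_aux_ker1_inv (γ := fun a => g • a) (smul_zero g) (smul_add g) (hcomm g) hx
    · intro g x hx
      exact EXL73_aux_ker2_inv (γ := fun a => g • a) (smul_zero g) (smul_add g) (hcomm g) hx
  · apply EXL73_aux_degenerate hΓ Z hcomm
    intro a
    have h0 := h a
    rw [EXL73_aux_phi1_apply, add_assoc] at h0
    rw [eq_neg_of_add_eq_zero_left h0]
    refine AddSubgroup.neg_mem _ (AddSubgroup.add_mem _ ?_ ?_)
    · exact AddSubgroup.subset_closure (by simp)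
    · exact AddSubgroup.subset_closure (by simp)
  · apply EXL73_aux_degenerate hΓ Z hcomm
    intro a
    have h0 := h a
    rw [EXL73_aux_phi2_apply, add_assoc] at h0
    rw [eq_neg_of_add_eq_zero_left h0]
    refine AddSubgroup.neg_mem _ (AddSubgroup.add_mem _ ?_ ?_)
    · exact AddSubgroup.subset_closure (by simp)
    · exact AddSubgroup.subset_closure (by simp)

end Cfsg.Agent.S4404P
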