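import Mathlib
import Cfsg.Prelude.Def_Transfer
import Cfsg.Agent.Helper4.S4404Defs
import Cfsg.Agent.Helper19.S4404EXL73core

/-! s4404pieces EXL73 (`split_of_fpf_seven`): transfer of the abstract core `EXL73_aux_main` to `A = Additive ↥U`, with
`Γ = ↥G₀` acting by conjugation and `ζ` = conjugation by `z`. -/

set_option autoImplicit false
set_option linter.unusedVariables false

namespace Cfsg.Agent.S4404P

open Subgroup
open scoped commutatorElement

variable {S : Type*} [Group S] [Finite S]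

/-- EXL73 -/
theorem split_of_fpf_seven (M : Subgroup S) [M.Normal] (hM : Cfsg.IsElementaryAbelian 2 M)
    (G₀ U : Subgroup S) (hG₀ : IsPGroup 7 ↥G₀) (hUM : U ≤ M)
    (hN : G₀ ≤ normalizer (U : Set S)) (hcard : Nat.card ↥U = 64) (z : S) (hz : z ∈ G₀)
    (hz7 : z ^ 7 ∈ centralizer (U : Set S))
    (hcomm : ∀ g ∈ G₀, ∀ u ∈ U, g * (z * u * z⁻¹) * g⁻¹ = z * (g * u * g⁻¹) * z⁻¹)
    (hzfix : U ⊓ centralizer (zpowers z : Set S) = ⊥) :
    ∃ X₁ X₂ : Subgroup S, X₁ ≤ U ∧ X₂ ≤ U ∧ G₀ ≤ normalizer (X₁ : Set S) ∧ G₀ ≤ normalizer (X₂ : Set S) ∧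
      X₁ ⊓ X₂ = ⊥ ∧ Nat.card ↥X₁ = 8 ∧ Nat.card ↥X₂ = 8 := by
  have hUc : ∀ u ∈ U, ∀ v ∈ U, u * v = v * u := by
    intro u hu v hv
    have := hM.1.is_comm.comm ⟨u, hUM hu⟩ ⟨v, hUM hv⟩
    exact congrArg Subtype.val this
  have hU2 : ∀ u ∈ U, u * u = 1 := by
    intro u hu
    have := hM.2 u (hUM hu)
    rwa [pow_two] at this
  have hconj : ∀ g ∈ G₀, ∀ u ∈ U, g * u * g⁻¹ ∈ U := fun g hg u hu =>
    ((mem_normalizer_iff.1 (hN hg)) u).1 hu
  let _ : CommGroup ↥U :=
    { (inferInstance : Group ↥U) with mul_comm := fun a b => Subtype.ext (hUc a a.2 b b.2) }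
  let _ : DistribMulAction ↥G₀ (Additive ↥U) :=
    { smul := fun g a =>
        Additive.ofMul (⟨(g : S) * ((Additive.toMul a : ↥U) : S) * (g : S)⁻¹, hconj g g.2 _ (Additive.toMul a).2⟩ : ↥U)
      one_smul := fun a => by
        apply Subtype.ext
        show (1 : S) * ((Additive.toMul a : ↥U) : S) * (1 : S)⁻¹ = ((Additive.toMul a : ↥U) : S)
        simp
      mul_smul := fun g h a => by
        apply Subtype.ext
        show ((g : S) * (h : S)) * ((Additive.toMul a : ↥U) : S) * ((g : S) * (h : S))⁻¹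
          = (g : S) * ((h : S) * ((Additive.toMul a : ↥U) : S) * (h : S)⁻¹) * (g : S)⁻¹
        group
      smul_zero := fun g => by
        apply Subtype.ext
        show (g : S) * (1 : S) * (g : S)⁻¹ = 1
        simp
      smul_add := fun g a b => by
        apply Subtype.ext
        show (g : S) * (((Additive.toMul a : ↥U) : S) * ((Additive.toMul b : ↥U) : S)) * (g : S)⁻¹
          = ((g : S) * ((Additive.toMul a : ↥U) : S) * (g : S)⁻¹) * ((g : S) * ((Additive.toMul b : ↥U) : S) * (g : S)⁻¹)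
        group }
  let z' : ↥G₀ := ⟨z, hz⟩
  let ζ : Additive ↥U →+ Additive ↥U := DistribSMul.toAddMonoidHom (Additive ↥U) z'
  have hζ : ∀ a : Additive ↥U, ((Additive.toMul (ζ a) : ↥U) : S) = z * ((Additive.toMul a : ↥U) : S) * z⁻¹ :=
    fun a => rfl
  have hsm : ∀ (g : ↥G₀) (a : Additive ↥U),
      ((Additive.toMul (g • a) : ↥U) : S) = (g : S) * ((Additive.toMul a : ↥U) : S) * (g : S)⁻¹ := fun g a => rfl
  have hz7' : ∀ u ∈ U, u * z ^ 7 = z ^ 7 * u := fun u hu => (mem_centralizer_iff.1 hz7) u hu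
  have Z : EXL73_aux_Z ζ := by
    refine ⟨?_, ?_, ?_, ?_⟩
    · intro a
      have e2 : ((Additive.toMul (a + a) : ↥U) : S) = ((Additive.toMul (0 : Additive ↥U) : ↥U) : S) :=
        hU2 _ (Additive.toMul a).2
      exact Additive.toMul.injective (Subtype.ext e2)
    · intro a
      have e7 : ((Additive.toMul (ζ (ζ (ζ (ζ (ζ (ζ (ζ a))))))) : ↥U) : S) = ((Additive.toMul a : ↥U) : S) := by
        rw [hζ, hζ, hζ, hζ, hζ, hζ, hζ]
        have h := hz7' _ (Additive.toMul a).2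
        have e : z * (z * (z * (z * (z * (z * (z * ((Additive.toMul a : ↥U) : S) * z⁻¹) * z⁻¹) * z⁻¹) * z⁻¹) * z⁻¹) * z⁻¹) * z⁻¹
            = z ^ 7 * ((Additive.toMul a : ↥U) : S) * (z ^ 7)⁻¹ := by
          have p7 : z ^ 7 = z * z * z * z * z * z * z := by simp [pow_succ]
          rw [p7]
          simp only [mul_inv_rev, mul_assoc]
        rw [e, ← h]
        group
      exact Additive.toMul.injective (Subtype.ext e7)
    · intro a ha
      have h1 : z * ((Additive.toMul a : ↥U) : S) * z⁻¹ = ((Additive.toMul a : ↥U) : S) := by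
        rw [← hζ, ha]
      have hcm : Commute z ((Additive.toMul a : ↥U) : S) := by
        have : z * ((Additive.toMul a : ↥U) : S) = ((Additive.toMul a : ↥U) : S) * z := by
          calc z * ((Additive.toMul a : ↥U) : S) = (z * ((Additive.toMul a : ↥U) : S) * z⁻¹) * z := by group
            _ = ((Additive.toMul a : ↥U) : S) * z := by rw [h1]
        exact this
      have hmem : ((Additive.toMul a : ↥U) : S) ∈ U ⊓ centralizer (zpowers z : Set S) := by
        refine Subgroup.mem_inf.2 ⟨(Additive.toMul a).2, ?_⟩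
        rw [mem_centralizer_iff]
        intro h hh
        obtain ⟨k, rfl⟩ := mem_zpowers_iff.1 hh
        exact (hcm.zpow_left k).eq
      rw [hzfix, mem_bot] at hmem
      have e0 : ((Additive.toMul a : ↥U) : S) = ((Additive.toMul (0 : Additive ↥U) : ↥U) : S) := hmem
      exact Additive.toMul.injective (Subtype.ext e0)
    · exact hcard
  have hcomm' : ∀ (g : ↥G₀) (a : Additive ↥U), g • ζ a = ζ (g • a) := by
    intro g a
    have e : ((Additive.toMul (g • ζ a) : ↥U) : S) = ((Additive.toMul (ζ (g • a)) : ↥U) : S) := by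
      rw [hsm, hζ, hζ, hsm]
      exact hcomm g g.2 _ (Additive.toMul a).2
    exact Additive.toMul.injective (Subtype.ext e)
  obtain ⟨X₁, X₂, h1, h2, hinf, hc1, hc2⟩ := EXL73_aux_main hG₀ Z hcomm'
  -- back to subgroups of `S`
  have hmemY : ∀ (X : AddSubgroup (Additive ↥U)) (s : S),
      s ∈ (AddSubgroup.toSubgroup' X).map U.subtype ↔ ∃ u : ↥U, Additive.ofMul u ∈ X ∧ (u : S) = s := by
    intro X s
    rw [Subgroup.mem_map]
    constructor
    · rintro ⟨u, hu, rfl⟩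
      exact ⟨u, (AddSubgroup.mem_toSubgroup' X u).1 hu, rfl⟩
    · rintro ⟨u, hu, rfl⟩
      exact ⟨u, (AddSubgroup.mem_toSubgroup' X u).2 hu, rfl⟩
  have hcl : ∀ X : AddSubgroup (Additive ↥U), (∀ g : ↥G₀, ∀ x ∈ X, g • x ∈ X) →
      ∀ g ∈ G₀, ∀ s ∈ (AddSubgroup.toSubgroup' X).map U.subtype,
        g * s * g⁻¹ ∈ (AddSubgroup.toSubgroup' X).map U.subtype := by
    intro X hX g hg s hs
    obtain ⟨u, hu, rfl⟩ := (hmemY X s).1 hs
    have h3 := hX ⟨g, hg⟩ _ hu
    exact (hmemY X _).2 ⟨Additive.toMul ((⟨g, hg⟩ : ↥G₀) • Additive.ofMul u), h3, rfl⟩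
  have hnorm : ∀ X : AddSubgroup (Additive ↥U), (∀ g : ↥G₀, ∀ x ∈ X, g • x ∈ X) →
      G₀ ≤ normalizer (((AddSubgroup.toSubgroup' X).map U.subtype : Subgroup S) : Set S) := by
    intro X hX g hg
    rw [mem_normalizer_iff]
    intro s
    constructor
    · exact hcl X hX g hg s
    · intro hs
      have h3 := hcl X hX g⁻¹ (G₀.inv_mem hg) _ hs
      have e : g⁻¹ * (g * s * g⁻¹) * g⁻¹⁻¹ = s := by group
      rwa [e] at h3
  have hcardY : ∀ X : AddSubgroup (Additive ↥U),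
      Nat.card ↥((AddSubgroup.toSubgroup' X).map U.subtype) = Nat.card ↥X := by
    intro X
    rw [Subgroup.card_map_of_injective U.subtype_injective]
    rfl
  refine ⟨(AddSubgroup.toSubgroup' X₁).map U.subtype, (AddSubgroup.toSubgroup' X₂).map U.subtype,
    Subgroup.map_subtype_le _, Subgroup.map_subtype_le _, hnorm X₁ h1, hnorm X₂ h2, ?_,
    (hcardY X₁).trans hc1, (hcardY X₂).trans hc2⟩
  rw [eq_bot_iff]
  intro s hs
  obtain ⟨hs1, hs2⟩ := Subgroup.mem_inf.1 hs
  obtain ⟨u, hu, rfl⟩ := (hmemY X₁ s).1 hs1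
  obtain ⟨v, hv, hvu⟩ := (hmemY X₂ _).1 hs2
  have huv : v = u := Subtype.ext hvu
  subst huv
  have hm : Additive.ofMul v ∈ X₁ ⊓ X₂ := ⟨hu, hv⟩
  rw [hinf, AddSubgroup.mem_bot] at hm
  rw [Subgroup.mem_bot]
  have e0 : ((Additive.toMul (Additive.ofMul v) : ↥U) : S) = ((Additive.toMul (0 : Additive ↥U) : ↥U) : S) := by
    rw [hm]
  exact e0

end Cfsg.Agent.S4404P
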