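import Mathlib
import Cfsg.Agent.Helper6.S4414Defs

/-! s4414pieces LAT1: the lattice of the `WQ Wf Q = ⨆ i ∈ Q, Wf i` (monotone, contains the members, disjointness and
intersection for an independent family). -/

set_option autoImplicit false
set_option linter.unusedSectionVars false
set_option linter.unusedVariables false

namespace Cfsg.Agent.S4414P

open Module TensorProduct Cfsg.Agent.Helper5.FrobMod

variable {K : Type*} [Field K] {W : Type*} [AddCommGroup W] [Module K W]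
variable {G : Type*} [Group G] (σ : Representation K G W)

variable {I : Type*}

/-- LAT (S) -/
theorem WQ_mono {Wf : I → Submodule K W} {Q Q' : Set I} (h : Q ⊆ Q') : WQ Wf Q ≤ WQ Wf Q' := by
  exact biSup_mono (fun i hi => h hi)

/-- LAT (S) -/
theorem le_WQ {Wf : I → Submodule K W} {Q : Set I} {i : I} (h : i ∈ Q) : Wf i ≤ WQ Wf Q := by
  exact le_biSup Wf h

/-- LAT (S): `iSupIndep.disjoint_biSup`. -/
theorem WQ_disjoint {Wf : I → Submodule K W} (h : iSupIndep Wf) {Q Q' : Set I} (hd : Disjoint Q Q') :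
    Disjoint (WQ Wf Q) (WQ Wf Q') := by
  exact h.disjoint_biSup_biSup hd

/-- LAT (M): modular law: `W_Q = W_{Q ∩ Q'} ⊔ W_{Q \ Q'}`, `W_{Q ∩ Q'} ≤ W_{Q'}`, `W_{Q \ Q'} ⊓ W_{Q'} = ⊥`. -/
theorem WQ_inf {Wf : I → Submodule K W} (h : iSupIndep Wf) (Q Q' : Set I) :
    WQ Wf Q ⊓ WQ Wf Q' = WQ Wf (Q ∩ Q') := by
  apply le_antisymm
  · have h1 : WQ Wf Q = WQ Wf (Q ∩ Q') ⊔ WQ Wf (Q \ Q') := by
      unfold WQ
      rw [← iSup_union, Set.inter_union_sdiff]
    have h2 : WQ Wf (Q ∩ Q') ≤ WQ Wf Q' := WQ_mono Set.inter_subset_right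
    have h3 : WQ Wf (Q \ Q') ⊓ WQ Wf Q' = ⊥ := (WQ_disjoint h Set.disjoint_sdiff_left).eq_bot
    rw [h1, sup_inf_assoc_of_le _ h2, h3, sup_bot_eq]
  · exact le_inf (WQ_mono Set.inter_subset_left) (WQ_mono Set.inter_subset_right)

end Cfsg.Agent.S4414P
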