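import Mathlib
import Cfsg.Agent.Helper27.S4700Defs
import Cfsg.Agent.Helper11.SylowCount
import Cfsg.Agent.Helper24.Burnside
import Cfsg.Agent.Helper15.S0996GS4
import Cfsg.Agent.Helper28.S4701CS2

/-!
# S4700 piece GS4F: `5 ≤ p` under `HypF` (helper19)

`p = 2` contradicts `2 ≤ e ∣ p - 1`.  For `p = 3` (`e = 2`, `|G| = 6 (1 + 3 n)`): if `n` is even then
`|G| = 2 · odd` and `G` has a normal 2-complement (Burnside transfer), so is not perfect; if `n = 1`
then `|G| = 24` is solvable; if `n ≥ 3` is odd then `n` is of the form `F(3, 1, (n-1)/2)`.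
-/

set_option autoImplicit false

namespace Cfsg.Agent.Helper19.S4700GS4F

universe u

variable {G : Type u} [Group G]

/-- A finite perfect group does not have order `2 · odd`. -/
theorem false_of_perfect_of_card_two_mul_odd [Finite G] (m : ℕ) (hG : Nat.card G = m * 2)
    (hm : ¬ 2 ∣ m) (hperf : commutator G = ⊤) : False := by
  haveI : Fact (Nat.Prime 2) := ⟨Nat.prime_two⟩
  obtain ⟨S⟩ : Nonempty (Sylow 2 G) := inferInstance
  have hS : Nat.card ↥(S : Subgroup G) = 2 :=
    (Cfsg.Agent.Helper11.sylow_card_of_card_eq (q := 2) m hG hm S).1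
  -- two non-trivial elements of `S` are equal
  have heq : ∀ a b : G, a ∈ (S : Subgroup G) → b ∈ (S : Subgroup G) → a ≠ 1 → b ≠ 1 → a = b := by
    intro a b ha hb ha1 hb1
    by_contra hab
    haveI : Fintype ↥(S : Subgroup G) := Fintype.ofFinite _
    have h3 : 2 < Fintype.card ↥(S : Subgroup G) := by
      rw [Fintype.two_lt_card_iff]
      refine ⟨1, ⟨a, ha⟩, ⟨b, hb⟩, ?_, ?_, ?_⟩
      · intro h; exact ha1 (congrArg Subtype.val h).symm
      · intro h; exact hb1 (congrArg Subtype.val h).symm
      · intro h; exact hab (congrArg Subtype.val h)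
    rw [← Nat.card_eq_fintype_card, hS] at h3
    exact lt_irrefl _ h3
  have hN : Subgroup.normalizer ((S : Subgroup G) : Set G) ≤
      Subgroup.centralizer ((S : Subgroup G) : Set G) := by
    intro g hg
    rw [Subgroup.mem_centralizer_iff]
    intro s hs
    by_cases hs1 : s = 1
    · rw [hs1, one_mul, mul_one]
    · have h1 : g * s * g⁻¹ ∈ (S : Subgroup G) :=
        (Subgroup.mem_set_normalizer_iff.mp hg s).mp hs
      have h2 : g * s * g⁻¹ ≠ 1 := by
        intro h
        apply hs1
        have : s = g⁻¹ * (g * s * g⁻¹) * g := by group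
        rw [this, h]; group
      have h3 : g * s * g⁻¹ = s := heq _ _ h1 hs h2 hs1
      calc s * g = (g * s * g⁻¹) * g := by rw [h3]
        _ = g * s := by group
  have hcompl := MonoidHom.ker_transferSylow_isComplement' S hN
  have hcomm : ∀ a b : ↥(S : Subgroup G), a * b = b * a := by
    haveI : IsCyclic ↥(S : Subgroup G) := isCyclic_of_prime_card hS
    intro a b
    exact (IsCyclic.commGroup (α := ↥(S : Subgroup G))).mul_comm a b
  have hker : (MonoidHom.transferSylow S hN).ker = ⊤ :=
    Cfsg.Agent.Helper28.S4701CS2.ker_eq_top_of_perfect hcomm hperf _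
  rw [hker] at hcompl
  have hbot : (S : Subgroup G) = ⊥ := Subgroup.isComplement'_top_left.1 hcompl
  rw [hbot, Subgroup.card_bot] at hS
  omega

end Cfsg.Agent.Helper19.S4700GS4F

namespace Cfsg.Agent.S4700P

open Cfsg Cfsg.Agent.Helper24 Cfsg.Agent.Helper1.W2p Cfsg.Agent.S0996P Cfsg.Agent.S4503P
  Cfsg.Agent.S0999P

universe u

variable {G : Type u} [Group G]

section L1
variable [Finite G] {p : ℕ} [Fact p.Prime] {P : Subgroup G} {n : ℕ}

/-- GS4F -/
theorem five_le_p (H : HypF p P n) (hcard : Nat.card G = p * eN P * (1 + n * p))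
    (hdvd : eN P ∣ p - 1) (he : 2 ≤ eN P) (hn : 1 ≤ n) : 5 ≤ p := by
  have hp : p.Prime := Fact.out
  by_contra hlt
  have hp5 : p < 5 := by omega
  have hcases : p = 2 ∨ p = 3 := by
    interval_cases p
    · exact absurd hp (by norm_num)
    · exact absurd hp (by norm_num)
    · left; rfl
    · right; rfl
    · exact absurd hp (by norm_num)
  rcases hcases with rfl | rfl
  · have : eN P ∣ 1 := hdvd
    have := Nat.le_of_dvd one_pos this
    omega
  · have h2 : eN P ∣ 2 := hdvd
    have hle := Nat.le_of_dvd (by norm_num) h2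
    have heq : eN P = 2 := by omega
    rw [heq] at hcard
    rcases Nat.even_or_odd n with hev | hodd
    · -- `|G| = 2 · odd`
      obtain ⟨k, hk⟩ := hev
      apply Cfsg.Agent.Helper19.S4700GS4F.false_of_perfect_of_card_two_mul_odd
        (3 * (1 + n * 3)) (by rw [hcard]; ring) ?_ H.perf
      rw [hk]
      omega
    · obtain ⟨k, hk⟩ := hodd
      by_cases hk0 : k = 0
      · -- `n = 1`, `|G| = 24`
        have hn1 : n = 1 := by omega
        rw [hn1] at hcard
        have hsolv : Group.IsSolvable G :=
          Cfsg.Agent.Helper24.isSolvable_of_card_eq_prime_pow_mul 2 3 3 1 (by norm_num)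
            (by norm_num) (by rw [hcard]; norm_num)
        have h1 := Cfsg.Agent.Helper15.S0996GS4.card_eq_one_of_perfect_of_solvable H.perf hsolv
        rw [hcard] at h1
        omega
      · -- `n = 2 k + 1`, `k ≥ 1`: `n = F(3, 1, k)`
        apply H.notF
        refine ⟨k, 1, Nat.pos_of_ne_zero hk0, one_pos, ?_⟩
        rw [hk]
        ring

end L1

end Cfsg.Agent.S4700P
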