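import Mathlib
import Cfsg.Agent.Helper7.S5655.Defs
import Cfsg.Agent.Helper7.S5655.MonoLib
import Cfsg.Agent.Helper7.S5655.Defs2
import Cfsg.Agent.Helper5.S5655MU
import Cfsg.Agent.Lead.S5655TRFIB

/-! # S5655 `k = 1`, chapter (B): piece NVALS (helper19)

The norms `N(1 + (β - 1) κ)`, `β ∈ μ`, take more than `q / 2` values (`κ ≠ 0, 1`):
`N(1 + (β-1) κ) = c₀ + Tr(β κ₁)`, `κ₁ = κ (1 - σ κ) ≠ 0`, `c₀ = 1 - κ - σ κ + 2 N κ`, every fibre of `β ↦ Tr(β κ₁)` on `μ`
has at most two elements (TRFIB), and `|μ| = q + 1` (MU). -/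

set_option autoImplicit false

namespace Cfsg.Agent.S5655K1

open Matrix
open Cfsg.Agent.S2644 Cfsg.Agent.Helper2.SUGen Cfsg.Agent.Helper28.SimMax Cfsg.Agent.MonoP

variable {K : Type*} [Field K] {q n : ℕ}

local notation "h" => Cfsg.hermForm n K q
local notation "T" => Cfsg.unitaryTransvection n q

namespace NVALS

/-- the norm as a constant plus a trace -/
theorem norm_eq (D : Frob K q) (κ β : K) (hβ : IsU D β) :
    (1 + (β - 1) * κ) * D.σ (1 + (β - 1) * κ) =
      (1 - κ - D.σ κ + 2 * (κ * D.σ κ)) + (β * (κ * (1 - D.σ κ)) + D.σ (β * (κ * (1 - D.σ κ)))) := by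
  unfold IsU at hβ
  simp only [map_add, map_mul, map_sub, map_one, D.invol]
  linear_combination (κ * D.σ κ) * hβ

end NVALS

open scoped Classical in
/-- NVALS (M; uses MU.card, TRFIB.card_le): the norms `N(1 + (β - 1) κ)`, `β ∈ μ`, take more than `q / 2` values:
`N(1 + (β-1) κ) = c₀ + Tr(β κ₁)`, `κ₁ = κ (1 - σ κ) ≠ 0`, `c₀ = 1 - κ - σ κ + 2 N κ`; `Finset.card_le_mul_card_image`. -/
theorem NVALS.card (D : Frob K q) [Fintype K] (hK : Fintype.card K = q ^ 2) (κ : K) (hκ0 : κ ≠ 0)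
    (hκ1 : κ ≠ 1) :
    q < 2 * ((Finset.univ.filter (fun t : K => IsU D t)).image
      (fun β => (1 + (β - 1) * κ) * D.σ (1 + (β - 1) * κ))).card := by
  have hμ := MU.card D hK
  have hκ₁ : κ * (1 - D.σ κ) ≠ 0 := by
    apply mul_ne_zero hκ0
    intro h0
    apply hκ1
    have h1 : D.σ κ = 1 := by linear_combination -h0
    have h2 := congrArg D.σ h1
    rwa [D.invol, map_one] at h2
  have hle := Finset.card_le_mul_card_image (f := fun β => (1 + (β - 1) * κ) * D.σ (1 + (β - 1) * κ))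
    (Finset.univ.filter (fun t : K => IsU D t)) 2 (by
      intro a _
      refine le_trans (Finset.card_le_card ?_)
        (TRFIB.card_le D (Finset.univ.filter (fun t : K => IsU D t))
          (fun t ht => (Finset.mem_filter.1 ht).2) (κ * (1 - D.σ κ)) hκ₁
          (a - (1 - κ - D.σ κ + 2 * (κ * D.σ κ))))
      intro β hβ
      rw [Finset.mem_filter] at hβ ⊢
      refine ⟨hβ.1, ?_⟩
      have hU : IsU D β := (Finset.mem_filter.1 hβ.1).2
      have := NVALS.norm_eq D κ β hU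
      rw [← hβ.2, this]
      ring)
  rw [hμ] at hle
  omega

end Cfsg.Agent.S5655K1
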