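import Mathlib
import Cfsg.Agent.Helper7.S5655.Defs2
import Cfsg.Agent.Helper7.S5655.MonoLib
import Cfsg.Agent.Helper17.S5655CT
import Cfsg.Agent.Helper17.S5655CHAR
import Cfsg.Agent.Lead.S5655FIX
import Cfsg.Agent.Helper21.S5655MONOFORM
import Cfsg.Agent.Helper16.S5655SELECT
import Cfsg.Agent.Helper9.S5655MONORANK

/-! # S5655 `k = 1`: piece ZEROB (helper19)

No zero entry in a non-monomial `A ∈ M`, case `q + 1 ≤ n`, `q` odd.  If `A i₀ j₀ = 0`, the column `u = A e_{j₀}` has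
`n - 1 ≥ q` non-zero entries whose norms lie in the `q - 1` non-zero elements of the fixed field: two of them, at `a ≠ b`,
are equal, `λ = u b / u a ∈ μ`.  The involution `s' = tsw a b λ * diag(-1 at i₀)` lies in `N`, fixes `u`, so
`y = ct A * s' * A` fixes `e_{j₀}`, is monomial by (B), `y = mono s d` with `s` an involution, `A y = s' A`.  A fixed
`k ≠ j₀` of `s` with `d k = 1` would give `A i₀ k = 0` (second zero in row `i₀`).  `s' - 1` has rank `≤ 2`:
SELECT.invol (`m = 3`) + MONORANK (`r = 2`, `c = 1`). -/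

set_option autoImplicit false

namespace Cfsg.Agent.S5655K1

open Matrix
open Cfsg.Agent.S2644 Cfsg.Agent.Helper2.SUGen Cfsg.Agent.Helper28.SimMax Cfsg.Agent.MonoP

variable {K : Type*} [Field K] {q n : ℕ}

local notation "h" => Cfsg.hermForm n K q
local notation "T" => Cfsg.unitaryTransvection n q

namespace ZEROB

/-- the sign vector: `-1` at `i₀`, `1` elsewhere -/
def sg (i₀ : Fin n) : Fin n → K := Function.update (fun _ => (1 : K)) i₀ (-1)

/-- the involution `s'`: twisted swap of `a, b` times `-1` at `i₀` -/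
def sp (a b i₀ : Fin n) (lam : K) : Matrix (Fin n) (Fin n) K :=
  tsw a b lam * Matrix.diagonal (sg i₀)

theorem sg_self (i₀ : Fin n) : sg (K := K) i₀ i₀ = -1 := by
  unfold sg; simp

theorem sg_of_ne {i₀ k : Fin n} (hk : k ≠ i₀) : sg (K := K) i₀ k = 1 := by
  unfold sg; simp [hk]

theorem sp_mulVec_a {a b i₀ : Fin n} (hb : b ≠ i₀) (lam : K) (x : Fin n → K) :
    (sp a b i₀ lam *ᵥ x) a = lam⁻¹ * x b := by
  unfold sp
  rw [← Matrix.mulVec_mulVec, tsw_mulVec_a, Matrix.mulVec_diagonal, sg_of_ne hb, one_mul]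

theorem sp_mulVec_b {a b i₀ : Fin n} (hab : a ≠ b) (ha : a ≠ i₀) (lam : K) (x : Fin n → K) :
    (sp a b i₀ lam *ᵥ x) b = lam * x a := by
  unfold sp
  rw [← Matrix.mulVec_mulVec, tsw_mulVec_b hab, Matrix.mulVec_diagonal, sg_of_ne ha, one_mul]

theorem sp_mulVec_i {a b i₀ : Fin n} (ha : a ≠ i₀) (hb : b ≠ i₀) (lam : K) (x : Fin n → K) :
    (sp a b i₀ lam *ᵥ x) i₀ = - x i₀ := by
  unfold sp
  rw [← Matrix.mulVec_mulVec, tsw_mulVec_of_ne _ _ ha.symm hb.symm, Matrix.mulVec_diagonal, sg_self,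
    neg_one_mul]

theorem sp_mulVec_of_ne {a b i₀ k : Fin n} (hka : k ≠ a) (hkb : k ≠ b) (hki : k ≠ i₀) (lam : K)
    (x : Fin n → K) : (sp a b i₀ lam *ᵥ x) k = x k := by
  unfold sp
  rw [← Matrix.mulVec_mulVec, tsw_mulVec_of_ne _ _ hka hkb, Matrix.mulVec_diagonal, sg_of_ne hki,
    one_mul]

theorem sg_isU (D : Frob K q) (i₀ j : Fin n) : IsU D (sg (K := K) i₀ j) := by
  by_cases hj : j = i₀
  · subst hj
    rw [sg_self]
    exact IsU.neg D (IsU.one D)
  · rw [sg_of_ne hj]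
    exact IsU.one D

theorem sg_prod (i₀ : Fin n) : ∏ j, sg (K := K) i₀ j = -1 := by
  unfold sg
  rw [Finset.prod_update_of_mem (Finset.mem_univ i₀)]
  simp

theorem sp_pres (D : Frob K q) (a b i₀ : Fin n) {lam : K} (hl : IsU D lam) :
    Pres (q := q) (sp a b i₀ lam) :=
  Pres.mul (tsw_pres D a b hl) (diagonal_pres D _ (sg_isU D i₀))

theorem sp_det {a b : Fin n} (hab : a ≠ b) (i₀ : Fin n) {lam : K} (hl : lam ≠ 0) :
    (sp a b i₀ lam).det = 1 := by
  unfold sp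
  rw [Matrix.det_mul, tsw_det hab hl, Matrix.det_diagonal, sg_prod]
  norm_num

theorem sp_isMono (a b i₀ : Fin n) (lam : K) : IsMono (sp a b i₀ lam) := by
  unfold sp tsw
  rw [← mono_eq_diagonal, mono_mul]
  exact mono_isMono _ _

theorem sp_mem (D : Frob K q) {M : Subgroup (Matrix.GeneralLinearGroup (Fin n) K)} (hN : HasN q M)
    {a b : Fin n} (hab : a ≠ b) (i₀ : Fin n) {lam : K} (hl : IsU D lam) :
    sp a b i₀ lam ∈ MS M :=
  hN _ (sp_isMono a b i₀ lam) (sp_pres D a b i₀ hl) (sp_det hab i₀ (IsU.ne_zero D hl))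

/-- `s' * s' = 1` -/
theorem sp_sq {a b i₀ : Fin n} (hab : a ≠ b) (ha : a ≠ i₀) (hb : b ≠ i₀) {lam : K} (hl : lam ≠ 0) :
    sp a b i₀ lam * sp a b i₀ lam = 1 := by
  apply mat_ext
  intro x
  funext k
  rw [← Matrix.mulVec_mulVec, Matrix.one_mulVec]
  by_cases hka : k = a
  · subst hka
    rw [sp_mulVec_a hb, sp_mulVec_b hab ha]
    field_simp
  by_cases hkb : k = b
  · subst hkb
    rw [sp_mulVec_b hab ha, sp_mulVec_a hb]
    field_simp
  by_cases hki : k = i₀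
  · subst hki
    rw [sp_mulVec_i ha hb, sp_mulVec_i ha hb, neg_neg]
  · rw [sp_mulVec_of_ne hka hkb hki, sp_mulVec_of_ne hka hkb hki]

/-- `s'` fixes `u` -/
theorem sp_fix {a b i₀ : Fin n} (hab : a ≠ b) (ha : a ≠ i₀) (hb : b ≠ i₀) (u : Fin n → K)
    (hua : u a ≠ 0) (hub : u b ≠ 0) (hu0 : u i₀ = 0) : sp a b i₀ (u b / u a) *ᵥ u = u := by
  funext k
  by_cases hka : k = a
  · subst hka
    rw [sp_mulVec_a hb]
    field_simp
  by_cases hkb : k = b
  · subst hkb
    rw [sp_mulVec_b hab ha]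
    field_simp
  by_cases hki : k = i₀
  · subst hki
    rw [sp_mulVec_i ha hb, hu0, neg_zero]
  · rw [sp_mulVec_of_ne hka hkb hki]

/-- a fixed vector of `s'` vanishes at `i₀` -/
theorem fix_zero (h2 : (2 : K) ≠ 0) {a b i₀ : Fin n} (ha : a ≠ i₀) (hb : b ≠ i₀) (lam : K)
    (v : Fin n → K) (hv : sp a b i₀ lam *ᵥ v = v) : v i₀ = 0 := by
  have h1 := congrFun hv i₀
  rw [sp_mulVec_i ha hb] at h1
  have : (2 : K) * v i₀ = 0 := by linear_combination -h1
  rcases mul_eq_zero.1 this with hh | hh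
  · exact absurd hh h2
  · exact hh

/-- `s' - 1` has rank at most two -/
theorem sp_rank {a b i₀ : Fin n} (hab : a ≠ b) (ha : a ≠ i₀) (hb : b ≠ i₀) {lam : K}
    (hl : lam ≠ 0) :
    ∃ a' b' : Fin 2 → Fin n → K,
      sp a b i₀ lam - (1 : K) • (1 : Matrix (Fin n) (Fin n) K) = ∑ l, vecMulVec (a' l) (b' l) := by
  refine ⟨![(-2 : K) • Pi.single i₀ 1, lam • Pi.single b 1 - Pi.single a 1],
    ![Pi.single i₀ 1, Pi.single a 1 - lam⁻¹ • Pi.single b 1], ?_⟩
  apply mat_ext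
  intro x
  funext k
  rw [Fin.sum_univ_two, Matrix.sub_mulVec, Matrix.add_mulVec, one_smul, Matrix.one_mulVec,
    Matrix.vecMulVec_mulVec, Matrix.vecMulVec_mulVec]
  simp only [Matrix.cons_val_zero, Matrix.cons_val_one, Pi.sub_apply, Pi.add_apply, Pi.smul_apply,
    MulOpposite.smul_eq_mul_unop, MulOpposite.unop_op, single_one_dotProduct,
    sub_dotProduct, smul_dotProduct, smul_eq_mul]
  by_cases hka : k = a
  · subst hka
    rw [sp_mulVec_a hb]
    simp [hab, ha]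
  by_cases hkb : k = b
  · subst hkb
    rw [sp_mulVec_b hab ha]
    simp [hab.symm, hb]
    field_simp
  by_cases hki : k = i₀
  · subst hki
    rw [sp_mulVec_i ha hb]
    simp [ha.symm, hb.symm]
    ring
  · rw [sp_mulVec_of_ne hka hkb hki]
    simp [hka, hkb, hki]


/-- pigeonhole: two non-zero entries of equal norm -/
theorem exists_pair (D : Frob K q) [Fintype K] (hK : Fintype.card K = q ^ 2) (hq : 3 ≤ q)
    (hqn : q + 1 ≤ n) (i₀ : Fin n) (u : Fin n → K) (hu : ∀ i, i ≠ i₀ → u i ≠ 0) :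
    ∃ a b : Fin n, a ≠ b ∧ a ≠ i₀ ∧ b ≠ i₀ ∧ nm D (u a) = nm D (u b) := by
  classical
  set s : Finset (Fin n) := Finset.univ.erase i₀ with hsdef
  set t : Finset K := (Finset.univ.filter (fun x : K => D.σ x = x)).erase 0 with htdef
  have hs : s.card = n - 1 := by
    rw [hsdef, Finset.card_erase_of_mem (Finset.mem_univ _), Finset.card_univ, Fintype.card_fin]
  have hfix : (Finset.univ.filter (fun x : K => D.σ x = x)).card = q := by
    convert FIX.card D hK
  have ht : t.card = q - 1 := by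
    rw [htdef, Finset.card_erase_of_mem (by simp), hfix]
  have hlt : t.card < s.card := by omega
  have hmaps : ∀ i ∈ s, nm D (u i) ∈ t := by
    intro i hi
    have hi0 := Finset.ne_of_mem_erase hi
    rw [htdef, Finset.mem_erase, Finset.mem_filter]
    refine ⟨?_, Finset.mem_univ _, ?_⟩
    · unfold nm
      exact mul_ne_zero (hu i hi0) ((map_ne_zero D.σ).2 (hu i hi0))
    · unfold nm
      rw [map_mul, D.invol, mul_comm]
  obtain ⟨a, ha, b, hb, hab, hf⟩ := Finset.exists_ne_map_eq_of_card_lt_of_maps_to hlt hmaps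
  exact ⟨a, b, hab, Finset.ne_of_mem_erase ha, Finset.ne_of_mem_erase hb, hf⟩

end ZEROB

theorem ZEROB.ne_zero (D : Frob K q) [Fintype K] (hK : Fintype.card K = q ^ 2) (hq : 3 ≤ q) (hodd : Odd q)
    (hn : 13 ≤ n) (hqn : q + 1 ≤ n)
    (M : Subgroup (Matrix.GeneralLinearGroup (Fin n) K)) (hM : M ≤ SUG n K q) (hN : HasN q M) (hB : PropB M)
    (hcol : ∀ A ∈ MS M, ¬ IsMono A → ∀ k i₁ i₂ : Fin n, i₁ ≠ i₂ → A i₁ k = 0 → A i₂ k = 0 → False)
    (hrow : ∀ A ∈ MS M, ¬ IsMono A → ∀ k i₁ i₂ : Fin n, i₁ ≠ i₂ → A k i₁ = 0 → A k i₂ = 0 → False)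
    (A : Matrix (Fin n) (Fin n) K) (hA : A ∈ MS M) (hnm : ¬ IsMono A) : ∀ i j, A i j ≠ 0 := by
  classical
  intro i₀ j₀ h0
  have h2 : (2 : K) ≠ 0 := CHAR.two_ne_zero hK hodd
  have hPA : Pres (q := q) A := Cfsg.Agent.S5658P.pres_of_MS hM hA
  obtain ⟨hA'A, hAA'⟩ := CT.mul_self D hPA
  set u : Fin n → K := A *ᵥ Pi.single j₀ 1 with hu
  have hucol : ∀ i, u i = A i j₀ := by
    intro i
    rw [hu, Matrix.mulVec_single_one]
    rfl
  have hu0 : u i₀ = 0 := by rw [hucol, h0]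
  have hune : ∀ i, i ≠ i₀ → u i ≠ 0 := by
    intro i hi hz
    rw [hucol] at hz
    exact hcol A hA hnm j₀ i i₀ hi hz h0
  obtain ⟨a, b, hab, ha, hb, hnm'⟩ := ZEROB.exists_pair D hK hq hqn i₀ u hune
  have hua := hune a ha
  have hub := hune b hb
  set lam : K := u b / u a with hlam
  have hl : IsU D lam := by
    unfold IsU
    rw [hlam, map_div₀]
    unfold nm at hnm'
    have hsa : D.σ (u a) ≠ 0 := (map_ne_zero D.σ).2 hua
    field_simp
    linear_combination -hnm'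
  have hl0 := IsU.ne_zero D hl
  have hsp : ZEROB.sp a b i₀ lam ∈ MS M := ZEROB.sp_mem D hN hab i₀ hl
  have hfix : ZEROB.sp a b i₀ lam *ᵥ u = u := ZEROB.sp_fix hab ha hb u hua hub hu0
  have hsq := ZEROB.sp_sq hab ha hb hl0
  obtain ⟨a', b', hrank⟩ := ZEROB.sp_rank hab ha hb hl0
  set S := ZEROB.sp a b i₀ lam with hS
  set y : Matrix (Fin n) (Fin n) K := ct D A * S * A with hy
  have hyM : y ∈ MS M := CT.conj_mem D hM hA hsp
  have hAy : A * y = S * A := by
    rw [hy, ← Matrix.mul_assoc, ← Matrix.mul_assoc, hAA', Matrix.one_mul]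
  have hyj : y *ᵥ Pi.single j₀ 1 = Pi.single j₀ 1 := by
    rw [hy, ← Matrix.mulVec_mulVec, ← Matrix.mulVec_mulVec, ← hu, hfix, hu, Matrix.mulVec_mulVec,
      hA'A, Matrix.one_mulVec]
  have hcm : ColMono y := by
    refine ⟨j₀, j₀, fun i hi => ?_⟩
    have := congrFun hyj i
    rw [Matrix.mulVec_single_one] at this
    rw [show y i j₀ = y.col j₀ i from rfl, this, Pi.single_eq_of_ne hi]
  have hym : IsMono y := hB y hyM hcm
  have hPy : Pres (q := q) y := Cfsg.Agent.S5658P.pres_of_MS hM hyM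
  obtain ⟨s, d, hyeq, hd⟩ := MONOFORM.exists y (ct D y) (CT.mul_self D hPy).1 hym
  have hyy : y * y = 1 := by
    calc y * y = ct D A * S * (A * y) := by rw [hy]; simp only [Matrix.mul_assoc]
      _ = ct D A * (S * S) * A := by rw [hAy]; simp only [Matrix.mul_assoc]
      _ = 1 := by rw [hsq, Matrix.mul_one, hA'A]
  have hs : ∀ k, s (s k) = k := by
    intro k
    have h1 : (y * y) *ᵥ Pi.single k 1 = Pi.single k 1 := by rw [hyy, Matrix.one_mulVec]
    rw [hyeq, mono_mul, mono_mulVec_single] at h1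
    have h3 := congrFun h1 ((s * s) k)
    rw [Pi.smul_apply, Pi.single_eq_same, smul_eq_mul, mul_one] at h3
    by_contra hne
    have hne' : (s * s) k ≠ k := hne
    rw [Pi.single_eq_of_ne hne'] at h3
    exact mul_ne_zero (hd _) (hd _) h3
  have hJ : ∀ k, k ≠ j₀ → s k ≠ k ∨ d k ≠ 1 := by
    intro k hk
    by_contra hcon
    push Not at hcon
    obtain ⟨hsk, hdk⟩ := hcon
    have hv : S *ᵥ (A *ᵥ Pi.single k 1) = A *ᵥ Pi.single k 1 := by
      rw [Matrix.mulVec_mulVec, ← hAy, ← Matrix.mulVec_mulVec, hyeq, mono_mulVec_single, hsk, hdk,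
        one_smul]
    have hz := ZEROB.fix_zero h2 ha hb lam _ hv
    rw [Matrix.mulVec_single_one] at hz
    exact hrow A hA hnm i₀ j₀ k (Ne.symm hk) h0 hz
  obtain ⟨ks, hksJ, hks⟩ := SELECT.invol s hs (Finset.univ.erase j₀) 3 (by
    rw [Finset.card_erase_of_mem (Finset.mem_univ _), Finset.card_univ, Fintype.card_fin]; omega)
  have hAy' : A * mono s d = S * A := by rw [← hyeq]; exact hAy
  exact MONORANK.main A (ct D A) S hA'A s d hd hAy' 1 2 a' b' hrank ks
    (fun i => hJ (ks i) (Finset.ne_of_mem_erase (hksJ i))) hks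

end Cfsg.Agent.S5655K1
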