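import Mathlib
import Cfsg.Agent.Helper28.S5658.Defs
import Cfsg.Agent.Helper28.S5658.Lib

/-! S5658 piece NOQUAD (helper19; driver helper28): in an extension of finite fields of odd prime degree an element
outside the small field satisfies no quadratic equation over it. -/

set_option autoImplicit false

namespace Cfsg.Agent.S5658P

open Matrix
open Cfsg.Agent.S2644 Cfsg.Agent.Helper2.SUGen Cfsg.Agent.Helper28.SimMax Cfsg.Agent.S5639P

variable {K : Type*} [Field K] {q n : ℕ}

/-- NOQUAD (M): an element outside `F₀` satisfies no quadratic equation over `F₀` (`[K : F₀] = r` is an odd prime). -/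
theorem NOQUAD.eq_zero [Fintype K] (F₀ : Subfield K) (r : ℕ) (hr : r.Prime) (hro : Odd r)
    (hcard : Fintype.card K = Nat.card F₀ ^ r) {τ a b c : K} (hτ : τ ∉ F₀) (ha : a ∈ F₀)
    (hb : b ∈ F₀) (hc : c ∈ F₀) (heq : a * τ ^ 2 + b * τ + c = 0) : a = 0 ∧ b = 0 ∧ c = 0 := by
  classical
  by_cases ha0 : a = 0
  · subst ha0
    have hb0 : b = 0 := by
      by_contra hb0
      apply hτ
      have e : τ = -c / b := by
        field_simp
        linear_combination heq
      rw [e]
      exact F₀.div_mem (F₀.neg_mem hc) hb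
    subst hb0
    refine ⟨rfl, rfl, ?_⟩
    simpa using heq
  · exfalso
    -- `finrank F₀ K = r`
    have hq : 2 ≤ Fintype.card F₀ := Fintype.one_lt_card
    have c1 : Fintype.card K = Fintype.card F₀ ^ Module.finrank F₀ K := Module.card_eq_pow_finrank
    rw [Nat.card_eq_fintype_card] at hcard
    have hrK : Module.finrank F₀ K = r :=
      Nat.pow_right_injective hq (by show Fintype.card F₀ ^ _ = Fintype.card F₀ ^ _; rw [← c1, hcard])
    -- the quadratic polynomial
    set p : Polynomial F₀ := Polynomial.C (⟨a, ha⟩ : F₀) * Polynomial.X ^ 2 +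
      Polynomial.C (⟨b, hb⟩ : F₀) * Polynomial.X + Polynomial.C (⟨c, hc⟩ : F₀) with hp
    have ha' : (⟨a, ha⟩ : F₀) ≠ 0 := fun e => ha0 (congrArg Subtype.val e)
    have hpdeg : p.natDegree = 2 := Polynomial.natDegree_quadratic ha'
    have hp0 : p ≠ 0 := by
      intro e
      rw [e, Polynomial.natDegree_zero] at hpdeg
      exact absurd hpdeg (by norm_num)
    have hroot : Polynomial.aeval τ p = 0 := by
      rw [hp]
      simp only [map_add, map_mul, map_pow, Polynomial.aeval_C, Polynomial.aeval_X]
      exact heq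
    have hint : IsIntegral F₀ τ := IsIntegral.of_finite F₀ τ
    have hdvd := minpoly.dvd F₀ τ hroot
    have hdeg : (minpoly F₀ τ).natDegree ≤ 2 := by
      rw [← hpdeg]
      exact Polynomial.natDegree_le_of_dvd hdvd hp0
    have hpos : 0 < (minpoly F₀ τ).natDegree := minpoly.natDegree_pos hint
    have hne1 : (minpoly F₀ τ).natDegree ≠ 1 := by
      intro h1
      obtain ⟨y, hy⟩ := (minpoly.natDegree_eq_one_iff).1 h1
      apply hτ
      rw [← hy]
      exact y.2
    have h2 : (minpoly F₀ τ).natDegree = 2 := by omega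
    have hfin : Module.finrank F₀ (IntermediateField.adjoin F₀ {τ}) = 2 := by
      rw [IntermediateField.adjoin.finrank hint, h2]
    have htower := Module.finrank_mul_finrank F₀ (IntermediateField.adjoin F₀ {τ}) K
    rw [hfin, hrK] at htower
    obtain ⟨k, hk⟩ := hro
    omega

end Cfsg.Agent.S5658P
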