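import Mathlib
import Cfsg.Prelude.Def_Classical
import Cfsg.Agent.Helper23.S5953Defs
import Cfsg.Agent.Helper28.HermCount
import Cfsg.Agent.Helper3.S5949NTS

set_option autoImplicit false
open scoped MatrixGroups Matrix

/-! S5953 piece EVENTIU, core (`EVENTIU.exists_ti_gen_u_of_step`, the pair step PAIRSTEPU as a
hypothesis): totally isotropic invariant subspaces of dimension
`b s` inside a nondegenerate invariant fixed-point-free subspace, by repeated use of PAIRSTEPU. -/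

universe u

namespace Cfsg.Agent.S5953P

open Polynomial Cfsg.Agent.S5955P Cfsg.Agent.Helper28.HW Cfsg.Agent.Helper28.HermFrame

namespace EVENTIU

/-- `OrthU` of a join with itself -/
theorem orthU_sup {F V : Type*} [Field F] [Fintype F] [AddCommGroup V] [Module F V]
    {σ : F →+* F} {q : ℕ} (B : V →ₛₗ[σ] V →ₗ[F] F) (hB : IsHerm q B) (U₁ U₂ : Submodule F V)
    (h11 : OrthU B U₁ U₁) (h12 : OrthU B U₁ U₂) (h22 : OrthU B U₂ U₂) :
    OrthU B (U₁ ⊔ U₂) (U₁ ⊔ U₂) := by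
  have h21 : OrthU B U₂ U₁ := OrthU.symm hB h12
  intro u hu v hv
  obtain ⟨a, ha, b, hb, rfl⟩ := Submodule.mem_sup.mp hu
  obtain ⟨a', ha', b', hb', rfl⟩ := Submodule.mem_sup.mp hv
  simp only [map_add, LinearMap.add_apply, h11 a ha a' ha', h12 a ha b' hb',
    h21 b hb a' ha', h22 b hb b' hb', add_zero]

/-- EVENTIU, with the pair step as a hypothesis -/
theorem exists_ti_gen_u_of_step {F V : Type*} [Field F] [Fintype F] [AddCommGroup V]
    [Module F V] [FiniteDimensional F V] {p : ℕ} [Fact p.Prime] [CharP F p] {q : ℕ} (r : ℕ)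
    [Fact r.Prime] (hr2 : r ≠ 2) (hrp : r ≠ p) {σ : F →+* F} (B : V →ₛₗ[σ] V →ₗ[F] F)
    (y : Module.End F V) (h : IsYU q B y r)
    (hstep : ∀ M : Submodule F V, M.map y ≤ M → NondegU B M →
      M ⊓ LinearMap.ker (y - 1) = ⊥ → r - 1 < Module.finrank F M →
      ∃ U₁ N₂ : Submodule F V, U₁ ≤ M ∧ N₂ ≤ M ∧ U₁.map y ≤ U₁ ∧ N₂.map y ≤ N₂ ∧
        OrthU B U₁ U₁ ∧ OrthU B U₁ N₂ ∧ Disjoint U₁ N₂ ∧ NondegU B N₂ ∧
        Module.finrank F U₁ = orderOf ((Fintype.card F : ℕ) : ZMod r) ∧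
        Module.finrank F N₂ + 2 * orderOf ((Fintype.card F : ℕ) : ZMod r) =
          Module.finrank F M)
    (M : Submodule F V) (hM : M.map y ≤ M)
    (hMnd : NondegU B M) (hMfix : M ⊓ LinearMap.ker (y - 1) = ⊥) (s : ℕ)
    (hs : s = 0 ∨ (r - 1) + 2 * s * orderOf ((Fintype.card F : ℕ) : ZMod r) ≤
      Module.finrank F M + orderOf ((Fintype.card F : ℕ) : ZMod r)) :
    ∃ U : Submodule F V, U ≤ M ∧ U.map y ≤ U ∧ OrthU B U U ∧
      Module.finrank F U = orderOf ((Fintype.card F : ℕ) : ZMod r) * s := by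
  have hipos : 0 < orderOf ((Fintype.card F : ℕ) : ZMod r) :=
    Cfsg.Agent.S5949P.orderOf_card_pos (F := F) (p := p) r hrp
  generalize hi : orderOf ((Fintype.card F : ℕ) : ZMod r) = i at *
  induction s generalizing M with
  | zero =>
    refine ⟨⊥, bot_le, ?_, ?_, ?_⟩
    · rw [Submodule.map_bot]
    · intro u hu v _
      rw [(Submodule.mem_bot F).mp hu, map_zero, LinearMap.zero_apply]
    · rw [finrank_bot, mul_zero]
  | succ s ih =>
    have hs' : (r - 1) + 2 * (s + 1) * i ≤ Module.finrank F M + i := by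
      rcases hs with h | h
      · exact absurd h (Nat.succ_ne_zero s)
      · exact h
    have hMdim : r - 1 < Module.finrank F M := by
      have : 2 * (s + 1) * i = 2 * s * i + i + i := by ring
      omega
    obtain ⟨U₁, N₂, hU₁M, hN₂M, hU₁inv, hN₂inv, h11, h1N₂, hdisj, hN₂nd, hU₁dim, hN₂dim⟩ :=
      hstep M hM hMnd hMfix hMdim
    have hN₂fix : N₂ ⊓ LinearMap.ker (y - 1) = ⊥ := by
      rw [eq_bot_iff, ← hMfix]
      exact inf_le_inf_right _ hN₂M
    obtain ⟨U₂, hU₂N₂, hU₂inv, h22, hU₂dim⟩ := ih N₂ hN₂inv hN₂nd hN₂fix (by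
      right
      have : 2 * (s + 1) * i = 2 * s * i + 2 * i := by ring
      omega)
    have h12 : OrthU B U₁ U₂ := fun u hu v hv => h1N₂ u hu v (hU₂N₂ hv)
    refine ⟨U₁ ⊔ U₂, sup_le hU₁M (hU₂N₂.trans hN₂M), ?_,
      orthU_sup B h.herm U₁ U₂ h11 h12 h22, ?_⟩
    · rw [Submodule.map_sup]
      exact sup_le_sup hU₁inv hU₂inv
    · have hd : Disjoint U₁ U₂ := hdisj.mono_right hU₂N₂
      have h1 := Submodule.finrank_sup_add_finrank_inf_eq U₁ U₂
      rw [hd.eq_bot, finrank_bot, add_zero] at h1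
      rw [h1, hU₁dim, hU₂dim]
      ring

end EVENTIU

end Cfsg.Agent.S5953P
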