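import Mathlib
import Cfsg.Prelude.Def_Classical
import Cfsg.Agent.Helper23.S5953Defs
import Cfsg.Agent.Helper28.HermCount
import Cfsg.Agent.Helper19.S5953EVENTIUcore
import Cfsg.Agent.Helper22.S5953PAIRSTEPU

set_option autoImplicit false
open scoped MatrixGroups Matrix

/-! S5953 piece EVENTIU (`exists_ti_gen_u`). -/

universe u

namespace Cfsg.Agent.S5953P

open Polynomial Cfsg.Agent.S5955P Cfsg.Agent.Helper28.HW Cfsg.Agent.Helper28.HermFrame

/-- EVENTIU -/
theorem exists_ti_gen_u {F V : Type*} [Field F] [Fintype F] [AddCommGroup V]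
    [Module F V] [FiniteDimensional F V] {p : ℕ} [Fact p.Prime] [CharP F p] {q : ℕ} (r : ℕ)
    [Fact r.Prime] (hr2 : r ≠ 2) (hrp : r ≠ p) {σ : F →+* F} (B : V →ₛₗ[σ] V →ₗ[F] F)
    (y : Module.End F V) (h : IsYU q B y r) (M : Submodule F V) (hM : M.map y ≤ M)
    (hMnd : NondegU B M) (hMfix : M ⊓ LinearMap.ker (y - 1) = ⊥) (s : ℕ)
    (hs : s = 0 ∨ (r - 1) + 2 * s * orderOf ((Fintype.card F : ℕ) : ZMod r) ≤
      Module.finrank F M + orderOf ((Fintype.card F : ℕ) : ZMod r)) :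
    ∃ U : Submodule F V, U ≤ M ∧ U.map y ≤ U ∧ OrthU B U U ∧
      Module.finrank F U = orderOf ((Fintype.card F : ℕ) : ZMod r) * s :=
  EVENTIU.exists_ti_gen_u_of_step (p := p) r hr2 hrp B y h
    (fun M' hM' hnd' hfix' hdim' =>
      exists_ti_pair_step_u (p := p) r hr2 hrp B y h M' hM' hnd' hfix' (Or.inr hdim'))
    M hM hMnd hMfix s hs

end Cfsg.Agent.S5953P
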