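import Mathlib
import Cfsg.Prelude.Def_Classical
import Cfsg.Agent.Helper23.S5953Defs
import Cfsg.Agent.Helper28.HermCount
import Cfsg.Agent.Helper7.S5953AUG1U
import Cfsg.Agent.Helper7.S5953POWSP
import Cfsg.Agent.Helper7.S5953PRODBU
import Cfsg.Agent.Helper25.S5953RESTRYU
import Cfsg.Agent.Helper18.S5953ARITHU
import Cfsg.Agent.Helper7.S5955AUG1
import Cfsg.Agent.Helper7.S5955AUGREC
import Cfsg.Agent.Helper26.S5955IRRDIV
import Cfsg.Agent.Helper26.S5955UNIQ
import Cfsg.Agent.Helper2.SympUnits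

set_option autoImplicit false
open scoped MatrixGroups Matrix

/-! S5953, piece MODELSPU (core): the abstract model space for the necessity direction
(`i ≡ 2 (mod 4)`), with the block decomposition of `Aug` (piece AUGBLOCKS) as a hypothesis. -/

universe u

namespace Cfsg.Agent.S5953P

open Polynomial Cfsg.Agent.S5955P Cfsg.Agent.Helper28.HW Cfsg.Agent.Helper28.HermFrame

namespace MODELSPU

/-- an orthogonal sum of nondegenerate subspaces is nondegenerate -/
theorem nondegU_biSup {F V : Type*} [Field F] [AddCommGroup V] [Module F V] {σ : F →+* F}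
    {B : V →ₛₗ[σ] V →ₗ[F] F} {U : Type*} (Φ : U → Submodule F V) (s : Finset U)
    (hnd : ∀ i ∈ s, NondegU B (Φ i))
    (horth : ∀ i ∈ s, ∀ k ∈ s, i ≠ k → OrthU B (Φ i) (Φ k)) :
    NondegU B (⨆ i ∈ s, Φ i) := by
  classical
  intro u hu hu0
  obtain ⟨μ, rfl⟩ := (Submodule.mem_iSup_finset_iff_exists_sum Φ u).mp hu
  obtain ⟨i, hi, hμi⟩ : ∃ i ∈ s, (μ i : V) ≠ 0 := by
    by_contra hcon
    push Not at hcon
    exact hu0 (Finset.sum_eq_zero hcon)
  obtain ⟨v, hv, hBv⟩ := hnd i hi _ (μ i).2 hμi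
  refine ⟨v, ?_, ?_⟩
  · exact (le_iSup₂ (f := fun i (_ : i ∈ s) => Φ i) i hi) hv
  · simp only [map_sum, LinearMap.sum_apply]
    rw [Finset.sum_eq_single_of_mem i hi]
    · exact hBv
    · intro k hk hki
      exact horth k hk i hi hki _ (μ k).2 _ hv

/-- the model attached to a nondegenerate invariant subspace, when `y` has no fixed points -/
theorem sub_model {F V : Type*} [Field F] [Fintype F] [AddCommGroup V] [Module F V]
    [FiniteDimensional F V] {q : ℕ} {σ : F →+* F} (B : V →ₛₗ[σ] V →ₗ[F] F)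
    (y : Module.End F V) (r : ℕ) (h : IsYU q B y r) (hker : LinearMap.ker (y - 1) = ⊥)
    (M : Submodule F V) (hM : ∀ v ∈ M, y v ∈ M) (hMnd : NondegU B M) :
    IsYU q (B.domRestrict₁₂ M M) (y.restrict hM) r ∧
    LinearMap.ker (y.restrict hM - 1) = ⊥ ∧
    ∀ g : F[X], Module.finrank F
      ↥(LinearMap.range (y.restrict hM - 1) ⊓ LinearMap.ker (aeval (y.restrict hM) g)) =
      Module.finrank F ↥(M ⊓ LinearMap.ker (aeval y g)) := by
  obtain ⟨hYM, hkerM, -, hρ⟩ := restrict_isYU B y r h M hM hMnd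
  have hk0 := hkerM hker
  refine ⟨hYM, hk0, fun g => ?_⟩
  rw [LinearMap.range_eq_top.mpr
    (LinearMap.injective_iff_surjective.mp (LinearMap.ker_eq_bot.mp hk0)), top_inf_eq, hρ g]

end MODELSPU

namespace MODELSPU

/-- MODELSPU, with the block decomposition of `Aug` (piece AUGBLOCKS) as a hypothesis -/
theorem exists_model_space_u_of_blocks {F : Type u} [Field F] [Fintype F] {p : ℕ}
    [Fact p.Prime] [CharP F p] {q : ℕ} (hF : Fintype.card F = q ^ 2) (σ : F →+* F)
    (hσ : ∀ a, σ a = a ^ q)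
    (r : ℕ) [Fact r.Prime] (hr2 : r ≠ 2) (hrp : r ≠ p)
    (hbl : ∃ E : Fin ((r - 1) / orderOf ((Fintype.card F : ℕ) : ZMod r)) →
        Submodule F (Aug F r),
      (∀ j, (E j).map (augS F r) ≤ E j) ∧ (∀ j, NondegU (augU σ r) (E j)) ∧
      (∀ j, Module.finrank F (E j) = orderOf ((Fintype.card F : ℕ) : ZMod r)) ∧
      (∀ j j', j ≠ j' → OrthU (augU σ r) (E j) (E j')) ∧ iSupIndep E ∧
      (⨆ j, E j) = ⊤)
    (bN κ : ℕ) (hb1 : 1 ≤ bN)
    (hb : bN ≤ (r - 1) / orderOf ((Fintype.card F : ℕ) : ZMod r) ∨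
      Even (bN - (r - 1) / orderOf ((Fintype.card F : ℕ) : ZMod r))) :
    ∃ (V : Type u) (_ : AddCommGroup V) (_ : Module F V) (_ : FiniteDimensional F V)
      (B : V →ₛₗ[σ] V →ₗ[F] F) (y : Module.End F V),
      IsYU q B y r ∧
      Module.finrank F V = κ + orderOf ((Fintype.card F : ℕ) : ZMod r) * bN ∧
      Module.finrank F (LinearMap.ker (y - 1)) = κ ∧
      ∃ g₀ : F[X], g₀.Monic ∧ g₀.natDegree = orderOf ((Fintype.card F : ℕ) : ZMod r) ∧
        (∀ g : F[X], g.Monic → g.natDegree = orderOf ((Fintype.card F : ℕ) : ZMod r) →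
          g ≠ g₀ →
          Module.finrank F ↥(LinearMap.range (y - 1) ⊓ LinearMap.ker (aeval y g)) ≤
            orderOf ((Fintype.card F : ℕ) : ZMod r)) ∧
        Module.finrank F ↥(LinearMap.range (y - 1) ⊓ LinearMap.ker (aeval y g₀)) ≤
          orderOf ((Fintype.card F : ℕ) : ZMod r) *
            (2 * ((bN - (r - 1) / orderOf ((Fintype.card F : ℕ) : ZMod r)) / 2) + 1) := by
  classical
  have hr : r.Prime := Fact.out
  obtain ⟨-, -, hbpos, hbr, -, -, -⟩ := cu_arith (F := F) (p := p) hF r hr2 hrp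
  obtain ⟨-, hker, hfr⟩ := aug_isYSp (F := F) (p := p) r hr2 hrp
  have hY : IsYU q (augU σ r) (augS F r) r := aug_isYU (p := p) hF σ hσ r hrp
  obtain ⟨b, hbdef⟩ : ∃ b : ℕ, b = orderOf ((Fintype.card F : ℕ) : ZMod r) := ⟨_, rfl⟩
  rw [← hbdef] at hbpos hbr hb hbl ⊢
  obtain ⟨t, ht⟩ := hbr
  have htdiv : (r - 1) / b = t := by rw [ht, Nat.mul_div_cancel_left _ hbpos]
  rw [htdiv] at hb hbl ⊢
  obtain ⟨E, hEinv, hEnd, hEdim, hEorth, hEind, hEsup⟩ := hbl
  have hinvE : ∀ j, ∀ v ∈ E j, augS F r v ∈ E j := fun j v hv => hEinv j ⟨v, hv, rfl⟩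
  have hrec : ∀ (M : Submodule F (Aug F r)) (g : F[X]), g.Monic → g.natDegree = b →
      Module.finrank F ↥(M ⊓ LinearMap.ker (aeval (augS F r) g)) ≤ b := by
    intro M g hg hgd
    calc Module.finrank F ↥(M ⊓ LinearMap.ker (aeval (augS F r) g))
        ≤ Module.finrank F (LinearMap.ker (aeval (augS F r) g)) :=
          Submodule.finrank_mono inf_le_right
      _ ≤ g.natDegree := aug_rec r g hg
      _ = b := hgd
  -- the model attached to a nondegenerate invariant subspace of `Aug`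
  have hsub := fun (M : Submodule F (Aug F r)) (hM : ∀ v ∈ M, augS F r v ∈ M)
      (hMnd : NondegU (augU σ r) M) =>
    sub_model (augU σ r) (augS F r) r hY hker M hM hMnd
  by_cases hbt : bN ≤ t
  · -- Model I
    obtain ⟨s, hs⟩ : ∃ s : Finset (Fin t), s = Finset.univ.filter (fun j => j.val < bN) :=
      ⟨_, rfl⟩
    have hscard : s.card = bN := by
      rw [hs, Fin.card_filter_val_lt]
      exact min_eq_right hbt
    have hMnd : NondegU (augU σ r) (⨆ j ∈ s, E j) :=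
      nondegU_biSup E s (fun j _ => hEnd j) (fun j _ k _ hjk => hEorth j k hjk)
    have hMinv : ∀ v ∈ (⨆ j ∈ s, E j), augS F r v ∈ (⨆ j ∈ s, E j) := by
      intro v hv
      have hle : (⨆ j ∈ s, E j).map (augS F r) ≤ ⨆ j ∈ s, E j := by
        simp only [Submodule.map_iSup]
        exact iSup₂_mono (fun j _ => hEinv j)
      exact hle ⟨v, hv, rfl⟩
    have hMfr : Module.finrank F ↥(⨆ j ∈ s, E j) = bN * b := by
      rw [Cfsg.Agent.Helper2.SympUnits.finrank_biSup E hEind s,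
        Finset.sum_congr rfl (fun j _ => hEdim j), Finset.sum_const, hscard, smul_eq_mul]
    obtain ⟨hYM, hkM, hρM⟩ := hsub _ hMinv hMnd
    obtain ⟨V, i1, i2, i3, B, y, hYV, hn, hk, hρ⟩ :=
      exists_power_space_u _ _ r hYM 1 κ
    refine ⟨V, i1, i2, i3, B, y, hYV, ?_, ?_, X ^ b, monic_X_pow b, natDegree_X_pow b, ?_, ?_⟩
    · rw [hn, hMfr]; ring
    · rw [hk, hkM, finrank_bot]; ring
    · intro g hg hgd _
      rw [hρ g, one_mul, hρM g]
      exact hrec _ g hg hgd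
    · rw [hρ, one_mul, hρM]
      calc _ ≤ b := hrec _ _ (monic_X_pow b) (natDegree_X_pow b)
        _ ≤ b * (2 * ((bN - t) / 2) + 1) := Nat.le_mul_of_pos_right _ (by omega)
  · -- Model II
    have hbe : Even (bN - t) := by
      rcases hb with hb | hb
      · exact absurd hb hbt
      · exact hb
    obtain ⟨w, hw⟩ := hbe
    have hbw : bN = t + 2 * w := by omega
    have hw2 : (bN - t) / 2 = w := by omega
    rw [hw2]
    have ht1 : 1 ≤ t := by
      rcases Nat.eq_zero_or_pos t with h0 | h0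
      · rw [h0, mul_zero] at ht
        have := hr.two_le
        omega
      · exact h0
    obtain ⟨j0, hj0⟩ : ∃ j0 : Fin t, j0 = ⟨0, ht1⟩ := ⟨_, rfl⟩
    have hE0fr : Module.finrank F ↥(E j0) = b := hEdim j0
    have hE0ne : E j0 ≠ ⊥ := by
      intro h0
      rw [h0, finrank_bot] at hE0fr
      omega
    have hfix0 : E j0 ⊓ LinearMap.ker (augS F r - 1) = ⊥ := by rw [hker, inf_bot_eq]
    have hirr := irr_of_finrank (p := p) r hrp (augS F r) hY.pow (E j0) (hEinv j0) hfix0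
      (by rw [hE0fr, hbdef])
    obtain ⟨-, u2, u3, -⟩ := monic_unique_of_irr (augS F r) (E j0) (hEinv j0) hirr
    obtain ⟨g₀, hg₀m, hg₀d, hg₀k⟩ := u3 hE0ne
    rw [hE0fr] at hg₀d
    obtain ⟨v0, hv0E, hv00⟩ := (Submodule.ne_bot_iff _).mp hE0ne
    have hρE : ∀ g : F[X], g.Monic → g.natDegree = b → g ≠ g₀ →
        Module.finrank F ↥(E j0 ⊓ LinearMap.ker (aeval (augS F r) g)) = 0 := by
      intro g hg hgd hne
      have hbot : E j0 ⊓ LinearMap.ker (aeval (augS F r) g) = ⊥ := by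
        rw [Submodule.eq_bot_iff]
        rintro v ⟨hvE, hvk⟩
        by_contra hv0
        apply hne
        exact u2 g g₀ hg hg₀m (by rw [hgd, hE0fr]) (by rw [hg₀d, hE0fr])
          ⟨v, hvE, hv0, LinearMap.mem_ker.mp hvk⟩ ⟨v0, hv0E, hv00, hg₀k v0 hv0E⟩
      rw [hbot, finrank_bot]
    -- `E₀ ^ (2 w) × F ^ κ`
    obtain ⟨hYE, hkE, hρE'⟩ := hsub (E j0) (hinvE j0) (hEnd j0)
    obtain ⟨V₁, i1, i2, i3, B₁, y₁, hYV₁, hn₁, hk₁, hρ₁⟩ :=
      exists_power_space_u _ _ r hYE (2 * w) κ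
    -- times `Aug`
    obtain ⟨hYP, hkP, hρP⟩ := prod_isYU (augU σ r) B₁ (augS F r) y₁ r hY hYV₁
    have hrange : LinearMap.range (augS F r - 1) = ⊤ :=
      LinearMap.range_eq_top.mpr
        (LinearMap.injective_iff_surjective.mp (LinearMap.ker_eq_bot.mp hker))
    refine ⟨Aug F r × V₁, inferInstance, inferInstance, inferInstance, prodU (augU σ r) B₁,
      (augS F r).prodMap y₁, hYP, ?_, ?_, g₀, hg₀m, hg₀d, ?_, ?_⟩
    · rw [Module.finrank_prod, hfr, hn₁, hE0fr, ht, hbw]; ring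
    · rw [hkP, hker, finrank_bot, hk₁, hkE, finrank_bot]; ring
    · intro g hg hgd hne
      rw [hρP g, hρ₁ g, hρE' g, hρE g hg hgd hne, mul_zero, add_zero, hrange, top_inf_eq]
      calc _ ≤ g.natDegree := aug_rec r g hg
        _ = b := hgd
    · rw [hρP g₀, hρ₁ g₀, hρE' g₀, hrange, top_inf_eq]
      have h1 : Module.finrank F (LinearMap.ker (aeval (augS F r) g₀)) ≤ b := by
        calc _ ≤ g₀.natDegree := aug_rec r g₀ hg₀m
          _ = b := hg₀d
      have h2 : Module.finrank F ↥(E j0 ⊓ LinearMap.ker (aeval (augS F r) g₀)) ≤ b := by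
        calc _ ≤ Module.finrank F ↥(E j0) := Submodule.finrank_mono inf_le_left
          _ = b := hE0fr
      calc _ ≤ b + 2 * w * b := Nat.add_le_add h1 (Nat.mul_le_mul_left _ h2)
        _ = b * (2 * w + 1) := by ring

end MODELSPU

end Cfsg.Agent.S5953P
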