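import Mathlib
import Cfsg.Prelude.Def_Classical
import Cfsg.Agent.Helper23.S5953Defs
import Cfsg.Agent.Helper28.HermCount
import Cfsg.Agent.Helper7.S5953AUG1U
import Cfsg.Agent.Helper7.S5953POWSP
import Cfsg.Agent.Helper7.S5953PRODBU
import Cfsg.Agent.Helper25.S5953RESTRYU
import Cfsg.Agent.Helper18.S5953ARITHU
import Cfsg.Agent.Helper7.S5955AUG1
import Cfsg.Agent.Helper7.S5955AUGREC
import Cfsg.Agent.Helper26.S5955IRRDIV
import Cfsg.Agent.Helper26.S5955UNIQ
import Cfsg.Agent.Helper2.SympUnits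
import Cfsg.Agent.Helper19.S5953MODELSPUcore
import Cfsg.Agent.Helper18.S5953AUGBLOCKS

set_option autoImplicit false
open scoped MatrixGroups Matrix

/-! S5953, piece MODELSPU: the abstract model space for the necessity direction
(`i ≡ 2 (mod 4)`). -/

universe u

namespace Cfsg.Agent.S5953P

open Polynomial Cfsg.Agent.S5955P Cfsg.Agent.Helper28.HW Cfsg.Agent.Helper28.HermFrame

/-- MODELSPU -/
theorem exists_model_space_u {F : Type u} [Field F] [Fintype F] {p : ℕ} [Fact p.Prime]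
    [CharP F p] {q : ℕ} (hF : Fintype.card F = q ^ 2) (σ : F →+* F) (hσ : ∀ a, σ a = a ^ q)
    (r : ℕ) [Fact r.Prime] (hr2 : r ≠ 2) (hrp : r ≠ p)
    (hsd : orderOf (q : ZMod r) % 4 = 2) (bN κ : ℕ) (hb1 : 1 ≤ bN)
    (hb : bN ≤ (r - 1) / orderOf ((Fintype.card F : ℕ) : ZMod r) ∨
      Even (bN - (r - 1) / orderOf ((Fintype.card F : ℕ) : ZMod r))) :
    ∃ (V : Type u) (_ : AddCommGroup V) (_ : Module F V) (_ : FiniteDimensional F V)
      (B : V →ₛₗ[σ] V →ₗ[F] F) (y : Module.End F V),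
      IsYU q B y r ∧
      Module.finrank F V = κ + orderOf ((Fintype.card F : ℕ) : ZMod r) * bN ∧
      Module.finrank F (LinearMap.ker (y - 1)) = κ ∧
      ∃ g₀ : F[X], g₀.Monic ∧ g₀.natDegree = orderOf ((Fintype.card F : ℕ) : ZMod r) ∧
        (∀ g : F[X], g.Monic → g.natDegree = orderOf ((Fintype.card F : ℕ) : ZMod r) →
          g ≠ g₀ →
          Module.finrank F ↥(LinearMap.range (y - 1) ⊓ LinearMap.ker (aeval y g)) ≤
            orderOf ((Fintype.card F : ℕ) : ZMod r)) ∧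
        Module.finrank F ↥(LinearMap.range (y - 1) ⊓ LinearMap.ker (aeval y g₀)) ≤
          orderOf ((Fintype.card F : ℕ) : ZMod r) *
            (2 * ((bN - (r - 1) / orderOf ((Fintype.card F : ℕ) : ZMod r)) / 2) + 1) := by
  exact MODELSPU.exists_model_space_u_of_blocks (p := p) hF σ hσ r hr2 hrp
    (aug_blocks_u (p := p) hF σ hσ r hr2 hrp hsd) bN κ hb1 hb

end Cfsg.Agent.S5953P
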