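import Mathlib
import Cfsg.Prelude.Def_Classical
import Cfsg.Agent.Helper23.S5953Defs
import Cfsg.Agent.Helper28.HermCount
import Cfsg.Agent.Helper7.S5953FIXSPLITU
import Cfsg.Agent.Helper18.S5953ARITHSUFFU
import Cfsg.Agent.Helper18.S5953TIEX0U
import Cfsg.Agent.Helper18.S5953ARITHU

set_option autoImplicit false
open scoped MatrixGroups Matrix

/-! S5953 piece SUFFU (core): assembly of the sufficiency direction for `r` odd, `r ≠ p`,
with the three inputs CUDVD, EVENTIU, ODDSUMU (at `M = range (y - 1)`) as hypotheses. -/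

universe u

namespace Cfsg.Agent.S5953P

open Polynomial Cfsg.Agent.S5955P Cfsg.Agent.Helper28.HW Cfsg.Agent.Helper28.HermFrame

namespace SUFFU

/-- SUFFU, with CUDVD / EVENTIU / ODDSUMU at `M = range (y - 1)` as hypotheses -/
theorem exists_ti_invariant_u_of {F V : Type*} [Field F] [Fintype F] [AddCommGroup V]
    [Module F V] [FiniteDimensional F V] {p : ℕ} [Fact p.Prime] [CharP F p] {q : ℕ} (r : ℕ)
    [Fact r.Prime] (hr2 : r ≠ 2) (hrp : r ≠ p) {σ : F →+* F} (B : V →ₛₗ[σ] V →ₗ[F] F)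
    (y : Module.End F V) (h : IsYU q B y r)
    (hcudvd : cu q r ∣ Module.finrank F (LinearMap.range (y - 1)))
    (hgen : ∀ s : ℕ, (s = 0 ∨ (r - 1) + 2 * s * orderOf ((Fintype.card F : ℕ) : ZMod r) ≤
        Module.finrank F (LinearMap.range (y - 1)) +
          orderOf ((Fintype.card F : ℕ) : ZMod r)) →
      ∃ U : Submodule F V, U ≤ LinearMap.range (y - 1) ∧ U.map y ≤ U ∧ OrthU B U U ∧
        Module.finrank F U = orderOf ((Fintype.card F : ℕ) : ZMod r) * s)
    (hnsdU : orderOf (q : ZMod r) % 4 ≠ 2 → ∀ s : ℕ,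
      2 * orderOf ((Fintype.card F : ℕ) : ZMod r) * s ≤
        Module.finrank F (LinearMap.range (y - 1)) →
      ∃ U : Submodule F V, U ≤ LinearMap.range (y - 1) ∧ U.map y ≤ U ∧ OrthU B U U ∧
        Module.finrank F U = orderOf ((Fintype.card F : ℕ) : ZMod r) * s)
    (m : ℕ) (hm2 : 2 * m ≤ Module.finrank F V)
    (h2 : 2 * (m % orderOf ((Fintype.card F : ℕ) : ZMod r)) ≤ Module.finrank F V % cu q r)
    (h3 : orderOf (q : ZMod r) % 4 ≠ 2 ∨
      (r - 1) / orderOf ((Fintype.card F : ℕ) : ZMod r) +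
        2 * (m / orderOf ((Fintype.card F : ℕ) : ZMod r)) ≤
      Module.finrank F V / orderOf ((Fintype.card F : ℕ) : ZMod r)) :
    ∃ W : Submodule F V, Module.finrank F W = m ∧ OrthU B W W ∧ W.map y ≤ W := by
  classical
  obtain ⟨-, -, hbpos, hbr, hcu, -, -⟩ := cu_arith (F := F) (p := p) h.herm.card r hr2 hrp
  obtain ⟨hcompl, hCN, hNC, hNinv, hCinv, hCnd, hNnd, hNfix⟩ :=
    fix_split_u (p := p) r hrp B y h
  obtain ⟨b, hbdef⟩ : ∃ b : ℕ, b = orderOf ((Fintype.card F : ℕ) : ZMod r) := ⟨_, rfl⟩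
  rw [← hbdef] at hbpos hbr hcu h2 h3
  have hsum : Module.finrank F (LinearMap.ker (y - 1)) +
      Module.finrank F (LinearMap.range (y - 1)) = Module.finrank F V :=
    Submodule.finrank_add_eq_of_isCompl hcompl
  have hdvd : cu q r ∣ Module.finrank F V - Module.finrank F (LinearMap.ker (y - 1)) := by
    have := hcudvd
    have e : Module.finrank F V - Module.finrank F (LinearMap.ker (y - 1)) =
        Module.finrank F (LinearMap.range (y - 1)) := by omega
    rw [e]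
    exact this
  have hti : (r - 1) / b * b = r - 1 := Nat.div_mul_cancel hbr
  obtain ⟨a', s, has, ha', hnsdc, hsdc⟩ := arith_suff_u (orderOf (q : ZMod r) % 4 = 2) b (cu q r)
    ((r - 1) / b) (Module.finrank F V) m (Module.finrank F (LinearMap.ker (y - 1))) hbpos
    hcu (by omega) hdvd hm2 h2 h3
  obtain ⟨U₀, hU₀C, hU₀ti, hU₀dim⟩ := exists_ti_sub_u B h.herm _ hCnd a' ha'
  obtain ⟨U, hUN, hUinv, hUti, hUdim⟩ : ∃ U : Submodule F V, U ≤ LinearMap.range (y - 1) ∧
      U.map y ≤ U ∧ OrthU B U U ∧ Module.finrank F U = b * s := by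
    by_cases hsd : orderOf (q : ZMod r) % 4 = 2
    · rw [hbdef]
      refine hgen s ?_
      rcases hsdc hsd with h0 | h1
      · exact Or.inl h0
      · right
        rw [← hbdef]
        rw [hti] at h1
        omega
    · rw [hbdef]
      refine hnsdU hsd s ?_
      have := hnsdc hsd
      rw [← hbdef]
      omega
  have hdisj : Disjoint U₀ U := by
    rw [Submodule.disjoint_def]
    intro v hv0 hv1
    have : v ∈ LinearMap.ker (y - 1) ⊓ LinearMap.range (y - 1) := ⟨hU₀C hv0, hUN hv1⟩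
    rw [hcompl.inf_eq_bot] at this
    exact (Submodule.mem_bot F).mp this
  refine ⟨U₀ ⊔ U, ?_, ?_, ?_⟩
  · have := Submodule.finrank_sup_add_finrank_inf_eq U₀ U
    rw [hdisj.eq_bot, finrank_bot, add_zero] at this
    rw [this, hU₀dim, hUdim, has]
  · intro u hu v hv
    obtain ⟨u₀, hu₀, u₁, hu₁, rfl⟩ := Submodule.mem_sup.mp hu
    obtain ⟨v₀, hv₀, v₁, hv₁, rfl⟩ := Submodule.mem_sup.mp hv
    rw [map_add, map_add, LinearMap.add_apply, LinearMap.add_apply, hU₀ti u₀ hu₀ v₀ hv₀,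
      hCN u₀ (hU₀C hu₀) v₁ (hUN hv₁), hNC u₁ (hUN hu₁) v₀ (hU₀C hv₀), hUti u₁ hu₁ v₁ hv₁]
    simp
  · rintro _ ⟨v, hv, rfl⟩
    obtain ⟨v₀, hv₀, v₁, hv₁, rfl⟩ := Submodule.mem_sup.mp hv
    rw [map_add]
    have h0 : y v₀ = v₀ := by
      have := LinearMap.mem_ker.mp (hU₀C hv₀)
      rw [LinearMap.sub_apply, Module.End.one_apply, sub_eq_zero] at this
      exact this
    rw [h0]
    exact Submodule.add_mem _ (Submodule.mem_sup_left hv₀)
      (Submodule.mem_sup_right (hUinv ⟨v₁, hv₁, rfl⟩))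

end SUFFU

end Cfsg.Agent.S5953P
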