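import Mathlib
import Cfsg.Prelude.Def_Classical
import Cfsg.Agent.Helper23.S5953Defs
import Cfsg.Agent.Helper28.HermCount
import Cfsg.Agent.Helper7.S5953FIXSPLITU
import Cfsg.Agent.Helper18.S5953ARITHSUFFU
import Cfsg.Agent.Helper18.S5953TIEX0U
import Cfsg.Agent.Helper18.S5953ARITHU
import Cfsg.Agent.Helper19.S5953SUFFUcore
import Cfsg.Agent.Helper19.S5953EVENTIU
import Cfsg.Agent.Helper22.S5953CUDVD
import Cfsg.Agent.Helper22.S5953ODDSUMU

set_option autoImplicit false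
open scoped MatrixGroups Matrix

/-! S5953 piece SUFFU (`exists_ti_invariant_u`): assembly of the sufficiency direction for
`r` odd, `r ≠ p`. -/

universe u

namespace Cfsg.Agent.S5953P

open Polynomial Cfsg.Agent.S5955P Cfsg.Agent.Helper28.HW Cfsg.Agent.Helper28.HermFrame

/-- SUFFU -/
theorem exists_ti_invariant_u {F V : Type*} [Field F] [Fintype F] [AddCommGroup V]
    [Module F V] [FiniteDimensional F V] {p : ℕ} [Fact p.Prime] [CharP F p] {q : ℕ} (r : ℕ)
    [Fact r.Prime] (hr2 : r ≠ 2) (hrp : r ≠ p) {σ : F →+* F} (B : V →ₛₗ[σ] V →ₗ[F] F)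
    (y : Module.End F V) (h : IsYU q B y r) (m : ℕ) (hm2 : 2 * m ≤ Module.finrank F V)
    (h2 : 2 * (m % orderOf ((Fintype.card F : ℕ) : ZMod r)) ≤ Module.finrank F V % cu q r)
    (h3 : orderOf (q : ZMod r) % 4 ≠ 2 ∨
      (r - 1) / orderOf ((Fintype.card F : ℕ) : ZMod r) +
        2 * (m / orderOf ((Fintype.card F : ℕ) : ZMod r)) ≤
      Module.finrank F V / orderOf ((Fintype.card F : ℕ) : ZMod r)) :
    ∃ W : Submodule F V, Module.finrank F W = m ∧ OrthU B W W ∧ W.map y ≤ W := by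
  obtain ⟨-, -, -, hNinv, -, -, hNnd, hNfix⟩ := fix_split_u (p := p) r hrp B y h
  exact SUFFU.exists_ti_invariant_u_of (p := p) r hr2 hrp B y h
    (cu_dvd_u (p := p) r hr2 hrp B y h _ hNinv hNnd hNfix)
    (fun s hs => exists_ti_gen_u (p := p) r hr2 hrp B y h _ hNinv hNnd hNfix s hs)
    (fun hsd s hs => (exists_ti_nsd_u (p := p) r hr2 hrp B y h hsd _ hNinv hNnd hNfix).2 s hs)
    m hm2 h2 h3

end Cfsg.Agent.S5953P
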