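import Mathlib
import Cfsg.Prelude.Def_ClassicalGeometry
import Cfsg.Agent.Helper1.S5956Defs
import Cfsg.Agent.Helper10.S5961ORTHC
import Cfsg.Agent.Helper23.S5961RESTR
import Cfsg.Agent.Helper22.S5956FRND
import Cfsg.Agent.Helper22.S5956PAIRS

set_option autoImplicit false
open scoped MatrixGroups

/-! S5956 piece FRSUCC: extending a hyperbolic frame by one pair. -/

universe u

namespace Cfsg.Agent.S5956P

open Polynomial Cfsg.Agent.Helper2.SympInvol Cfsg.Agent.Helper2.SympUnits Cfsg.Agent.S5961P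
  Cfsg.Agent.S5955P Cfsg.Agent.Helper2.InvolComb

namespace FRSUCC

variable {F V : Type*} [Field F] [AddCommGroup V] [Module F V]

/-- membership in the orthogonal of the span of a family of pairs -/
theorem mem_orth_frSpan (B : LinearMap.BilinForm F V) {s : ℕ} (g : Fin s → V × V) (v : V) :
    v ∈ B.orthogonal (frSpan F g) ↔ ∀ i, B (g i).1 v = 0 ∧ B (g i).2 v = 0 := by
  rw [LinearMap.BilinForm.mem_orthogonal_iff]
  constructor
  · intro h i
    exact ⟨h _ (Submodule.subset_span (Or.inl ⟨i, rfl⟩)),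
      h _ (Submodule.subset_span (Or.inr ⟨i, rfl⟩))⟩
  · intro h u hu
    show B u v = 0
    unfold frSpan at hu
    induction hu using Submodule.span_induction with
    | mem x hx =>
      rcases hx with ⟨i, rfl⟩ | ⟨i, rfl⟩
      · exact (h i).1
      · exact (h i).2
    | zero => simp
    | add x y _ _ hx hy => rw [map_add, LinearMap.add_apply, hx, hy, add_zero]
    | smul c x _ hx => rw [map_smul, LinearMap.smul_apply, hx, smul_zero]

/-- the frame conditions -/
def IsFr (B : LinearMap.BilinForm F V) {s : ℕ} (g : Fin s → V × V) : Prop :=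
  ∀ i j, B (g i).1 (g j).1 = 0 ∧ B (g i).2 (g j).2 = 0 ∧
    B (g i).1 (g j).2 = if i = j then 1 else 0

/-- the frame conditions for a frame extended by one pair -/
theorem isFr_snoc (B : LinearMap.BilinForm F V) (halt : ∀ v, B v v = 0) {s : ℕ}
    (g : Fin s → V × V) (p : V × V) :
    IsFr B (Fin.snoc (α := fun _ => V × V) g p) ↔
      IsFr B g ∧ (∀ i, (B (g i).1 p.1 = 0 ∧ B (g i).2 p.1 = 0) ∧
        (B (g i).1 p.2 = 0 ∧ B (g i).2 p.2 = 0)) ∧ B p.1 p.2 = 1 := by
  constructor
  · intro h
    refine ⟨fun i j => ?_, fun i => ⟨⟨?_, ?_⟩, ?_, ?_⟩, ?_⟩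
    · have := h i.castSucc j.castSucc
      simpa [Fin.snoc_castSucc] using this
    · have := (h i.castSucc (Fin.last s)).1
      simpa [Fin.snoc_castSucc, Fin.snoc_last] using this
    · have := (h (Fin.last s) i.castSucc).2.2
      rw [skew B halt]
      simpa [Fin.snoc_castSucc, Fin.snoc_last, (Fin.castSucc_lt_last i).ne'] using this
    · have := (h i.castSucc (Fin.last s)).2.2
      simpa [Fin.snoc_castSucc, Fin.snoc_last, (Fin.castSucc_lt_last i).ne] using this
    · have := (h i.castSucc (Fin.last s)).2.1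
      simpa [Fin.snoc_castSucc, Fin.snoc_last] using this
    · have := (h (Fin.last s) (Fin.last s)).2.2
      simpa [Fin.snoc_last] using this
  · rintro ⟨h1, h2, h3⟩ i j
    refine Fin.lastCases ?_ (fun i' => ?_) i <;> refine Fin.lastCases ?_ (fun j' => ?_) j
    · simp only [Fin.snoc_last, halt, h3, if_true, and_self]
    · simp only [Fin.snoc_last, Fin.snoc_castSucc]
      refine ⟨?_, ?_, ?_⟩
      · rw [skew B halt, (h2 j').1.1, neg_zero]
      · rw [skew B halt, (h2 j').2.2, neg_zero]
      · rw [skew B halt, (h2 j').1.2, neg_zero, if_neg (Fin.castSucc_lt_last j').ne']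
    · simp only [Fin.snoc_last, Fin.snoc_castSucc]
      exact ⟨(h2 i').1.1, (h2 i').2.2, by rw [(h2 i').2.1, if_neg (Fin.castSucc_lt_last i').ne]⟩
    · simp only [Fin.snoc_castSucc, Fin.castSucc_inj]
      exact h1 i' j'

/-- the counting statement, for the explicit subtypes -/
theorem card_succ_aux [Fintype F] [FiniteDimensional F V] (B : LinearMap.BilinForm F V)
    (halt : ∀ v, B v v = 0) (hnd : Nondeg B ⊤) (d s : ℕ) (hV : Module.finrank F V = 2 * d)
    (hs : s < d) :
    Nat.card {g : Fin (s + 1) → V × V // IsFr B g} = Nat.card {g : Fin s → V × V // IsFr B g} *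
      ((Fintype.card F ^ (2 * (d - s)) - 1) * Fintype.card F ^ (2 * (d - s) - 1)) := by
  classical
  haveI : Finite V := Module.finite_of_finite F
  haveI : Fintype {g : Fin s → V × V // IsFr B g} := Fintype.ofFinite _
  -- the restriction map
  obtain ⟨π, hπ⟩ : ∃ π : {g : Fin (s + 1) → V × V // IsFr B g} → {g : Fin s → V × V // IsFr B g},
      ∀ G, (π G).1 = Fin.init G.1 :=
    ⟨fun G => ⟨Fin.init G.1, fun i j => by
      have := G.2 i.castSucc j.castSucc
      simpa [Fin.init, Fin.castSucc_inj] using this⟩, fun _ => rfl⟩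
  rw [← Nat.card_congr (Equiv.sigmaFiberEquiv π), Nat.card_sigma]
  have key : ∀ g : {g : Fin s → V × V // IsFr B g},
      Nat.card {G : {g : Fin (s + 1) → V × V // IsFr B g} // π G = g} =
      (Fintype.card F ^ (2 * (d - s)) - 1) * Fintype.card F ^ (2 * (d - s) - 1) := by
    intro g
    obtain ⟨hUnd, hUfr⟩ := frSpan_nondeg B halt s (⟨g.1, g.2⟩ : HFr B s)
    change Nondeg B (frSpan F g.1) at hUnd
    change Module.finrank F ↥(frSpan F g.1) = 2 * s at hUfr
    obtain ⟨hc, -, -, hW, -, -⟩ := orth_compl B halt (frSpan F g.1) hUnd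
    have hWnd : Nondeg B (B.orthogonal (frSpan F g.1)) := hW hnd
    have hfr : Module.finrank F ↥(B.orthogonal (frSpan F g.1)) = 2 * (d - s) := by
      have := Submodule.finrank_add_eq_of_isCompl hc
      omega
    have hone : ∀ v ∈ B.orthogonal (frSpan F g.1),
        (1 : Module.End F V) v ∈ B.orthogonal (frSpan F g.1) := fun v hv => hv
    obtain ⟨-, hralt, -, hrnd, -⟩ := restr_transport B 1 (B.orthogonal (frSpan F g.1)) hone
    have hpairs := card_hyp_pairs (B.restrict (B.orthogonal (frSpan F g.1))) (hralt halt)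
      (hrnd.mpr hWnd) (d - s) hfr
    rw [← hpairs]
    have hgG : ∀ G : {G : {g : Fin (s + 1) → V × V // IsFr B g} // π G = g}, ∀ i : Fin s,
        g.1 i = G.1.1 i.castSucc := by
      intro G i
      have h1 : g.1 = Fin.init G.1.1 := by rw [← hπ, G.2]
      rw [h1]
      rfl
    refine Nat.card_congr ?_
    refine
      { toFun := fun G => ⟨(⟨(G.1.1 (Fin.last s)).1, ?_⟩, ⟨(G.1.1 (Fin.last s)).2, ?_⟩), ?_⟩
        invFun := fun p => ⟨⟨Fin.snoc (α := fun _ => V × V) g.1 (p.1.1.1, p.1.2.1), ?_⟩, ?_⟩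
        left_inv := ?_
        right_inv := ?_ }
    · -- `e_last ∈ W`
      rw [mem_orth_frSpan]
      intro i
      rw [hgG G i]
      refine ⟨(G.1.2 i.castSucc (Fin.last s)).1, ?_⟩
      rw [skew B halt, (G.1.2 (Fin.last s) i.castSucc).2.2, if_neg (Fin.castSucc_lt_last i).ne',
        neg_zero]
    · -- `f_last ∈ W`
      rw [mem_orth_frSpan]
      intro i
      rw [hgG G i]
      refine ⟨?_, (G.1.2 i.castSucc (Fin.last s)).2.1⟩
      rw [(G.1.2 i.castSucc (Fin.last s)).2.2, if_neg (Fin.castSucc_lt_last i).ne]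
    · -- `B e_last f_last = 1`
      show B (G.1.1 (Fin.last s)).1 (G.1.1 (Fin.last s)).2 = 1
      rw [(G.1.2 (Fin.last s) (Fin.last s)).2.2, if_pos rfl]
    · -- the extended family is a frame
      exact (isFr_snoc B halt g.1 (p.1.1.1, p.1.2.1)).mpr ⟨g.2, fun i =>
        ⟨(mem_orth_frSpan B g.1 _).mp p.1.1.2 i, (mem_orth_frSpan B g.1 _).mp p.1.2.2 i⟩, p.2⟩
    · -- its restriction is `g`
      apply Subtype.ext
      rw [hπ]
      exact Fin.init_snoc _ _
    · -- left inverse
      rintro ⟨G, hG⟩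
      apply Subtype.ext
      apply Subtype.ext
      show Fin.snoc (α := fun _ => V × V) g.1 ((G.1 (Fin.last s)).1, (G.1 (Fin.last s)).2) = G.1
      have h1 : g.1 = Fin.init G.1 := by rw [← hG, hπ]
      rw [h1]
      exact Fin.snoc_init_self _
    · -- right inverse
      rintro ⟨⟨⟨a, ha⟩, ⟨b, hb⟩⟩, hp⟩
      apply Subtype.ext
      apply Prod.ext
      · apply Subtype.ext
        show (Fin.snoc (α := fun _ => V × V) g.1 (a, b) (Fin.last s)).1 = a
        rw [Fin.snoc_last]
      · apply Subtype.ext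
        show (Fin.snoc (α := fun _ => V × V) g.1 (a, b) (Fin.last s)).2 = b
        rw [Fin.snoc_last]
  simp_rw [key]
  rw [Finset.sum_const, Finset.card_univ, smul_eq_mul, Nat.card_eq_fintype_card]

end FRSUCC

/-- FRSUCC: extending a hyperbolic frame by one pair -/
theorem card_HFr_succ {F V : Type*} [Field F] [Fintype F] [AddCommGroup V] [Module F V]
    [FiniteDimensional F V] (B : LinearMap.BilinForm F V) (halt : ∀ v, B v v = 0)
    (hnd : Nondeg B ⊤) (d s : ℕ) (hV : Module.finrank F V = 2 * d) (hs : s < d) :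
    Nat.card (HFr B (s + 1)) = Nat.card (HFr B s) *
      ((Fintype.card F ^ (2 * (d - s)) - 1) * Fintype.card F ^ (2 * (d - s) - 1)) :=
  FRSUCC.card_succ_aux B halt hnd d s hV hs

end Cfsg.Agent.S5956P
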