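import Mathlib
import Cfsg.Prelude.Def_ClassicalGeometry
import Cfsg.Agent.Helper1.S5956Defs
import Cfsg.Agent.Helper10.S5961ORTHC
import Cfsg.Agent.Helper23.S5961RESTR
import Cfsg.Agent.Helper18.S5961ISOM
import Cfsg.Agent.Helper22.S5956FRND
import Cfsg.Agent.Helper19.S5956FRSUCC

set_option autoImplicit false
open scoped MatrixGroups

/-! S5956 piece FRSPAN: the number of nondegenerate `2 s`-spaces divides the number of hyperbolic
`s`-frames. -/

universe u

namespace Cfsg.Agent.S5956P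

open Polynomial Cfsg.Agent.Helper2.SympInvol Cfsg.Agent.Helper2.SympUnits Cfsg.Agent.S5961P
  Cfsg.Agent.S5955P Cfsg.Agent.Helper2.InvolComb

namespace FRSPAN

open FRSUCC

variable {F : Type*} [Field F] {V V' : Type*} [AddCommGroup V] [Module F V] [AddCommGroup V']
  [Module F V']

/-- an isometry induces a bijection of frames -/
theorem card_frames_of_isometry (B : LinearMap.BilinForm F V) (B' : LinearMap.BilinForm F V')
    (e : V ≃ₗ[F] V') (he : ∀ u v, B' (e u) (e v) = B u v) (s : ℕ) :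
    Nat.card {g : Fin s → V × V // IsFr B g} = Nat.card {g : Fin s → V' × V' // IsFr B' g} := by
  have he' : ∀ a b, B (e.symm a) (e.symm b) = B' a b := by
    intro a b
    rw [← he, e.apply_symm_apply, e.apply_symm_apply]
  refine Nat.card_congr
    { toFun := fun g => ⟨fun i => (e (g.1 i).1, e (g.1 i).2), fun i j => ?_⟩
      invFun := fun g => ⟨fun i => (e.symm (g.1 i).1, e.symm (g.1 i).2), fun i j => ?_⟩
      left_inv := ?_
      right_inv := ?_ }
  · have := g.2 i j
    simpa only [he] using this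
  · have := g.2 i j
    simpa only [he'] using this
  · intro g
    apply Subtype.ext
    funext i
    simp
  · intro g
    apply Subtype.ext
    funext i
    simp

/-- the frames spanning a given subspace are the frames of that subspace -/
theorem card_fibre [FiniteDimensional F V] (B : LinearMap.BilinForm F V) (halt : ∀ v, B v v = 0)
    (s : ℕ) (W : Submodule F V) (hW : Module.finrank F ↥W = 2 * s) :
    Nat.card {g : {g : Fin s → V × V // IsFr B g} // frSpan F g.1 = W} =
      Nat.card {g : Fin s → ↥W × ↥W // IsFr (B.restrict W) g} := by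
  refine Nat.card_congr
    { toFun := fun g => ⟨fun i => (⟨(g.1.1 i).1, ?_⟩, ⟨(g.1.1 i).2, ?_⟩), fun i j => g.1.2 i j⟩
      invFun := fun g => ⟨⟨fun i => (((g.1 i).1 : V), ((g.1 i).2 : V)), fun i j => g.2 i j⟩, ?_⟩
      left_inv := ?_
      right_inv := ?_ }
  · have h : (g.1.1 i).1 ∈ frSpan F g.1.1 := Submodule.subset_span (Or.inl ⟨i, rfl⟩)
    rwa [g.2] at h
  · have h : (g.1.1 i).2 ∈ frSpan F g.1.1 := Submodule.subset_span (Or.inr ⟨i, rfl⟩)
    rwa [g.2] at h
  · -- the span of a frame inside `W` is `W`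
    have hle : frSpan F (fun i => (((g.1 i).1 : V), ((g.1 i).2 : V))) ≤ W := by
      unfold frSpan
      rw [Submodule.span_le]
      rintro x (⟨i, rfl⟩ | ⟨i, rfl⟩)
      · exact (g.1 i).1.2
      · exact (g.1 i).2.2
    have hfr := (frSpan_nondeg B halt s
      (⟨fun i => (((g.1 i).1 : V), ((g.1 i).2 : V)), fun i j => g.2 i j⟩ : HFr B s)).2
    exact Submodule.eq_of_le_of_finrank_eq hle (by rw [hW]; exact hfr)
  · intro g
    rfl
  · intro g
    rfl

end FRSPAN

open FRSUCC FRSPAN in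
/-- FRSPAN: the number of nondegenerate `2 s`-spaces divides the number of hyperbolic `s`-frames -/
theorem card_nd_dvd_card_HFr {F : Type*} [Field F] [Fintype F] (d m s : ℕ) (hm : m = 2 * s) :
    Nat.card {W : Submodule F (Fin d ⊕ Fin d → F) // Module.finrank F ↥W = m ∧
      (∀ u ∈ W, u ≠ 0 → ∃ v ∈ W, Cfsg.sympForm d F u v ≠ 0)} ∣ Nat.card (HFr (sB d F) s) := by
  classical
  haveI : Finite (Submodule F (Fin d ⊕ Fin d → F)) :=
    Finite.of_injective (fun W => (W : Set (Fin d ⊕ Fin d → F))) SetLike.coe_injective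
  haveI : Fintype {W : Submodule F (Fin d ⊕ Fin d → F) // Module.finrank F ↥W = m ∧
      (∀ u ∈ W, u ≠ 0 → ∃ v ∈ W, Cfsg.sympForm d F u v ≠ 0)} := Fintype.ofFinite _
  have halt : ∀ v, sB d F v v = 0 := sB_alt d F
  -- the span map
  obtain ⟨π, hπ⟩ : ∃ π : {g : Fin s → (Fin d ⊕ Fin d → F) × (Fin d ⊕ Fin d → F) //
      IsFr (sB d F) g} → {W : Submodule F (Fin d ⊕ Fin d → F) // Module.finrank F ↥W = m ∧
      (∀ u ∈ W, u ≠ 0 → ∃ v ∈ W, Cfsg.sympForm d F u v ≠ 0)},
      ∀ g, (π g).1 = frSpan F g.1 :=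
    ⟨fun g => ⟨frSpan F g.1, by
      rw [hm]; exact (frSpan_nondeg (sB d F) halt s (⟨g.1, g.2⟩ : HFr (sB d F) s)).2,
      (frSpan_nondeg (sB d F) halt s (⟨g.1, g.2⟩ : HFr (sB d F) s)).1⟩, fun _ => rfl⟩
  have hcard : Nat.card (HFr (sB d F) s) =
      Nat.card {W : Submodule F (Fin d ⊕ Fin d → F) // Module.finrank F ↥W = m ∧
        (∀ u ∈ W, u ≠ 0 → ∃ v ∈ W, Cfsg.sympForm d F u v ≠ 0)} *
      Nat.card {g : Fin s → (Fin s ⊕ Fin s → F) × (Fin s ⊕ Fin s → F) // IsFr (sB s F) g} := by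
    show Nat.card {g : Fin s → (Fin d ⊕ Fin d → F) × (Fin d ⊕ Fin d → F) // IsFr (sB d F) g} = _
    rw [← Nat.card_congr (Equiv.sigmaFiberEquiv π), Nat.card_sigma]
    have key : ∀ W : {W : Submodule F (Fin d ⊕ Fin d → F) // Module.finrank F ↥W = m ∧
        (∀ u ∈ W, u ≠ 0 → ∃ v ∈ W, Cfsg.sympForm d F u v ≠ 0)},
        Nat.card {g : {g : Fin s → (Fin d ⊕ Fin d → F) × (Fin d ⊕ Fin d → F) //
          IsFr (sB d F) g} // π g = W} =
        Nat.card {g : Fin s → (Fin s ⊕ Fin s → F) × (Fin s ⊕ Fin s → F) // IsFr (sB s F) g} := by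
      intro W
      have hWfr : Module.finrank F ↥W.1 = 2 * s := by rw [W.2.1, hm]
      have hWnd : Nondeg (sB d F) W.1 := W.2.2
      -- the fibre, as frames of `W`
      have h1 : Nat.card {g : {g : Fin s → (Fin d ⊕ Fin d → F) × (Fin d ⊕ Fin d → F) //
          IsFr (sB d F) g} // π g = W} =
          Nat.card {g : {g : Fin s → (Fin d ⊕ Fin d → F) × (Fin d ⊕ Fin d → F) //
            IsFr (sB d F) g} // frSpan F g.1 = W.1} := by
        refine Nat.card_congr (Equiv.subtypeEquivRight fun g => ?_)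
        rw [← hπ]
        exact ⟨fun h => by rw [h], fun h => Subtype.ext h⟩
      rw [h1, card_fibre (sB d F) halt s W.1 hWfr]
      -- an isometry to the standard space
      have hone : ∀ v ∈ W.1, (1 : Module.End F (Fin d ⊕ Fin d → F)) v ∈ W.1 := fun v hv => hv
      obtain ⟨-, hralt, -, hrnd, -⟩ := restr_transport (sB d F) 1 W.1 hone
      have hfin : Module.finrank F ↥W.1 = Module.finrank F (Fin s ⊕ Fin s → F) := by
        rw [hWfr, Module.finrank_fintype_fun_eq_card, Fintype.card_sum, Fintype.card_fin]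
        ring
      obtain ⟨e, he⟩ := exists_isometry ((sB d F).restrict W.1) (sB s F) (hralt halt)
        (sB_alt s F) (hrnd.mpr hWnd) (sB_nondeg s F) hfin
      exact card_frames_of_isometry _ _ e he s
    simp_rw [key]
    rw [Finset.sum_const, Finset.card_univ, smul_eq_mul, ← Nat.card_eq_fintype_card]
  rw [hcard]
  exact dvd_mul_right _ _

end Cfsg.Agent.S5956P
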