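import Mathlib
import Cfsg.Prelude.Def_ClassicalGeometry
import Cfsg.Agent.Helper1.S5956Defs

set_option autoImplicit false
open scoped MatrixGroups

/-! S5956 piece INVOLSUB: invariant nondegenerate subspaces from a system of planes permuted by
`X`. -/

universe u

namespace Cfsg.Agent.S5956P

open Polynomial Cfsg.Agent.Helper2.SympInvol Cfsg.Agent.Helper2.SympUnits Cfsg.Agent.S5961P
  Cfsg.Agent.S5955P Cfsg.Agent.Helper2.InvolComb

/-- INVOLSUB: invariant nondegenerate subspaces from a system of planes permuted by `X` -/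
theorem exists_nd_of_units {F V : Type*} [Field F] [AddCommGroup V] [Module F V]
    [FiniteDimensional F V] (B : LinearMap.BilinForm F V) (X : V →ₗ[F] V) {U : Type}
    [Fintype U] {τ : Equiv.Perm U} (hsys : UnitSys B X ⊤ U τ) (hstd : StdForm U τ) :
    ∃ a b : ℕ, 2 * a + 4 * b = Module.finrank F V ∧
      ∀ a' b' : ℕ, a' ≤ a → b' ≤ b →
        ∃ W : Submodule F V, Module.finrank F ↥W = 2 * a' + 4 * b' ∧ Nondeg B W ∧
          W.map X ≤ W := by
  classical
  obtain ⟨Φ, hind, hsup, hrk, hnd, horth, hperm⟩ := hsys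
  obtain ⟨P, S, hP, hS, e, he⟩ := hstd
  refine ⟨Fintype.card S, Fintype.card P, ?_, ?_⟩
  · -- the dimension
    have h1 : Module.finrank F ↥(⨆ i ∈ (Finset.univ : Finset U), Φ i) =
        ∑ i ∈ (Finset.univ : Finset U), Module.finrank F (Φ i) := finrank_biSup Φ hind Finset.univ
    have h2 : (⨆ i ∈ (Finset.univ : Finset U), Φ i) = ⊤ := by
      rw [← hsup]
      simp
    rw [h2, finrank_top] at h1
    rw [h1, Finset.sum_congr rfl (fun i _ => hrk i), Finset.sum_const, Finset.card_univ,
      smul_eq_mul, Fintype.card_congr e, Fintype.card_sum, Fintype.card_sum]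
    ring
  · intro a' b' ha' hb'
    obtain ⟨P', -, hP'⟩ := Finset.exists_subset_card_eq
      (s := (Finset.univ : Finset P)) (n := b') (by rw [Finset.card_univ]; exact hb')
    obtain ⟨S', -, hS'⟩ := Finset.exists_subset_card_eq
      (s := (Finset.univ : Finset S)) (n := a') (by rw [Finset.card_univ]; exact ha')
    obtain ⟨T, hT⟩ : ∃ T : Finset U, T = ((P'.disjSum P').disjSum S').map e.symm.toEmbedding :=
      ⟨_, rfl⟩
    have hmemT : ∀ i, i ∈ T ↔ e i ∈ (P'.disjSum P').disjSum S' := by
      intro i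
      rw [hT, Finset.mem_map_equiv, Equiv.symm_symm]
    have hcardT : T.card = 2 * b' + a' := by
      rw [hT, Finset.card_map, Finset.card_disjSum, Finset.card_disjSum, hP', hS']
      ring
    have hstab : ∀ i ∈ T, τ i ∈ T := by
      intro i hi
      rw [hmemT] at hi ⊢
      rw [he]
      rcases h : e i with (p | p) | s
      · rw [h] at hi
        have hp : p ∈ P' := by simpa using hi
        show (Sum.inl (Sum.inr p) : (P ⊕ P) ⊕ S) ∈ _
        simpa using hp
      · rw [h] at hi
        have hp : p ∈ P' := by simpa using hi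
        show (Sum.inl (Sum.inl p) : (P ⊕ P) ⊕ S) ∈ _
        simpa using hp
      · rw [h] at hi
        exact hi
    refine ⟨⨆ i ∈ T, Φ i, ?_, ?_, ?_⟩
    · rw [finrank_biSup Φ hind T, Finset.sum_congr rfl (fun i _ => hrk i), Finset.sum_const,
        smul_eq_mul, hcardT]
      ring
    · exact nondeg_biSup Φ T (fun i _ => hnd i) (fun i _ k _ hik => horth i k hik)
    · rw [Submodule.map_iSup]
      refine iSup_le fun i => ?_
      rw [Submodule.map_iSup]
      refine iSup_le fun hi => ?_
      rw [hperm i]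
      exact le_iSup₂ (f := fun k (_ : k ∈ T) => Φ k) (τ i) (hstab i hi)

end Cfsg.Agent.S5956P
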