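import Mathlib
import Cfsg.Prelude.Def_ClassicalGeometry
import Cfsg.Agent.Helper1.S5956Defs
import Cfsg.Agent.Helper19.S5956INVOLSUB

set_option autoImplicit false
open scoped MatrixGroups

/-! S5956 piece SUFF2: an isometric involution of a nondegenerate alternating space fixes
nondegenerate subspaces of the expected dimensions. -/

universe u

namespace Cfsg.Agent.S5956P

open Polynomial Cfsg.Agent.Helper2.SympInvol Cfsg.Agent.Helper2.SympUnits Cfsg.Agent.S5961P
  Cfsg.Agent.S5955P Cfsg.Agent.Helper2.InvolComb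

/-- SUFF2 (uses INVOLSUB, helper2 `hasUnits`) -/
theorem exists_nd_of_invol {F V : Type*} [Field F] [AddCommGroup V] [Module F V]
    [FiniteDimensional F V] (B : LinearMap.BilinForm F V) (halt : ∀ v, B v v = 0)
    (hnd : Nondeg B ⊤) (X : Module.End F V) (hX : ∀ u v, B (X u) (X v) = B u v)
    (hXX : ∀ v, X (X v) = v) (m : ℕ) (hme : Even m) (hm : m ≤ Module.finrank F V)
    (hcond : Module.finrank F V % 4 = 2 ∨ m % 4 = 0) :
    ∃ W : Submodule F V, Module.finrank F ↥W = m ∧ Nondeg B W ∧ W.map X ≤ W := by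
  have hXX' : ∀ v, X (X v) = (1 : F) • v := fun v => by rw [one_smul]; exact hXX v
  obtain ⟨U, hU, τ, hsys, hstd⟩ := hasUnits (X := X) halt hX (Or.inl rfl) hXX' ⊤
    (fun _ _ => Submodule.mem_top) hnd
  obtain ⟨a, b, hab, hall⟩ := exists_nd_of_units B X hsys hstd
  obtain ⟨k, hk⟩ := hme
  by_cases hkb : k / 2 ≤ b
  · have ha' : k % 2 ≤ a := by omega
    obtain ⟨W, hW1, hW2, hW3⟩ := hall (k % 2) (k / 2) ha' hkb
    exact ⟨W, by rw [hW1]; omega, hW2, hW3⟩
  · have ha' : k - 2 * b ≤ a := by omega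
    obtain ⟨W, hW1, hW2, hW3⟩ := hall (k - 2 * b) b ha' le_rfl
    exact ⟨W, by rw [hW1]; omega, hW2, hW3⟩

end Cfsg.Agent.S5956P
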