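import Mathlib
import Cfsg.Prelude.Def_GeometricClasses
import Cfsg.Agent.Helper29.S5965Defs
import Cfsg.Agent.Helper24.S5965DETKUM
import Cfsg.Agent.Helper15.S5965DIAG
import Cfsg.Agent.Helper24.S5965SYM
import Cfsg.Agent.Helper11.FinSub
import Cfsg.Agent.Helper26.S5965SYMRAT

/-!
S5965 piece ASM2 (generic form, ASMA as a hypothesis): `k = 2`, `r = n ∈ {3, 5}`, `v_r(q0 + 1) = 1`: every `X ∈ SL_n(F)` with `X ^ r`
scalar is conjugate into the subfield subgroup.
-/

set_option autoImplicit false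
open scoped MatrixGroups

namespace Cfsg.Agent.S5965P

open Polynomial

namespace ASM2

theorem toLin'_pow {F : Type*} [Field F] {ι : Type*} [Fintype ι] [DecidableEq ι]
    (M : Matrix ι ι F) (k : ℕ) : Matrix.toLin' (M ^ k) = (Matrix.toLin' M) ^ k := by
  induction k with
  | zero => rw [pow_zero, pow_zero, Matrix.toLin'_one]; rfl
  | succ k ih => rw [pow_succ, pow_succ, Matrix.toLin'_mul, ih]; rfl

/-- the arithmetic of `q = q0 ^ 2`, `v_r(q0 + 1) = 1` -/
theorem arith (q0 r : ℕ) (hr : r.Prime) (hr2 : r ≠ 2) (hq0 : 2 ≤ q0)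
    (hv : padicValNat r (q0 + 1) = 1) :
    r ∣ q0 + 1 ∧ r ∣ q0 ^ 2 - 1 ∧ ¬ r ^ 2 ∣ q0 ^ 2 - 1 := by
  haveI : Fact r.Prime := ⟨hr⟩
  have hd : r ∣ q0 + 1 := dvd_of_one_le_padicValNat (by rw [hv])
  have hnd : ¬ r ∣ q0 - 1 := by
    intro h
    have h2 : r ∣ (q0 + 1) - (q0 - 1) := Nat.dvd_sub hd h
    have h3 : (q0 + 1) - (q0 - 1) = 2 := by omega
    rw [h3] at h2
    have := (Nat.prime_dvd_prime_iff_eq hr Nat.prime_two).mp h2
    exact hr2 this
  have hfac : q0 ^ 2 - 1 = (q0 - 1) * (q0 + 1) := by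
    obtain ⟨k, rfl⟩ : ∃ k, q0 = k + 1 := ⟨q0 - 1, by omega⟩
    have h1 : (k + 1) ^ 2 = k * (k + 1 + 1) + 1 := by ring
    rw [h1]
    simp
  refine ⟨hd, ?_, ?_⟩
  · rw [hfac]; exact Dvd.dvd.mul_left hd _
  · rw [hfac]
    intro h
    have hcop : Nat.Coprime (r ^ 2) (q0 - 1) :=
      Nat.Coprime.pow_left 2 ((Nat.Prime.coprime_iff_not_dvd hr).mpr hnd)
    have h2 : r ^ 2 ∣ q0 + 1 := hcop.dvd_of_dvd_mul_left h
    have h3 : 2 ≤ padicValNat r (q0 + 1) :=
      (padicValNat_dvd_iff_le (by omega)).mp h2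
    omega

/-- `t + t⁻¹ ∈ F₀` for `t` a power of an element with `ξ ^ (q0 + 1) = 1` -/
theorem add_inv_mem {F : Type*} [Field F] [Fintype F] {p : ℕ} [Fact p.Prime] [CharP F p]
    (F₀ : Subfield F) (ξ : F) (hξ : ξ ^ (Nat.card F₀ + 1) = 1) (a : ℕ) :
    ξ ^ a + (ξ ^ a)⁻¹ ∈ F₀ := by
  classical
  haveI : Fintype F₀ := Fintype.ofFinite F₀
  haveI : CharP F₀ p := RingHom.charP F₀.subtype F₀.subtype_injective p
  obtain ⟨f, -, hf⟩ := FiniteField.card F₀ p
  have hcard : Nat.card F₀ = p ^ (f : ℕ) := by rw [Nat.card_eq_fintype_card, hf]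
  have hξ0 : ξ ≠ 0 := by
    rintro rfl
    rw [zero_pow (by omega)] at hξ
    exact zero_ne_one hξ
  have hinv : ξ ^ Nat.card F₀ = ξ⁻¹ := by
    apply eq_inv_of_mul_eq_one_left
    rw [← pow_succ]; exact hξ
  rw [Cfsg.Agent.Helper11.FinSub.mem_iff_pow_card, hcard, add_pow_char_pow, ← hcard,
    inv_pow, ← pow_mul, mul_comm, pow_mul, hinv, inv_pow, inv_inv, add_comm]

theorem core {F : Type*} [Field F] [Fintype F] {p : ℕ} [Fact p.Prime] [CharP F p]
    (F₀ : Subfield F) (r : ℕ) [Fact r.Prime] (hr2 : r ≠ 2) (hrp : r ≠ p)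
    (hq : Fintype.card F = Nat.card F₀ ^ 2)
    (hv : padicValNat r (Nat.card F₀ + 1) = 1)
    (hcen : ∀ e : Fin r → ZMod r, ∑ j, e j = 0 →
      ∃ c : ZMod r, ∀ a : ZMod r, Nat.card {j // e j = c + a} = Nat.card {j // e j = c - a})
    (X : Matrix.SpecialLinearGroup (Fin r) F)
    (hasma : ∀ μ : F, μ ≠ 0 →
      (X : Matrix (Fin r) (Fin r) F) ^ r = μ ^ r • (1 : Matrix (Fin r) (Fin r) F) →
      IsRat F₀ (μ⁻¹ • Matrix.toLin' (X : Matrix (Fin r) (Fin r) F)) →
      ∃ P : Matrix.SpecialLinearGroup (Fin r) F, P⁻¹ * X * P ∈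
        ((Cfsg.Geo.subfieldSubgroup F₀ 1).comap (Matrix.SpecialLinearGroup.toGL :
          Matrix.SpecialLinearGroup (Fin r) F →* GL (Fin r) F)))
    (hX : ∃ z : F, ((X ^ r : Matrix.SpecialLinearGroup (Fin r) F) : Matrix (Fin r) (Fin r) F) =
      z • (1 : Matrix (Fin r) (Fin r) F)) :
    ∃ P : Matrix.SpecialLinearGroup (Fin r) F, P⁻¹ * X * P ∈
      ((Cfsg.Geo.subfieldSubgroup F₀ 1).comap (Matrix.SpecialLinearGroup.toGL :
        Matrix.SpecialLinearGroup (Fin r) F →* GL (Fin r) F)) := by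
  classical
  have hr : r.Prime := Fact.out
  haveI : NeZero r := ⟨hr.ne_zero⟩
  obtain ⟨hd, hdq, hndq⟩ := arith (Nat.card F₀) r hr hr2
    (Cfsg.Agent.Helper11.FinSub.two_le_card F₀) hv
  rw [← hq] at hdq hndq
  obtain ⟨z, hz⟩ := hX
  rw [Matrix.SpecialLinearGroup.coe_pow] at hz
  set Xm : Matrix (Fin r) (Fin r) F := (X : Matrix (Fin r) (Fin r) F) with hXm
  have hdetX : Xm.det = 1 := X.2
  -- `z ^ r = 1`
  have hzr : z ^ r = 1 := by
    have h1 := congrArg Matrix.det hz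
    rw [Matrix.det_pow, hdetX, one_pow, Matrix.det_smul, Matrix.det_one, mul_one,
      Fintype.card_fin] at h1
    exact h1.symm
  have hz0 : z ≠ 0 := by
    rintro rfl
    rw [zero_pow hr.ne_zero] at hzr
    exact zero_ne_one hzr
  set x : Module.End F (Fin r → F) := Matrix.toLin' Xm with hxdef
  have hxz : x ^ r = z • (1 : Module.End F (Fin r → F)) := by
    rw [hxdef, ← toLin'_pow, hz, map_smul, Matrix.toLin'_one]
    rfl
  have hdetx : LinearMap.det x = 1 := by rw [hxdef, LinearMap.det_toLin', hdetX]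
  -- `z` is an `r`-th power
  have hpow : ∃ μ : F, μ ^ r = z := by
    by_contra hcon
    push_neg at hcon
    obtain ⟨s, hs, hdet⟩ := det_of_pow_eq_nonpower r hr2 x z hxz hcon
    rw [Module.finrank_fin_fun] at hs
    have hs1 : s = 1 := by
      have h1 : r * 1 = r * s := by rw [mul_one]; exact hs
      exact (Nat.eq_of_mul_eq_mul_left hr.pos h1).symm
    rw [hs1, pow_one, hdetx] at hdet
    exact hcon 1 (by rw [one_pow, hdet])
  obtain ⟨μ, hμ⟩ := hpow
  have hμ0 : μ ≠ 0 := by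
    rintro rfl
    rw [zero_pow hr.ne_zero] at hμ
    exact hz0 hμ.symm
  -- `z = 1`
  have hz1 : z = 1 := by
    have h1 : μ ^ (r ^ 2) = 1 := by rw [pow_two, pow_mul, hμ, hzr]
    have h2 : μ ^ (Fintype.card F - 1) = 1 := FiniteField.pow_card_sub_one_eq_one μ hμ0
    have h3 : orderOf μ ∣ r ^ 2 := orderOf_dvd_of_pow_eq_one h1
    have h4 : orderOf μ ∣ Fintype.card F - 1 := orderOf_dvd_of_pow_eq_one h2
    obtain ⟨k, hk, hk'⟩ := (Nat.dvd_prime_pow hr).mp h3
    have hk1 : k ≤ 1 := by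
      by_contra hlt
      have : k = 2 := by omega
      rw [this] at hk'
      rw [hk'] at h4
      exact hndq h4
    have h5 : orderOf μ ∣ r := by
      rw [hk']
      calc r ^ k ∣ r ^ 1 := pow_dvd_pow r hk1
        _ = r := pow_one r
    rw [← hμ]
    exact orderOf_dvd_iff_pow_eq_one.mp h5
  rw [hz1, one_smul] at hz hxz
  -- an element of order `r`
  have hcardu : Nat.card Fˣ = Fintype.card F - 1 := by
    rw [Nat.card_eq_fintype_card, Fintype.card_units]
  obtain ⟨u, hu⟩ := exists_prime_orderOf_dvd_card' (G := Fˣ) r (by rw [hcardu]; exact hdq)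
  set ξ : F := (u : F) with hξdef
  have hξ : orderOf ξ = r := by rw [hξdef, orderOf_units, hu]
  have hξ0 : ξ ≠ 0 := u.ne_zero
  have hξr : ξ ^ r = 1 := by rw [← hξ]; exact pow_orderOf_eq_one ξ
  -- eigenbasis
  obtain ⟨b, e, hb⟩ := exists_eigenbasis r ξ hξ x hxz r (Module.finrank_fin_fun F)
  have hmat : LinearMap.toMatrix b b x = Matrix.diagonal (fun j => ξ ^ (e j).val) := by
    ext i j
    rw [LinearMap.toMatrix_apply, hb, map_smul, Module.Basis.repr_self, Finsupp.smul_apply,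
      Finsupp.single_apply, Matrix.diagonal_apply, smul_eq_mul]
    by_cases hij : i = j
    · subst hij; simp
    · rw [if_neg hij, if_neg (fun h => hij h.symm), mul_zero]
  have hsum : ∑ j, e j = 0 := by
    have h1 : LinearMap.det x = ξ ^ (∑ j, (e j).val) := by
      rw [← LinearMap.det_toMatrix b, hmat, Matrix.det_diagonal, Finset.prod_pow_eq_pow_sum]
    rw [hdetx] at h1
    have h2 : r ∣ ∑ j, (e j).val := by
      have h2' := orderOf_dvd_of_pow_eq_one h1.symm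
      rwa [hξ] at h2'
    have h3 : ((∑ j, (e j).val : ℕ) : ZMod r) = ∑ j, e j := by
      rw [Nat.cast_sum]
      apply Finset.sum_congr rfl
      intro j _
      exact ZMod.natCast_zmod_val (e j)
    rw [← h3]
    exact (ZMod.natCast_eq_zero_iff _ r).mpr h2
  obtain ⟨c, hc⟩ := hcen e hsum
  -- the shifted element
  set y : Module.End F (Fin r → F) := ξ ^ (-c).val • x with hydef
  have hyb : ∀ j, y (b j) = ξ ^ (e j - c).val • b j := by
    intro j
    rw [hydef, LinearMap.smul_apply, hb, smul_smul, ← pow_add]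
    congr 1
    have hfin : IsOfFinOrder ξ := isOfFinOrder_iff_pow_eq_one.mpr ⟨r, hr.pos, hξr⟩
    rw [hfin.pow_eq_pow_iff_modEq, hξ, ← ZMod.natCast_eq_natCast_iff, Nat.cast_add,
      ZMod.natCast_zmod_val, ZMod.natCast_zmod_val, ZMod.natCast_zmod_val]
    ring
  have hysym : ∀ a : ZMod r, Nat.card {j // e j - c = a} = Nat.card {j // e j - c = -a} := by
    intro a
    have h1 : Nat.card {j // e j - c = a} = Nat.card {j // e j = c + a} :=
      Nat.card_congr (Equiv.subtypeEquivRight (fun j => sub_eq_iff_eq_add'))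
    have h2 : Nat.card {j // e j - c = -a} = Nat.card {j // e j = c - a} :=
      Nat.card_congr (Equiv.subtypeEquivRight (fun j => by
        rw [sub_eq_iff_eq_add', sub_eq_add_neg]))
    rw [h1, h2, hc a]
  have hξq : ξ ^ (Nat.card F₀ + 1) = 1 := by
    rw [← orderOf_dvd_iff_pow_eq_one, hξ]; exact hd
  have hrat : IsRat F₀ y :=
    isRat_of_symmetric F₀ r hr2 ξ hξ (add_inv_mem F₀ ξ hξq) y r b (fun j => e j - c) hyb hysym
  -- conclusion
  have hν0 : (ξ ^ (-c).val)⁻¹ ≠ 0 := inv_ne_zero (pow_ne_zero _ hξ0)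
  have hνr : ((ξ ^ (-c).val)⁻¹) ^ r = 1 := by
    rw [inv_pow, ← pow_mul, mul_comm, pow_mul, hξr, one_pow, inv_one]
  apply hasma ((ξ ^ (-c).val)⁻¹) hν0
  · rw [hνr, one_smul]; exact hz
  · rw [inv_inv]; exact hrat

/-- ASM2, with the statement of ASMA (`conj_of_scaled_pow_eq_one`) for `X` as a hypothesis. -/
theorem left_of_case_two_of {F : Type*} [Field F] [Fintype F] {p : ℕ} [Fact p.Prime] [CharP F p]
    (n : ℕ) (F₀ : Subfield F) (r : ℕ) [Fact r.Prime] (hr2 : r ≠ 2) (hrp : r ≠ p)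
    (hq : Fintype.card F = Nat.card F₀ ^ 2) (hrn : r = n) (hn : n = 3 ∨ n = 5)
    (hv : padicValNat r (Nat.card F₀ + 1) = 1)
    (X : Matrix.SpecialLinearGroup (Fin n) F)
    (hasma : ∀ μ : F, μ ≠ 0 →
      (X : Matrix (Fin n) (Fin n) F) ^ r = μ ^ r • (1 : Matrix (Fin n) (Fin n) F) →
      IsRat F₀ (μ⁻¹ • Matrix.toLin' (X : Matrix (Fin n) (Fin n) F)) →
      ∃ P : Matrix.SpecialLinearGroup (Fin n) F, P⁻¹ * X * P ∈
        ((Cfsg.Geo.subfieldSubgroup F₀ 1).comap (Matrix.SpecialLinearGroup.toGL :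
          Matrix.SpecialLinearGroup (Fin n) F →* GL (Fin n) F)))
    (hX : ∃ z : F, ((X ^ r : Matrix.SpecialLinearGroup (Fin n) F) : Matrix (Fin n) (Fin n) F) =
      z • (1 : Matrix (Fin n) (Fin n) F)) :
    ∃ P : Matrix.SpecialLinearGroup (Fin n) F, P⁻¹ * X * P ∈
      ((Cfsg.Geo.subfieldSubgroup F₀ 1).comap (Matrix.SpecialLinearGroup.toGL :
        Matrix.SpecialLinearGroup (Fin n) F →* GL (Fin n) F)) := by
  subst hrn
  apply core F₀ r hr2 hrp hq hv ?_ X hasma hX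
  rcases hn with h3 | h5
  · subst h3
    exact exists_center_three
  · subst h5
    exact exists_center_five

end ASM2

end Cfsg.Agent.S5965P
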