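import Mathlib
import Cfsg.Prelude.Def_GeometricClasses
import Cfsg.Agent.Helper29.S5965Defs

/-!
S5965 piece COMBINE: rational structures on two complementary invariant subspaces combine.
-/

set_option autoImplicit false
open scoped MatrixGroups

namespace Cfsg.Agent.S5965P

open Polynomial

/-- COMBINE -/
theorem isRat_of_isCompl {F V : Type*} [Field F] [AddCommGroup V] [Module F V]
    [FiniteDimensional F V] (F₀ : Subfield F)
    (x : Module.End F V) (U W : Submodule F V) (hUW : IsCompl U W)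
    (hU : ∀ v ∈ U, x v ∈ U) (hW : ∀ v ∈ W, x v ∈ W)
    (h1 : IsRat F₀ (x.restrict hU)) (h2 : IsRat F₀ (x.restrict hW)) : IsRat F₀ x := by
  obtain ⟨ι₁, _, _, b₁, M₁, h1⟩ := h1
  obtain ⟨ι₂, _, _, b₂, M₂, h2⟩ := h2
  let b : Module.Basis (ι₁ ⊕ ι₂) F V :=
    (b₁.prod b₂).map (Submodule.prodEquivOfIsCompl U W hUW)
  refine ⟨ι₁ ⊕ ι₂, inferInstance, inferInstance, b, Matrix.fromBlocks M₁ 0 0 M₂, ?_⟩
  have hbl : ∀ i, b (Sum.inl i) = (b₁ i : V) := by
    intro i
    simp [b]
  have hbr : ∀ j, b (Sum.inr j) = (b₂ j : V) := by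
    intro j
    simp [b]
  -- the restrictions in terms of the matrices
  have e1 : x.restrict hU = Matrix.toLin b₁ b₁ (M₁.map F₀.subtype) := by
    rw [← h1, Matrix.toLin_toMatrix]
  have e2 : x.restrict hW = Matrix.toLin b₂ b₂ (M₂.map F₀.subtype) := by
    rw [← h2, Matrix.toLin_toMatrix]
  have hx : x = Matrix.toLin b b ((Matrix.fromBlocks M₁ 0 0 M₂).map F₀.subtype) := by
    apply b.ext
    intro k
    rw [Matrix.toLin_self, Fintype.sum_sum_type]
    rcases k with j | j
    · have h3 : (x.restrict hU) (b₁ j) = ∑ i, (M₁.map F₀.subtype) i j • b₁ i := by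
        rw [e1, Matrix.toLin_self]
      have h4 : x (b₁ j : V) = ∑ i, (M₁.map F₀.subtype) i j • (b₁ i : V) := by
        have := congrArg (Subtype.val : U → V) h3
        rw [LinearMap.restrict_coe_apply] at this
        rw [this]
        simp
      rw [hbl, h4]
      simp [hbl, hbr]
    · have h3 : (x.restrict hW) (b₂ j) = ∑ i, (M₂.map F₀.subtype) i j • b₂ i := by
        rw [e2, Matrix.toLin_self]
      have h4 : x (b₂ j : V) = ∑ i, (M₂.map F₀.subtype) i j • (b₂ i : V) := by
        have := congrArg (Subtype.val : W → V) h3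
        rw [LinearMap.restrict_coe_apply] at this
        rw [this]
        simp
      rw [hbr, h4]
      simp [hbl, hbr]
  conv_lhs => rw [hx]
  rw [LinearMap.toMatrix_toLin]

end Cfsg.Agent.S5965P
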