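import Mathlib
import Cfsg.Prelude.Def_GeometricClasses
import Cfsg.Agent.Helper29.S5965Defs
import Cfsg.Agent.Helper17.S5949DEG

/-!
S5965 piece GDESC: if `ord_r(q) = ord_r(q0)` then every monic irreducible factor of `X^r - 1` over
`F` is the map of a polynomial over the subfield `F₀`.
-/

set_option autoImplicit false
open scoped MatrixGroups

namespace Cfsg.Agent.S5965P

open Polynomial

namespace GDESC

/-- a prime divisor of the map of a nonzero polynomial divides the map of an irreducible factor -/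
theorem exists_irreducible_factor_map {K L : Type*} [Field K] [Field L] (f : K →+* L)
    (a : K[X]) (ha : a ≠ 0) (g : L[X]) (hg : Prime g) (hdvd : g ∣ a.map f) :
    ∃ h : K[X], Irreducible h ∧ h ∣ a ∧ g ∣ h.map f := by
  classical
  have hassoc := UniqueFactorizationMonoid.factors_prod ha
  have h1 : a.map f ∣ ((UniqueFactorizationMonoid.factors a).prod).map f :=
    Polynomial.map_dvd f hassoc.symm.dvd
  have h2 : ((UniqueFactorizationMonoid.factors a).prod).map f =
      ((UniqueFactorizationMonoid.factors a).map (fun h => h.map f)).prod := by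
    rw [← Polynomial.coe_mapRingHom, map_multiset_prod]
  rw [h2] at h1
  obtain ⟨h, hh, hgh⟩ := hg.exists_mem_multiset_map_dvd (hdvd.trans h1)
  exact ⟨h, UniqueFactorizationMonoid.irreducible_of_factor h hh,
    UniqueFactorizationMonoid.dvd_of_mem_factors hh, hgh⟩

end GDESC

/-- GDESC -/
theorem factor_defined_over {F : Type*} [Field F] [Fintype F] {p : ℕ} [Fact p.Prime] [CharP F p]
    (F₀ : Subfield F) (r : ℕ) [Fact r.Prime] (hrp : r ≠ p)
    (hord : orderOf ((Fintype.card F : ℕ) : ZMod r) = orderOf ((Nat.card F₀ : ℕ) : ZMod r))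
    (g : F[X]) (hg : Irreducible g) (hgm : g.Monic) (hdvd : g ∣ X ^ r - 1) :
    ∃ g₀ : F₀[X], g₀.map F₀.subtype = g := by
  classical
  haveI : Fintype F₀ := Fintype.ofFinite F₀
  haveI : CharP F₀ p := RingHom.charP F₀.subtype F₀.subtype_injective p
  have hgp : Prime g := hg.prime
  rw [← cyclotomic_prime_mul_X_sub_one F r] at hdvd
  rcases hgp.dvd_or_dvd hdvd with h | h
  · -- `g ∣ Φ_r`
    rw [← map_cyclotomic r F₀.subtype] at h
    have hne : cyclotomic r F₀ ≠ 0 := cyclotomic_ne_zero r F₀
    obtain ⟨h₀, hirr, hdiv, hgh⟩ :=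
      GDESC.exists_irreducible_factor_map F₀.subtype (cyclotomic r F₀) hne g hgp h
    have hdeg₀ : h₀.natDegree = orderOf ((Fintype.card F₀ : ℕ) : ZMod r) :=
      Cfsg.Agent.S5949P.natDegree_of_dvd_cyclotomic r hrp h₀ hirr hdiv
    have hg' : g ∣ cyclotomic r F := by
      rw [← map_cyclotomic r F₀.subtype]; exact h
    have hdeg : g.natDegree = orderOf ((Fintype.card F : ℕ) : ZMod r) :=
      Cfsg.Agent.S5949P.natDegree_of_dvd_cyclotomic r hrp g hg hg'
    have hcard : Nat.card F₀ = Fintype.card F₀ := Nat.card_eq_fintype_card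
    rw [hcard] at hord
    have h₀ne : h₀ ≠ 0 := hirr.ne_zero
    refine ⟨h₀ * C (leadingCoeff h₀)⁻¹, ?_⟩
    have hmon : (h₀ * C (leadingCoeff h₀)⁻¹).Monic := monic_mul_leadingCoeff_inv h₀ne
    have hmon' : ((h₀ * C (leadingCoeff h₀)⁻¹).map F₀.subtype).Monic := hmon.map _
    have hdvd' : g ∣ (h₀ * C (leadingCoeff h₀)⁻¹).map F₀.subtype := by
      rw [Polynomial.map_mul]
      exact Dvd.dvd.mul_right hgh _
    have hdeg' : ((h₀ * C (leadingCoeff h₀)⁻¹).map F₀.subtype).natDegree ≤ g.natDegree := by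
      rw [Polynomial.natDegree_map, natDegree_mul_leadingCoeff_inv h₀ h₀ne, hdeg₀, hdeg, hord]
    exact eq_of_monic_of_dvd_of_natDegree_le hgm hmon' hdvd' hdeg'
  · -- `g ∣ X - 1`
    refine ⟨X - 1, ?_⟩
    have hmon : (X - 1 : F[X]).Monic := by
      have := monic_X_sub_C (1 : F)
      rwa [C_1] at this
    have hdeg : (X - 1 : F[X]).natDegree ≤ g.natDegree := by
      have h1 : (X - 1 : F[X]).natDegree = 1 := by
        have := natDegree_X_sub_C (1 : F)
        rwa [C_1] at this
      rw [h1]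
      exact hg.natDegree_pos
    have := eq_of_monic_of_dvd_of_natDegree_le hgm hmon h hdeg
    rw [← this]
    simp

end Cfsg.Agent.S5965P
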