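import Mathlib
import Cfsg.Prelude.Def_GeometricClasses
import Cfsg.Agent.Helper29.S5965Defs
import Cfsg.Agent.Helper19.S5965COMBINE
import Cfsg.Agent.Helper19.S5965GDESC
import Cfsg.Agent.Helper3.S5965RATIRR
import Cfsg.Agent.Helper21.S5950SEMI
import Cfsg.Agent.Helper21.S5949Basic

/-!
S5965 piece RAT: if `ord_r(q) = ord_r(q0)` then every `x` with `x ^ r = 1` is rational over `F₀`.
-/

set_option autoImplicit false
open scoped MatrixGroups

namespace Cfsg.Agent.S5965P

open Polynomial

namespace RAT

universe u

/-- an endomorphism of a zero-dimensional space is rational -/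
theorem isRat_of_subsingleton {F V : Type*} [Field F] [AddCommGroup V] [Module F V]
    [Subsingleton V] (F₀ : Subfield F) (x : Module.End F V) : IsRat F₀ x := by
  refine ⟨Fin 0, inferInstance, inferInstance, Module.Basis.empty V, 0, ?_⟩
  ext i
  exact i.elim0

/-- an irreducible monic factor of the minimal polynomial with nonzero kernel -/
theorem exists_factor {F V : Type*} [Field F] [AddCommGroup V] [Module F V]
    [FiniteDimensional F V] [Nontrivial V] (x : Module.End F V) (P : F[X]) (hP : aeval x P = 0) :
    ∃ g : F[X], Irreducible g ∧ g.Monic ∧ g ∣ P ∧ LinearMap.ker (aeval x g) ≠ ⊥ := by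
  have hint : IsIntegral F x := Algebra.IsIntegral.isIntegral x
  have hμ0 : minpoly F x ≠ 0 := minpoly.ne_zero hint
  have hμu : ¬ IsUnit (minpoly F x) := minpoly.not_isUnit F x
  obtain ⟨g', hg'irr, hg'dvd⟩ := WfDvdMonoid.exists_irreducible_factor hμu hμ0
  have hg'0 : g' ≠ 0 := hg'irr.ne_zero
  have hlc : leadingCoeff g' ≠ 0 := mt leadingCoeff_eq_zero.1 hg'0
  have hunit : IsUnit (C (leadingCoeff g')⁻¹ : F[X]) :=
    Polynomial.isUnit_C.mpr (IsUnit.mk0 _ (inv_ne_zero hlc))
  have hassoc : Associated g' (g' * C (leadingCoeff g')⁻¹) :=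
    (associated_mul_unit_right g' _ hunit)
  refine ⟨g' * C (leadingCoeff g')⁻¹, hassoc.irreducible hg'irr,
    monic_mul_leadingCoeff_inv hg'0, ?_, ?_⟩
  · exact (hassoc.symm.dvd.trans hg'dvd).trans (minpoly.dvd F x hP)
  · set g := g' * C (leadingCoeff g')⁻¹ with hgdef
    have hgirr : Irreducible g := hassoc.irreducible hg'irr
    have hgdvd : g ∣ minpoly F x := hassoc.symm.dvd.trans hg'dvd
    obtain ⟨h, hh⟩ := hgdvd
    intro hker
    have hinj : Function.Injective (aeval x g) := LinearMap.ker_eq_bot.mp hker
    have hzero : aeval x h = 0 := by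
      ext v
      apply hinj
      rw [LinearMap.zero_apply, map_zero, ← Module.End.mul_apply, ← map_mul, ← hh, minpoly.aeval]
      rfl
    have h1 : minpoly F x ∣ h := minpoly.dvd F x hzero
    have hh0 : h ≠ 0 := by
      rintro rfl
      rw [mul_zero] at hh
      exact hμ0 hh
    rw [hh] at h1
    have h2 : g * h ∣ 1 * h := by rwa [one_mul]
    have h3 : g ∣ 1 := (mul_dvd_mul_iff_right hh0).mp h2
    exact hgirr.not_isUnit (isUnit_of_dvd_one h3)

theorem aux {F : Type*} [Field F] [Fintype F] {p : ℕ} [Fact p.Prime] [CharP F p]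
    (F₀ : Subfield F) (r : ℕ) [Fact r.Prime] (hrp : r ≠ p)
    (hord : orderOf ((Fintype.card F : ℕ) : ZMod r) = orderOf ((Nat.card F₀ : ℕ) : ZMod r)) :
    ∀ (n : ℕ) (V : Type u) [AddCommGroup V] [Module F V] [FiniteDimensional F V]
      (x : Module.End F V), x ^ r = 1 → Module.finrank F V = n → IsRat F₀ x := by
  intro n
  induction n using Nat.strong_induction_on with
  | _ n ih =>
    intro V _ _ _ x hx hn
    by_cases hn0 : n = 0
    · rw [hn0] at hn
      haveI : Subsingleton V := Module.finrank_zero_iff.mp hn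
      exact isRat_of_subsingleton F₀ x
    · haveI : Nontrivial V := by
        apply Module.nontrivial_of_finrank_pos (R := F)
        omega
      have hr0 : (r : F) ≠ 0 := by
        rw [Ne, CharP.cast_eq_zero_iff F p r]
        intro h
        have hp : p.Prime := Fact.out
        have hr : r.Prime := Fact.out
        exact hrp ((Nat.prime_dvd_prime_iff_eq hp hr).mp h).symm
      have hP : aeval x (X ^ r - 1 : F[X]) = 0 := by
        rw [map_sub, map_pow, aeval_X, map_one, hx, sub_self]
      obtain ⟨g, hgirr, hgm, hgdvd, hgker⟩ := exists_factor x (X ^ r - 1) hP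
      obtain ⟨g₀, hg₀⟩ := factor_defined_over F₀ r hrp hord g hgirr hgm hgdvd
      set U : Submodule F V := LinearMap.ker (aeval x g) with hUdef
      have hcomm : aeval x g * x = x * aeval x g := by
        have h1 : aeval x (g * X) = aeval x (X * g) := by rw [mul_comm]
        rw [map_mul, map_mul, aeval_X] at h1
        exact h1
      have hU : ∀ v ∈ U, x v ∈ U := by
        intro v hv
        rw [hUdef, LinearMap.mem_ker] at hv ⊢
        rw [← Module.End.mul_apply, hcomm, Module.End.mul_apply, hv, map_zero]
      have hUmap : U.map x ≤ U := by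
        rintro _ ⟨v, hv, rfl⟩
        exact hU v hv
      have h1 : IsRat F₀ (x.restrict hU) := by
        apply isRat_of_irreducible F₀ (x.restrict hU) g₀
        · rw [hg₀]; exact hgm
        · rw [hg₀]; exact hgirr
        · rw [hg₀]
          apply Cfsg.Agent.S5949P.Basic.aeval_restrict_eq_zero x U hU g
          intro v hv
          exact hv
      have hx1 : x ^ r = (1 : F) • (1 : Module.End F V) := by rw [one_smul]; exact hx
      obtain ⟨W, hUW, hWmap⟩ :=
        Cfsg.Agent.S5949P.exists_invariant_compl x r 1 one_ne_zero hr0 hx1 U hUmap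
      have hW : ∀ v ∈ W, x v ∈ W := fun v hv => hWmap ⟨v, hv, rfl⟩
      have hxW : (x.restrict hW) ^ r = 1 := by
        ext w
        have := Cfsg.Agent.S5949P.Basic.pow_intertwine W.subtype (x.restrict hW) x
          (fun _ => rfl) r w
        simp only [Submodule.subtype_apply] at this
        rw [this, hx]
        rfl
      have hdim : Module.finrank F U + Module.finrank F W = Module.finrank F V :=
        Submodule.finrank_add_eq_of_isCompl hUW
      have hUpos : 0 < Module.finrank F U := by
        rw [Nat.pos_iff_ne_zero, Ne, Submodule.finrank_eq_zero]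
        exact hgker
      have h2 : IsRat F₀ (x.restrict hW) :=
        ih (Module.finrank F W) (by omega) W (x.restrict hW) hxW rfl
      exact isRat_of_isCompl F₀ x U W hUW hU hW h1 h2

end RAT

/-- RAT (uses COMBINE, GDESC, RATIRR, S5949P.exists_invariant_compl) -/
theorem isRat_of_pow_eq_one {F V : Type*} [Field F] [Fintype F] [AddCommGroup V] [Module F V]
    [FiniteDimensional F V] {p : ℕ} [Fact p.Prime] [CharP F p]
    (F₀ : Subfield F) (r : ℕ) [Fact r.Prime] (hrp : r ≠ p)
    (hord : orderOf ((Fintype.card F : ℕ) : ZMod r) = orderOf ((Nat.card F₀ : ℕ) : ZMod r))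
    (x : Module.End F V) (hx : x ^ r = 1) : IsRat F₀ x :=
  RAT.aux F₀ r hrp hord (Module.finrank F V) V x hx rfl

end Cfsg.Agent.S5965P
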