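import Mathlib
import Cfsg.Prelude.Def_GeometricClasses
import Cfsg.Prelude.Def_ClassicalGeometry
import Cfsg.Agent.Helper29.S5976Defs
import Cfsg.Agent.Helper7.SpGU1
import Cfsg.Agent.Helper2.UnitaryGU
import Cfsg.Agent.Helper2.SpForm

set_option autoImplicit false
set_option linter.style.haveILetI false
open scoped MatrixGroups

/-! S5976, piece MODEL: a model `K₀` of the quadratic field subalgebra (type `GU_d(q)`) in
`M_{2d}(F)`, with `|GU_d(q)|` dividing `|Sp ∩ N(K₀)|`. -/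

namespace Cfsg.Agent.S5976P

namespace MODEL

open Matrix Module Cfsg.Agent.Helper13 Cfsg.Agent.S2639 Cfsg.Agent.Helper7.SpGU

section

variable {K F : Type*} [Field K] [Fintype K] [Field F] [Fintype F] [Algebra F K] {q : ℕ}
  (hK : Fintype.card K = q ^ 2) (hF : Fintype.card F = q)

variable {m : ℕ} (B : Basis (Fin m ⊕ Fin m) F (Fin m → K))

/-- the scalar embedding `K → M_{2m}(F)` -/
noncomputable def Phi (c : K) : Matrix (Fin m ⊕ Fin m) (Fin m ⊕ Fin m) F :=
  Nmat B (c • (1 : Matrix (Fin m) (Fin m) K))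

omit [Fintype K] [Fintype F] in
theorem Phi_one : Phi B 1 = 1 := by
  unfold Phi
  rw [one_smul, Nmat_one]

omit [Fintype K] [Fintype F] in
theorem Phi_mul (a b : K) : Phi B (a * b) = Phi B a * Phi B b := by
  unfold Phi
  rw [← Nmat_mul, smul_mul_smul_comm, mul_one]

omit [Fintype K] [Fintype F] in
theorem Phi_add (a b : K) : Phi B (a + b) = Phi B a + Phi B b := by
  unfold Phi
  rw [add_smul, Nmat_add]

omit [Fintype K] [Fintype F] in
theorem Phi_zero : Phi B 0 = 0 := by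
  unfold Phi
  rw [zero_smul, Nmat_zero]

omit [Fintype K] [Fintype F] in
theorem Phi_algebraMap (s : F) :
    Phi B (algebraMap F K s) = s • (1 : Matrix (Fin m ⊕ Fin m) (Fin m ⊕ Fin m) F) := by
  unfold Phi Nmat
  have : (Matrix.toLin' ((algebraMap F K s) • (1 : Matrix (Fin m) (Fin m) K))).restrictScalars F =
      s • LinearMap.id := by
    apply LinearMap.ext
    intro u
    show Matrix.toLin' ((algebraMap F K s) • (1 : Matrix (Fin m) (Fin m) K)) u = s • u
    rw [Matrix.toLin'_apply, Matrix.smul_mulVec, Matrix.one_mulVec, algebraMap_smul]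
  rw [this, map_smul, LinearMap.toMatrix_id]

omit [Fintype K] [Fintype F] in
theorem Phi_injective (hm : 1 ≤ m) : Function.Injective (Phi B) := by
  intro a b hab
  have := Nmat_injective B hab
  have h := congrFun (congrFun this ⟨0, hm⟩) ⟨0, hm⟩
  simpa using h

/-- `Phi` as an algebra homomorphism -/
noncomputable def PhiAlg : K →ₐ[F] Matrix (Fin m ⊕ Fin m) (Fin m ⊕ Fin m) F where
  toFun := Phi B
  map_one' := Phi_one B
  map_mul' := Phi_mul B
  map_zero' := Phi_zero B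
  map_add' := Phi_add B
  commutes' := fun s => by rw [Phi_algebraMap, Algebra.algebraMap_eq_smul_one]

omit [Fintype K] [Fintype F] in
theorem PhiAlg_apply (c : K) : PhiAlg B c = Phi B c := rfl

omit [Fintype K] [Fintype F] in
theorem Nmat_mulVec_repr (g : Matrix (Fin m) (Fin m) K) (x : Fin m → K) :
    Nmat B g *ᵥ ⇑(B.repr x) = ⇑(B.repr (g *ᵥ x)) := by
  unfold Nmat
  rw [LinearMap.toMatrix_mulVec_repr]
  rfl

omit [Fintype K] [Fintype F] in
theorem Phi_mulVec_repr (c : K) (x : Fin m → K) :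
    Phi B c *ᵥ ⇑(B.repr x) = ⇑(B.repr (c • x)) := by
  unfold Phi
  rw [Nmat_mulVec_repr, Matrix.smul_mulVec, Matrix.one_mulVec]

omit [Fintype K] [Fintype F] in
theorem exists_repr_eq (u : Fin m ⊕ Fin m → F) : ∃ x : Fin m → K, ⇑(B.repr x) = u :=
  ⟨B.equivFun.symm u, by
    rw [← Basis.equivFun_apply, LinearEquiv.apply_symm_apply]⟩

theorem symp_repr {lam : K} {δ : F}
    (hG : LinearMap.BilinForm.toMatrix B (fV hK hF m lam) = δ • Matrix.J (Fin m) F)
    (x y : Fin m → K) :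
    δ * Cfsg.sympForm m F (B.repr x) (B.repr y) = fV hK hF m lam x y := by
  rw [LinearMap.BilinForm.apply_eq_dotProduct_toMatrix_mulVec B, hG, Matrix.smul_mulVec,
    dotProduct_smul, smul_eq_mul]
  rfl

theorem Phi_adj {lam : K} {δ : F} (hδ0 : δ ≠ 0)
    (hG : LinearMap.BilinForm.toMatrix B (fV hK hF m lam) = δ • Matrix.J (Fin m) F)
    (c : K) (u v : Fin m ⊕ Fin m → F) :
    Cfsg.sympForm m F (Phi B c *ᵥ u) v = Cfsg.sympForm m F u (Phi B (c ^ q) *ᵥ v) := by
  obtain ⟨x, rfl⟩ := exists_repr_eq B u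
  obtain ⟨y, rfl⟩ := exists_repr_eq B v
  rw [Phi_mulVec_repr, Phi_mulVec_repr]
  apply mul_left_cancel₀ hδ0
  rw [symp_repr hK hF B hG, symp_repr hK hF B hG, fV_apply, fV_apply]
  congr 2
  unfold Cfsg.hermForm
  apply Finset.sum_congr rfl
  intro i _
  simp only [Pi.smul_apply, smul_eq_mul, mul_pow]
  rw [pow_card_sq hK]
  ring

include hK hF in
theorem hypK (hm : 1 ≤ m) {lam : K} {δ : F} (hδ0 : δ ≠ 0)
    (hG : LinearMap.BilinForm.toMatrix B (fV hK hF m lam) = δ • Matrix.J (Fin m) F) :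
    HypK m F (PhiAlg B).range := by
  have hinj := Phi_injective B hm
  refine ⟨⟨?_, ?_, ?_⟩, ?_, ?_⟩
  · rintro _ ⟨a, rfl⟩ _ ⟨b, rfl⟩
    show Phi B a * Phi B b = Phi B b * Phi B a
    rw [← Phi_mul, ← Phi_mul, mul_comm]
  · rintro _ ⟨a, rfl⟩ ha
    have ha' : Phi B a ≠ 0 := ha
    have ha0 : a ≠ 0 := by
      rintro rfl
      exact ha' (Phi_zero B)
    refine ⟨Phi B a⁻¹, ⟨a⁻¹, rfl⟩, ?_⟩
    show Phi B a * Phi B a⁻¹ = 1
    rw [← Phi_mul, mul_inv_cancel₀ ha0, Phi_one]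
  · have e : K ≃ₗ[F] ↥(PhiAlg B).range :=
      (AlgEquiv.ofInjective (PhiAlg B) hinj).toLinearEquiv
    rw [← e.finrank_eq]
    exact finrank_eq_two_of_card hK hF
  · rintro _ ⟨c, rfl⟩
    exact ⟨Phi B (c ^ q), ⟨c ^ q, rfl⟩, fun u v => Phi_adj hK hF B hδ0 hG c u v⟩
  · intro hself
    obtain ⟨θ, hθ⟩ := exists_not_mem_range (algebraMap F K) hK hF
    have h1 : ∀ u v, Cfsg.sympForm m F (Phi B θ *ᵥ u) v =
        Cfsg.sympForm m F u (Phi B θ *ᵥ v) := hself (Phi B θ) ⟨θ, rfl⟩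
    have h2 : Phi B θ = Phi B (θ ^ q) := by
      rw [Matrix.ext_iff_mulVec]
      intro v
      rw [← sub_eq_zero]
      by_contra hne
      obtain ⟨x, hx⟩ := Cfsg.Agent.Helper2.Sp.exists_om_ne_zero hne
      apply hx
      rw [Cfsg.Agent.Helper2.Sp.om_swap, neg_eq_zero, Cfsg.Agent.Helper2.Sp.om_sub_right,
        sub_eq_zero]
      exact (h1 x v).symm.trans (Phi_adj hK hF B hδ0 hG θ x v)
    have h3 := hinj h2
    obtain ⟨x, hx⟩ := exists_of_pow_card_eq (algebraMap F K) hF θ h3.symm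
    exact hθ x hx

/-- the embedding of `GU_m(K)` into `GL_{2m}(F)` -/
noncomputable def psi : ↥(Cfsg.GU m K q) →* GL (Fin m ⊕ Fin m) F where
  toFun g := ⟨Nmat B ((g : GL (Fin m) K) : Matrix (Fin m) (Fin m) K),
    Nmat B (((g : GL (Fin m) K)⁻¹ : GL (Fin m) K) : Matrix (Fin m) (Fin m) K),
    by rw [← Nmat_mul, ← Units.val_mul, mul_inv_cancel, Units.val_one, Nmat_one],
    by rw [← Nmat_mul, ← Units.val_mul, inv_mul_cancel, Units.val_one, Nmat_one]⟩
  map_one' := Units.ext (by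
    show Nmat B (((1 : ↥(Cfsg.GU m K q)) : GL (Fin m) K) : Matrix (Fin m) (Fin m) K) = 1
    rw [Subgroup.coe_one, Units.val_one, Nmat_one])
  map_mul' := fun g h => Units.ext (by
    show Nmat B (((g * h : ↥(Cfsg.GU m K q)) : GL (Fin m) K) : Matrix (Fin m) (Fin m) K) =
      Nmat B ((g : GL (Fin m) K) : Matrix (Fin m) (Fin m) K) *
        Nmat B ((h : GL (Fin m) K) : Matrix (Fin m) (Fin m) K)
    rw [Subgroup.coe_mul, Units.val_mul, Nmat_mul])

omit [Fintype K] [Fintype F] in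
theorem psi_val (g : ↥(Cfsg.GU m K q)) :
    ((psi B g : GL (Fin m ⊕ Fin m) F) : Matrix (Fin m ⊕ Fin m) (Fin m ⊕ Fin m) F) =
      Nmat B ((g : GL (Fin m) K) : Matrix (Fin m) (Fin m) K) := rfl

omit [Fintype K] [Fintype F] in
theorem psi_inv_val (g : ↥(Cfsg.GU m K q)) :
    (((psi B g)⁻¹ : GL (Fin m ⊕ Fin m) F) : Matrix (Fin m ⊕ Fin m) (Fin m ⊕ Fin m) F) =
      Nmat B (((g : GL (Fin m) K)⁻¹ : GL (Fin m) K) : Matrix (Fin m) (Fin m) K) := rfl

omit [Fintype K] [Fintype F] in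
theorem psi_injective : Function.Injective (psi (q := q) B) := by
  intro g h hgh
  have h1 : Nmat B ((g : GL (Fin m) K) : Matrix (Fin m) (Fin m) K) =
      Nmat B ((h : GL (Fin m) K) : Matrix (Fin m) (Fin m) K) := by
    rw [← psi_val, ← psi_val, hgh]
  exact Subtype.ext (Units.ext (Nmat_injective B h1))

omit [Fintype K] [Fintype F] in
/-- conjugation by the image of an invertible `K`-matrix fixes the scalars -/
theorem conj_fix (g : GL (Fin m) K) (c : K) :
    Nmat B (g : Matrix (Fin m) (Fin m) K) * Phi B c *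
      Nmat B ((g⁻¹ : GL (Fin m) K) : Matrix (Fin m) (Fin m) K) = Phi B c := by
  unfold Phi
  rw [← Nmat_mul, ← Nmat_mul, Matrix.mul_smul, Matrix.mul_one, Matrix.smul_mul, ← Units.val_mul,
    mul_inv_cancel, Units.val_one]

include hK hF in
theorem psi_mem {lam : K} {δ : F} (hδ0 : δ ≠ 0)
    (hG : LinearMap.BilinForm.toMatrix B (fV hK hF m lam) = δ • Matrix.J (Fin m) F)
    (g : ↥(Cfsg.GU m K q)) :
    psi B g ∈ Cfsg.spGL m F ⊓ Cfsg.Geo.subalgebraNormalizer (PhiAlg B).range := by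
  refine ⟨?_, ?_⟩
  · have hg : ∀ u v, Cfsg.hermForm m K q
        (((g : GL (Fin m) K) : Matrix (Fin m) (Fin m) K) *ᵥ u)
        (((g : GL (Fin m) K) : Matrix (Fin m) (Fin m) K) *ᵥ v) = Cfsg.hermForm m K q u v := g.2
    have h1 := Nmat_mem_sp hK hF B hδ0 hG _ hg
    intro u v
    exact Cfsg.Agent.Helper2.Sp.mem_symplectic_iff_om.mp h1 u v
  · intro k
    show k ∈ (PhiAlg B).range ↔
      ((psi B g : GL (Fin m ⊕ Fin m) F) : Matrix (Fin m ⊕ Fin m) (Fin m ⊕ Fin m) F) * k *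
        (((psi B g)⁻¹ : GL (Fin m ⊕ Fin m) F) : Matrix (Fin m ⊕ Fin m) (Fin m ⊕ Fin m) F) ∈
          (PhiAlg B).range
    rw [psi_val, psi_inv_val]
    constructor
    · rintro ⟨c, rfl⟩
      refine ⟨c, ?_⟩
      show Phi B c = Nmat B ((g : GL (Fin m) K) : Matrix (Fin m) (Fin m) K) * Phi B c *
        Nmat B (((g : GL (Fin m) K)⁻¹ : GL (Fin m) K) : Matrix (Fin m) (Fin m) K)
      exact (conj_fix B (g : GL (Fin m) K) c).symm
    · rintro ⟨c, hc⟩
      refine ⟨c, ?_⟩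
      have hc' : Phi B c = Nmat B ((g : GL (Fin m) K) : Matrix (Fin m) (Fin m) K) * k *
          Nmat B (((g : GL (Fin m) K)⁻¹ : GL (Fin m) K) : Matrix (Fin m) (Fin m) K) := hc
      have h1 := conj_fix B (g : GL (Fin m) K)⁻¹ c
      rw [inv_inv] at h1
      have h2 : Nmat B (((g : GL (Fin m) K)⁻¹ : GL (Fin m) K) : Matrix (Fin m) (Fin m) K) *
          Nmat B ((g : GL (Fin m) K) : Matrix (Fin m) (Fin m) K) = 1 := by
        rw [← Nmat_mul, ← Units.val_mul, inv_mul_cancel, Units.val_one, Nmat_one]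
      show Phi B c = k
      rw [← h1, hc']
      calc _ = (Nmat B (((g : GL (Fin m) K)⁻¹ : GL (Fin m) K) : Matrix (Fin m) (Fin m) K) *
          Nmat B ((g : GL (Fin m) K) : Matrix (Fin m) (Fin m) K)) * k *
          (Nmat B (((g : GL (Fin m) K)⁻¹ : GL (Fin m) K) : Matrix (Fin m) (Fin m) K) *
          Nmat B ((g : GL (Fin m) K) : Matrix (Fin m) (Fin m) K)) := by
            simp only [Matrix.mul_assoc]
        _ = k := by rw [h2, Matrix.one_mul, Matrix.mul_one]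

include hK hF in
theorem card_dvd {lam : K} {δ : F} (hδ0 : δ ≠ 0)
    (hG : LinearMap.BilinForm.toMatrix B (fV hK hF m lam) = δ • Matrix.J (Fin m) F) :
    Nat.card ↥(Cfsg.GU m K q) ∣
      Nat.card ↥(Cfsg.spGL m F ⊓ Cfsg.Geo.subalgebraNormalizer (PhiAlg B).range) := by
  have hle : (psi (q := q) B).range ≤
      Cfsg.spGL m F ⊓ Cfsg.Geo.subalgebraNormalizer (PhiAlg B).range := by
    rintro _ ⟨g, rfl⟩
    exact psi_mem hK hF B hδ0 hG g
  rw [Nat.card_congr (MonoidHom.ofInjective (psi_injective (q := q) B)).toEquiv]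
  exact Subgroup.card_dvd_of_le hle

end

end MODEL

/-- MODEL (uses Helper7.SpGU1, Helper2.UnitaryGU.card_GU_closed) -/
theorem exists_model {F : Type*} [Field F] [Fintype F] (h2 : (2 : F) ≠ 0) (d : ℕ) (hd : 1 ≤ d) :
    ∃ K₀ : Subalgebra F (Matrix (Fin d ⊕ Fin d) (Fin d ⊕ Fin d) F), HypK d F K₀ ∧
      (Fintype.card F ^ (d * (d - 1) / 2) * ∏ m ∈ Finset.range d,
        (if Even m then Fintype.card F ^ (m + 1) + 1 else Fintype.card F ^ (m + 1) - 1)) ∣
        Nat.card ↥(Cfsg.spGL d F ⊓ Cfsg.Geo.subalgebraNormalizer K₀) := by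
  classical
  obtain ⟨p, hp⟩ := CharP.exists F
  haveI : CharP F p := hp
  haveI : Fact p.Prime := ⟨CharP.char_is_prime F p⟩
  obtain ⟨n, -, hn⟩ := FiniteField.card F p
  have hn0 : 2 * (n : ℕ) ≠ 0 := by
    have := n.pos
    omega
  letI : Fintype (GaloisField p (2 * (n : ℕ))) := Fintype.ofFinite _
  have hF : Fintype.card F = Fintype.card F := rfl
  have hK : Fintype.card (GaloisField p (2 * (n : ℕ))) = Fintype.card F ^ 2 := by
    rw [← Nat.card_eq_fintype_card, GaloisField.card p _ hn0, hn, ← pow_mul, mul_comm]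
  obtain ⟨ι₀⟩ := Cfsg.Agent.Helper13.exists_ringHom_of_card_sq hK hF
  letI : Algebra F (GaloisField p (2 * (n : ℕ))) := ι₀.toAlgebra
  obtain ⟨B, lam, δ, hδ0, hlam0, hG⟩ := Cfsg.Agent.Helper7.SpGU.exists_frame hK hF d
  refine ⟨(MODEL.PhiAlg B).range, MODEL.hypK hK hF B hd hδ0 hG, ?_⟩
  rw [← Cfsg.Agent.Helper2.Herm.card_GU_closed hK d]
  exact MODEL.card_dvd hK hF B hδ0 hG

end Cfsg.Agent.S5976P
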