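import Mathlib
import Cfsg.Prelude.Def_GeometricClasses
import Cfsg.Prelude.Def_ClassicalGeometry
import Cfsg.Agent.Helper29.S5976Defs
import Cfsg.Agent.Helper2.SpForm

set_option autoImplicit false
open scoped MatrixGroups Matrix

/-! S5976, piece ROOT: a quadratic field subalgebra `K` closed under adjoints and not self-adjoint
has a generator `ι` with `ι² = t ι - n` (any irreducible `X² - tX + n`) and adjoint `t - ι`. -/

namespace Cfsg.Agent.S5976P

open Polynomial

namespace ROOT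

open Module Matrix

variable {F : Type*} [Field F] {m : Type} [Fintype m] [DecidableEq m]

/-- structure of a quadratic field subalgebra (index-generic copy of `Helper2.FSub.exists_gen`) -/
theorem exists_omega (K : Subalgebra F (Matrix m m F)) (hK : Cfsg.Geo.IsFieldSubalgebra 2 K) :
    (∀ s : F, s • (1 : Matrix m m F) = 0 → s = 0) ∧
    (∀ x ∈ K, ∀ y ∈ K, x * y = 0 → x = 0 ∨ y = 0) ∧
    ∃ (ω : Matrix m m F) (p t : F), ω ∈ K ∧ ω * ω = p • (1 : Matrix m m F) + t • ω ∧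
      (∀ k ∈ K, ∃ a b : F, k = a • (1 : Matrix m m F) + b • ω) ∧
      (∀ r : F, r * r - t * r - p ≠ 0) := by
  classical
  have hne : Nonempty m := by
    by_contra hcon
    rw [not_nonempty_iff] at hcon
    haveI : Subsingleton ↥K := ⟨fun a b => Subtype.ext (Subsingleton.elim _ _)⟩
    have := hK.finrank_eq
    rw [Module.finrank_zero_of_subsingleton] at this
    omega
  obtain ⟨i0⟩ := hne
  have hone : ∀ s : F, s • (1 : Matrix m m F) = 0 → s = 0 := by
    intro s hs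
    have h := congrFun (congrFun hs i0) i0
    simpa using h
  have h1ne : (1 : Matrix m m F) ≠ 0 := by
    intro h
    have := hone 1 (by rw [one_smul, h])
    exact one_ne_zero this
  have hex : ∃ ω ∈ K, ∀ c : F, ω ≠ c • (1 : Matrix m m F) := by
    by_contra hcon
    push Not at hcon
    have hle : Subalgebra.toSubmodule K ≤ Submodule.span F {(1 : Matrix m m F)} := by
      intro k hk
      obtain ⟨c, hc⟩ := hcon k hk
      rw [hc]
      exact Submodule.smul_mem _ _ (Submodule.subset_span (Set.mem_singleton _))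
    have h1 : finrank F (Subalgebra.toSubmodule K) ≤
        finrank F (Submodule.span F {(1 : Matrix m m F)}) := Submodule.finrank_mono hle
    rw [finrank_span_singleton h1ne, Subalgebra.finrank_toSubmodule, hK.finrank_eq] at h1
    omega
  obtain ⟨ω, hωK, hω⟩ := hex
  obtain ⟨φ, hφ⟩ : ∃ φ : F × F →ₗ[F] K, ∀ ab : F × F,
      ((φ ab : K) : Matrix m m F) = ab.1 • (1 : Matrix m m F) + ab.2 • ω :=
    ⟨{ toFun := fun ab => ⟨ab.1 • 1 + ab.2 • ω,
          K.add_mem (K.smul_mem K.one_mem _) (K.smul_mem hωK _)⟩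
       map_add' := fun x y => by
         apply Subtype.ext
         show (x + y).1 • (1 : Matrix m m F) + (x + y).2 • ω =
           (x.1 • 1 + x.2 • ω) + (y.1 • 1 + y.2 • ω)
         rw [Prod.fst_add, Prod.snd_add, add_smul, add_smul]
         abel
       map_smul' := fun c x => by
         apply Subtype.ext
         show (c • x).1 • (1 : Matrix m m F) + (c • x).2 • ω = c • (x.1 • 1 + x.2 • ω)
         rw [Prod.smul_fst, Prod.smul_snd, smul_eq_mul, smul_eq_mul, mul_smul, mul_smul,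
           smul_add] }, fun _ => rfl⟩
  have hinj : Function.Injective φ := by
    rw [← LinearMap.ker_eq_bot, LinearMap.ker_eq_bot']
    intro ab hab
    have h1 : ab.1 • (1 : Matrix m m F) + ab.2 • ω = 0 := by
      rw [← hφ, hab]; rfl
    have h2 : ab.2 = 0 := by
      by_contra hb
      apply hω (-(ab.2)⁻¹ * ab.1)
      have h3 : ab.2 • ω = -(ab.1 • (1 : Matrix m m F)) := eq_neg_of_add_eq_zero_right h1
      calc ω = (ab.2)⁻¹ • (ab.2 • ω) := by rw [smul_smul, inv_mul_cancel₀ hb, one_smul]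
        _ = (-(ab.2)⁻¹ * ab.1) • (1 : Matrix m m F) := by
            rw [h3, smul_neg, smul_smul, neg_mul, neg_smul]
    have h3 : ab.1 = 0 := by
      rw [h2, zero_smul, add_zero] at h1
      exact hone _ h1
    exact Prod.ext h3 h2
  have hfr : finrank F (F × F) = finrank F K := by
    rw [hK.finrank_eq, Module.finrank_prod, Module.finrank_self]
  have hsurj : Function.Surjective φ :=
    (LinearMap.injective_iff_surjective_of_finrank_eq_finrank hfr).mp hinj
  have hspan : ∀ k ∈ K, ∃ a b : F, k = a • (1 : Matrix m m F) + b • ω := by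
    intro k hk
    obtain ⟨ab, hab⟩ := hsurj ⟨k, hk⟩
    refine ⟨ab.1, ab.2, ?_⟩
    rw [← hφ, hab]
  obtain ⟨p, t, hpt⟩ := hspan (ω * ω) (K.mul_mem hωK hωK)
  have hnzd : ∀ x ∈ K, ∀ y ∈ K, x * y = 0 → x = 0 ∨ y = 0 := by
    intro x hx y hy hxy
    by_cases hx0 : x = 0
    · exact Or.inl hx0
    · right
      obtain ⟨x', hx', hxx'⟩ := hK.inv x hx hx0
      have h1 : x' * x = 1 := by rw [hK.comm x' hx' x hx, hxx']
      calc y = (x' * x) * y := by rw [h1, Matrix.one_mul]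
        _ = 0 := by rw [Matrix.mul_assoc, hxy, Matrix.mul_zero]
  refine ⟨hone, hnzd, ω, p, t, hωK, hpt, hspan, ?_⟩
  intro r hr
  have hp : p = r * r - t * r := by linear_combination -hr
  have h1 : (ω - r • (1 : Matrix m m F)) * (ω - (t - r) • (1 : Matrix m m F)) = 0 := by
    simp only [sub_mul, mul_sub, Matrix.smul_mul, Matrix.mul_smul, Matrix.one_mul,
      Matrix.mul_one]
    rw [hpt, hp]
    module
  rcases hnzd _ (K.sub_mem hωK (K.smul_mem K.one_mem r)) _
    (K.sub_mem hωK (K.smul_mem K.one_mem (t - r))) h1 with h | h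
  · exact hω r (sub_eq_zero.mp h)
  · exact hω (t - r) (sub_eq_zero.mp h)

/-- the square of `a + b θ` when `θ² = δ` -/
theorem sq_expand (θ : Matrix m m F) (δ a b : F) (hθ : θ * θ = δ • (1 : Matrix m m F)) :
    (a • (1 : Matrix m m F) + b • θ) * (a • (1 : Matrix m m F) + b • θ) =
      (a * a + b * b * δ) • (1 : Matrix m m F) + (2 * a * b) • θ := by
  simp only [add_mul, mul_add, Matrix.smul_mul, Matrix.mul_smul, Matrix.one_mul, Matrix.mul_one,
    hθ]
  module

/-- in a finite field of odd characteristic the quotient of two non-squares is a square -/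
theorem exists_sq_mul [Fintype F] (h2 : (2 : F) ≠ 0) {Δ δ : F} (hΔ : ¬ IsSquare Δ)
    (hδ : ¬ IsSquare δ) : ∃ s : F, s ≠ 0 ∧ Δ = s * s * δ := by
  have hchar : ringChar F ≠ 2 := by
    intro h
    apply h2
    have := ringChar.Nat.cast_ringChar (R := F)
    rw [h] at this
    exact_mod_cast this
  have hδ0 : δ ≠ 0 := fun h => hδ (h ▸ ⟨0, by simp⟩)
  have hΔ0 : Δ ≠ 0 := fun h => hΔ (h ▸ ⟨0, by simp⟩)
  have h1 : δ ^ (Fintype.card F / 2) = -1 := by
    rcases FiniteField.pow_dichotomy hchar hδ0 with h | h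
    · exact absurd ((FiniteField.isSquare_iff hchar hδ0).mpr h) hδ
    · exact h
  have h2' : Δ ^ (Fintype.card F / 2) = -1 := by
    rcases FiniteField.pow_dichotomy hchar hΔ0 with h | h
    · exact absurd ((FiniteField.isSquare_iff hchar hΔ0).mpr h) hΔ
    · exact h
  have h3 : IsSquare (Δ / δ) := by
    rw [FiniteField.isSquare_iff hchar (div_ne_zero hΔ0 hδ0), div_pow, h1, h2']
    norm_num
  obtain ⟨s, hs⟩ := h3
  refine ⟨s, ?_, (div_eq_iff hδ0).mp hs⟩
  intro h
  rw [h, mul_zero] at hs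
  exact div_ne_zero hΔ0 hδ0 hs

end ROOT

/-- ROOT -/
theorem exists_gen {F : Type*} [Field F] [Fintype F] (h2 : (2 : F) ≠ 0) (d : ℕ)
    (K : Subalgebra F (Matrix (Fin d ⊕ Fin d) (Fin d ⊕ Fin d) F)) (hK : HypK d F K)
    (t n : F) (hirr : ∀ c : F, c * c - t * c + n ≠ 0) :
    ∃ ι : Matrix (Fin d ⊕ Fin d) (Fin d ⊕ Fin d) F, IsGen d F K t n ι := by
  classical
  obtain ⟨hone, hnzd, ω, p', t', hωK, hωsq, hspan, hirr'⟩ := ROOT.exists_omega K hK.field
  have h4 : (4 : F) ≠ 0 := by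
    have : (4 : F) = 2 * 2 := by norm_num
    rw [this]
    exact mul_ne_zero h2 h2
  -- the discriminants are non-squares
  have hδns : ¬ IsSquare (t' * t' + 4 * p') := by
    rintro ⟨s, hs⟩
    apply hirr' ((t' + s) / 2)
    field_simp
    linear_combination -hs
  have hΔns : ¬ IsSquare (t * t - 4 * n) := by
    rintro ⟨s, hs⟩
    apply hirr ((t + s) / 2)
    field_simp
    linear_combination -hs
  obtain ⟨s, hs0, hs⟩ := ROOT.exists_sq_mul h2 hΔns hδns
  -- `θ = 2ω - t'` has square `δ`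
  set θ : Matrix (Fin d ⊕ Fin d) (Fin d ⊕ Fin d) F :=
    (2 : F) • ω - t' • (1 : Matrix (Fin d ⊕ Fin d) (Fin d ⊕ Fin d) F) with hθ
  have hθK : θ ∈ K := K.sub_mem (K.smul_mem hωK _) (K.smul_mem K.one_mem _)
  have hθsq : θ * θ = (t' * t' + 4 * p') • (1 : Matrix (Fin d ⊕ Fin d) (Fin d ⊕ Fin d) F) := by
    rw [hθ]
    simp only [sub_mul, mul_sub, Matrix.smul_mul, Matrix.mul_smul, Matrix.one_mul,
      Matrix.mul_one]
    rw [hωsq]
    module
  set a : F := t / 2 with ha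
  set b : F := s / 2 with hb
  have hb0 : b ≠ 0 := div_ne_zero hs0 h2
  set ι : Matrix (Fin d ⊕ Fin d) (Fin d ⊕ Fin d) F :=
    a • (1 : Matrix (Fin d ⊕ Fin d) (Fin d ⊕ Fin d) F) + b • θ with hι
  have hιK : ι ∈ K := K.add_mem (K.smul_mem K.one_mem _) (K.smul_mem hθK _)
  have hιsq : ι * ι = t • ι - n • (1 : Matrix (Fin d ⊕ Fin d) (Fin d ⊕ Fin d) F) := by
    rw [hι, ROOT.sq_expand θ _ a b hθsq]
    have e1 : a * a + b * b * (t' * t' + 4 * p') = t * a - n := by
      rw [ha, hb]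
      field_simp
      linear_combination -hs
    have e2 : 2 * a * b = t * b := by
      rw [ha, hb]
      field_simp
    rw [e1, e2]
    module
  -- `ι` in terms of `ω`
  have hιω : ι = (a - b * t') • (1 : Matrix (Fin d ⊕ Fin d) (Fin d ⊕ Fin d) F) +
      (2 * b) • ω := by
    rw [hι, hθ]
    module
  have h2b : 2 * b ≠ 0 := mul_ne_zero h2 hb0
  have hspanι : ∀ k ∈ K, ∃ α β : F,
      k = α • (1 : Matrix (Fin d ⊕ Fin d) (Fin d ⊕ Fin d) F) + β • ι := by
    intro k hk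
    obtain ⟨α, β, hkαβ⟩ := hspan k hk
    refine ⟨α - β * (2 * b)⁻¹ * (a - b * t'), β * (2 * b)⁻¹, ?_⟩
    rw [hkαβ, hιω, smul_add, smul_smul, smul_smul, ← add_assoc, ← add_smul]
    have e1 : α - β * (2 * b)⁻¹ * (a - b * t') + β * (2 * b)⁻¹ * (a - b * t') = α := by ring
    have e2 : β * (2 * b)⁻¹ * (2 * b) = β := by
      rw [mul_assoc, inv_mul_cancel₀ h2b, mul_one]
    rw [e1, e2]
  -- the adjoint of `ι`
  have hcomm := hK.field.comm
  obtain ⟨ι', hι'K, hι'⟩ := hK.adj ι hιK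
  have hι'sq : ι' * ι' = t • ι' - n • (1 : Matrix (Fin d ⊕ Fin d) (Fin d ⊕ Fin d) F) := by
    rw [← sub_eq_zero]
    rw [Matrix.ext_iff_mulVec]
    intro v
    rw [Matrix.zero_mulVec]
    by_contra hne
    obtain ⟨x, hx⟩ := Cfsg.Agent.Helper2.Sp.exists_om_ne_zero hne
    apply hx
    rw [Cfsg.Agent.Helper2.Sp.om_swap, neg_eq_zero]
    show Cfsg.sympForm d F x ((ι' * ι' - (t • ι' - n • 1)) *ᵥ v) = 0
    have e1 : (ι' * ι' - (t • ι' - n • (1 : Matrix (Fin d ⊕ Fin d) (Fin d ⊕ Fin d) F))) *ᵥ v =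
        ι' *ᵥ (ι' *ᵥ v) - (t • (ι' *ᵥ v) - n • v) := by
      rw [Matrix.sub_mulVec, Matrix.sub_mulVec, Matrix.smul_mulVec, Matrix.smul_mulVec,
        Matrix.one_mulVec, Matrix.mulVec_mulVec]
    rw [e1]
    have om_sub_r := Cfsg.Agent.Helper2.Sp.om_sub_right (l := Fin d) (R := F)
    have om_smul_r := Cfsg.Agent.Helper2.Sp.om_smul_right (l := Fin d) (R := F)
    have om_sub_l := Cfsg.Agent.Helper2.Sp.om_sub_left (l := Fin d) (R := F)
    have om_smul_l := Cfsg.Agent.Helper2.Sp.om_smul_left (l := Fin d) (R := F)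
    change Cfsg.Agent.Helper2.Sp.om x (ι' *ᵥ (ι' *ᵥ v) - (t • (ι' *ᵥ v) - n • v)) = 0
    rw [om_sub_r, om_sub_r, om_smul_r, om_smul_r]
    have k1 : Cfsg.Agent.Helper2.Sp.om x (ι' *ᵥ (ι' *ᵥ v)) =
        Cfsg.Agent.Helper2.Sp.om (ι *ᵥ (ι *ᵥ x)) v := by
      have a1 := hι' (ι *ᵥ x) v
      have a2 := hι' x (ι' *ᵥ v)
      exact (a1.trans a2).symm
    have k2 : Cfsg.Agent.Helper2.Sp.om x (ι' *ᵥ v) = Cfsg.Agent.Helper2.Sp.om (ι *ᵥ x) v :=
      (hι' x v).symm
    rw [k1, k2]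
    have e2 : ι *ᵥ (ι *ᵥ x) = t • (ι *ᵥ x) - n • x := by
      rw [Matrix.mulVec_mulVec, hιsq, Matrix.sub_mulVec, Matrix.smul_mulVec, Matrix.smul_mulVec,
        Matrix.one_mulVec]
    rw [e2, om_sub_l, om_smul_l, om_smul_l]
    ring
  have hprod : (ι' - ι) * (ι' - (t • (1 : Matrix (Fin d ⊕ Fin d) (Fin d ⊕ Fin d) F) - ι)) = 0 := by
    have hc : ι * ι' = ι' * ι := hcomm ι hιK ι' hι'K
    simp only [sub_mul, mul_sub, Matrix.mul_smul, Matrix.mul_one]
    rw [hι'sq, hιsq, hc]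
    module
  have hι'eq : ι' = t • (1 : Matrix (Fin d ⊕ Fin d) (Fin d ⊕ Fin d) F) - ι := by
    rcases hnzd _ (K.sub_mem hι'K hιK) _
      (K.sub_mem hι'K (K.sub_mem (K.smul_mem K.one_mem t) hιK)) hprod with h | h
    · exfalso
      apply hK.ns
      have hιι' : ι' = ι := sub_eq_zero.mp h
      intro k hk u v
      obtain ⟨α, β, hkαβ⟩ := hspanι k hk
      have hself := hι' u v
      rw [hιι'] at hself
      change Cfsg.Agent.Helper2.Sp.om (k *ᵥ u) v = Cfsg.Agent.Helper2.Sp.om u (k *ᵥ v)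
      rw [hkαβ, Matrix.add_mulVec, Matrix.add_mulVec, Matrix.smul_mulVec, Matrix.smul_mulVec,
        Matrix.smul_mulVec, Matrix.smul_mulVec, Matrix.one_mulVec, Matrix.one_mulVec,
        Cfsg.Agent.Helper2.Sp.om_add_left, Cfsg.Agent.Helper2.Sp.om_add_right,
        Cfsg.Agent.Helper2.Sp.om_smul_left, Cfsg.Agent.Helper2.Sp.om_smul_left,
        Cfsg.Agent.Helper2.Sp.om_smul_right, Cfsg.Agent.Helper2.Sp.om_smul_right]
      have : Cfsg.Agent.Helper2.Sp.om (ι *ᵥ u) v = Cfsg.Agent.Helper2.Sp.om u (ι *ᵥ v) := hself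
      rw [this]
    · exact sub_eq_zero.mp h
  refine ⟨ι, ⟨hιK, hιsq, ?_, hspanι⟩⟩
  intro u v
  rw [← hι'eq]
  exact hι' u v

end Cfsg.Agent.S5976P
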