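import Mathlib
import Cfsg.Prelude.Def_GeometricClasses
import Cfsg.Prelude.Def_Classical
import Cfsg.Prelude.Def_LieClassical
import Cfsg.Agent.Helper28.Herm
import Cfsg.Agent.Helper28.HermStd
import Cfsg.Agent.S0837

set_option autoImplicit false
open scoped MatrixGroups Matrix

/-! S5982, piece STD: every unitary form (for `a ↦ a ^ q₀`, `|F| = q₀²`) is equivalent to the
standard hermitian form. -/

namespace Cfsg.Agent.S5982P

/-- STD: every unitary form is equivalent to the standard one -/
theorem exists_std_pow {F : Type*} [Field F] [Fintype F] {q₀ : ℕ} (hF : Fintype.card F = q₀ ^ 2)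
    (n : ℕ) (f : (Fin n → F) → (Fin n → F) → F) (hf : Cfsg.Geo.IsUnitaryFormPow q₀ f) :
    ∃ P : GL (Fin n) F, ∀ u v : Fin n → F,
      f ((P : Matrix (Fin n) (Fin n) F) *ᵥ u) ((P : Matrix (Fin n) (Fin n) F) *ᵥ v) =
        Cfsg.hermForm n F q₀ u v := by
  classical
  obtain ⟨σ₀, hσ₀, hinv⟩ := Cfsg.Agent.Helper28.exists_frob hF
  let σ : F ≃+* F := RingEquiv.ofRingHom σ₀ σ₀ (by ext x; exact hinv x) (by ext x; exact hinv x)
  have hσx : ∀ x, σ x = x ^ q₀ := hσ₀
  have hU : Cfsg.Geo.IsUnitaryForm σ f :=
    { ne_refl := by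
        intro h
        apply Cfsg.Agent.S0837.frob_ne_id hF σ₀ hσ₀
        ext x
        have := congrArg (fun e : F ≃+* F => e x) h
        exact this
      involutive := hinv
      add_left := hf.add_left
      smul_left := hf.smul_left
      herm := fun v w => by rw [hσx]; exact hf.herm v w
      nondegenerate := hf.nondegenerate }
  obtain ⟨q', -, P, hP⟩ := Cfsg.Agent.Helper28.HermStd.exists_std σ f hU
  refine ⟨P, fun u v => ?_⟩
  rw [hP]
  rcases Nat.eq_zero_or_pos n with rfl | hn
  · unfold Cfsg.hermForm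
    simp
  · have key : ∀ b : F, b ^ q' = b ^ q₀ := by
      intro b
      set e : Fin n → F := Pi.single (⟨0, hn⟩ : Fin n) 1 with he
      have hsum : ∀ c d : F, Cfsg.hermForm n F q' (c • e) (d • e) = c * d ^ q' := by
        intro c d
        unfold Cfsg.hermForm
        rw [Finset.sum_eq_single (⟨0, hn⟩ : Fin n)]
        · simp [he]
        · intro j _ hj
          simp [he, Pi.single_eq_of_ne hj]
        · intro h
          exact absurd (Finset.mem_univ _) h
      have h1 := hP (b • e) ((1 : F) • e)
      rw [hsum, one_pow, mul_one, one_smul] at h1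
      have h2 := hP ((1 : F) • e) (b • e)
      rw [hsum, one_mul, one_smul] at h2
      have h3 := hf.herm ((P : Matrix (Fin n) (Fin n) F) *ᵥ (b • e))
        ((P : Matrix (Fin n) (Fin n) F) *ᵥ e)
      rw [h1, h2] at h3
      have h4 : (b ^ q') ^ (q₀ ^ 2) = b ^ q' := by
        rw [← hF]
        exact FiniteField.pow_card _
      calc b ^ q' = ((b ^ q') ^ q₀) ^ q₀ := by rw [← pow_mul, ← sq, h4]
        _ = b ^ q₀ := by rw [← h3]
    unfold Cfsg.hermForm
    exact Finset.sum_congr rfl (fun i _ => by rw [key])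

end Cfsg.Agent.S5982P
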