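import Mathlib
import Cfsg.Prelude.Def_GeometricClasses
import Cfsg.Prelude.Def_Classical
import Cfsg.Prelude.Def_LieClassical
import Cfsg.Agent.Helper19.S5982STD

set_option autoImplicit false
open scoped MatrixGroups Matrix

/-! S5982, piece IDXEMB: `SU_n(q₀)` embeds in the similitudes of determinant one of any unitary
form, so the index of the latter in `SL_n` is prime to `r` when the `r`-parts agree. -/

namespace Cfsg.Agent.S5982P

/-- IDXEMB (uses STD): `SU_n(q₀)` embeds in the similitudes of determinant one -/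
theorem not_dvd_relIndex {F : Type*} [Field F] [Fintype F] {q₀ : ℕ} (hF : Fintype.card F = q₀ ^ 2)
    (n : ℕ) (hn : 2 ≤ n) (f : (Fin n → F) → (Fin n → F) → F)
    (hf : Cfsg.Geo.IsUnitaryFormPow q₀ f) (r : ℕ) [Fact r.Prime]
    (hval : padicValNat r (Nat.card (Matrix.SpecialLinearGroup (Fin n) F)) ≤
      padicValNat r (Nat.card (Cfsg.SU n F q₀))) :
    ¬ r ∣ (Cfsg.Geo.similarityGroup f).relIndex (Cfsg.Geo.specialLinear (Fin n) F) := by
  classical
  have hr : r.Prime := Fact.out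
  obtain ⟨P, hP⟩ := exists_std_pow hF n f hf
  set S := Cfsg.Geo.similarityGroup f with hS
  set L := Cfsg.Geo.specialLinear (Fin n) F with hL
  -- the embedding `A ↦ P A P⁻¹`
  let ι : Matrix.SpecialLinearGroup (Fin n) F →* GL (Fin n) F :=
    (MulAut.conj P).toMonoidHom.comp Matrix.SpecialLinearGroup.toGL
  have hιinj : Function.Injective ι :=
    (MulAut.conj P).injective.comp Matrix.SpecialLinearGroup.toGL_injective
  have hιapp : ∀ A, ι A = P * Matrix.SpecialLinearGroup.toGL A * P⁻¹ := fun A => rfl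
  have hmemL : ∀ g : GL (Fin n) F, g ∈ L ↔ Matrix.GeneralLinearGroup.det g = 1 :=
    fun g => MonoidHom.mem_ker
  have hιL : ∀ A, ι A ∈ L := by
    intro A
    rw [hmemL, hιapp, map_mul, map_mul, map_inv, Matrix.SpecialLinearGroup.coeToGL_det, mul_one,
      mul_inv_cancel]
  have hrange : ι.range = L := by
    apply le_antisymm
    · rintro _ ⟨A, rfl⟩
      exact hιL A
    · intro g hg
      rw [hmemL] at hg
      have hdet : Matrix.det ((P⁻¹ * g * P : GL (Fin n) F) : Matrix (Fin n) (Fin n) F) = 1 := by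
        rw [← Matrix.GeneralLinearGroup.val_det_apply, map_mul, map_mul, map_inv, hg, mul_one,
          inv_mul_cancel, Units.val_one]
      let A : Matrix.SpecialLinearGroup (Fin n) F :=
        ⟨((P⁻¹ * g * P : GL (Fin n) F) : Matrix (Fin n) (Fin n) F), hdet⟩
      refine ⟨A, ?_⟩
      have hA : Matrix.SpecialLinearGroup.toGL A = P⁻¹ * g * P := Units.ext rfl
      rw [hιapp, hA]
      group
  have hcardL : Nat.card ↥L = Nat.card (Matrix.SpecialLinearGroup (Fin n) F) := by
    rw [← hrange]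
    exact (Nat.card_congr (MonoidHom.ofInjective hιinj).toEquiv).symm
  -- the image of `SU` lies in `S ⊓ L`
  have hSU : (Cfsg.SU n F q₀).map ι ≤ S ⊓ L := by
    rintro _ ⟨A, hA, rfl⟩
    refine ⟨⟨1, fun u v => ?_⟩, hιL A⟩
    have hA' : ∀ u v, Cfsg.hermForm n F q₀
        ((A : Matrix (Fin n) (Fin n) F) *ᵥ u) ((A : Matrix (Fin n) (Fin n) F) *ᵥ v) =
        Cfsg.hermForm n F q₀ u v := hA
    have hmat : ((ι A : GL (Fin n) F) : Matrix (Fin n) (Fin n) F) =
        (P : Matrix (Fin n) (Fin n) F) * ((A : Matrix (Fin n) (Fin n) F) *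
          ((P⁻¹ : GL (Fin n) F) : Matrix (Fin n) (Fin n) F)) := by
      rw [hιapp, Units.val_mul, Units.val_mul, Matrix.mul_assoc]
      rfl
    have hPinv : ∀ w : Fin n → F, (P : Matrix (Fin n) (Fin n) F) *ᵥ
        (((P⁻¹ : GL (Fin n) F) : Matrix (Fin n) (Fin n) F) *ᵥ w) = w := by
      intro w
      rw [Matrix.mulVec_mulVec, ← Units.val_mul, mul_inv_cancel, Units.val_one,
        Matrix.one_mulVec]
    rw [Units.val_one, one_mul, hmat, ← Matrix.mulVec_mulVec, ← Matrix.mulVec_mulVec,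
      ← Matrix.mulVec_mulVec, ← Matrix.mulVec_mulVec, hP, hA', ← hP, hPinv, hPinv]
  have hdvd : Nat.card ↥(Cfsg.SU n F q₀) ∣ Nat.card ↥(S ⊓ L : Subgroup (GL (Fin n) F)) := by
    rw [← Subgroup.card_map_of_injective hιinj]
    exact Subgroup.card_dvd_of_le hSU
  -- Lagrange
  have hlag : S.relIndex L * Nat.card ↥(S ⊓ L : Subgroup (GL (Fin n) F)) = Nat.card ↥L := by
    rw [← Subgroup.inf_relIndex_right]
    have h1 := ((S ⊓ L).subgroupOf L).index_mul_card
    rwa [Nat.card_congr (Subgroup.subgroupOfEquivOfLe (inf_le_right : S ⊓ L ≤ L)).toEquiv] at h1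
  have hpos1 : S.relIndex L ≠ 0 := by
    intro h
    rw [h, zero_mul] at hlag
    exact Nat.card_pos.ne' hlag.symm
  have hpos2 : Nat.card ↥(S ⊓ L : Subgroup (GL (Fin n) F)) ≠ 0 := Nat.card_pos.ne'
  have hpos3 : Nat.card ↥(Cfsg.SU n F q₀) ≠ 0 := Nat.card_pos.ne'
  intro hdiv
  have h1 : padicValNat r (Nat.card ↥L) =
      padicValNat r (S.relIndex L) + padicValNat r (Nat.card ↥(S ⊓ L : Subgroup (GL (Fin n) F))) := by
    rw [← hlag, padicValNat.mul hpos1 hpos2]
  have h2 : padicValNat r (Nat.card ↥(Cfsg.SU n F q₀)) ≤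
      padicValNat r (Nat.card ↥(S ⊓ L : Subgroup (GL (Fin n) F))) :=
    (padicValNat_dvd_iff_le hpos2).mp
      ((pow_padicValNat_dvd).trans hdvd)
  have h3 : 1 ≤ padicValNat r (S.relIndex L) :=
    one_le_padicValNat_of_dvd hpos1 hdiv
  rw [hcardL] at h1
  omega

end Cfsg.Agent.S5982P
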