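import Mathlib
import Cfsg.Prelude.Def_GeometricClasses
import Cfsg.Prelude.Def_Classical
import Cfsg.Prelude.Def_LieClassical
import Cfsg.Agent.Helper27.S5989Defs
import Cfsg.Agent.Helper28.Spin6
import Cfsg.Agent.Helper25.S5992BLOCKS
import Cfsg.Agent.Helper15.S5992SUPND
import Cfsg.Agent.Helper18.S5989DISCSUM1
import Cfsg.Agent.Helper18.S5989ISODISC
import Cfsg.Agent.Helper18.S5961ARITH
import Cfsg.Agent.Helper18.S5989EXCODD

/-! S5989, piece SUFFODD: from the arithmetic data `m = a' + c b'` build an invariant member of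
`OmSet`. -/

set_option autoImplicit false
open scoped MatrixGroups
universe u

namespace Cfsg.Agent.S5989P

open Cfsg.Agent.Helper2.SympInvol Cfsg.Agent.Helper2.SympUnits Cfsg.Agent.S5961P
  Cfsg.Agent.S5992P Cfsg.Agent.Helper28.Spin

/-- SUFFODD -/
theorem exists_odd_invariant {F V : Type*} [Field F] [Fintype F] [AddCommGroup V] [Module F V]
    [FiniteDimensional F V] {p : ℕ} [Fact p.Prime] [CharP F p] (r : ℕ) [Fact r.Prime]
    (hr2 : r ≠ 2) (hrp : r ≠ p) (h2 : (2 : F) ≠ 0) (Q : QuadraticForm F V)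
    (y : Module.End F V) (hY : IsYO Q y r) (m : ℕ) (W₀ : Submodule F V)
    (hW₀ : Module.finrank F W₀ = m ∧ Nondeg (PB Q) W₀) (a' b' : ℕ)
    (hm : m = a' + cc F r * b') (ha : Odd a')
    (ha' : a' + 1 ≤ Module.finrank F (LinearMap.ker (y - 1)))
    (hb' : cc F r * b' ≤ Module.finrank F (LinearMap.range (y - 1))) :
    ∃ W : Submodule F V, OmSet Q m W₀ W ∧ W.map y ≤ W := by
  classical
  obtain ⟨-, hcpos, hceven, -, -, -, -, -⟩ := cc_arith (F := F) (p := p) r hr2 hrp
  obtain ⟨b, E, hEinv, hEnd, hEdim, hEorth, hEind, hEsup⟩ :=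
    exists_blocks_sym (p := p) r hr2 hrp h2 Q y hY
  obtain ⟨hKnd, hRnd, hKR, -⟩ := fix_nondeg (p := p) r hrp Q y hY
  -- the number of blocks
  have hRfr : Module.finrank F (LinearMap.range (y - 1)) = cc F r * b := by
    have h1 := finrank_biSup E hEind Finset.univ
    have h0 : (⨆ i ∈ (Finset.univ : Finset (Fin b)), E i) = ⨆ i, E i := by simp
    rw [h0, hEsup, Finset.sum_congr rfl (fun j _ => hEdim j), Finset.sum_const, Finset.card_univ,
      Fintype.card_fin, smul_eq_mul, mul_comm] at h1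
    exact h1
  have hbb : b' ≤ b := by
    rw [hRfr] at hb'
    exact Nat.le_of_mul_le_mul_left hb' hcpos
  obtain ⟨s, hs⟩ : ∃ s : Finset (Fin b), s = Finset.univ.filter (fun j => j.val < b') := ⟨_, rfl⟩
  have hscard : s.card = b' := by
    rw [hs, Fin.card_filter_val_lt]
    exact min_eq_right hbb
  obtain ⟨WN, hWN⟩ : ∃ WN : Submodule F V, WN = ⨆ j ∈ s, E j := ⟨_, rfl⟩
  have hWNnd : Nondeg (PB Q) WN := by
    rw [hWN]
    exact nondeg_biSup E s (fun j _ => hEnd j) (fun j _ k _ hjk => hEorth j k hjk)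
  have hWNfr : Module.finrank F WN = cc F r * b' := by
    rw [hWN, finrank_biSup E hEind s, Finset.sum_congr rfl (fun j _ => hEdim j), Finset.sum_const,
      hscard, smul_eq_mul, mul_comm]
  have hWNinv : WN.map y ≤ WN := by
    rw [hWN]
    simp only [Submodule.map_iSup]
    exact iSup₂_mono (fun j _ => hEinv j)
  have hWNR : WN ≤ LinearMap.range (y - 1) := by
    rw [hWN, ← hEsup]
    exact iSup₂_le (fun j _ => le_iSup E j)
  have hWNeven : Even (Module.finrank F WN) := by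
    rw [hWNfr]
    exact hceven.mul_right b'
  -- the fixed part
  obtain ⟨WC, hWCK, hWCfr, hWCnd, hWCd⟩ := exists_sub_disc h2 Q (LinearMap.ker (y - 1)) hKnd a'
    ha ha' (DiscSq Q W₀ ↔ DiscSq Q WN)
  have horth : Orth (PB Q) WC WN := fun u hu v hv => hKR u (hWCK hu) v (hWNR hv)
  obtain ⟨hWnd, -, hWfr⟩ := nondeg_sup_orth Q WC WN hWCnd hWNnd horth
  have hd := discSq_sup_even h2 Q WC WN hWCnd hWNnd horth hWNeven
  have hWm : Module.finrank F ↥(WC ⊔ WN) = m := by rw [hWfr, hWCfr, hWNfr, hm]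
  refine ⟨WC ⊔ WN, ⟨hWm, hWnd, ?_⟩, ?_⟩
  · rw [isoW_iff_disc h2 Q _ _ hWnd hW₀.2 (by rw [hWm, hW₀.1]), hd, hWCd]
    tauto
  · rw [Submodule.map_sup]
    apply sup_le_sup _ hWNinv
    rintro _ ⟨v, hv, rfl⟩
    have h1 := LinearMap.mem_ker.mp (hWCK hv)
    rw [LinearMap.sub_apply, Module.End.one_apply, sub_eq_zero] at h1
    rw [h1]
    exact hv

end Cfsg.Agent.S5989P
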