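import Mathlib
import Cfsg.Prelude.Def_GeometricClasses
import Cfsg.Prelude.Def_Classical
import Cfsg.Prelude.Def_LieClassical
import Cfsg.Agent.Helper27.S5989Defs
import Cfsg.Agent.Helper27.S5991Defs
import Cfsg.Agent.Helper28.Spin6
import Cfsg.Agent.Helper29.S5989LEVIP
import Cfsg.Agent.Helper7.S5989OMEGAODDG
import Cfsg.Agent.S2171

/-! S5991, piece LEVIM: the Levi element `diag(A, A⁻ᵀ, 1₂)` of `Ω⁻_{2k+2}(q)`. -/

set_option autoImplicit false
open scoped MatrixGroups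
universe u

namespace Cfsg.Agent.S5989P

open Cfsg.Agent.Helper2.SympInvol Cfsg.Agent.Helper2.SympUnits Cfsg.Agent.S5961P
  Cfsg.Agent.S5992P Cfsg.Agent.Helper28.Spin

namespace LEVIM

open Module LEVIP

variable {F : Type*} [Field F] {k : ℕ}

/-- the matrix `diag(A, A⁻ᵀ, 1₂)` -/
def leviMatM (A : GL (Fin k) F) :
    Matrix ((Fin k ⊕ Fin k) ⊕ Fin 2) ((Fin k ⊕ Fin k) ⊕ Fin 2) F :=
  Matrix.fromBlocks (leviMat A) 0 0 1

theorem leviMatM_mul (A B : GL (Fin k) F) : leviMatM (A * B) = leviMatM A * leviMatM B := by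
  unfold leviMatM
  rw [Matrix.fromBlocks_multiply, leviMat_mul]
  simp

theorem leviMatM_one : leviMatM (1 : GL (Fin k) F) = 1 := by
  unfold leviMatM
  rw [leviMat_one, Matrix.fromBlocks_one]

/-- the Levi element as a group homomorphism -/
def leviM : GL (Fin k) F →* GL ((Fin k ⊕ Fin k) ⊕ Fin 2) F where
  toFun A := ⟨leviMatM A, leviMatM A⁻¹, by rw [← leviMatM_mul, mul_inv_cancel, leviMatM_one],
    by rw [← leviMatM_mul, inv_mul_cancel, leviMatM_one]⟩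
  map_one' := Units.ext leviMatM_one
  map_mul' A B := Units.ext (leviMatM_mul A B)

theorem leviM_val (A : GL (Fin k) F) :
    ((leviM A : GL ((Fin k ⊕ Fin k) ⊕ Fin 2) F) :
      Matrix ((Fin k ⊕ Fin k) ⊕ Fin 2) ((Fin k ⊕ Fin k) ⊕ Fin 2) F) = leviMatM A := rfl

theorem leviM_isom (a b : F) (A : GL (Fin k) F) (v : (Fin k ⊕ Fin k) ⊕ Fin 2 → F) :
    Cfsg.quadFormMinus k F a b ((leviMatM A).mulVec v) = Cfsg.quadFormMinus k F a b v := by
  have hv : v = Sum.elim (v ∘ Sum.inl) (v ∘ Sum.inr) := by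
    funext s; rcases s with s | s <;> rfl
  have hplus : ∀ u : (Fin k ⊕ Fin k) ⊕ Fin 2 → F,
      Cfsg.quadFormMinus k F a b u = Cfsg.quadFormPlus k F (u ∘ Sum.inl) +
        (u (.inr 0) ^ 2 + a * u (.inr 0) * u (.inr 1) + b * u (.inr 1) ^ 2) := fun u => rfl
  rw [hplus, hplus]
  have h1 : ((leviMatM A).mulVec v) ∘ Sum.inl = (leviMat A).mulVec (v ∘ Sum.inl) := by
    unfold leviMatM
    conv_lhs => rw [hv, Matrix.fromBlocks_mulVec]
    funext s
    simp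
  have h2 : ∀ t : Fin 2, (leviMatM A).mulVec v (Sum.inr t) = v (Sum.inr t) := by
    intro t
    unfold leviMatM
    conv_lhs => rw [hv, Matrix.fromBlocks_mulVec]
    simp
  rw [h1, h2, h2, levi_isom]

theorem finrank_ker_one_sub_one_pow {κ : Type} [Fintype κ] [DecidableEq κ] (j : ℕ) (hj : 1 ≤ j) :
    finrank F (LinearMap.ker (Matrix.toLin' (((1 : Matrix κ κ F) - 1) ^ j))) =
      Fintype.card κ := by
  rw [sub_self, zero_pow (by omega), map_zero, LinearMap.ker_zero, finrank_top,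
    Module.finrank_fintype_fun_eq_card]

/-- the kernel dimensions of `diag(A, A⁻ᵀ, 1₂) - 1` -/
theorem finrank_ker_leviM [Fintype F] (A : GL (Fin k) F) (j : ℕ) (hj : 1 ≤ j) :
    finrank F (LinearMap.ker ((Matrix.toLin'
      ((leviM A : GL ((Fin k ⊕ Fin k) ⊕ Fin 2) F) :
        Matrix ((Fin k ⊕ Fin k) ⊕ Fin 2) ((Fin k ⊕ Fin k) ⊕ Fin 2) F) - 1) ^ j)) =
      2 * finrank F (LinearMap.ker ((Matrix.toLin'
        (A : Matrix (Fin k) (Fin k) F) - 1) ^ j)) + 2 := by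
  classical
  rw [sub_one_pow', sub_one_pow, leviM_val]
  have h0 : leviMatM A - 1 = Matrix.fromBlocks (leviMat A - 1) 0 0
      ((1 : Matrix (Fin 2) (Fin 2) F) - 1) := by
    unfold leviMatM
    rw [← Matrix.fromBlocks_one, sub_eq_add_neg, Matrix.fromBlocks_neg, Matrix.fromBlocks_add]
    simp [sub_eq_add_neg]
  have h1 : leviMat A - 1 = Matrix.fromBlocks ((A : Matrix (Fin k) (Fin k) F) - 1) 0 0
      (((A⁻¹ : GL (Fin k) F) : Matrix (Fin k) (Fin k) F).transpose - 1) := by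
    unfold leviMat
    rw [← Matrix.fromBlocks_one, sub_eq_add_neg, Matrix.fromBlocks_neg, Matrix.fromBlocks_add]
    simp [sub_eq_add_neg]
  rw [h0, fromBlocks_pow, Cfsg.Agent.S5977P.EMBEDS.finrank_ker_fromBlocks, h1, fromBlocks_pow,
    Cfsg.Agent.S5977P.EMBEDS.finrank_ker_fromBlocks, finrank_ker_one_sub_one_pow j hj,
    Fintype.card_fin]
  have e1 := finrank_ker_eq (((A : Matrix (Fin k) (Fin k) F) - 1) ^ j)
  have e2 := finrank_ker_eq ((((A⁻¹ : GL (Fin k) F) : Matrix (Fin k) (Fin k) F).transpose - 1) ^ j)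
  rw [rank_inv_sub_one_pow] at e2
  omega

/-- `diag(A, A⁻ᵀ, 1₂)` lies in `Ω⁻` when `A` has odd order -/
theorem leviM_mem_omegaGL [Fintype F] (h2 : (2 : F) ≠ 0) (a b : F)
    (hnd : (QuadraticMap.polarBilin (QfMinus k F a b)).Nondegenerate)
    (A : GL (Fin k) F) (n : ℕ) (hn : Odd n) (hA : A ^ n = 1) :
    (leviM A : GL ((Fin k ⊕ Fin k) ⊕ Fin 2) F) ∈ Cfsg.Geo.omegaGL (Cfsg.quadFormMinus k F a b) ∧
      (leviM A : GL ((Fin k ⊕ Fin k) ⊕ Fin 2) F) ^ n = 1 := by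
  classical
  have hxn : (leviM A : GL ((Fin k ⊕ Fin k) ⊕ Fin 2) F) ^ n = 1 := by
    rw [← map_pow, hA, map_one]
  refine ⟨?_, hxn⟩
  rw [← QfMinus_coe]
  apply Cfsg.Agent.S5977P.BASIC.mem_omegaGL_of_odd_order (QfMinus k F a b) h2 hnd (leviM A) ?_ n
    hn hxn
  rw [Cfsg.Agent.Helper28.IsoTransport.mem_isometryGroup_iff]
  intro u
  rw [QfMinus_coe, leviM_val]
  exact leviM_isom a b A u

end LEVIM

open LEVIM in
/-- LEVIM -/
theorem levi_minus {F : Type*} [Field F] [Fintype F] (h2 : (2 : F) ≠ 0) (k : ℕ) (hk : 1 ≤ k)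
    (a b : F) (hab : ∀ x y : F, x ^ 2 + a * x * y + b * y ^ 2 = 0 → x = 0 ∧ y = 0)
    (A : GL (Fin k) F) (n : ℕ) (hn : Odd n) (hA : A ^ n = 1) :
    ∃ x : GL ((Fin k ⊕ Fin k) ⊕ Fin 2) F, x ∈ Cfsg.Geo.omegaGL (Cfsg.quadFormMinus k F a b) ∧
      x ^ n = 1 ∧
      ∀ j : ℕ, 1 ≤ j → Module.finrank F (LinearMap.ker ((Matrix.toLin'
        (x : Matrix ((Fin k ⊕ Fin k) ⊕ Fin 2) ((Fin k ⊕ Fin k) ⊕ Fin 2) F) - 1) ^ j)) =
        2 * Module.finrank F (LinearMap.ker ((Matrix.toLin'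
          (A : Matrix (Fin k) (Fin k) F) - 1) ^ j)) + 2 := by
  have hdisc : 4 * b - a ^ 2 ≠ 0 := by
    intro h0
    have h1 := hab (-a) 2 (by linear_combination h0)
    exact h2 h1.2
  have hnd := Cfsg.Agent.S2171.QfMinus_nondeg_of k a b hdisc
  obtain ⟨hmem, hxn⟩ := leviM_mem_omegaGL h2 a b hnd A n hn hA
  exact ⟨leviM A, hmem, hxn, fun j hj => finrank_ker_leviM A j hj⟩

end Cfsg.Agent.S5989P
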