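import Mathlib
import Cfsg.Prelude.Def_GeometricClasses
import Cfsg.Prelude.Def_Classical
import Cfsg.Prelude.Def_LieClassical
import Cfsg.Agent.Helper27.S5989Defs
import Cfsg.Agent.Helper27.S5991Defs
import Cfsg.Agent.Helper28.Spin6
import Cfsg.Agent.Helper24.S5991J3
import Cfsg.Agent.Helper7.S5991PRODUQ
import Cfsg.Agent.Helper18.S5991PRODDISC
import Cfsg.Agent.Helper29.S5989LEVIP
import Cfsg.Agent.Helper9.S5989UNIMAT
import Cfsg.Agent.Helper6.S5992PLUSDISC
import Cfsg.Agent.Helper9.S5989PLUSTOP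
import Cfsg.Agent.Helper28.S5991MODELJ31

/-! S5991 piece MODELJ33 (driver helper27): the model space `J₃² ⊕ J₂^k` of minus type.
(Same construction as helper28's MODELJ31, whose auxiliary lemmas `MODELJ31.exists_hyp` and
`MODELJ31.pow_char_eq_one_of_cube` are reused.) -/

set_option autoImplicit false
open scoped MatrixGroups
universe u

namespace Cfsg.Agent.S5989P

open Cfsg.Agent.Helper2.SympInvol Cfsg.Agent.Helper2.SympUnits Cfsg.Agent.S5961P
  Cfsg.Agent.S5992P Cfsg.Agent.Helper28.Spin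

open MODELJ31 in
/-- MODELJ33 -/
theorem exists_j33_space {F : Type u} [Field F] [Fintype F] {p : ℕ} [Fact p.Prime] [CharP F p]
    (h2 : (2 : F) ≠ 0) (k : ℕ) (hk : Even k) (hk2 : 2 ≤ k) :
    ∃ (V : Type u) (_ : AddCommGroup V) (_ : Module F V) (_ : FiniteDimensional F V)
      (Q : QuadraticForm F V) (x : Module.End F V),
      Nondeg (PB Q) ⊤ ∧ (∀ v, Q (x v) = Q v) ∧ x ^ p = 1 ∧ (x - 1) ^ 3 = 0 ∧
      Module.finrank F V = 6 + 2 * k ∧ ¬ Plus Q ⊤ ∧
      Module.finrank F (LinearMap.ker (x - 1)) = 2 + k ∧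
      Module.finrank F (LinearMap.ker ((x - 1) ^ 2)) = 4 + 2 * k := by
  classical
  have hp2 : p ≠ 2 := by
    intro hp
    apply h2
    have : ((p : ℕ) : F) = 0 := CharP.cast_eq_zero F p
    rw [hp] at this
    exact_mod_cast this
  have hp3 : 3 ≤ p := by
    have := (Fact.out : p.Prime).two_le
    omega
  obtain ⟨ν, hν0, hνns⟩ : ∃ ν : F, ν ≠ 0 ∧ ¬ IsSquare ν := by
    have hchar : ringChar F ≠ 2 := by
      intro h
      have : CharP F 2 := by rw [← h]; exact ringChar.charP F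
      exact h2 (CharTwo.two_eq_zero)
    obtain ⟨ν, hν⟩ := FiniteField.exists_nonsquare hchar
    refine ⟨ν, ?_, hν⟩
    rintro rfl
    exact hν ⟨0, by simp⟩
  obtain ⟨c, hc, hc12⟩ : ∃ c : F, c ≠ 0 ∧ (2 * (1 : F)) * (2 * c) * (-1) = ν * 2 ^ 2 :=
    ⟨-ν, neg_ne_zero.mpr hν0, by ring⟩
  have h10 : (1 : F) ≠ 0 := one_ne_zero
  obtain ⟨y, hyQ, hyp, hy2, hyk⟩ := exists_hyp (p := p) h2 k hk hk2
  obtain ⟨j1, j2, j3, j4, j5, -, j7⟩ := j3_props h2 (1 : F) h10
  obtain ⟨i1, i2, i3, i4, i5, -, i7⟩ := j3_props h2 c hc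
  have hPn : Nondeg (PB (QfPlus k F)) ⊤ := nondeg_top_of_nondegenerate _ (QfPlus_nondeg k)
  obtain ⟨a1, a2, a3, a4, a5, -⟩ := prod_props (j3Q F c) (QfPlus k F) (j3X F c) y i1 hyQ i5 hPn
  obtain ⟨b1, b2, b3, b4, b5, -⟩ := prod_props (j3Q F 1) ((j3Q F c).prod (QfPlus k F))
    (j3X F 1) ((j3X F c).prodMap y) j1 a1 j5 a2
  have hfinP : Module.finrank F (Fin k ⊕ Fin k → F) = 2 * k := by
    rw [Module.finrank_pi]; simp; omega
  have hfin3 : Module.finrank F (Fin 3 → F) = 3 := by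
    rw [Module.finrank_pi]; simp
  have hfin2 : Module.finrank F ((Fin 3 → F) × (Fin k ⊕ Fin k → F)) = 3 + 2 * k := by
    rw [Module.finrank_prod, hfin3, hfinP]
  have hfinV : Module.finrank F ((Fin 3 → F) × ((Fin 3 → F) × (Fin k ⊕ Fin k → F))) =
      6 + 2 * k := by
    rw [Module.finrank_prod, hfin3, hfin2]; omega
  have hy3 : (y - 1) ^ 3 = 0 := by
    rw [show 3 = 2 + 1 from rfl, pow_succ, hy2, zero_mul]
  have hyk2 : Module.finrank F (LinearMap.ker ((y - 1) ^ 2)) = 2 * k := by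
    rw [hy2]
    have : LinearMap.ker (0 : Module.End F (Fin k ⊕ Fin k → F)) = ⊤ := LinearMap.ker_zero
    rw [this, finrank_top, hfinP]
  refine ⟨(Fin 3 → F) × ((Fin 3 → F) × (Fin k ⊕ Fin k → F)), inferInstance, inferInstance,
    inferInstance, (j3Q F 1).prod ((j3Q F c).prod (QfPlus k F)),
    (j3X F 1).prodMap ((j3X F c).prodMap y), b2, b1, ?_, ?_, hfinV, ?_, ?_, ?_⟩
  · exact b5 p (pow_char_eq_one_of_cube hp3 _ j2) (a5 p (pow_char_eq_one_of_cube hp3 _ i2) hyp)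
  · exact b4 3 j2 (a4 3 i2 hy3)
  · -- minus type
    have hev : Even (Module.finrank F (⊤ : Submodule F
        ((Fin 3 → F) × ((Fin 3 → F) × (Fin k ⊕ Fin k → F))))) := by
      rw [finrank_top, hfinV]
      exact ⟨3 + k, by ring⟩
    rw [plus_iff_discSq h2 _ ⊤ b2 hev]
    have hd2 : DiscSq ((j3Q F c).prod (QfPlus k F)) ⊤ ↔ IsSquare (2 * c) := by
      have h := (discSq_prod h2 (j3Q F c) (QfPlus k F) i5 hPn).1
        (Or.inr (by rw [hfinP]; exact ⟨k, by ring⟩))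
      have hplus : DiscSq (QfPlus k F) ⊤ := by
        have hev' : Even (Module.finrank F (⊤ : Submodule F (Fin k ⊕ Fin k → F))) := by
          rw [finrank_top, hfinP]; exact ⟨k, by ring⟩
        exact (plus_iff_discSq h2 _ ⊤ hPn hev').mp (plus_top_QfPlus k)
      rw [h, i7]
      exact iff_true_right hplus
    have hd := (discSq_prod h2 (j3Q F 1) ((j3Q F c).prod (QfPlus k F)) j5 a2).2
      (by rw [hfin3]; exact ⟨1, by norm_num⟩) (by rw [hfin2]; exact ⟨1 + k, by ring⟩)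
    rw [hd, j7, hd2]
    have hne1 : (2 * (1 : F)) ≠ 0 := mul_ne_zero h2 h10
    have hne2 : (2 * c) ≠ 0 := mul_ne_zero h2 hc
    have hm1 : (-1 : F) ≠ 0 := neg_ne_zero.mpr one_ne_zero
    rw [← isSquare_mul_iff h2 hne1 hne2, ← isSquare_mul_iff h2 (mul_ne_zero hne1 hne2) hm1, hc12]
    rintro ⟨s, hs⟩
    apply hνns
    refine ⟨s / 2, ?_⟩
    field_simp
    rw [hs]
    ring
  · have h := b3 1
    have h' := a3 1
    rw [pow_one, pow_one, pow_one] at h h'
    rw [h, h', j3, i3, hyk]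
    omega
  · have h := b3 2
    have h' := a3 2
    rw [h, h', j4, i4, hyk2]
    omega

end Cfsg.Agent.S5989P
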