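import Mathlib
import Cfsg.Agent.Helper27.Suz2Defs
import Cfsg.Agent.Helper19.Suz2B0
import Cfsg.Agent.Helper18.Suz2F3
import Cfsg.Agent.Helper20.SUZ2F4C

/-!
# SUZ2 board, piece S6IH (blueprint section 6, first half).
-/

set_option autoImplicit false

namespace Cfsg.Agent.SUZ2P

open Cfsg.Agent.Helper17.Suz2 Cfsg.Agent.SUZ2P

universe u v

variable {K : Type v} {P : Type u} [Group K] [Group P] [MulDistribMulAction K P]

/-- For commuting `a, b`: `(a⁻¹ b)² = (a²)⁻¹ b²`. -/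
theorem S6ih_aux_sq {a b : P} (hab : a * b = b * a) :
    (a⁻¹ * b) * (a⁻¹ * b) = (a * a)⁻¹ * (b * b) := by
  have h1 : b * a⁻¹ = a⁻¹ * b := by
    have := congrArg (fun t => a⁻¹ * t * a⁻¹) hab
    simpa [mul_assoc] using this
  calc (a⁻¹ * b) * (a⁻¹ * b) = a⁻¹ * (b * a⁻¹) * b := by group
    _ = a⁻¹ * (a⁻¹ * b) * b := by rw [h1]
    _ = (a * a)⁻¹ * (b * b) := by group

theorem S6ih (h : MinCE K P) (hH' : ∀ x : P, x * x ∈ Om P → x ∈ Z2 P) :
    (∀ g : P, g * g ∈ Z2 P) ∧ ∀ g g' : P, cm g g' ∈ Z2 P := by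
  have hS := h.star
  have hfin := hS.fin
  obtain ⟨-, hTab, hTsq⟩ := T_props h
  have hZ2sq := Z2_sq hS h.nonab
  have hinv : ∀ (k : K), ∀ x ∈ Om P, k • x ∈ Om P := fun k x hx => smul_mem_Om k hx
  letI instQ : MulDistribMulAction K (P ⧸ Om P) := quotAction (Om P) hinv
  have hsmul : ∀ (k : K) (x : P), k • (x : P ⧸ Om P) = ((k • x : P) : P ⧸ Om P) :=
    fun k x => rfl
  have hmk1 : ∀ x : P, (x : P ⧸ Om P) = 1 ↔ x ∈ Om P := fun x => QuotientGroup.eq_one_iff x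
  have hmksq : ∀ x : P, (x : P ⧸ Om P) * (x : P ⧸ Om P) = 1 ↔ x * x ∈ Om P := by
    intro x
    rw [← QuotientGroup.mk_mul]
    exact hmk1 _
  -- `k • x ∈ Z2 P` for `x ∈ Z2 P`
  have hZ2inv : ∀ (k : K), ∀ x ∈ Z2 P, k • x ∈ Z2 P := by
    intro k x hx
    apply hH'
    have := smul_mem_Om k (hZ2sq x hx)
    rwa [smul_mul'] at this
  -- regularity on the involutions of the quotient
  have hregQ : RegInv K (P ⧸ Om P) := by
    intro a b
    induction a using QuotientGroup.induction_on with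
    | H x =>
      induction b using QuotientGroup.induction_on with
      | H y =>
        intro ha1 ha2 hb1 hb2
        rw [hmksq] at ha2 hb2
        have hx1 : x ∉ Om P := fun hx => ha1 ((hmk1 x).2 hx)
        have hy1 : y ∉ Om P := fun hy => hb1 ((hmk1 y).2 hy)
        have hxT : x ∈ Z2 P := hH' x ha2
        have hyT : y ∈ Z2 P := hH' y hb2
        have hxx1 : x * x ≠ 1 := fun hxx => hx1 ((B0_mem_Om hS).2 hxx)
        have hyy1 : y * y ≠ 1 := fun hyy => hy1 ((B0_mem_Om hS).2 hyy)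
        obtain ⟨k, hk, huniq⟩ := hS.reg _ _ hxx1 ha2.2 hyy1 hb2.2
        refine ⟨k, ?_, ?_⟩
        · show k • (x : P ⧸ Om P) = (y : P ⧸ Om P)
          rw [hsmul, QuotientGroup.eq]
          have hkx : k • x ∈ Z2 P := hZ2inv k x hxT
          rw [B0_mem_Om hS, S6ih_aux_sq (hTab _ hkx _ hyT), ← smul_mul', hk, inv_mul_cancel]
        · intro k' hk'
          have hk'' : k' • (x : P ⧸ Om P) = (y : P ⧸ Om P) := hk'
          rw [hsmul, QuotientGroup.eq] at hk''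
          apply huniq
          have hkx : k' • x ∈ Z2 P := hZ2inv k' x hxT
          rw [B0_mem_Om hS, S6ih_aux_sq (hTab _ hkx _ hyT), inv_mul_eq_one, ← smul_mul'] at hk''
          exact hk''
  -- two distinct involutions in the quotient
  have htwoQ : ∃ a b : P ⧸ Om P, a ≠ b ∧ a ≠ 1 ∧ a * a = 1 ∧ b ≠ 1 ∧ b * b = 1 := by
    obtain ⟨z₁, z₂, hne, hz₁1, hz₁2, hz₂1, hz₂2⟩ := hS.two
    obtain ⟨t₁, ht₁, hsq₁⟩ := hTsq z₁ ((B0_mem_Om hS).2 hz₁2)
    obtain ⟨t₂, ht₂, hsq₂⟩ := hTsq z₂ ((B0_mem_Om hS).2 hz₂2)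
    refine ⟨(t₁ : P ⧸ Om P), (t₂ : P ⧸ Om P), ?_, ?_, ?_, ?_, ?_⟩
    · intro heq
      rw [QuotientGroup.eq, B0_mem_Om hS, S6ih_aux_sq (hTab _ ht₁ _ ht₂), hsq₁, hsq₂,
        inv_mul_eq_one] at heq
      exact hne heq
    · intro h1
      rw [hmk1, B0_mem_Om hS, hsq₁] at h1
      exact hz₁1 h1
    · rw [hmksq, hsq₁, B0_mem_Om hS]; exact hz₁2
    · intro h1
      rw [hmk1, B0_mem_Om hS, hsq₂] at h1
      exact hz₂1 h1
    · rw [hmksq, hsq₂, B0_mem_Om hS]; exact hz₂2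
  have hStarQ : Star K (P ⧸ Om P) :=
    { fin := inferInstance
      pgrp := hS.pgrp.to_quotient _
      comm := hS.comm
      reg := hregQ
      two := htwoQ }
  -- the quotient is non-abelian
  have hnaQ : NonAb (P ⧸ Om P) := by
    by_contra hcon
    have hab : ∀ a b : P ⧸ Om P, a * b = b * a := by
      intro a b
      by_contra hne
      exact hcon ⟨a, b, hne⟩
    apply h.notH
    have hcmOm : ∀ x y : P, cm x y ∈ Om P := by
      intro x y
      rw [← QuotientGroup.eq_one_iff]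
      unfold cm
      simp only [QuotientGroup.mk_mul, QuotientGroup.mk_inv]
      rw [hab (x : P ⧸ Om P) (y : P ⧸ Om P)]; group
    refine ⟨fun x => hZ2sq x (fun g => hcmOm x g), hcmOm⟩
  -- the quotient is smaller
  have hcard : Nat.card (P ⧸ Om P) < Nat.card P := by
    have h1 := Subgroup.card_eq_card_quotient_mul_card_subgroup (Om P)
    have h2 : 1 < Nat.card (Om P) := by
      obtain ⟨z₁, -, -, hz₁1, hz₁2, -, -⟩ := hS.two
      rw [Finite.one_lt_card_iff_nontrivial]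
      exact ⟨⟨⟨z₁, (B0_mem_Om hS).2 hz₁2⟩, 1, fun h => hz₁1 (congrArg Subtype.val h)⟩⟩
    have h3 : 0 < Nat.card (P ⧸ Om P) := Nat.card_pos
    rw [h1]
    nlinarith
  have hIH := h.ih (P ⧸ Om P) hStarQ hnaQ hcard
  -- elements of `Om (P ⧸ Om P)` come from `Z2 P`
  have hback : ∀ x : P, (x : P ⧸ Om P) ∈ Om (P ⧸ Om P) → x ∈ Z2 P := by
    intro x hx
    exact hH' x ((hmksq x).1 hx.2)
  refine ⟨fun g => hback _ ?_, fun g g' => hback _ ?_⟩
  · have := hIH.1 (g : P ⧸ Om P)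
    rwa [← QuotientGroup.mk_mul] at this
  · have := hIH.2 (g : P ⧸ Om P) (g' : P ⧸ Om P)
    unfold cm at this ⊢
    simpa only [QuotientGroup.mk_mul, QuotientGroup.mk_inv] using this

end Cfsg.Agent.SUZ2P
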