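import Mathlib
import Cfsg.Agent.Helper3.LargeES2

set_option autoImplicit false
set_option linter.style.haveILetI false

/-! 2-subgroups `Q` of symplectic type and exponent 4 with central involution `z`
(`Q = E ∘ Z₄` or extraspecial): if a conjugate `g z g⁻¹ ≠ z` lies in `Q` then `z ∈ g Q g⁻¹`
(generalizing Aschbacher, Sporadic Groups 8.7(1), after `Helper3.LargeES2`). -/

namespace Cfsg.Agent.Helper19.SympPair

variable {G : Type*} [Group G]

/-- element-level axioms: `z` a central involution of `Q`, all commutators and squares of `Q`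
in `{1, z}`, and `z` the only involution in the centre of `Q` -/
structure SY4 (Q : Subgroup G) (z : G) : Prop where
  ne_one : z ≠ 1
  zz : z * z = 1
  mem : z ∈ Q
  central : ∀ q ∈ Q, q * z = z * q
  comm : ∀ q ∈ Q, ∀ r ∈ Q, q * r = r * q ∨ q * r = r * q * z
  sq : ∀ q ∈ Q, q * q = 1 ∨ q * q = z
  center_inv : ∀ x ∈ Q, (∀ q ∈ Q, x * q = q * x) → x * x = 1 → x = 1 ∨ x = z

namespace SY4

variable {Q : Subgroup G} {z : G}

theorem z_inv (h : SY4 Q z) : z⁻¹ = z := inv_eq_of_mul_eq_one_left h.zz

theorem isPGroup (h : SY4 Q z) : IsPGroup 2 Q := by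
  intro q
  refine ⟨2, ?_⟩
  have h4 : (q : G) ^ 4 = 1 := by
    rcases h.sq q q.2 with h1 | h1
    · calc (q : G) ^ 4 = ((q : G) * q) * ((q : G) * q) := by
            rw [show 4 = 2 + 2 from rfl, pow_add, pow_two]
        _ = 1 := by rw [h1, one_mul]
    · calc (q : G) ^ 4 = ((q : G) * q) * ((q : G) * q) := by
            rw [show 4 = 2 + 2 from rfl, pow_add, pow_two]
        _ = 1 := by rw [h1, h.zz]
  apply Subtype.ext
  simpa using h4

/-- conjugating by an element of `Q` multiplies by `1` or `z` -/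
theorem conj (h : SY4 Q z) {q a : G} (hq : q ∈ Q) (ha : a ∈ Q) :
    q * a * q⁻¹ = a ∨ q * a * q⁻¹ = a * z := by
  rcases h.comm q hq a ha with h1 | h1
  · left; rw [h1]; group
  · right
    rw [h1]
    have := h.central _ (Q.inv_mem hq)
    calc a * q * z * q⁻¹ = a * q * (z * q⁻¹) := by group
      _ = a * q * (q⁻¹ * z) := by rw [this]
      _ = a * z := by group

/-- a noncentral involution of `Q` is conjugate in `Q` to its `z`-multiple -/
theorem exists_conj (h : SY4 Q z) {a : G} (ha : a ∈ Q) (haa : a * a = 1) (ha1 : a ≠ 1)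
    (haz : a ≠ z) : ∃ y ∈ Q, y * a * y⁻¹ = a * z := by
  by_contra hcon
  push Not at hcon
  have hc : ∀ r ∈ Q, a * r = r * a := by
    intro r hr
    rcases h.conj hr ha with h1 | h1
    · calc a * r = (r * a * r⁻¹) * r := by rw [h1]
        _ = r * a := by group
    · exact absurd h1 (hcon r hr)
  rcases h.center_inv a ha hc haa with h1 | h1
  · exact ha1 h1
  · exact haz h1

/-- `C_Q(a)` has index at most 2 -/
theorem index_two (h : SY4 Q z) {a y q : G} (ha : a ∈ Q) (hy : y ∈ Q) (hq : q ∈ Q)
    (hya : y * a ≠ a * y) (hqa : q * a ≠ a * q) : (y⁻¹ * q) * a = a * (y⁻¹ * q) := by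
  have h1 : y * a = a * y * z := by
    rcases h.comm y hy a ha with h1 | h1
    · exact absurd h1 hya
    · exact h1
  have h2 : q * a = a * q * z := by
    rcases h.comm q hq a ha with h1 | h1
    · exact absurd h1 hqa
    · exact h1
  have hzy := h.central _ (Q.inv_mem hy)
  have hzq' := h.central _ hq
  have hzz := h.zz
  have h3 : y⁻¹ * a = a * y⁻¹ * z := by
    have : a = y⁻¹ * (a * y * z) := by rw [← h1]; group
    calc y⁻¹ * a = y⁻¹ * a * (z * z) := by rw [hzz, mul_one]
      _ = y⁻¹ * (a * z) * z := by group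
      _ = y⁻¹ * (a * y * y⁻¹ * z) * z := by group
      _ = y⁻¹ * (a * y * (y⁻¹ * z)) * z := by group
      _ = y⁻¹ * (a * y * (z * y⁻¹)) * z := by rw [hzy]
      _ = (y⁻¹ * (a * y * z)) * y⁻¹ * z := by group
      _ = a * y⁻¹ * z := by rw [← this]
  calc y⁻¹ * q * a = y⁻¹ * (q * a) := by group
    _ = y⁻¹ * (a * q * z) := by rw [h2]
    _ = (y⁻¹ * a) * q * z := by group
    _ = a * y⁻¹ * z * q * z := by rw [h3]
    _ = a * y⁻¹ * (z * q) * z := by group
    _ = a * y⁻¹ * (q * z) * z := by rw [hzq']
    _ = a * y⁻¹ * q * (z * z) := by group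
    _ = a * (y⁻¹ * q) := by rw [hzz]; group

/-- an element `d` of `Q` commuting with the whole centralizer `C_Q(a)` is central in `Q` or
`a * d` is central in `Q` -/
theorem double_centralizer (h : SY4 Q z) {a d : G} (ha : a ∈ Q) (hd : d ∈ Q)
    (hda : ∀ y ∈ Q, y * a = a * y → d * y = y * d) :
    (∀ q ∈ Q, d * q = q * d) ∨ (∀ q ∈ Q, (a * d) * q = q * (a * d)) := by
  by_cases hc : ∀ y ∈ Q, d * y = y * d
  · exact Or.inl hc
  · right
    push Not at hc
    obtain ⟨y0, hy0, hdy0⟩ := hc
    have hy0a : y0 * a ≠ a * y0 := fun hh => hdy0 (hda y0 hy0 hh)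
    intro y hy
    by_cases hya : y * a = a * y
    · have h1 := hda y hy hya
      calc a * d * y = a * (d * y) := by group
        _ = a * (y * d) := by rw [h1]
        _ = (a * y) * d := by group
        _ = (y * a) * d := by rw [hya]
        _ = y * (a * d) := by group
    · have hdy : d * y ≠ y * d := by
        intro hh
        have hc1 := h.index_two ha hy0 hy hy0a hya
        have hc2 := hda (y0⁻¹ * y) (Q.mul_mem (Q.inv_mem hy0) hy) hc1
        apply hdy0
        have h3 : d * y0⁻¹ = y0⁻¹ * d := by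
          calc d * y0⁻¹ = d * (y0⁻¹ * y) * y⁻¹ := by group
            _ = y0⁻¹ * y * d * y⁻¹ := by rw [hc2]
            _ = y0⁻¹ * (y * d) * y⁻¹ := by group
            _ = y0⁻¹ * (d * y) * y⁻¹ := by rw [hh]
            _ = y0⁻¹ * d := by group
        calc d * y0 = y0 * (y0⁻¹ * d) * y0 := by group
          _ = y0 * (d * y0⁻¹) * y0 := by rw [h3]
          _ = y0 * d := by group
      have h1 : a * y = y * a * z := by
        rcases h.comm a ha y hy with h1 | h1
        · exact absurd h1.symm hya
        · exact h1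
      have h2 : d * y = y * d * z := by
        rcases h.comm d hd y hy with h2 | h2
        · exact absurd h2 hdy
        · exact h2
      have hzd := h.central d hd
      calc a * d * y = a * (d * y) := by group
        _ = a * (y * d * z) := by rw [h2]
        _ = (a * y) * d * z := by group
        _ = y * a * z * d * z := by rw [h1]
        _ = y * a * (z * d) * z := by group
        _ = y * a * (d * z) * z := by rw [hzd]
        _ = y * (a * d) * (z * z) := by group
        _ = y * (a * d) := by rw [h.zz, mul_one]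

end SY4

open Cfsg.Agent.Helper3.LargeES in
/-- if a conjugate `g z g⁻¹ ≠ z` of the central involution lies in `Q`, then `z` lies in
`g Q g⁻¹` -/
theorem mem_conj_of_conj_mem [Finite G] {Q : Subgroup G} {z : G} (h : SY4 Q z)
    (hC : ∀ x : G, (∀ q ∈ Q, x * q = q * x) → x ∈ Q)
    (hN : ∀ x : G, x * z = z * x → ∀ q ∈ Q, x * q * x⁻¹ ∈ Q)
    (g : G) (hgz : g * z * g⁻¹ ≠ z) (haQ : g * z * g⁻¹ ∈ Q) :
    ∃ q ∈ Q, g * q * g⁻¹ = z := by
  obtain ⟨a, ha⟩ : ∃ a : G, a = g * z * g⁻¹ := ⟨_, rfl⟩
  rw [← ha] at hgz haQ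
  have hzz : z * z = 1 := h.zz
  have hz1 : z ≠ 1 := h.ne_one
  have hzQ : z ∈ Q := h.mem
  have hzinv : z⁻¹ = z := h.z_inv
  have hzc : ∀ q ∈ Q, q * z = z * q := h.central
  have haa : a * a = 1 := by
    calc a * a = g * (z * z) * g⁻¹ := by rw [ha]; group
      _ = 1 := by rw [hzz]; group
  have hainv : a⁻¹ = a := inv_eq_of_mul_eq_one_left haa
  have ha1 : a ≠ 1 := by
    intro h1
    apply hz1
    calc z = g⁻¹ * a * g := by rw [ha]; group
      _ = 1 := by rw [h1]; group
  have haz : a * z = z * a := hzc a haQ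
  let P : Subgroup G := Q.map (MulAut.conj g).toMonoidHom
  have hmemP : ∀ x, x ∈ P ↔ ∃ q ∈ Q, g * q * g⁻¹ = x := by
    intro x
    simp [P, Subgroup.mem_map, MulAut.conj_apply]
  -- elements of P commute with a
  have hPa : ∀ x ∈ P, x * a = a * x := by
    intro x hx
    obtain ⟨q, hq, rfl⟩ := (hmemP x).mp hx
    have := hzc q hq
    calc g * q * g⁻¹ * a = g * (q * z) * g⁻¹ := by rw [ha]; group
      _ = g * (z * q) * g⁻¹ := by rw [this]
      _ = a * (g * q * g⁻¹) := by rw [ha]; group
  -- elements commuting with a normalize P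
  have hNP : ∀ x : G, x * a = a * x → ∀ p ∈ P, x * p * x⁻¹ ∈ P := by
    intro x hx p hp
    obtain ⟨q, hq, rfl⟩ := (hmemP p).mp hp
    have hx' : (g⁻¹ * x * g) * z = z * (g⁻¹ * x * g) := by
      calc g⁻¹ * x * g * z = g⁻¹ * (x * a) * g := by rw [ha]; group
        _ = g⁻¹ * (a * x) * g := by rw [hx]
        _ = z * (g⁻¹ * x * g) := by rw [ha]; group
    have := hN _ hx' q hq
    exact (hmemP _).mpr ⟨_, this, by group⟩
  -- P does not centralize z
  have hnc : ∃ x ∈ P, x * z ≠ z * x := by
    by_contra hcon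
    push Not at hcon
    have hu : ∀ q ∈ Q, (g⁻¹ * z * g) * q = q * (g⁻¹ * z * g) := by
      intro q hq
      have := hcon (g * q * g⁻¹) ((hmemP _).mpr ⟨q, hq, rfl⟩)
      calc g⁻¹ * z * g * q = g⁻¹ * (z * (g * q * g⁻¹)) * g := by group
        _ = g⁻¹ * ((g * q * g⁻¹) * z) * g := by rw [this]
        _ = q * (g⁻¹ * z * g) := by group
    have huQ := hC _ hu
    have huu : (g⁻¹ * z * g) * (g⁻¹ * z * g) = 1 := by
      calc (g⁻¹ * z * g) * (g⁻¹ * z * g) = g⁻¹ * (z * z) * g := by group
        _ = 1 := by rw [hzz]; group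
    rcases h.center_inv _ huQ hu huu with h1 | h1
    · apply hz1
      calc z = g * (g⁻¹ * z * g) * g⁻¹ := by group
        _ = 1 := by rw [h1]; group
    · apply hgz
      calc a = g * z * g⁻¹ := ha
        _ = g * (g⁻¹ * z * g) * g⁻¹ := by rw [h1]
        _ = z := by group
  -- R = C_Q(a)
  let R : Subgroup G := Q ⊓ Subgroup.centralizer {a}
  have hmemR : ∀ r, r ∈ R ↔ r ∈ Q ∧ r * a = a * r := by
    intro r
    simp only [R, Subgroup.mem_inf, Subgroup.mem_centralizer_singleton_iff]
  have hP2 : IsPGroup 2 P := h.isPGroup.map _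
  have hR2 : IsPGroup 2 R := h.isPGroup.to_le inf_le_left
  have hRP : ∀ r ∈ R, ∀ p ∈ P, r * p * r⁻¹ ∈ P :=
    fun r hr p hp => hNP r ((hmemR r).mp hr).2 p hp
  have hRz : ∀ r ∈ R, r * z = z * r := fun r hr => hzc r ((hmemR r).mp hr).1
  obtain ⟨x, hxP, hxz, hxR⟩ := exists_fixed_conj hP2 hR2 hRP hRz hnc
  obtain ⟨z', hz'⟩ : ∃ z' : G, z' = x * z * x⁻¹ := ⟨_, rfl⟩
  rw [← hz'] at hxz hxR
  have hz'z' : z' * z' = 1 := by
    calc z' * z' = x * (z * z) * x⁻¹ := by rw [hz']; group
      _ = 1 := by rw [hzz]; group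
  obtain ⟨c, hc⟩ : ∃ c : G, c = z * z' := ⟨_, rfl⟩
  have hzR : z ∈ R := (hmemR z).mpr ⟨hzQ, haz.symm⟩
  have hcc : c * c = 1 := by
    have h1 : z * z' = z' * z := hxR z hzR
    calc c * c = z * (z' * z) * z' := by rw [hc]; group
      _ = z * (z * z') * z' := by rw [h1]
      _ = (z * z) * (z' * z') := by group
      _ = 1 := by rw [hzz, hz'z', one_mul]
  have hcinv : c⁻¹ = c := inv_eq_of_mul_eq_one_left hcc
  have hcP : c ∈ P := by
    have h1 : z * x * z⁻¹ ∈ P := hNP z haz.symm x hxP
    have : c = (z * x * z⁻¹) * x⁻¹ := by rw [hc, hz', hzinv]; group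
    rw [this]; exact P.mul_mem h1 (P.inv_mem hxP)
  have hc1 : c ≠ 1 := by
    intro h1
    apply hxz
    calc z' = z⁻¹ * (z * z') := by group
      _ = z := by rw [← hc, h1, mul_one, hzinv]
  have hcR : ∀ r ∈ R, c * r = r * c := by
    intro r hr
    have h1 := hRz r hr
    have h2 := hxR r hr
    calc c * r = z * (z' * r) := by rw [hc]; group
      _ = z * (r * z') := by rw [h2]
      _ = (z * r) * z' := by group
      _ = (r * z) * z' := by rw [h1]
      _ = r * c := by rw [hc]; group
  have hconj_c : ∀ r ∈ R, c * r * c⁻¹ = r := by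
    intro r hr
    rw [hcR r hr]; group
  have hcz : c * z = z * c := hcR z hzR
  have hcQ : ∀ q ∈ Q, c * q * c⁻¹ ∈ Q := hN c hcz
  obtain ⟨y, hyQ, hy⟩ : ∃ y ∈ Q, y * a * y⁻¹ = a * z := h.exists_conj haQ haa ha1 hgz
  have hzy : z * y = y * z := (hzc y hyQ).symm
  have hya : y * a ≠ a * y := by
    intro hh
    have : a * z = a := by rw [← hy, hh]; group
    exact hz1 (mul_left_cancel (a := a) (by rw [this, mul_one]))
  have hay : a * y * a⁻¹ = y * z := by
    have h1 : y * a = a * z * y := by rw [← hy]; group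
    calc a * y * a⁻¹ = a * y * a := by rw [hainv]
      _ = a * (y * a) := by group
      _ = a * (a * z * y) := by rw [h1]
      _ = (a * a) * (z * y) := by group
      _ = y * z := by rw [haa, one_mul, hzy]
  have hyay : y⁻¹ * a * y = a * z := by
    have : a = y⁻¹ * (a * z) * y := by rw [← hy]; group
    calc y⁻¹ * a * y = y⁻¹ * a * y * (z * z) := by rw [hzz, mul_one]
      _ = y⁻¹ * a * (y * z) * z := by group
      _ = y⁻¹ * a * (z * y) * z := by rw [hzy]
      _ = (y⁻¹ * (a * z) * y) * z := by group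
      _ = a * z := by rw [← this]
  obtain ⟨d, hd⟩ : ∃ d : G, d = y⁻¹ * (c * y * c⁻¹) := ⟨_, rfl⟩
  have hdQ : d ∈ Q := by rw [hd]; exact Q.mul_mem (Q.inv_mem hyQ) (hcQ y hyQ)
  have hcy : c * y * c⁻¹ = y * d := by rw [hd]; group
  -- R is normalized by y
  have hRnorm : ∀ r ∈ R, y * r * y⁻¹ ∈ R := by
    intro r hr
    obtain ⟨hrQ, hra⟩ := (hmemR r).mp hr
    refine (hmemR _).mpr ⟨Q.mul_mem (Q.mul_mem hyQ hrQ) (Q.inv_mem hyQ), ?_⟩
    have hrz := hRz r hr
    calc y * r * y⁻¹ * a = y * r * (y⁻¹ * a * y) * y⁻¹ := by group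
      _ = y * r * (a * z) * y⁻¹ := by rw [hyay]
      _ = y * (r * a) * z * y⁻¹ := by group
      _ = y * (a * r) * z * y⁻¹ := by rw [hra]
      _ = y * a * (r * z) * y⁻¹ := by group
      _ = y * a * (z * r) * y⁻¹ := by rw [hrz]
      _ = y * (a * z) * r * y⁻¹ := by group
      _ = y * (y⁻¹ * a * y) * r * y⁻¹ := by rw [hyay]
      _ = a * (y * r * y⁻¹) := by group
  -- d centralizes R
  have hdR : ∀ r ∈ Q, r * a = a * r → d * r = r * d := by
    intro r hrQ hra
    have hr : r ∈ R := (hmemR r).mpr ⟨hrQ, hra⟩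
    have e1 : c * (y * r * y⁻¹) * c⁻¹ = (c * y * c⁻¹) * (c * r * c⁻¹) * (c * y * c⁻¹)⁻¹ := by group
    rw [hconj_c r hr, hcy, hconj_c _ (hRnorm r hr)] at e1
    calc d * r = y⁻¹ * (y * d * r * (y * d)⁻¹) * y * d := by group
      _ = y⁻¹ * (y * r * y⁻¹) * y * d := by rw [← e1]
      _ = r * d := by group
  -- squares
  have hyd : (y * d) * (y * d) = y * y := by
    have hyy : y * y ∈ R := by
      rcases h.sq y hyQ with h1 | h1
      · rw [h1]; exact R.one_mem
      · rw [h1]; exact hzR
    have e1 : c * (y * y) * c⁻¹ = (c * y * c⁻¹) * (c * y * c⁻¹) := by group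
    rw [hconj_c _ hyy, hcy] at e1
    exact e1.symm
  -- a criterion for centrality
  have hcentral : ∀ w : G, (∀ r ∈ R, w * r = r * w) → w * y = y * w → ∀ q ∈ Q, w * q = q * w := by
    intro w hwR hwy q hq
    by_cases hqa : q * a = a * q
    · exact hwR q ((hmemR q).mpr ⟨hq, hqa⟩)
    · have h1 := h.index_two haQ hyQ hq hya hqa
      have h2 := hwR (y⁻¹ * q) ((hmemR _).mpr ⟨Q.mul_mem (Q.inv_mem hyQ) hq, h1⟩)
      calc w * q = (w * y) * (y⁻¹ * q) := by group
        _ = y * w * (y⁻¹ * q) := by rw [hwy]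
        _ = y * (w * (y⁻¹ * q)) := by group
        _ = y * ((y⁻¹ * q) * w) := by rw [h2]
        _ = q * w := by group
  have haR : a ∈ R := (hmemR a).mpr ⟨haQ, rfl⟩
  have hca : c * a = a * c := hcR a haR
  by_cases hdZ : ∀ q ∈ Q, d * q = q * d
  · -- `d` is central in `Q`
    have hdd : d * d = 1 := by
      have h1 : (y * d) * (y * d) = (y * y) * (d * d) := by
        calc (y * d) * (y * d) = y * (d * y) * d := by group
          _ = y * (y * d) * d := by rw [hdZ y hyQ]
          _ = (y * y) * (d * d) := by group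
      rw [h1] at hyd
      exact mul_left_cancel (a := y * y) (by rw [hyd, mul_one])
    rcases h.center_inv d hdQ hdZ hdd with h1 | h1
    · -- d = 1
      exfalso
      rw [h1, mul_one] at hcy
      have hwy : c * y = y * c := by
        calc c * y = (c * y * c⁻¹) * c := by group
          _ = y * c := by rw [hcy]
      have hcZ := hcentral c hcR hwy
      rcases h.center_inv c (hC c hcZ) hcZ hcc with h2 | h2
      · exact hc1 h2
      · apply hz1
        have h3 : z' = 1 := by
          calc z' = z⁻¹ * (z * z') := by group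
            _ = 1 := by rw [← hc, h2]; group
        calc z = x⁻¹ * (x * z * x⁻¹) * x := by group
          _ = 1 := by rw [← hz', h3]; group
    · -- d = z
      rw [h1] at hcy
      have hwR : ∀ r ∈ R, (a * c) * r = r * (a * c) := by
        intro r hr
        have h2 := hcR r hr
        have h3 := ((hmemR r).mp hr).2
        calc a * c * r = a * (c * r) := by group
          _ = a * (r * c) := by rw [h2]
          _ = (a * r) * c := by group
          _ = (r * a) * c := by rw [h3]
          _ = r * (a * c) := by group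
      have hwy : (a * c) * y = y * (a * c) := by
        have : (a * c) * y * (a * c)⁻¹ = y := by
          calc (a * c) * y * (a * c)⁻¹ = a * (c * y * c⁻¹) * a⁻¹ := by group
            _ = a * (y * z) * a⁻¹ := by rw [hcy]
            _ = (a * y * a⁻¹) * (a * z) * a⁻¹ := by group
            _ = (y * z) * (z * a) * a⁻¹ := by rw [hay, haz]
            _ = y * (z * z) := by group
            _ = y := by rw [hzz, mul_one]
        calc (a * c) * y = ((a * c) * y * (a * c)⁻¹) * (a * c) := by group
          _ = y * (a * c) := by rw [this]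
      have hwZ := hcentral _ hwR hwy
      have hww : (a * c) * (a * c) = 1 := by
        calc (a * c) * (a * c) = a * (c * a) * c := by group
          _ = a * (a * c) * c := by rw [hca]
          _ = (a * a) * (c * c) := by group
          _ = 1 := by rw [haa, hcc, one_mul]
      rcases h.center_inv _ (hC _ hwZ) hwZ hww with h2 | h2
      · -- a c = 1 ⇒ c = a
        have hca' : c = a := by
          calc c = a⁻¹ * (a * c) := by group
            _ = a := by rw [h2, mul_one, hainv]
        have hz'a : x * z * x⁻¹ = z * a := by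
          calc x * z * x⁻¹ = z' := hz'.symm
            _ = z⁻¹ * (z * z') := by group
            _ = z * a := by rw [← hc, hca', hzinv]
        have hxa : x * a * x⁻¹ = a := by
          rw [hPa x hxP]; group
        have hh' : ((y * g)⁻¹ * x) * z = z * ((y * g)⁻¹ * x) := by
          have e1 : x * z = (z * a) * x := by
            calc x * z = (x * z * x⁻¹) * x := by group
              _ = (z * a) * x := by rw [hz'a]
          have e2 : y * g * z = (z * a) * (y * g) := by
            calc y * g * z = (y * (g * z * g⁻¹) * y⁻¹) * (y * g) := by group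
              _ = (y * a * y⁻¹) * (y * g) := by rw [← ha]
              _ = (z * a) * (y * g) := by rw [hy, haz]
          calc (y * g)⁻¹ * x * z = (y * g)⁻¹ * (x * z) := by group
            _ = (y * g)⁻¹ * ((z * a) * x) := by rw [e1]
            _ = (y * g)⁻¹ * ((z * a) * (y * g)) * ((y * g)⁻¹ * x) := by group
            _ = (y * g)⁻¹ * (y * g * z) * ((y * g)⁻¹ * x) := by rw [← e2]
            _ = z * ((y * g)⁻¹ * x) := by group
        have hq1 := hN _ hh' (z * a) (Q.mul_mem hzQ haQ)
        refine ⟨_, hq1, ?_⟩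
        calc g * ((y * g)⁻¹ * x * (z * a) * ((y * g)⁻¹ * x)⁻¹) * g⁻¹
            = y⁻¹ * ((x * z * x⁻¹) * (x * a * x⁻¹)) * y := by group
          _ = y⁻¹ * ((z * a) * a) * y := by rw [hz'a, hxa]
          _ = y⁻¹ * z * y := by rw [mul_assoc z, haa, mul_one]
          _ = y⁻¹ * (z * y) := by group
          _ = z := by rw [hzy]; group
      · -- a c = z ⇒ c = a z, so z = a c ∈ P
        have hca' : c = a * z := by
          calc c = a⁻¹ * (a * c) := by group
            _ = a * z := by rw [h2, hainv]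
        have haP : a ∈ P := (hmemP a).mpr ⟨z, hzQ, ha.symm⟩
        have : z = a⁻¹ * c := by rw [hca']; group
        have hzP : z ∈ P := by rw [this]; exact P.mul_mem (P.inv_mem haP) hcP
        exact (hmemP z).mp hzP
  · -- `d` is not central: impossible since `c` is an involution
    exfalso
    have hadZ : ∀ q ∈ Q, (a * d) * q = q * (a * d) :=
      (h.double_centralizer haQ hdQ hdR).resolve_left hdZ
    -- d commutes with a
    have hda : d * a = a * d := by
      have h1 := hadZ a haQ
      calc d * a = a⁻¹ * (a * d * a) := by group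
        _ = a⁻¹ * (a * (a * d)) := by rw [h1]
        _ = a * d := by group
    have hdRm : d ∈ R := (hmemR d).mpr ⟨hdQ, hda⟩
    have hcd : c * d * c⁻¹ = d := hconj_c d hdRm
    -- c² = 1 forces d² = 1
    have hdd : d * d = 1 := by
      have e1 : c * (c * y * c⁻¹) * c⁻¹ = y := by
        calc c * (c * y * c⁻¹) * c⁻¹ = (c * c) * y * (c⁻¹ * c⁻¹) := by group
          _ = y := by rw [hcinv, hcc]; group
      have e2 : c * (y * d) * c⁻¹ = (c * y * c⁻¹) * (c * d * c⁻¹) := by group
      rw [hcy, e2, hcy, hcd] at e1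
      have e3 : y * (d * d) = y := by rw [← mul_assoc]; exact e1
      exact mul_left_cancel (a := y) (by rw [e3, mul_one])
    have hdinv : d⁻¹ = d := inv_eq_of_mul_eq_one_left hdd
    -- then d commutes with y
    have hdy : d * y = y * d := by
      have e1 : y * (d * y * d) = y * y := by rw [← hyd]; group
      have e2 : d * y * d = y := mul_left_cancel e1
      calc d * y = (d * y * d) * d⁻¹ := by group
        _ = y * d := by rw [e2, hdinv]
    apply hdZ
    exact hcentral d (fun r hr => hdR r ((hmemR r).mp hr).1 ((hmemR r).mp hr).2) hdy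

end Cfsg.Agent.Helper19.SympPair
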