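import Mathlib
import Cfsg.Agent.Helper19.SympPair

set_option autoImplicit false
set_option linter.style.haveILetI false

/-! The pair `Q`, `g Q g⁻¹` induces the full automorphism group on the four-group
`⟨z, g z g⁻¹⟩`. -/

namespace Cfsg.Agent.Helper19.SympPair

variable {G : Type*} [Group G]

theorem four_group_action [Finite G] {Q : Subgroup G} {z : G} (h : SY4 Q z)
    (hC : ∀ x : G, (∀ q ∈ Q, x * q = q * x) → x ∈ Q)
    (hN : ∀ x : G, x * z = z * x → ∀ q ∈ Q, x * q * x⁻¹ ∈ Q)
    (g : G) (hgz : g * z * g⁻¹ ≠ z) (haQ : g * z * g⁻¹ ∈ Q) :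
    z ∈ Q.map (MulAut.conj g).toMonoidHom ∧
      ∀ u ∈ Subgroup.closure ({z, g * z * g⁻¹} : Set G),
        ∀ v ∈ Subgroup.closure ({z, g * z * g⁻¹} : Set G),
        u ≠ 1 → v ≠ 1 → u ≠ v →
          ∃ x ∈ Q ⊔ Q.map (MulAut.conj g).toMonoidHom,
            x * z * x⁻¹ = u ∧ x * (g * z * g⁻¹) * x⁻¹ = v := by
  obtain ⟨q, hqQ, hgq⟩ := mem_conj_of_conj_mem h hC hN g hgz haQ
  obtain ⟨a, ha⟩ : ∃ a : G, a = g * z * g⁻¹ := ⟨_, rfl⟩
  rw [← ha] at hgz haQ ⊢
  have hzz : z * z = 1 := h.zz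
  have hz1 : z ≠ 1 := h.ne_one
  have hzQ : z ∈ Q := h.mem
  have hzc : ∀ q ∈ Q, q * z = z * q := h.central
  have haa : a * a = 1 := by
    calc a * a = g * (z * z) * g⁻¹ := by rw [ha]; group
      _ = 1 := by rw [hzz]; group
  have ha1 : a ≠ 1 := by
    intro h1
    apply hz1
    calc z = g⁻¹ * a * g := by rw [ha]; group
      _ = 1 := by rw [h1]; group
  have haz : a * z = z * a := hzc a haQ
  have hmemP : ∀ x, x ∈ Q.map (MulAut.conj g).toMonoidHom ↔ ∃ q ∈ Q, g * q * g⁻¹ = x := by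
    intro x
    simp [Subgroup.mem_map, MulAut.conj_apply]
  have hzP : z ∈ Q.map (MulAut.conj g).toMonoidHom := (hmemP z).mpr ⟨q, hqQ, hgq⟩
  refine ⟨hzP, ?_⟩
  -- the element `y ∈ Q`
  obtain ⟨y, hyQ, hy⟩ : ∃ y ∈ Q, y * a * y⁻¹ = a * z := h.exists_conj haQ haa ha1 hgz
  have hyz : y * z * y⁻¹ = z := by
    rw [hzc y hyQ]; group
  have hya : y * a * y⁻¹ = z * a := by rw [hy, haz]
  -- the element `y' ∈ g Q g⁻¹`
  have hq : q = g⁻¹ * z * g := by rw [← hgq]; group
  have hqq : q * q = 1 := by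
    calc q * q = g⁻¹ * (z * z) * g := by rw [hq]; group
      _ = 1 := by rw [hzz]; group
  have hq1 : q ≠ 1 := by
    intro h1
    apply hz1
    rw [← hgq, h1]; group
  have hqz : q ≠ z := by
    intro h1
    apply hgz
    rw [ha, ← h1]
    exact hgq.trans h1.symm
  obtain ⟨y₀, hy₀Q, hy₀⟩ : ∃ y₀ ∈ Q, y₀ * q * y₀⁻¹ = q * z := h.exists_conj hqQ hqq hq1 hqz
  obtain ⟨y', hy'⟩ : ∃ y' : G, y' = g * y₀ * g⁻¹ := ⟨_, rfl⟩
  have hy'P : y' ∈ Q.map (MulAut.conj g).toMonoidHom := (hmemP y').mpr ⟨y₀, hy₀Q, hy'.symm⟩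
  have hy'z : y' * z * y'⁻¹ = z * a := by
    calc y' * z * y'⁻¹ = g * (y₀ * (g⁻¹ * z * g) * y₀⁻¹) * g⁻¹ := by rw [hy']; group
      _ = g * (y₀ * q * y₀⁻¹) * g⁻¹ := by rw [← hq]
      _ = g * (q * z) * g⁻¹ := by rw [hy₀]
      _ = (g * q * g⁻¹) * (g * z * g⁻¹) := by group
      _ = z * a := by rw [hgq, ← ha]
  have hy'a : y' * a * y'⁻¹ = a := by
    calc y' * a * y'⁻¹ = g * (y₀ * z * y₀⁻¹) * g⁻¹ := by rw [hy', ha]; group
      _ = g * z * g⁻¹ := by rw [hzc y₀ hy₀Q]; group
      _ = a := ha.symm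
  -- products
  have hzaz : z * a * z = a := by rw [← haz, mul_assoc, hzz, mul_one]
  have hzaa : z * a * a = z := by rw [mul_assoc, haa, mul_one]
  have hyza : y * (z * a) * y⁻¹ = a := by
    calc y * (z * a) * y⁻¹ = (y * z * y⁻¹) * (y * a * y⁻¹) := by group
      _ = z * (z * a) := by rw [hyz, hya]
      _ = a := by rw [← mul_assoc, hzz, one_mul]
  have hy'za : y' * (z * a) * y'⁻¹ = z := by
    calc y' * (z * a) * y'⁻¹ = (y' * z * y'⁻¹) * (y' * a * y'⁻¹) := by group
      _ = z * a * a := by rw [hy'z, hy'a]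
      _ = z := hzaa
  have hyinvz : y⁻¹ * z * y = z := by
    calc y⁻¹ * z * y = y⁻¹ * (y * z * y⁻¹) * y := by rw [hyz]
      _ = z := by group
  have hyinva : y⁻¹ * a * y = z * a := by
    have h1 : y⁻¹ * (z * a) * y = a := by
      calc y⁻¹ * (z * a) * y = y⁻¹ * (y * a * y⁻¹) * y := by rw [hya]
        _ = a := by group
    have h2 : z * (z * a) = a := by rw [← mul_assoc, hzz, one_mul]
    calc y⁻¹ * a * y = y⁻¹ * (z * (z * a)) * y := by rw [h2]
      _ = (y⁻¹ * z * y) * (y⁻¹ * (z * a) * y) := by group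
      _ = z * a := by rw [hyinvz, h1]
  -- the elements of the four-group
  have hV : ∀ u ∈ Subgroup.closure ({z, a} : Set G), u = 1 ∨ u = z ∨ u = a ∨ u = z * a := by
    intro u hu
    induction hu using Subgroup.closure_induction with
    | mem x hx =>
      rcases hx with rfl | hx
      · exact Or.inr (Or.inl rfl)
      · rw [Set.mem_singleton_iff] at hx
        exact Or.inr (Or.inr (Or.inl hx))
    | one => exact Or.inl rfl
    | mul x y _ _ hx hy =>
      rcases hx with rfl | rfl | rfl | rfl <;> rcases hy with rfl | rfl | rfl | rfl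
      · left; group
      · right; left; group
      · right; right; left; group
      · right; right; right; group
      · right; left; group
      · left; rw [hzz]
      · right; right; right; rfl
      · right; right; left; rw [← mul_assoc, hzz, one_mul]
      · right; right; left; group
      · right; right; right; exact haz
      · left; exact haa
      · right; left; rw [← mul_assoc, haz, mul_assoc, haa, mul_one]
      · right; right; right; group
      · right; right; left; exact hzaz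
      · right; left; exact hzaa
      · left
        calc z * a * (z * a) = (z * a * z) * a := by group
          _ = 1 := by rw [hzaz, haa]
    | inv x _ hx =>
      rcases hx with rfl | rfl | rfl | rfl
      · left; group
      · right; left; exact inv_eq_of_mul_eq_one_left hzz
      · right; right; left; exact inv_eq_of_mul_eq_one_left haa
      · right; right; right
        apply inv_eq_of_mul_eq_one_left
        calc z * a * (z * a) = (z * a * z) * a := by group
          _ = 1 := by rw [hzaz, haa]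
  have hyX : y ∈ Q ⊔ Q.map (MulAut.conj g).toMonoidHom := (le_sup_left : Q ≤ _) hyQ
  have hy'X : y' ∈ Q ⊔ Q.map (MulAut.conj g).toMonoidHom := (le_sup_right : _ ≤ Q ⊔ _) hy'P
  have hza1 : z * a ≠ 1 := by
    intro h1
    apply hgz
    calc a = z * (z * a) := by rw [← mul_assoc, hzz, one_mul]
      _ = z := by rw [h1, mul_one]
  intro u hu v hv hu1 hv1 huv
  rcases hV u hu with rfl | rfl | rfl | rfl
  · exact absurd rfl hu1
  · -- u = z
    rcases hV v hv with rfl | rfl | rfl | rfl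
    · exact absurd rfl hv1
    · exact absurd rfl huv
    · exact ⟨1, Subgroup.one_mem _, by group, by group⟩
    · exact ⟨y, hyX, hyz, hya⟩
  · -- u = a
    rcases hV v hv with rfl | rfl | rfl | rfl
    · exact absurd rfl hv1
    · refine ⟨y * y' * y⁻¹, Subgroup.mul_mem _ (Subgroup.mul_mem _ hyX hy'X)
        (Subgroup.inv_mem _ hyX), ?_, ?_⟩
      · calc y * y' * y⁻¹ * v * (y * y' * y⁻¹)⁻¹
            = y * (y' * (y⁻¹ * v * y) * y'⁻¹) * y⁻¹ := by group
          _ = y * (y' * v * y'⁻¹) * y⁻¹ := by rw [hyinvz]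
          _ = y * (v * u) * y⁻¹ := by rw [hy'z]
          _ = u := hyza
      · calc y * y' * y⁻¹ * u * (y * y' * y⁻¹)⁻¹
            = y * (y' * (y⁻¹ * u * y) * y'⁻¹) * y⁻¹ := by group
          _ = y * (y' * (v * u) * y'⁻¹) * y⁻¹ := by rw [hyinva]
          _ = y * v * y⁻¹ := by rw [hy'za]
          _ = v := hyz
    · exact absurd rfl huv
    · refine ⟨y * y', Subgroup.mul_mem _ hyX hy'X, ?_, ?_⟩
      · calc y * y' * z * (y * y')⁻¹ = y * (y' * z * y'⁻¹) * y⁻¹ := by group
          _ = y * (z * u) * y⁻¹ := by rw [hy'z]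
          _ = u := hyza
      · calc y * y' * u * (y * y')⁻¹ = y * (y' * u * y'⁻¹) * y⁻¹ := by group
          _ = y * u * y⁻¹ := by rw [hy'a]
          _ = z * u := hya
  · -- u = z * a
    rcases hV v hv with rfl | rfl | rfl | rfl
    · exact absurd rfl hv1
    · refine ⟨y' * y, Subgroup.mul_mem _ hy'X hyX, ?_, ?_⟩
      · calc y' * y * v * (y' * y)⁻¹ = y' * (y * v * y⁻¹) * y'⁻¹ := by group
          _ = y' * v * y'⁻¹ := by rw [hyz]
          _ = v * a := hy'z
      · calc y' * y * a * (y' * y)⁻¹ = y' * (y * a * y⁻¹) * y'⁻¹ := by group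
          _ = y' * (v * a) * y'⁻¹ := by rw [hya]
          _ = v := hy'za
    · exact ⟨y', hy'X, hy'z, hy'a⟩
    · exact absurd rfl huv

end Cfsg.Agent.Helper19.SympPair
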