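import Mathlib
import Cfsg.Agent.Helper19.SympTypeA
import Cfsg.Agent.Helper19.RankTwoStructC
import Cfsg.Agent.Helper9.Extraspecial
import Cfsg.Agent.Helper9.PGroupCent
import Cfsg.Agent.S1453

set_option autoImplicit false

/-! P. Hall's theorem on `p`-groups of symplectic type, part B: the decomposition
`G = E C_G(E)` and the absence of normal elementary abelian subgroups of order `p ^ 2`
inside `C_G(E)`. -/

namespace Cfsg.Agent.Helper19.SympType

open Subgroup
open scoped commutatorElement

variable {G : Type*} [Group G] [Finite G] {p : ℕ} [hp : Fact p.Prime]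

omit [Finite G] in
/-- a cyclic subgroup of exponent dividing `n` has order dividing `n` -/
theorem card_dvd_of_isCyclic_of_pow (U : Subgroup G) (hc : IsCyclic ↥U) (n : ℕ)
    (hU : ∀ u ∈ U, u ^ n = 1) : Nat.card U ∣ n := by
  rw [← IsCyclic.exponent_eq_card]
  apply Monoid.exponent_dvd_of_forall_pow_eq_one
  intro g
  exact Subtype.ext (by simpa using hU g.1 g.2)

/-- in a nontrivial `p`-group with cyclic centre, `Ω₁(Z(G))` has order `p` -/
theorem card_omegaCenter (hG : IsPGroup p G) [Nontrivial G]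
    (hZ : IsCyclic ↥(center G)) : Nat.card (omegaCenter p G) = p := by
  have hcyc : IsCyclic ↥(omegaCenter p G) := Subgroup.isCyclic_of_le (omegaCenter_le_center p)
  have hdvd : Nat.card (omegaCenter p G) ∣ p :=
    card_dvd_of_isCyclic_of_pow _ hcyc p (fun u hu => hu.2)
  rcases (Nat.dvd_prime hp.out).mp hdvd with h | h
  · exfalso
    have hbot : omegaCenter p G = ⊥ := Subgroup.card_eq_one.mp h
    have hnt : Nontrivial ↥(center G) := hG.center_nontrivial
    have hcp : IsPGroup p ↥(center G) := hG.to_subgroup _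
    have hpd : p ∣ Nat.card ↥(center G) := by
      obtain ⟨n, hn⟩ := IsPGroup.iff_card.mp hcp
      rcases n with _ | n
      · rw [pow_zero] at hn
        have := (Finite.one_lt_card_iff_nontrivial (α := ↥(center G))).mpr hnt
        omega
      · rw [hn, pow_succ]; exact dvd_mul_left _ _
    obtain ⟨x, hx⟩ := exists_prime_orderOf_dvd_card' p hpd
    have hx1 : (x : G) ∈ omegaCenter p G := by
      refine ⟨x.2, ?_⟩
      have : x ^ p = 1 := by rw [← hx]; exact pow_orderOf_eq_one x
      have h2 := congrArg (fun y : ↥(center G) => (y : G)) this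
      simpa using h2
    rw [hbot, Subgroup.mem_bot] at hx1
    have hx2 : x = 1 := Subtype.ext hx1
    rw [hx2, orderOf_one] at hx
    exact hp.out.one_lt.ne hx
  · exact h

/-- a "complement" `E` to the centre of `symL` inside `symL` -/
theorem exists_compl :
    ∃ E : Subgroup G, omegaCenter p G ≤ E ∧ E ≤ symL p G ∧
      E ⊓ symZ p G ≤ omegaCenter p G ∧ symL p G ≤ E ⊔ symZ p G := by
  obtain ⟨E, -, hmax⟩ := Finite.exists_le_maximal
    (p := fun E : Subgroup G => omegaCenter p G ≤ E ∧ E ≤ symL p G ∧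
      E ⊓ symZ p G ≤ omegaCenter p G) (a := omegaCenter p G)
    ⟨le_rfl, omegaCenter_le_symL p, inf_le_left⟩
  obtain ⟨h1, h2, h3⟩ := hmax.prop
  refine ⟨E, h1, h2, h3, ?_⟩
  intro x hx
  by_contra hxn
  -- elements of `symL` normalize `E`
  have hconj : ∀ y ∈ symL p G, ∀ e ∈ E, y * e * y⁻¹ ∈ E := by
    intro y hy e he
    have h4 : y * e * y⁻¹ = ⁅y, e⁆ * e := by rw [commutatorElement_def]; group
    rw [h4]
    exact mul_mem (h1 (commutator_mem_of_mem_symL hy e)) he
  have hnorm : zpowers x ≤ normalizer (E : Set G) := by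
    intro y hy
    have hyL : y ∈ symL p G := (zpowers_le.mpr hx) hy
    rw [mem_normalizer_iff]
    intro h
    constructor
    · exact hconj y hyL h
    · intro hh
      have := hconj y⁻¹ (inv_mem hyL) _ hh
      have h5 : y⁻¹ * (y * h * y⁻¹) * y⁻¹⁻¹ = h := by group
      rwa [h5] at this
  have hE'1 : omegaCenter p G ≤ E ⊔ zpowers x := h1.trans le_sup_left
  have hE'2 : E ⊔ zpowers x ≤ symL p G := sup_le h2 (zpowers_le.mpr hx)
  have hxp : x ^ p ∈ E := h1 hx.1
  by_cases hE'3 : (E ⊔ zpowers x) ⊓ symZ p G ≤ omegaCenter p G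
  · have := hmax.le_of_ge ⟨hE'1, hE'2, hE'3⟩ le_sup_left
    exact hxn (le_sup_left (a := E) (b := symZ p G)
      (this (le_sup_right (a := E) (mem_zpowers x))))
  · rw [SetLike.not_le_iff_exists] at hE'3
    obtain ⟨w, ⟨hw1, hw2⟩, hw3⟩ := hE'3
    have hw1' : w ∈ ((E ⊔ zpowers x : Subgroup G) : Set G) := hw1
    rw [coe_mul_of_right_le_normalizer_left E (zpowers x) hnorm] at hw1'
    obtain ⟨e, he, y, hy, rfl⟩ := Set.mem_mul.mp hw1'
    obtain ⟨n, hn⟩ := mem_powers_iff_mem_zpowers.mpr hy
    have hn' : x ^ n = y := hn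
    have hy' : x ^ n ∈ E ⊔ symZ p G := by
      rw [hn']
      have h6 : y = e⁻¹ * (e * y) := by group
      rw [h6]
      exact mul_mem (le_sup_left (a := E) (inv_mem he)) (le_sup_right (a := E) hw2)
    have hdvd : p ∣ n :=
      Cfsg.Agent.Helper19.RankTwoStruct.dvd_of_pow_mem (E ⊔ symZ p G) x
        (le_sup_left (a := E) hxp) hxn n hy'
    obtain ⟨m, rfl⟩ := hdvd
    have hyE : y ∈ E := by
      rw [← hn', pow_mul]
      exact pow_mem hxp m
    exact hw3 (h3 ⟨mul_mem he hyE, hw2⟩)

variable (E : Subgroup G) (h1 : omegaCenter p G ≤ E) (h2 : E ≤ symL p G)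
  (h3 : E ⊓ symZ p G ≤ omegaCenter p G) (h4 : symL p G ≤ E ⊔ symZ p G)

include h4 in
/-- an element of `symL` centralizing `E` lies in the centre of `symL` -/
theorem inf_centralizer_le_symZ : symL p G ⊓ centralizer (E : Set G) ≤ symZ p G := by
  rintro x ⟨hxL, hxE⟩
  refine ⟨hxL, ?_⟩
  have hxE' : x ∈ centralizer (E : Set G) := hxE
  have h5 : E ⊔ symZ p G ≤ centralizer ({x} : Set G) := by
    apply sup_le
    · intro e he
      rw [mem_centralizer_iff]
      intro w hw
      rw [Set.mem_singleton_iff] at hw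
      rw [hw]
      exact ((mem_centralizer_iff.mp hxE') e he).symm
    · intro z hz
      rw [mem_centralizer_iff]
      intro w hw
      rw [Set.mem_singleton_iff] at hw
      rw [hw]
      have hz2 : z ∈ centralizer (symL p G : Set G) := hz.2
      exact (mem_centralizer_iff.mp hz2) x hxL
  have hc : x ∈ centralizer (symL p G : Set G) := by
    rw [mem_centralizer_iff]
    intro h hh
    have := h5 (h4 hh)
    rw [mem_centralizer_iff] at this
    exact (this x rfl).symm
  exact hc

include h1 h2 h3 h4 in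
/-- the centre of `E` is `Ω₁(Z(G))` -/
theorem centralizer_inf_eq : centralizer (E : Set G) ⊓ E = omegaCenter p G := by
  apply le_antisymm
  · rintro x ⟨hxc, hxE⟩
    have hxZ := inf_centralizer_le_symZ E h4 ⟨h2 hxE, hxc⟩
    exact h3 ⟨hxE, hxZ⟩
  · intro x hx
    refine ⟨?_, h1 hx⟩
    have hc : x ∈ centralizer (E : Set G) := by
      rw [mem_centralizer_iff]
      intro h _
      exact omegaCenter_comm hx h
    exact hc

include h1 h2 h3 h4 in
/-- `G = E C_G(E)` -/
theorem sup_centralizer_eq_top (hcard : Nat.card (omegaCenter p G) = p) :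
    E ⊔ centralizer (E : Set G) = ⊤ := by
  rw [eq_top_iff]
  intro t _
  have hce := centralizer_inf_eq E h1 h2 h3 h4
  apply Cfsg.Agent.Helper9.mem_sup_centralizer_of_commutator_mem (p := p) E
  · rw [hce]; exact hcard
  · intro a ha b _
    rw [hce]
    exact commutator_mem_of_mem_symL (h2 ha) b
  · rw [hce, mem_centralizer_iff]
    intro h hh
    exact (omegaCenter_comm hh t).symm
  · intro q hq
    rw [hce]
    exact (h2 hq).2 t

include h4 in
/-- `C_G(E)` contains no subgroup of order `p ^ 2` and exponent `p` that is normal in `G` -/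
theorem no_normal_sq (hG : IsPGroup p G) (hcard : Nat.card (omegaCenter p G) = p)
    (hZc : IsCyclic ↥(symZ p G)) (U : Subgroup G) [U.Normal]
    (hUE : U ≤ centralizer (E : Set G)) (hUp : ∀ u ∈ U, u ^ p = 1)
    (hUc : Nat.card U = p ^ 2) : False := by
  obtain ⟨B, hBn, hUB, hBU, hBc⟩ := Cfsg.Agent.Helper9.exists_normal_index_p hG U 1 hUc
  rw [pow_one] at hBc
  have hBZ : B ≤ omegaCenter p G := by
    intro b hb
    refine ⟨Cfsg.Agent.S1453.le_center_of_normal_of_card_prime hG B hBc hb, hUp b (hBU hb)⟩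
  have hUL : U ≤ symL p G := by
    intro u hu
    refine ⟨by rw [hUp u hu]; exact one_mem _, fun g => ?_⟩
    rw [← commutatorElement_inv]
    exact inv_mem (hBZ (hUB (Subgroup.commutator_mem_commutator hu (Subgroup.mem_top g))))
  have hUZ : U ≤ symZ p G := fun u hu =>
    inf_centralizer_le_symZ E h4 ⟨hUL hu, hUE hu⟩
  have hUcyc : IsCyclic ↥U := Subgroup.isCyclic_of_le hUZ
  have hdvd := card_dvd_of_isCyclic_of_pow U hUcyc p hUp
  rw [hUc] at hdvd
  have : p ^ 2 ≤ p := Nat.le_of_dvd hp.out.pos hdvd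
  have h5 : p < p ^ 2 := by
    have := hp.out.one_lt
    nlinarith
  omega

end Cfsg.Agent.Helper19.SympType
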