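import Mathlib
import Cfsg.Prelude.Def_CaseTheorems
import Cfsg.Agent.Helper19.SympTypeB
import Cfsg.Agent.Helper19.SympTypeC
import Cfsg.Agent.Helper9.NormalFour
import Cfsg.Agent.Helper1.NormalAbelianCyclic
import Cfsg.Agent.Helper1.UniqueOrderP
import Cfsg.Agent.S0126
import Cfsg.Agent.S0519

set_option autoImplicit false

/-! P. Hall's theorem on `p`-groups of symplectic type, part D: the strong form of the structure
theorem, keeping track of where `E` sits (same proof as `Cfsg.Agent.S3762.result`). -/

namespace Cfsg.Agent.Helper19.SympType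

open Subgroup
open scoped commutatorElement

theorem le_normalizer_of_conj_mem' {G : Type*} [Group G] (H B : Subgroup G)
    (h : ∀ g ∈ H, ∀ b ∈ B, g * b * g⁻¹ ∈ B) : H ≤ normalizer (B : Set G) := by
  intro g hg
  rw [mem_normalizer_iff]
  intro b
  constructor
  · exact h g hg b
  · intro hb
    have := h g⁻¹ (H.inv_mem hg) _ hb
    have h5 : g⁻¹ * (g * b * g⁻¹) * g⁻¹⁻¹ = b := by group
    rwa [h5] at this

/-- a finite group is not isomorphic to `QuaternionGroup 0` -/
theorem quaternion_ne_zero {R : Type*} [Group R] [Finite R] (n : ℕ)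
    (e : R ≃* QuaternionGroup n) : n ≠ 0 := by
  rintro rfl
  have : Infinite (QuaternionGroup 0) := by
    have hinj : Function.Injective (fun i : ℤ => (QuaternionGroup.a (i : ZMod (2 * 0)) :
        QuaternionGroup 0)) := by
      intro i j hij
      have h1 : ((i : ZMod (2 * 0))) = (j : ZMod (2 * 0)) := by injection hij
      have h2 : ∀ k : ℤ, ((k : ZMod (2 * 0)) : ℤ) = k := fun k => Int.cast_id
      calc i = ((i : ZMod (2 * 0)) : ℤ) := (h2 i).symm
        _ = ((j : ZMod (2 * 0)) : ℤ) := by rw [h1]
        _ = j := h2 j
    exact Infinite.of_injective _ hinj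
  have : Finite (QuaternionGroup 0) := Finite.of_equiv _ e.toEquiv
  exact not_finite (QuaternionGroup 0)

theorem q8_comm : ∀ x y : QuaternionGroup 2,
    x * y * x⁻¹ * y⁻¹ = 1 ∨ x * y * x⁻¹ * y⁻¹ = QuaternionGroup.a 2 := by decide

theorem q8_sq : ∀ x : QuaternionGroup 2, x * x = 1 ∨ x * x = QuaternionGroup.a 2 := by decide

theorem q8_central : ∀ y : QuaternionGroup 2,
    QuaternionGroup.a 2 * y = y * QuaternionGroup.a 2 := by decide

theorem q8_ne : (QuaternionGroup.a 2 : QuaternionGroup 2) ≠ 1 := by decide

theorem q8_sq_one : (QuaternionGroup.a 2 : QuaternionGroup 2) * QuaternionGroup.a 2 = 1 := by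
  decide

theorem q8_noncomm : (QuaternionGroup.a 1 : QuaternionGroup 2) * QuaternionGroup.xa 0 ≠
    QuaternionGroup.xa 0 * QuaternionGroup.a 1 := by decide

/-- strong form of P. Hall's theorem: `E` lies between `Ω₁(Z(G))` and `symL`, `G = E C_G(E)`, and
`C_G(E)` is cyclic or of maximal class -/
theorem structure_strong {G : Type*} [Group G] [Finite G] [Nontrivial G] {p : ℕ} [Fact p.Prime]
    (hG : IsPGroup p G)
    (hsymp : ∀ A : Subgroup G, A.Characteristic → IsMulCommutative A → IsCyclic A) :
    ∃ E R : Subgroup G, omegaCenter p G ≤ E ∧ E ≤ symL p G ∧ R = centralizer (E : Set G) ∧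
      E ⊔ R = ⊤ ∧ Nat.card (omegaCenter p G) = p ∧
      (IsCyclic R ∨ (p = 2 ∧ 16 ≤ Nat.card R ∧ ((∃ m : ℕ, Nonempty (↥R ≃* DihedralGroup m)) ∨
        (∃ m : ℕ, Nonempty (↥R ≃* QuaternionGroup m)) ∨ Cfsg.IsQuasiDihedral ↥R))) := by
  have hpp : p.Prime := Fact.out
  have hZc : IsCyclic ↥(center G) := hsymp _ inferInstance inferInstance
  have hcard := card_omegaCenter hG hZc
  have hsZ : IsCyclic ↥(symZ p G) := hsymp _ inferInstance inferInstance
  obtain ⟨E, h1, h2, h3, h4⟩ := exists_compl (G := G) (p := p)
  have hce := centralizer_inf_eq E h1 h2 h3 h4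
  have htop := sup_centralizer_eq_top E h1 h2 h3 h4 hcard
  obtain ⟨R, hR⟩ : ∃ R : Subgroup G, R = centralizer (E : Set G) := ⟨_, rfl⟩
  rw [← hR] at htop
  have hRE : ∀ r ∈ R, ∀ e ∈ E, e * r = r * e := by
    intro r hr e he
    rw [hR] at hr
    exact (mem_centralizer_iff.mp hr) e he
  have hRp : IsPGroup p ↥R := hG.to_subgroup R
  have hZR : omegaCenter p G ≤ R := by
    intro x hx
    rw [hR, mem_centralizer_iff]
    intro h _
    exact omegaCenter_comm hx h
  -- no normal elementary abelian subgroup of order `p ^ 2` in `R`
  have hkey : ∀ A : Subgroup ↥R, A.Normal → (∀ a ∈ A, a ^ p = 1) → Nat.card A = p ^ 2 →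
      False := by
    intro A hAn hAp hAc
    obtain ⟨U, hU⟩ : ∃ U : Subgroup G, U = A.map R.subtype := ⟨_, rfl⟩
    have hUR : U ≤ R := by rw [hU]; exact map_subtype_le A
    have hUn : U.Normal := by
      have hE : E ≤ normalizer (U : Set G) := by
        apply le_normalizer_of_conj_mem'
        intro e he u hu
        have h5 : e * u = u * e := hRE u (hUR hu) e he
        rw [h5, mul_assoc, mul_inv_cancel, mul_one]
        exact hu
      have hR' : R ≤ normalizer (U : Set G) := by
        apply le_normalizer_of_conj_mem'
        intro r hr u hu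
        rw [hU] at hu ⊢
        obtain ⟨a, ha, rfl⟩ := hu
        exact ⟨⟨r, hr⟩ * a * ⟨r, hr⟩⁻¹, hAn.conj_mem a ha ⟨r, hr⟩, rfl⟩
      have h6 : normalizer (U : Set G) = ⊤ := by
        rw [eq_top_iff, ← htop]
        exact sup_le hE hR'
      exact normalizer_eq_top_iff.mp h6
    have hUp : ∀ u ∈ U, u ^ p = 1 := by
      intro u hu
      rw [hU] at hu
      obtain ⟨a, ha, rfl⟩ := hu
      have h7 := hAp a ha
      have h8 := congrArg (fun y : ↥R => (y : G)) h7
      simpa using h8
    have hUc : Nat.card U = p ^ 2 := by
      rw [hU, card_map_of_injective R.subtype_injective]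
      exact hAc
    exact no_normal_sq E h4 hG hcard hsZ U (hR ▸ hUR) hUp hUc
  -- elements of `R` central in `R` are central in `G`
  have hcenR : ∀ x ∈ R, (∀ r ∈ R, r * x = x * r) → x ∈ center G := by
    intro x hx hxr
    have h5 : E ⊔ R ≤ centralizer ({x} : Set G) := by
      apply sup_le
      · intro e he
        rw [mem_centralizer_iff]
        intro w hw
        rw [Set.mem_singleton_iff] at hw
        rw [hw]
        exact (hRE x hx e he).symm
      · intro r hr
        rw [mem_centralizer_iff]
        intro w hw
        rw [Set.mem_singleton_iff] at hw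
        rw [hw]
        exact (hxr r hr).symm
    rw [htop] at h5
    rw [Subgroup.mem_center_iff]
    intro g
    have := h5 (Subgroup.mem_top g)
    rw [mem_centralizer_iff] at this
    exact (this x rfl).symm
  -- the structure of `R`
  have hquat : ∀ n : ℕ, Nonempty (↥R ≃* QuaternionGroup n) → p = 2 →
      IsCyclic ↥R ∨ (p = 2 ∧ 16 ≤ Nat.card R ∧
        ((∃ m : ℕ, Nonempty (↥R ≃* DihedralGroup m)) ∨
          (∃ m : ℕ, Nonempty (↥R ≃* QuaternionGroup m)) ∨ Cfsg.IsQuasiDihedral ↥R)) := by
    rintro n ⟨e⟩ hp2
    have hn0 : n ≠ 0 := quaternion_ne_zero n e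
    haveI : NeZero n := ⟨hn0⟩
    have hcardR : Nat.card ↥R = 4 * n := by
      rw [Nat.card_congr e.toEquiv, Nat.card_eq_fintype_card, QuaternionGroup.card]
    by_cases hn4 : 4 ≤ n
    · right
      exact ⟨hp2, by rw [hcardR]; omega, Or.inr (Or.inl ⟨n, ⟨e⟩⟩)⟩
    · have hn : n = 1 ∨ n = 2 ∨ n = 3 := by omega
      rcases hn with rfl | rfl | rfl
      · left
        haveI := QuaternionGroup.quaternionGroup_one_isCyclic
        exact isCyclic_of_surjective e.symm e.symm.surjective
      · exfalso
        -- `R ≃* Q₈`
        subst hp2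
        obtain ⟨z, hz⟩ : ∃ z : ↥R, z = e.symm (QuaternionGroup.a 2) := ⟨_, rfl⟩
        have hez : e z = QuaternionGroup.a 2 := by rw [hz, MulEquiv.apply_symm_apply]
        have hz1 : z ≠ 1 := by
          intro h
          rw [h, map_one] at hez
          exact q8_ne hez.symm
        have hz2 : z * z = 1 := by
          apply e.injective
          rw [map_mul, hez, map_one]
          exact q8_sq_one
        have hzc : ∀ r : ↥R, r * z = z * r := by
          intro r
          apply e.injective
          rw [map_mul, map_mul, hez]
          exact (q8_central (e r)).symm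
        have hzZ : (z : G) ∈ omegaCenter 2 G := by
          refine ⟨hcenR z z.2 (fun r hr => ?_), ?_⟩
          · have := congrArg (fun y : ↥R => (y : G)) (hzc ⟨r, hr⟩)
            exact this
          · have := congrArg (fun y : ↥R => (y : G)) hz2
            rw [pow_two]
            exact this
        -- all of `R` lies in `symL`
        have hRL : ∀ x : ↥R, (x : G) ∈ symL 2 G := by
          intro x
          constructor
          · rcases q8_sq (e x) with h | h
            · have h9 : x * x = 1 := by
                apply e.injective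
                rw [map_mul, map_one]
                exact h
              have := congrArg (fun y : ↥R => (y : G)) h9
              rw [pow_two]
              have h10 : (x : G) * (x : G) = 1 := this
              rw [h10]
              exact one_mem _
            · have h9 : x * x = z := by
                apply e.injective
                rw [map_mul, hez]
                exact h
              have := congrArg (fun y : ↥R => (y : G)) h9
              rw [pow_two]
              have h10 : (x : G) * (x : G) = (z : G) := this
              rw [h10]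
              exact hzZ
          · intro g
            have hg : g ∈ ((E ⊔ R : Subgroup G) : Set G) := by
              rw [htop]; exact Subgroup.mem_top g
            have hnorm : R ≤ normalizer (E : Set G) := by
              apply le_normalizer_of_conj_mem'
              intro r hr e' he'
              rw [← hRE r hr e' he', mul_assoc, mul_inv_cancel, mul_one]
              exact he'
            rw [coe_mul_of_right_le_normalizer_left E R hnorm] at hg
            obtain ⟨e', he', r, hr, rfl⟩ := Set.mem_mul.mp hg
            have hrx : r * (x : G) * r⁻¹ ∈ R := mul_mem (mul_mem hr x.2) (inv_mem hr)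
            have h11 : ⁅e' * r, (x : G)⁆ = r * (x : G) * r⁻¹ * (x : G)⁻¹ := by
              have h12 : e' * (r * (x : G) * r⁻¹) = (r * (x : G) * r⁻¹) * e' :=
                hRE _ hrx e' he'
              calc ⁅e' * r, (x : G)⁆ = e' * (r * (x : G) * r⁻¹) * e'⁻¹ * (x : G)⁻¹ := by
                    rw [commutatorElement_def]; group
                _ = (r * (x : G) * r⁻¹) * e' * e'⁻¹ * (x : G)⁻¹ := by rw [h12]
                _ = r * (x : G) * r⁻¹ * (x : G)⁻¹ := by group
            rw [h11]
            rcases q8_comm (e ⟨r, hr⟩) (e x) with h | h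
            · have h9 : (⟨r, hr⟩ : ↥R) * x * (⟨r, hr⟩ : ↥R)⁻¹ * x⁻¹ = 1 := by
                apply e.injective
                rw [map_mul, map_mul, map_mul, map_inv, map_inv, map_one]
                exact h
              have h10 : r * (x : G) * r⁻¹ * (x : G)⁻¹ = 1 :=
                congrArg (fun y : ↥R => (y : G)) h9
              rw [h10]
              exact one_mem _
            · have h9 : (⟨r, hr⟩ : ↥R) * x * (⟨r, hr⟩ : ↥R)⁻¹ * x⁻¹ = z := by
                apply e.injective
                rw [map_mul, map_mul, map_mul, map_inv, map_inv, hez]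
                exact h
              have h10 : r * (x : G) * r⁻¹ * (x : G)⁻¹ = (z : G) :=
                congrArg (fun y : ↥R => (y : G)) h9
              rw [h10]
              exact hzZ
        have hRZ : ∀ x : ↥R, (x : G) ∈ symZ 2 G := fun x =>
          inf_centralizer_le_symZ E h4 ⟨hRL x, hR ▸ x.2⟩
        -- hence `R` is abelian
        obtain ⟨u, hu⟩ : ∃ u : ↥R, u = e.symm (QuaternionGroup.a 1) := ⟨_, rfl⟩
        obtain ⟨v, hv⟩ : ∃ v : ↥R, v = e.symm (QuaternionGroup.xa 0) := ⟨_, rfl⟩
        have huv : (u : G) * (v : G) = (v : G) * (u : G) := by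
          have h13 : (v : G) ∈ centralizer (symL 2 G : Set G) := (hRZ v).2
          exact (mem_centralizer_iff.mp h13) _ (hRL u)
        have huv' : u * v = v * u := Subtype.ext huv
        have h14 := congrArg e huv'
        rw [map_mul, map_mul, hu, hv, MulEquiv.apply_symm_apply, MulEquiv.apply_symm_apply] at h14
        exact q8_noncomm h14
      · exfalso
        obtain ⟨k, hk⟩ := IsPGroup.iff_card.mp hRp
        rw [hcardR] at hk
        have h3 : 3 ∣ p ^ k := by rw [← hk]; norm_num
        have h3' := Nat.Prime.dvd_of_dvd_pow Nat.prime_three h3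
        rw [hp2] at h3'
        omega
  have hRstruct : IsCyclic ↥R ∨ (p = 2 ∧ 16 ≤ Nat.card R ∧
      ((∃ m : ℕ, Nonempty (↥R ≃* DihedralGroup m)) ∨
        (∃ m : ℕ, Nonempty (↥R ≃* QuaternionGroup m)) ∨ Cfsg.IsQuasiDihedral ↥R)) := by
    by_cases hp2 : p = 2
    · have hno : ¬ ∃ U : Subgroup ↥R, U.Normal ∧ Nat.card U = 4 ∧ ∀ u ∈ U, u ^ 2 = 1 := by
        rintro ⟨U, hUn, hUc, hU2⟩
        exact hkey U hUn (by rw [hp2]; exact hU2) (by rw [hUc, hp2]; norm_num)
      have hRp2 : IsPGroup 2 ↥R := hp2 ▸ hRp
      have hn := Cfsg.Agent.Helper9.isCyclic_of_no_normal_four hRp2 hno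
      by_cases hm : ∃ B : Subgroup ↥R, IsMulCommutative B ∧ ¬ IsCyclic B
      · haveI : Fact (Nat.Prime 2) := ⟨Nat.prime_two⟩
        obtain ⟨-, h | h | h⟩ := Cfsg.Agent.S0519.result 2 hRp2 hn hm
        · obtain ⟨n, hn'⟩ := h
          exact hquat n hn' hp2
        · obtain ⟨n, hn8, ⟨e⟩⟩ := h
          right
          refine ⟨hp2, ?_, Or.inl ⟨n, ⟨e⟩⟩⟩
          rw [Nat.card_congr e.toEquiv, DihedralGroup.nat_card]
          omega
        · right
          refine ⟨hp2, ?_, Or.inr (Or.inr h)⟩
          obtain ⟨n, hn3, hc, -⟩ := h
          rw [hc]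
          calc 16 = 2 ^ 4 := by norm_num
            _ ≤ 2 ^ (n + 1) := Nat.pow_le_pow_right (by norm_num) (by omega)
      · push Not at hm
        haveI : Fact (Nat.Prime 2) := ⟨Nat.prime_two⟩
        -- a central involution of `R`
        have hcard2 : Nat.card (omegaCenter 2 G) = 2 := by rw [← hp2]; exact hcard
        have hne : omegaCenter 2 G ≠ ⊥ := by
          intro h
          rw [h, Subgroup.card_bot] at hcard2
          omega
        obtain ⟨z₀, hz₀1⟩ := (Subgroup.ne_bot_iff_exists_ne_one).mp hne
        obtain ⟨z, hz⟩ : ∃ z : ↥R, (z : G) = (z₀ : G) := ⟨⟨z₀.1, hZR (hp2 ▸ z₀.2)⟩, rfl⟩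
        have hz1 : z ≠ 1 := by
          intro h
          apply hz₀1
          apply Subtype.ext
          rw [← hz, h]
          rfl
        have hz2 : z * z = 1 := by
          apply Subtype.ext
          have := z₀.2.2
          rw [pow_two] at this
          rw [Subgroup.coe_mul, hz, this]
          rfl
        have hzc : ∀ r : ↥R, r * z = z * r := by
          intro r
          apply Subtype.ext
          rw [Subgroup.coe_mul, Subgroup.coe_mul, hz]
          exact omegaCenter_comm z₀.2 _
        have hzo : orderOf z = 2 := orderOf_eq_prime (by rw [pow_two, hz2]) hz1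
        have huniq : Cfsg.Agent.Helper1.UniqP 2 ↥R := by
          have hall : ∀ H : Subgroup ↥R, Nat.card H = 2 → H = zpowers z := by
            intro H hH
            have hHne : H ≠ ⊥ := by
              intro h
              rw [h, Subgroup.card_bot] at hH
              omega
            obtain ⟨h, hh1⟩ := (Subgroup.ne_bot_iff_exists_ne_one).mp hHne
            have hh2 : (h : ↥R) * (h : ↥R) = 1 := by
              have h15 : h ^ 2 = 1 := by rw [← hH]; exact pow_card_eq_one'
              have h16 := congrArg (fun y : ↥H => (y : ↥R)) h15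
              rw [pow_two] at h16
              exact h16
            have hh1' : (h : ↥R) ≠ 1 := fun hc => hh1 (Subtype.ext hc)
            have hcomm : ∀ x ∈ ({(h : ↥R), z} : Set ↥R), ∀ y ∈ ({(h : ↥R), z} : Set ↥R),
                x * y = y * x := by
              intro x hx y hy
              rcases hx with rfl | hx
              · rcases hy with rfl | hy
                · rfl
                · rw [Set.mem_singleton_iff] at hy
                  rw [hy]; exact hzc _
              · rw [Set.mem_singleton_iff] at hx
                rw [hx]; exact (hzc _).symm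
            have hBc : IsMulCommutative ↥(Subgroup.closure ({(h : ↥R), z} : Set ↥R)) :=
              Subgroup.isMulCommutative_closure hcomm
            have hBcyc := hm _ hBc
            have hzh : z = (h : ↥R) := by
              by_contra hne'
              exact Cfsg.Agent.Helper1.NAC.false_of_two_involutions _ hBcyc
                (Subgroup.subset_closure (Set.mem_insert_of_mem _ rfl))
                (Subgroup.subset_closure (Set.mem_insert _ _))
                hz2 hh2 hz1 hh1' hne'
            symm
            apply Subgroup.eq_of_le_of_card_ge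
            · rw [zpowers_le, hzh]; exact h.2
            · rw [Nat.card_zpowers, hzo, hH]
          intro H K hH hK
          rw [hall H hH, hall K hK]
        rcases Cfsg.Agent.Helper1.UniqP.cyclic_or_quaternion 2 hRp2 huniq with h | ⟨-, n, hn'⟩
        · exact Or.inl h
        · exact hquat _ hn' hp2
    · left
      by_contra hnc
      obtain ⟨A, hAn, hAe, hAc⟩ := Cfsg.Agent.S0126.result hp2 hRp hnc
      exact hkey A hAn hAe.2 hAc
  exact ⟨E, R, h1, h2, hR, htop, hcard, hRstruct⟩

end Cfsg.Agent.Helper19.SympType
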