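import Mathlib
import Cfsg.Agent.Helper19.SympTypeD

set_option autoImplicit false

/-! 2-groups of symplectic type and exponent dividing 4: all commutators and squares lie in
`Ω₁(Z(T))`, which has order 2. -/

namespace Cfsg.Agent.Helper19.SympType

open Subgroup
open scoped commutatorElement

theorem symL_eq_top_of_pow_four {T : Type*} [Group T] [Finite T] [Nontrivial T]
    (hT : IsPGroup 2 T)
    (hsymp : ∀ A : Subgroup T, A.Characteristic → IsMulCommutative A → IsCyclic A)
    (h4 : ∀ t : T, t ^ 4 = 1) :
    symL 2 T = ⊤ ∧ Nat.card (omegaCenter 2 T) = 2 := by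
  haveI : Fact (Nat.Prime 2) := ⟨Nat.prime_two⟩
  obtain ⟨E, R, h1, h2, hR, htop, hcard, hRs⟩ := structure_strong hT hsymp
  refine ⟨?_, hcard⟩
  have h4R : ∀ x : ↥R, x ^ 4 = 1 := fun x => Subtype.ext (by simpa using h4 x.1)
  have hRc : IsCyclic ↥R := by
    rcases hRs with h | ⟨-, h16, ⟨m, ⟨e⟩⟩ | ⟨m, ⟨e⟩⟩ | ⟨n, hn3, hc, x, y, hx, -, -⟩⟩
    · exact h
    · exfalso
      rw [Nat.card_congr e.toEquiv, DihedralGroup.nat_card] at h16
      have h5 : (DihedralGroup.r 1 : DihedralGroup m) ^ 4 = 1 := by
        have := congrArg e (h4R (e.symm (DihedralGroup.r 1)))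
        rwa [map_pow, MulEquiv.apply_symm_apply, map_one] at this
      have h6 := orderOf_dvd_of_pow_eq_one h5
      rw [DihedralGroup.orderOf_r_one] at h6
      have := Nat.le_of_dvd (by norm_num) h6
      omega
    · exfalso
      have hm0 : m ≠ 0 := by
        rintro rfl
        have : Infinite (QuaternionGroup 0) := by
          have hinj : Function.Injective (fun i : ℤ => (QuaternionGroup.a (i : ZMod (2 * 0)) :
              QuaternionGroup 0)) := by
            intro i j hij
            have h1 : ((i : ZMod (2 * 0))) = (j : ZMod (2 * 0)) := by injection hij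
            have h2 : ∀ k : ℤ, ((k : ZMod (2 * 0)) : ℤ) = k := fun k => Int.cast_id
            calc i = ((i : ZMod (2 * 0)) : ℤ) := (h2 i).symm
              _ = ((j : ZMod (2 * 0)) : ℤ) := by rw [h1]
              _ = j := h2 j
          exact Infinite.of_injective _ hinj
        have : Finite (QuaternionGroup 0) := Finite.of_equiv _ e.toEquiv
        exact not_finite (QuaternionGroup 0)
      haveI : NeZero m := ⟨hm0⟩
      rw [Nat.card_congr e.toEquiv, Nat.card_eq_fintype_card, QuaternionGroup.card] at h16
      have h5 : (QuaternionGroup.a 1 : QuaternionGroup m) ^ 4 = 1 := by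
        have := congrArg e (h4R (e.symm (QuaternionGroup.a 1)))
        rwa [map_pow, MulEquiv.apply_symm_apply, map_one] at this
      have h6 := orderOf_dvd_of_pow_eq_one h5
      rw [QuaternionGroup.orderOf_a_one] at h6
      have := Nat.le_of_dvd (by norm_num) h6
      omega
    · exfalso
      have h6 := orderOf_dvd_of_pow_eq_one (h4R x)
      rw [hx] at h6
      have h7 := Nat.le_of_dvd (by norm_num) h6
      have h8 : 2 ^ 3 ≤ 2 ^ n := Nat.pow_le_pow_right (by norm_num) hn3
      omega
  -- `R` is central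
  have hRcomm : ∀ r ∈ R, ∀ s ∈ R, r * s = s * r := by
    intro r hr s hs
    obtain ⟨c, hc⟩ := hRc.exists_generator
    obtain ⟨i, hi⟩ := Subgroup.mem_zpowers_iff.mp (hc ⟨r, hr⟩)
    obtain ⟨j, hj⟩ := Subgroup.mem_zpowers_iff.mp (hc ⟨s, hs⟩)
    have h5 : (⟨r, hr⟩ : ↥R) * ⟨s, hs⟩ = ⟨s, hs⟩ * ⟨r, hr⟩ := by
      rw [← hi, ← hj, ← zpow_add, ← zpow_add, add_comm]
    exact congrArg Subtype.val h5
  have hRcen : ∀ r ∈ R, r ∈ center T := by
    intro r hr
    have h5 : E ⊔ R ≤ centralizer ({r} : Set T) := by
      apply sup_le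
      · intro e he
        rw [mem_centralizer_iff]
        intro w hw
        rw [Set.mem_singleton_iff] at hw
        rw [hw]
        rw [hR] at hr
        exact ((mem_centralizer_iff.mp hr) e he).symm
      · intro s hs
        rw [mem_centralizer_iff]
        intro w hw
        rw [Set.mem_singleton_iff] at hw
        rw [hw]
        exact hRcomm r hr s hs
    rw [htop] at h5
    rw [Subgroup.mem_center_iff]
    intro g
    have := h5 (Subgroup.mem_top g)
    rw [mem_centralizer_iff] at this
    exact (this r rfl).symm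
  have hRL : R ≤ symL 2 T := by
    intro r hr
    have hrc := hRcen r hr
    refine ⟨⟨Subgroup.pow_mem _ hrc 2, ?_⟩, fun g => ?_⟩
    · rw [← pow_mul]; exact h4 r
    · have h5 : ⁅g, r⁆ = 1 := by
        rw [commutatorElement_eq_one_iff_mul_comm]
        exact Subgroup.mem_center_iff.mp hrc g
      rw [h5]
      exact one_mem _
  rw [eq_top_iff, ← htop]
  exact sup_le h2 hRL

end Cfsg.Agent.Helper19.SympType
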