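import Mathlib
import Cfsg.Prelude.Def_SporadicB

set_option autoImplicit false

/-!
# Elementary calculus of 3-transpositions

`TSet D`: a conjugation-closed set of involutions with products of order at most 3.
`Cx D u`: the members of `D` other than `u` commuting with `u`.
Main result `key`: if `Cx D d = Cx D w` with `d ≠ w` then `x = d * w` maps every `Cx D e` into
`Cx D (x e x⁻¹)`; hence (`block_fix`) `x` fixes every block of the relation `Cx D u = Cx D v`.
-/

namespace Cfsg.Agent.Helper19.TT3

variable {G : Type*} [Group G]

/-- A conjugation-closed set of 3-transpositions. -/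
structure TSet (D : Set G) : Prop where
  sq : ∀ a ∈ D, a * a = 1
  conj : ∀ g : G, ∀ a ∈ D, g * a * g⁻¹ ∈ D
  alt : ∀ a ∈ D, ∀ b ∈ D, Commute a b ∨ (a * b) ^ 3 = 1

theorem tset_of_class {D : Set G} (hD : Cfsg.IsThreeTranspositionClass D) : TSet D := by
  obtain ⟨⟨hord, h23⟩, ⟨d₀, hd₀, hconj⟩, -⟩ := hD
  have hsq : ∀ a ∈ D, a * a = 1 := by
    intro a ha
    rw [← sq, ← hord a ha, pow_orderOf_eq_one]
  refine ⟨hsq, ?_, ?_⟩
  · intro g a ha
    rw [hconj] at ha ⊢
    have ha' : IsConj d₀ a := ha
    change IsConj d₀ _
    exact ha'.trans (isConj_iff.mpr ⟨g, rfl⟩)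
  · intro a ha b hb
    have hia : a⁻¹ = a := inv_eq_of_mul_eq_one_right (hsq a ha)
    have hib : b⁻¹ = b := inv_eq_of_mul_eq_one_right (hsq b hb)
    rcases h23 a ha b hb with h | h
    · left
      change a * b = b * a
      have h1 : a * b * (a * b) = 1 := by rw [← sq]; exact h
      calc a * b = a * b * (a * b) * (b⁻¹ * a⁻¹) := by group
        _ = b * a := by rw [h1, hia, hib, one_mul]
    · exact Or.inr h

/-- The members of `D` other than `u` commuting with `u`. -/
def Cx (D : Set G) (u : G) : Set G := {y | y ∈ D ∧ y ≠ u ∧ Commute u y}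

theorem commute_conj_iff (g a b : G) : Commute (g * a * g⁻¹) b ↔ Commute a (g⁻¹ * b * g) := by
  constructor
  · intro h
    have h1 : g * a * g⁻¹ * b = b * (g * a * g⁻¹) := h
    change a * (g⁻¹ * b * g) = g⁻¹ * b * g * a
    calc a * (g⁻¹ * b * g) = g⁻¹ * (g * a * g⁻¹ * b) * g := by group
      _ = g⁻¹ * (b * (g * a * g⁻¹)) * g := by rw [h1]
      _ = g⁻¹ * b * g * a := by group
  · intro h
    have h1 : a * (g⁻¹ * b * g) = g⁻¹ * b * g * a := h
    change g * a * g⁻¹ * b = b * (g * a * g⁻¹)
    calc g * a * g⁻¹ * b = g * (a * (g⁻¹ * b * g)) * g⁻¹ := by group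
      _ = g * (g⁻¹ * b * g * a) * g⁻¹ := by rw [h1]
      _ = b * (g * a * g⁻¹) := by group

theorem mem_Cx_conj {D : Set G} (hT : TSet D) (g u y : G) :
    y ∈ Cx D (g * u * g⁻¹) ↔ g⁻¹ * y * g ∈ Cx D u := by
  constructor
  · rintro ⟨hy, hne, hc⟩
    refine ⟨?_, ?_, (commute_conj_iff g u y).mp hc⟩
    · have := hT.conj g⁻¹ y hy
      rwa [inv_inv] at this
    · intro h
      apply hne
      rw [← h]; group
  · rintro ⟨hy, hne, hc⟩
    refine ⟨?_, ?_, (commute_conj_iff g u y).mpr hc⟩
    · have := hT.conj g _ hy
      have e : g * (g⁻¹ * y * g) * g⁻¹ = y := by group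
      rwa [e] at this
    · intro h
      apply hne
      rw [h]; group

theorem Cx_conj_eq {D : Set G} (hT : TSet D) (g : G) {u v : G} (h : Cx D u = Cx D v) :
    Cx D (g * u * g⁻¹) = Cx D (g * v * g⁻¹) := by
  ext y
  rw [mem_Cx_conj hT, mem_Cx_conj hT, h]

theorem not_commute_of_eqv {D : Set G} {u v : G} (hv : v ∈ D)
    (h : Cx D u = Cx D v) (hne : u ≠ v) : ¬ Commute u v := by
  intro hc
  have h1 : v ∈ Cx D u := ⟨hv, fun e => hne e.symm, hc⟩
  rw [h] at h1
  exact h1.2.1 rfl

theorem braid {a b : G} (ha : a * a = 1) (hb : b * b = 1) (h : (a * b) ^ 3 = 1) :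
    a * b * a = b * a * b := by
  have hia : a⁻¹ = a := inv_eq_of_mul_eq_one_right ha
  have hib : b⁻¹ = b := inv_eq_of_mul_eq_one_right hb
  have h1 : a * b * (a * b) * (a * b) = 1 := by rw [← h, pow_succ, pow_succ, pow_one]
  calc a * b * a = (a * b * (a * b) * (a * b)) * (b⁻¹ * a⁻¹ * b⁻¹) := by group
    _ = b * a * b := by rw [h1, hia, hib, one_mul]

theorem inv_eq_self {D : Set G} (hT : TSet D) {a : G} (ha : a ∈ D) : a⁻¹ = a :=
  inv_eq_of_mul_eq_one_right (hT.sq a ha)

theorem conj_mem' {D : Set G} (hT : TSet D) {a b : G} (ha : a ∈ D) (hb : b ∈ D) :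
    a * b * a ∈ D := by
  have := hT.conj a b hb
  rwa [inv_eq_self hT ha] at this

/-- conjugating by an involution preserves commuting. -/
theorem commute_sandwich {a b c : G} (ha : a * a = 1) :
    Commute (a * b * a) (a * c * a) ↔ Commute b c := by
  have hia : a⁻¹ = a := inv_eq_of_mul_eq_one_right ha
  have h := commute_conj_iff a b (a * c * a)
  rw [hia] at h
  rw [h]
  have e : a * (a * c * a) * a = c := by
    calc a * (a * c * a) * a = (a * a) * c * (a * a) := by group
      _ = c := by rw [ha, one_mul, mul_one]
  rw [e]

theorem key {D : Set G} (hT : TSet D) {d w : G} (hd : d ∈ D) (hw : w ∈ D)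
    (hE : Cx D d = Cx D w) (hne : d ≠ w) {e y : G} (he : e ∈ D) (hy : y ∈ Cx D e) :
    y ∈ Cx D (d * w * e * (d * w)⁻¹) := by
  obtain ⟨hyD, hye, hey⟩ := hy
  have hdd := hT.sq d hd
  have hww := hT.sq w hw
  have hee := hT.sq e he
  have hyy := hT.sq y hyD
  have hid := inv_eq_self hT hd
  have hiw := inv_eq_self hT hw
  have hndw : ¬ Commute d w := not_commute_of_eqv hw hE hne
  have h3 : (d * w) ^ 3 = 1 := (hT.alt d hd w hw).resolve_left hndw
  have hdw : ∀ z, z ∈ D → z ≠ d → Commute d z → (z ≠ w ∧ Commute w z) := by
    intro z hz h1 h2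
    have h : z ∈ Cx D w := by rw [← hE]; exact ⟨hz, h1, h2⟩
    exact ⟨h.2.1, h.2.2⟩
  have hwd : ∀ z, z ∈ D → z ≠ w → Commute w z → (z ≠ d ∧ Commute d z) := by
    intro z hz h1 h2
    have h : z ∈ Cx D d := by rw [hE]; exact ⟨hz, h1, h2⟩
    exact ⟨h.2.1, h.2.2⟩
  by_cases hde : Commute d e
  · by_cases hed : e = d
    · -- e = d
      have hx : d * w * e * (d * w)⁻¹ = w := by
        rw [hed]
        have h1 : d * w * (d * w) * (d * w) = 1 := by rw [← h3, pow_succ, pow_succ, pow_one]
        calc d * w * d * (d * w)⁻¹ = d * w * d * w⁻¹ * d⁻¹ := by group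
          _ = d * w * d * w * d := by rw [hid, hiw]
          _ = (d * w * (d * w) * (d * w)) * w⁻¹ := by group
          _ = w := by rw [h1, hiw, one_mul]
      rw [hx]
      rw [hed] at hye hey
      have := hdw y hyD hye hey
      exact ⟨hyD, this.1, this.2⟩
    · have h1 := hdw e he hed hde
      have hc : Commute (d * w) e := hde.mul_left h1.2
      have hx : d * w * e * (d * w)⁻¹ = e := by
        rw [hc.eq, mul_inv_cancel_right]
      rw [hx]
      exact ⟨hyD, hye, hey⟩
  · by_cases hew : e = w
    · have hx : d * w * e * (d * w)⁻¹ = d * w * d⁻¹ := by rw [hew]; group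
      rw [hx, mem_Cx_conj hT]
      rw [hew] at hye hey
      have h1 := hwd y hyD hye hey
      have e1 : d⁻¹ * y * d = y := by
        rw [hid, h1.2.eq]
        calc y * d * d = y * (d * d) := by group
          _ = y := by rw [hdd, mul_one]
      rw [e1]
      exact ⟨hyD, hye, hey⟩
    · have hnwe : ¬ Commute w e := fun h => hde (hwd e he hew h).2
      have hgoal : (d * w)⁻¹ * y * (d * w) ∈ Cx D e → y ∈ Cx D (d * w * e * (d * w)⁻¹) :=
        (mem_Cx_conj hT (d * w) e y).mpr
      apply hgoal
      by_cases hdy : Commute d y
      · have hyd : y ≠ d := by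
          intro h
          rw [h] at hey
          exact hde hey.symm
        have h1 := hdw y hyD hyd hdy
        have hc : Commute (d * w) y := hdy.mul_left h1.2
        have e1 : (d * w)⁻¹ * y * (d * w) = y := by
          rw [mul_assoc, ← hc.eq, inv_mul_cancel_left]
        rw [e1]
        exact ⟨hyD, hye, hey⟩
      · have hnwy : ¬ Commute w y := by
          intro h
          by_cases hyw : y = w
          · rw [hyw] at hey
            exact hnwe hey.symm
          · exact hdy (hwd y hyD hyw h).2
        have h3dy : (d * y) ^ 3 = 1 := (hT.alt d hd y hyD).resolve_left hdy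
        have h3wy : (w * y) ^ 3 = 1 := (hT.alt w hw y hyD).resolve_left hnwy
        -- p = d y d
        have hpD : d * y * d ∈ D := conj_mem' hT hd hyD
        have hpp := hT.sq _ hpD
        -- p d p = y
        have hpdp : d * y * d * d * (d * y * d) = y := by
          have h1 : d * y * (d * y) * (d * y) = 1 := by rw [← h3dy, pow_succ, pow_succ, pow_one]
          have hiy := inv_eq_self hT hyD
          calc d * y * d * d * (d * y * d) = d * y * (d * d) * (d * y * d) := by group
            _ = d * y * (d * y) * (d * y) * y⁻¹ := by rw [hdd]; group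
            _ = y := by rw [h1, hiy, one_mul]
        -- z = p e p commutes with d
        have hzD : d * y * d * e * (d * y * d) ∈ D := conj_mem' hT hpD he
        have hzd : Commute d (d * y * d * e * (d * y * d)) := by
          have h1 : Commute (d * y * d * e * (d * y * d)) (d * y * d * (d * y * d * d * (d * y * d)) * (d * y * d)) := by
            rw [commute_sandwich hpp, hpdp]
            exact hey
          have e1 : d * y * d * (d * y * d * d * (d * y * d)) * (d * y * d) = d := by
            calc d * y * d * (d * y * d * d * (d * y * d)) * (d * y * d)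
                = (d * y * d * (d * y * d)) * d * ((d * y * d) * (d * y * d)) := by group
              _ = d := by rw [hpp, one_mul, mul_one]
          rw [e1] at h1
          exact h1.symm
        have hzne : d * y * d * e * (d * y * d) ≠ d := by
          intro h
          apply hye
          have : e = d * y * d * d * (d * y * d) := by
            calc e = (d * y * d * (d * y * d)) * e * ((d * y * d) * (d * y * d)) := by
                  rw [hpp, one_mul, mul_one]
              _ = d * y * d * (d * y * d * e * (d * y * d)) * (d * y * d) := by group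
              _ = d * y * d * d * (d * y * d) := by rw [h]
          rw [this, hpdp]
        have hwz := (hdw _ hzD hzne hzd).2
        -- so (p w p) commutes with e
        have hpwp : Commute (d * y * d * w * (d * y * d)) e := by
          have h1 : Commute (d * y * d * w * (d * y * d))
              (d * y * d * (d * y * d * e * (d * y * d)) * (d * y * d)) := by
            rw [commute_sandwich hpp]
            exact hwz
          have e1 : d * y * d * (d * y * d * e * (d * y * d)) * (d * y * d) = e := by
            calc d * y * d * (d * y * d * e * (d * y * d)) * (d * y * d)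
                = (d * y * d * (d * y * d)) * e * ((d * y * d) * (d * y * d)) := by group
              _ = e := by rw [hpp, one_mul, mul_one]
          rwa [e1] at h1
        -- w and p do not commute
        have hnwp : ¬ Commute w (d * y * d) := by
          intro h
          by_cases hpw : d * y * d = w
          · -- y = d w d
            have hyd : y = d * w * d := by
              calc y = (d * d) * y * (d * d) := by rw [hdd, one_mul, mul_one]
                _ = d * (d * y * d) * d := by group
                _ = d * w * d := by rw [hpw]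
            have h1 := Cx_conj_eq hT d hE
            have e1 : d * d * d⁻¹ = d := by group
            have e2 : d * w * d⁻¹ = y := by rw [hid, hyd]
            rw [e1, e2] at h1
            have h2 : e ∈ Cx D y := ⟨he, fun h => hye h.symm, hey.symm⟩
            rw [← h1] at h2
            exact hde h2.2.2
          · have h1 := (hwd _ hpD hpw h).2
            apply hdy
            have h2 : Commute (d * d * d) (d * y * d) := by
              have : d * d * d = d := by rw [hdd, one_mul]
              rw [this]; exact h1
            exact (commute_sandwich hdd).mp h2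
        have h3wp : (w * (d * y * d)) ^ 3 = 1 := (hT.alt w hw _ hpD).resolve_left hnwp
        have hbr := braid hww hpp h3wp
        -- x⁻¹ y x = w p w
        have e1 : (d * w)⁻¹ * y * (d * w) = w * (d * y * d) * w := by
          rw [mul_inv_rev, hid, hiw]; group
        rw [e1, hbr]
        refine ⟨?_, ?_, hpwp.symm⟩
        · rw [← hbr]; exact conj_mem' hT hw hpD
        · intro h
          rw [← hbr] at h
          -- e = w p w; Commute e y gives Commute p (w y w)
          have h1 : Commute (w * (d * y * d) * w) y := by rw [h]; exact hey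
          have h2 : Commute (w * (d * y * d) * w) (w * (w * y * w) * w) := by
            have : w * (w * y * w) * w = y := by
              calc w * (w * y * w) * w = (w * w) * y * (w * w) := by group
                _ = y := by rw [hww, one_mul, mul_one]
            rw [this]; exact h1
          have h4 := (commute_sandwich hww).mp h2
          have b1 := braid hdd hyy h3dy
          have b2 := braid hww hyy h3wy
          rw [b1, b2] at h4
          exact hndw ((commute_sandwich hyy).mp h4)

end Cfsg.Agent.Helper19.TT3
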