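import Mathlib
import Cfsg.Agent.Helper19.TT3A
import Cfsg.Agent.Helper14.PCore
import Cfsg.Agent.Helper4.ZStarCorB

set_option autoImplicit false

/-!
# Blocks of 3-transpositions and `O_3`

`blockKer`: the kernel of the action on the blocks of the relation `Cx D u = Cx D v`;
`blockStab`: the stabiliser of the block of `d`.
Main result `mul_mem_pCore`: if `Cx D d = Cx D w` then `d * w ∈ O_3(G)` (given the `Z*`-theorem
for subgroups of `G`).
-/

namespace Cfsg.Agent.Helper19.TT3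

open Cfsg

variable {G : Type*} [Group G]

/-- The kernel of the action on blocks. -/
def blockKer (D : Set G) (hT : TSet D) : Subgroup G where
  carrier := {g | ∀ e ∈ D, Cx D (g * e * g⁻¹) = Cx D e}
  one_mem' := by
    intro e _
    simp
  mul_mem' := by
    intro g h hg hh e he
    have e1 : g * h * e * (g * h)⁻¹ = g * (h * e * h⁻¹) * g⁻¹ := by group
    rw [e1, hg _ (hT.conj h e he), hh e he]
  inv_mem' := by
    intro g hg e he
    have h1 := hg (g⁻¹ * e * g⁻¹⁻¹) (hT.conj g⁻¹ e he)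
    have e1 : g * (g⁻¹ * e * g⁻¹⁻¹) * g⁻¹ = e := by group
    rw [e1] at h1
    exact h1.symm

theorem mem_blockKer {D : Set G} {hT : TSet D} {g : G} :
    g ∈ blockKer D hT ↔ ∀ e ∈ D, Cx D (g * e * g⁻¹) = Cx D e := Iff.rfl

instance blockKer_normal (D : Set G) (hT : TSet D) : (blockKer D hT).Normal := by
  refine ⟨fun n hn g => ?_⟩
  intro e he
  have h1 := hn (g⁻¹ * e * g⁻¹⁻¹) (hT.conj g⁻¹ e he)
  have h2 := Cx_conj_eq hT g h1
  have e1 : g * n * g⁻¹ * e * (g * n * g⁻¹)⁻¹ = g * (n * (g⁻¹ * e * g⁻¹⁻¹) * n⁻¹) * g⁻¹ := by group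
  have e2 : g * (g⁻¹ * e * g⁻¹⁻¹) * g⁻¹ = e := by group
  rw [e1, h2, e2]

/-- The stabiliser of the block of `d`. -/
def blockStab (D : Set G) (hT : TSet D) (d : G) : Subgroup G where
  carrier := {g | Cx D (g * d * g⁻¹) = Cx D d}
  one_mem' := by simp
  mul_mem' := by
    intro g h hg hh
    have e1 : g * h * d * (g * h)⁻¹ = g * (h * d * h⁻¹) * g⁻¹ := by group
    have h2 := Cx_conj_eq hT g hh
    change Cx D (g * h * d * (g * h)⁻¹) = Cx D d
    rw [e1, h2]
    exact hg
  inv_mem' := by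
    intro g hg
    have h2 := Cx_conj_eq hT g⁻¹ hg
    have e1 : g⁻¹ * (g * d * g⁻¹) * g⁻¹⁻¹ = d := by group
    rw [e1] at h2
    exact h2.symm

theorem mem_blockStab {D : Set G} {hT : TSet D} {d g : G} :
    g ∈ blockStab D hT d ↔ Cx D (g * d * g⁻¹) = Cx D d := Iff.rfl

theorem blockKer_le_blockStab {D : Set G} (hT : TSet D) {d : G} (hd : d ∈ D) :
    blockKer D hT ≤ blockStab D hT d := fun _ hg => hg d hd

theorem self_mem_blockStab {D : Set G} (hT : TSet D) (d : G) : d ∈ blockStab D hT d := by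
  rw [mem_blockStab]
  have : d * d * d⁻¹ = d := by group
  rw [this]

/-- `O_p` of a normal subgroup lies in `O_p` of the group. -/
theorem pCoreOf_le_pCore_of_normal (p : ℕ) (N : Subgroup G) [hN : N.Normal] :
    pCoreOf p N ≤ pCore p G := by
  apply Cfsg.Agent.Helper14.le_pCore
  · refine ⟨fun x hx g => ?_⟩
    have h1 := Cfsg.Agent.Helper14.pCoreOf_map_conj p N g
    have h2 : N.map (MulAut.conj g).toMonoidHom = N := by
      ext z
      constructor
      · rintro ⟨n, hn, rfl⟩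
        exact hN.conj_mem n hn g
      · intro hz
        refine ⟨g⁻¹ * z * g⁻¹⁻¹, hN.conj_mem z hz g⁻¹, ?_⟩
        simp [mul_assoc]
    rw [h2] at h1
    rw [h1]
    exact ⟨x, hx, rfl⟩
  · exact Cfsg.Agent.Helper14.pCoreOf_isPGroup p N

theorem mul_mem_blockKer {D : Set G} (hT : TSet D) {d w : G} (hd : d ∈ D) (hw : w ∈ D)
    (hE : Cx D d = Cx D w) (hne : d ≠ w) : d * w ∈ blockKer D hT := by
  intro e he
  apply Set.Subset.antisymm
  · intro y hy
    have h1 := key hT hw hd hE.symm hne.symm (hT.conj (d * w) e he) hy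
    have hdd := hT.sq d hd
    have hinv : w * d = (d * w)⁻¹ := by
      apply eq_inv_of_mul_eq_one_left
      calc w * d * (d * w) = w * (d * d) * w := by group
        _ = 1 := by rw [hdd, mul_one, hT.sq w hw]
    rw [hinv] at h1
    have e1 : (d * w)⁻¹ * (d * w * e * (d * w)⁻¹) * (d * w)⁻¹⁻¹ = e := by group
    rwa [e1] at h1
  · intro y hy
    exact key hT hd hw hE hne he hy

theorem conj_by_mul {D : Set G} (hT : TSet D) {d w : G} (hd : d ∈ D) (hw : w ∈ D)
    (h3 : (d * w) ^ 3 = 1) : d * w * d * (d * w)⁻¹ = w := by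
  have hid := inv_eq_self hT hd
  have hiw := inv_eq_self hT hw
  have h1 : d * w * (d * w) * (d * w) = 1 := by rw [← h3, pow_succ, pow_succ, pow_one]
  calc d * w * d * (d * w)⁻¹ = d * w * d * w⁻¹ * d⁻¹ := by group
    _ = d * w * d * w * d := by rw [hid, hiw]
    _ = (d * w * (d * w) * (d * w)) * w⁻¹ := by group
    _ = w := by rw [h1, hiw, one_mul]

/-- An involution in a normal `3`-subgroup is trivial. -/
theorem eq_one_of_sq_of_mem_pCore {g : G} (hg : g ∈ pCore 3 G) (h2 : g * g = 1) : g = 1 := by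
  obtain ⟨k, hk⟩ := (Cfsg.Agent.Helper14.pCore_isPGroup (G := G) 3) ⟨g, hg⟩
  have hk' : g ^ 3 ^ k = 1 := by
    have := congrArg Subtype.val hk
    simpa using this
  have h1 : orderOf g ∣ 3 ^ k := orderOf_dvd_of_pow_eq_one hk'
  have h2' : orderOf g ∣ 2 := orderOf_dvd_of_pow_eq_one (by rw [sq]; exact h2)
  have hc : Nat.Coprime 2 (3 ^ k) := Nat.Coprime.pow_right k (by norm_num)
  have : orderOf g = 1 := Nat.eq_one_of_dvd_coprimes hc h2' h1
  exact orderOf_eq_one_iff.mp this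

/-- Members of `D` congruent modulo `O_3(G)` have the same commuting partners. -/
theorem Cx_subset_of_mem_pCore {D : Set G} (hT : TSet D) {d w : G} (hd : d ∈ D) (hw : w ∈ D)
    (hz : d⁻¹ * w ∈ pCore 3 G) : Cx D d ⊆ Cx D w := by
  rintro y ⟨hyD, hyd, hdy⟩
  have hdd := hT.sq d hd
  have hyy := hT.sq y hyD
  have hid := inv_eq_self hT hd
  have hdysq : d * y * (d * y) = 1 := by
    calc d * y * (d * y) = d * (y * d) * y := by group
      _ = d * (d * y) * y := by rw [hdy.eq]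
      _ = (d * d) * (y * y) := by group
      _ = 1 := by rw [hdd, hyy, one_mul]
  refine ⟨hyD, ?_, ?_⟩
  · intro h
    rw [← h] at hz
    have hz2 : d⁻¹ * y * (d⁻¹ * y) = 1 := by rw [hid]; exact hdysq
    have h1 := eq_one_of_sq_of_mem_pCore hz hz2
    apply hyd
    rw [hid] at h1
    calc y = (d * d) * y := by rw [hdd, one_mul]
      _ = d * (d * y) := by group
      _ = d := by rw [h1, mul_one]
  · by_contra hn
    have h3 : (w * y) ^ 3 = 1 := (hT.alt w hw y hyD).resolve_left hn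
    have hQ : (pCore 3 G).Normal := Cfsg.Agent.Helper14.pCore_normal 3
    have hmk : (QuotientGroup.mk (d * y) : G ⧸ pCore 3 G) = QuotientGroup.mk (w * y) := by
      rw [QuotientGroup.eq]
      have e : (d * y)⁻¹ * (w * y) = y⁻¹ * (d⁻¹ * w) * y⁻¹⁻¹ := by group
      rw [e]
      exact hQ.conj_mem _ hz _
    have h4 : (d * y) ^ 3 ∈ pCore 3 G := by
      rw [← QuotientGroup.eq_one_iff, QuotientGroup.mk_pow, hmk, ← QuotientGroup.mk_pow, h3]
      rfl
    have e3 : (d * y) ^ 3 = d * y := by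
      rw [pow_succ, pow_succ, pow_one, hdysq, one_mul]
    rw [e3] at h4
    have h1 := eq_one_of_sq_of_mem_pCore h4 hdysq
    apply hyd
    calc y = (d * d) * y := by rw [hdd, one_mul]
      _ = d * (d * y) := by group
      _ = d := by rw [h1, mul_one]

theorem mul_mem_pCore [Finite G] {D : Set G} (hT : TSet D) (hord : ∀ a ∈ D, orderOf a = 2)
    (hZ : ∀ S : Subgroup G, Cfsg.Agent.Helper4.ZStarCor.ZStarFor ↥S)
    {d w : G} (hd : d ∈ D) (hw : w ∈ D) (hE : Cx D d = Cx D w) :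
    d * w ∈ pCore 3 G := by
  classical
  by_cases hne : d = w
  · rw [← hne, hT.sq d hd]
    exact Subgroup.one_mem _
  have hxN := mul_mem_blockKer hT hd hw hE hne
  have hdd := hT.sq d hd
  have hww := hT.sq w hw
  have hid := inv_eq_self hT hd
  have hiw := inv_eq_self hT hw
  have hndw : ¬ Commute d w := not_commute_of_eqv hw hE hne
  have h3 : (d * w) ^ 3 = 1 := (hT.alt d hd w hw).resolve_left hndw
  have hxd : d * w * d * (d * w)⁻¹ = w := by
    have h1 : d * w * (d * w) * (d * w) = 1 := by rw [← h3, pow_succ, pow_succ, pow_one]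
    calc d * w * d * (d * w)⁻¹ = d * w * d * w⁻¹ * d⁻¹ := by group
      _ = d * w * d * w * d := by rw [hid, hiw]
      _ = (d * w * (d * w) * (d * w)) * w⁻¹ := by group
      _ = w := by rw [h1, hiw, one_mul]
  obtain ⟨S, hS⟩ : ∃ S, S = blockStab D hT d := ⟨_, rfl⟩
  have hNS : blockKer D hT ≤ S := hS ▸ blockKer_le_blockStab hT hd
  have hdS : d ∈ S := hS ▸ self_mem_blockStab hT d
  have hxS : d * w ∈ S := hNS hxN
  -- conjugates of d in S
  have hconjS : ∀ a ∈ conjugatesOf (⟨d, hdS⟩ : S), (a : G) ∈ D ∧ Cx D (a : G) = Cx D d := by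
    intro a ha
    have ha' : IsConj (⟨d, hdS⟩ : S) a := ha
    rw [isConj_iff] at ha'
    obtain ⟨s, rfl⟩ := ha'
    have hs : (s : G) ∈ blockStab D hT d := hS ▸ s.2
    refine ⟨hT.conj s d hd, ?_⟩
    exact hs
  have hprod : ∀ a ∈ conjugatesOf (⟨d, hdS⟩ : S), ∀ b ∈ conjugatesOf (⟨d, hdS⟩ : S),
      ∃ k : ℕ, orderOf (a * b) = 3 ^ k := by
    intro a ha b hb
    obtain ⟨haD, haE⟩ := hconjS a ha
    obtain ⟨hbD, hbE⟩ := hconjS b hb
    by_cases hab : (a : G) = b
    · refine ⟨0, ?_⟩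
      have : a * b = 1 := by
        apply Subtype.ext
        rw [Subgroup.coe_mul, ← hab, hT.sq _ haD, Subgroup.coe_one]
      rw [this, orderOf_one, pow_zero]
    · refine ⟨1, ?_⟩
      have hnc : ¬ Commute (a : G) b := not_commute_of_eqv hbD (haE.trans hbE.symm) hab
      have h3' : ((a : G) * b) ^ 3 = 1 := (hT.alt _ haD _ hbD).resolve_left hnc
      have hne1 : (a : G) * b ≠ 1 := by
        intro h
        apply hab
        have : (b : G) = (a : G)⁻¹ := eq_inv_of_mul_eq_one_right h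
        rw [this, inv_eq_self hT haD]
      rw [← Subgroup.orderOf_coe, Subgroup.coe_mul, pow_one]
      have hdvd : orderOf ((a : G) * b) ∣ 3 := orderOf_dvd_of_pow_eq_one h3'
      rcases (Nat.dvd_prime Nat.prime_three).mp hdvd with h | h
      · exact absurd (orderOf_eq_one_iff.mp h) hne1
      · exact h
  have hordd : orderOf (⟨d, hdS⟩ : S) = 2 := by
    rw [← Subgroup.orderOf_coe]
    exact hord d hd
  have hmain := Cfsg.Agent.Helper4.ZStarCor.main (hZ S) Nat.prime_three (by norm_num)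
    (⟨d, hdS⟩ : S) hordd hprod
  have hmem : (⟨d, hdS⟩ : S) * ((⟨d * w, hxS⟩ : S) * ⟨d, hdS⟩ * (⟨d * w, hxS⟩ : S)⁻¹) ∈ pCore 3 ↥S := by
    apply hmain _ mem_conjugatesOf_self
    change IsConj _ _
    exact isConj_iff.mpr ⟨_, rfl⟩
  have hxT : d * w ∈ pCoreOf 3 S := by
    refine ⟨_, hmem, ?_⟩
    simp only [Subgroup.subtype_apply, Subgroup.coe_mul, Subgroup.coe_inv]
    rw [hxd]
  -- N ⊓ O_3(S) ≤ O_3(N) ≤ O_3(G)
  have hK : blockKer D hT ⊓ pCoreOf 3 S ≤ pCoreOf 3 (blockKer D hT) := by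
    apply Cfsg.Agent.Helper14.le_pCoreOf 3 inf_le_left
    · intro n hn
      have hnS := Cfsg.Agent.Helper14.le_normalizer_pCoreOf 3 S (hNS hn)
      rw [Subgroup.mem_normalizer_iff] at hnS ⊢
      intro z
      rw [Subgroup.mem_inf, Subgroup.mem_inf, ← hnS z]
      constructor
      · rintro ⟨h1, h2⟩
        exact ⟨(blockKer_normal D hT).conj_mem z h1 n, h2⟩
      · rintro ⟨h1, h2⟩
        refine ⟨?_, h2⟩
        have := (blockKer_normal D hT).conj_mem _ h1 n⁻¹
        have e : n⁻¹ * (n * z * n⁻¹) * n⁻¹⁻¹ = z := by group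
        rwa [e] at this
    · exact (Cfsg.Agent.Helper14.pCoreOf_isPGroup 3 S).to_le inf_le_right
  exact pCoreOf_le_pCore_of_normal 3 (blockKer D hT) (hK ⟨hxN, hxT⟩)

end Cfsg.Agent.Helper19.TT3
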