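import Mathlib

set_option autoImplicit false

/-! Number theory for `p`-groups transitive on the nonzero vectors of a finite vector space:
solutions of `q ^ n - 1 = p ^ k`. -/

namespace Cfsg.Agent.Helper19.TransVec

open Finset

/-- if `x - y > 0` is even, `x` odd, `n` odd and `x ^ n - y ^ n` is a power of two, then
`x ^ n - y ^ n = x - y` -/
theorem pow_sub_pow_eq_of_two_pow (x y : ℤ) (n : ℕ) (hxy : (2 : ℤ) ∣ x - y) (hx : ¬ (2 : ℤ) ∣ x)
    (hn : Odd n) (m : ℕ) (h : x ^ n - y ^ n = 2 ^ m) (hpos : 0 < x - y) :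
    x ^ n - y ^ n = x - y := by
  have hn' : ¬ (2 : ℤ) ∣ (n : ℤ) := by
    intro hd
    have : (2 : ℕ) ∣ n := by exact_mod_cast hd
    exact (Nat.not_even_iff_odd.mpr hn) (even_iff_two_dvd.mpr this)
  have hS := not_dvd_geom_sum₂ Int.prime_two hxy hx hn'
  have hmul := geom_sum₂_mul x y n
  set S := ∑ i ∈ range n, x ^ i * y ^ (n - 1 - i) with hSdef
  rw [h] at hmul
  have hSdvd : S ∣ 2 ^ m := ⟨x - y, hmul.symm⟩
  have h1 : S.natAbs ∣ 2 ^ m := by
    have := Int.natAbs_dvd_natAbs.mpr hSdvd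
    simpa [Int.natAbs_pow] using this
  obtain ⟨j, -, hj⟩ := (Nat.dvd_prime_pow Nat.prime_two).mp h1
  have hj0 : j = 0 := by
    by_contra hne
    apply hS
    have : (2 : ℕ) ∣ S.natAbs := by
      rw [hj]; exact dvd_pow_self 2 hne
    exact Int.natCast_dvd.mpr this
  rw [hj0, pow_zero] at hj
  have hSpos : 0 < S := by
    by_contra hle
    push Not at hle
    have : S * (x - y) ≤ 0 := mul_nonpos_of_nonpos_of_nonneg hle hpos.le
    rw [hmul] at this
    have : (0 : ℤ) < 2 ^ m := by positivity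
    omega
  have hS1 : S = 1 := by
    have := Int.natAbs_of_nonneg hSpos.le
    rw [hj] at this
    exact this.symm
  rw [hS1, one_mul] at hmul
  rw [h, hmul]

/-- `q ^ n = 2 ^ k + 1` with `q`, `n` odd forces `n = 1` -/
theorem eq_one_of_odd_pow (q n k : ℕ) (hq : Odd q) (hq2 : 2 ≤ q) (hn : Odd n)
    (h : q ^ n = 2 ^ k + 1) : n = 1 := by
  have h1 : ((q : ℤ)) ^ n - 1 ^ n = 2 ^ k := by
    rw [one_pow]
    have : ((q ^ n : ℕ) : ℤ) = ((2 ^ k + 1 : ℕ) : ℤ) := by rw [h]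
    push_cast at this
    linarith
  have hx : ¬ (2 : ℤ) ∣ (q : ℤ) := by
    intro hd
    have : (2 : ℕ) ∣ q := by exact_mod_cast hd
    exact (Nat.not_even_iff_odd.mpr hq) (even_iff_two_dvd.mpr this)
  have hxy : (2 : ℤ) ∣ (q : ℤ) - 1 := by
    obtain ⟨c, hc⟩ := hq
    exact ⟨c, by rw [hc]; push_cast; ring⟩
  have hpos : (0 : ℤ) < (q : ℤ) - 1 := by
    have : (2 : ℤ) ≤ q := by exact_mod_cast hq2
    linarith
  have h2 := pow_sub_pow_eq_of_two_pow (q : ℤ) 1 n hxy hx hn k h1 hpos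
  rw [one_pow] at h2
  have h3 : (q : ℤ) ^ n = q := by linarith
  have h4 : q ^ n = q ^ 1 := by
    rw [pow_one]
    exact_mod_cast h3
  exact Nat.pow_right_injective hq2 h4

/-- `P ^ k + 1 = 2 ^ n` with `P`, `k` odd forces `k = 1` -/
theorem eq_one_of_pow_add_one (P k n : ℕ) (hP : Odd P) (hP2 : 2 ≤ P) (hk : Odd k)
    (h : P ^ k + 1 = 2 ^ n) : k = 1 := by
  have h1 : ((P : ℤ)) ^ k - (-1) ^ k = 2 ^ n := by
    rw [hk.neg_one_pow]
    have : ((P ^ k + 1 : ℕ) : ℤ) = ((2 ^ n : ℕ) : ℤ) := by rw [h]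
    push_cast at this
    linarith
  have hx : ¬ (2 : ℤ) ∣ (P : ℤ) := by
    intro hd
    have : (2 : ℕ) ∣ P := by exact_mod_cast hd
    exact (Nat.not_even_iff_odd.mpr hP) (even_iff_two_dvd.mpr this)
  have hxy : (2 : ℤ) ∣ (P : ℤ) - (-1) := by
    obtain ⟨c, hc⟩ := hP
    exact ⟨c + 1, by rw [hc]; push_cast; ring⟩
  have hpos : (0 : ℤ) < (P : ℤ) - (-1) := by
    have : (2 : ℤ) ≤ P := by exact_mod_cast hP2
    linarith
  have h2 := pow_sub_pow_eq_of_two_pow (P : ℤ) (-1) k hxy hx hk n h1 hpos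
  rw [hk.neg_one_pow] at h2
  have h3 : (P : ℤ) ^ k = P := by linarith
  have h4 : P ^ k = P ^ 1 := by
    rw [pow_one]
    exact_mod_cast h3
  exact Nat.pow_right_injective hP2 h4

/-- an even power of an odd number plus one is not divisible by four -/
theorem pow_even_add_one_ne (P k n : ℕ) (hP : Odd P) (hk : Even k) (hn : 2 ≤ n) :
    P ^ k + 1 ≠ 2 ^ n := by
  obtain ⟨j, rfl⟩ := hk
  intro h
  have h1 : P ^ (j + j) % 4 = 1 := by
    have h2 : P % 4 = 1 ∨ P % 4 = 3 := by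
      obtain ⟨c, hc⟩ := hP
      omega
    have h3 : P ^ 2 % 4 = 1 := by
      rcases h2 with h2 | h2 <;> simp [Nat.pow_mod, h2]
    rw [← two_mul, pow_mul, Nat.pow_mod, h3]
    simp
  have h4 : 2 ^ n % 4 = 0 := by
    obtain ⟨c, rfl⟩ : ∃ c, n = c + 2 := ⟨n - 2, by omega⟩
    rw [pow_add]
    omega
  omega

/-- `2 ^ n - 1 = p ^ k` with `n ≥ 2` forces `k = 1` -/
theorem mersenne_pow (p n k : ℕ) (hp : p.Prime) (hn : 2 ≤ n) (h : p ^ k + 1 = 2 ^ n) : k = 1 := by
  have hpodd : Odd p := by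
    by_contra hne
    rw [Nat.not_odd_iff_even] at hne
    have hp2 : p = 2 := (Nat.Prime.even_iff hp).mp hne
    subst hp2
    have h4 : 2 ^ n % 4 = 0 := by
      obtain ⟨c, rfl⟩ : ∃ c, n = c + 2 := ⟨n - 2, by omega⟩
      rw [pow_add]
      omega
    rcases k with _ | _ | k
    · rw [pow_zero] at h; omega
    · rw [pow_one] at h; omega
    · have : 2 ^ (k + 2) % 4 = 0 := by rw [pow_add]; omega
      omega
  rcases Nat.even_or_odd k with hk | hk
  · exact absurd h (pow_even_add_one_ne p k n hpodd hk hn)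
  · exact eq_one_of_pow_add_one p k n hpodd hp.two_le hk h

/-- `q ^ (2 m) = 2 ^ k + 1` forces `q = 3`, `m = 1` -/
theorem eq_three_of_even_pow (q m k : ℕ) (hq : q.Prime) (hqodd : Odd q) (hm : 1 ≤ m)
    (h : q ^ (2 * m) = 2 ^ k + 1) : q = 3 ∧ m = 1 := by
  have hqm : 2 ≤ q ^ m := by
    calc 2 ≤ q := hq.two_le
      _ = q ^ 1 := (pow_one q).symm
      _ ≤ q ^ m := Nat.pow_le_pow_right hq.pos hm
  have hfac : (q ^ m - 1) * (q ^ m + 1) = 2 ^ k := by
    have : q ^ (2 * m) = q ^ m * q ^ m := by rw [two_mul, pow_add]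
    have h2 : (q ^ m - 1) * (q ^ m + 1) = q ^ m * q ^ m - 1 := by
      obtain ⟨c, hc⟩ : ∃ c, q ^ m = c + 1 := ⟨q ^ m - 1, by omega⟩
      rw [hc]
      simp only [Nat.add_sub_cancel]
      ring_nf
      omega
    rw [h2, ← this, h, Nat.add_sub_cancel]
  obtain ⟨a, -, ha⟩ := (Nat.dvd_prime_pow Nat.prime_two).mp ⟨_, hfac.symm⟩
  obtain ⟨b, -, hb⟩ := (Nat.dvd_prime_pow Nat.prime_two).mp
    (Dvd.intro_left _ hfac : q ^ m + 1 ∣ 2 ^ k)
  have hab : 2 ^ b = 2 ^ a + 2 := by omega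
  have hqm3 : q ^ m = 3 := by
    rcases a with _ | _ | a
    · -- `q ^ m = 2`
      exfalso
      rw [pow_zero] at ha
      have h2 : q ^ m = 2 := by omega
      have : Odd (q ^ m) := hqodd.pow
      rw [h2] at this
      exact absurd this (by decide)
    · rw [pow_one] at ha; omega
    · exfalso
      have h4 : 2 ^ (a + 2) % 4 = 0 := by rw [pow_add]; omega
      rcases b with _ | _ | b
      · rw [pow_zero] at hab; omega
      · rw [pow_one] at hab
        have : 0 < 2 ^ (a + 2) := by positivity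
        omega
      · have h5 : 2 ^ (b + 2) % 4 = 0 := by rw [pow_add]; omega
        omega
  have hq3 : q = 3 := by
    have : q ∣ 3 := by
      rw [← hqm3]
      exact dvd_pow_self q (by omega)
    exact (Nat.prime_dvd_prime_iff_eq hq Nat.prime_three).mp this
  refine ⟨hq3, ?_⟩
  subst hq3
  have : 3 ^ m = 3 ^ 1 := by rw [pow_one]; exact hqm3
  exact Nat.pow_right_injective (le_refl 2 |>.trans (by norm_num)) this

end Cfsg.Agent.Helper19.TransVec
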