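import Mathlib
import Cfsg.Agent.Helper19.TransVecA

set_option autoImplicit false
set_option linter.style.haveILetI false
set_option linter.unusedSectionVars false

/-! `p`-groups transitive on the nonzero vectors of a finite vector space: the action, counting. -/

namespace Cfsg.Agent.Helper19.TransVec

open MulAction

variable {q : ℕ} [hq : Fact q.Prime] {V : Type*} [AddCommGroup V] [Module (ZMod q) V] [Finite V]
  {G : Type*} [Group G] [Finite G] (ρ : G →* (V ≃ₗ[ZMod q] V))

/-- the action of `G` on `V` -/
@[reducible] def act : MulAction G V := MulAction.compHom V ρ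

theorem act_smul (g : G) (v : V) : (letI := act ρ; g • v) = ρ g v := rfl

variable (hρ : Function.Injective ρ) (htrans : ∀ v w : V, v ≠ 0 → w ≠ 0 → ∃ g : G, ρ g v = w)

include htrans in
theorem orbit_eq {v : V} (hv : v ≠ 0) : (letI := act ρ; orbit G v) = ({0}ᶜ : Set V) := by
  letI := act ρ
  ext w
  simp only [Set.mem_compl_iff, Set.mem_singleton_iff]
  constructor
  · rintro ⟨g, rfl⟩ h0
    apply hv
    have h1 : ρ g v = 0 := h0
    exact (LinearEquiv.map_eq_zero_iff (ρ g)).mp h1
  · intro hw
    obtain ⟨g, hg⟩ := htrans v w hv hw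
    exact ⟨g, hg⟩

include htrans in
theorem index_stab {v : V} (hv : v ≠ 0) :
    (letI := act ρ; (stabilizer G v).index) = Nat.card V - 1 := by
  letI := act ρ
  rw [index_stabilizer, orbit_eq ρ htrans hv, Set.ncard_compl, Set.ncard_singleton]

include htrans in
theorem card_eq {v : V} (hv : v ≠ 0) :
    Nat.card G = (letI := act ρ; Nat.card (stabilizer G v)) * (Nat.card V - 1) := by
  letI := act ρ
  rw [← index_stab ρ htrans hv]
  exact (Subgroup.card_mul_index _).symm

theorem mem_stab {g : G} {v : V} : (letI := act ρ; g ∈ stabilizer G v) ↔ ρ g v = v := Iff.rfl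

include hρ in
theorem eq_one_of_forall {g : G} (h : ∀ v : V, ρ g v = v) : g = 1 := by
  apply hρ
  rw [map_one]
  ext v
  exact h v

end Cfsg.Agent.Helper19.TransVec
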