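import Mathlib
import Cfsg.Agent.Helper19.TransVecB

set_option autoImplicit false
set_option linter.style.haveILetI false
set_option linter.unusedSectionVars false

/-! `p`-groups transitive on the nonzero vectors: characteristic two, and dimension one. -/

namespace Cfsg.Agent.Helper19.TransVec

open MulAction

variable {q : ℕ} [hq : Fact q.Prime] {V : Type*} [AddCommGroup V] [Module (ZMod q) V] [Finite V]
  {G : Type*} [Group G] [Finite G] (ρ : G →* (V ≃ₗ[ZMod q] V))
  (hρ : Function.Injective ρ) (htrans : ∀ v w : V, v ≠ 0 → w ≠ 0 → ∃ g : G, ρ g v = w)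

include hρ htrans in
/-- the case `#V - 1 = p`: the group has order `p` -/
theorem card_eq_of_card_sub_one {p : ℕ} [hp : Fact p.Prime] (hG : IsPGroup p G)
    (hV : Nat.card V - 1 = p) : Nat.card G = p := by
  letI := act ρ
  obtain ⟨v₀, hv₀⟩ : ∃ v : V, v ≠ 0 := by
    by_contra hcon
    push Not at hcon
    have : Nat.card V = 1 := by
      haveI : Subsingleton V := ⟨fun a b => (hcon a).trans (hcon b).symm⟩
      exact Nat.card_unique
    have := hp.out.two_le
    omega
  have hS₀ : IsPGroup p ↥(stabilizer G v₀) := hG.to_subgroup _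
  have htriv : ∀ g ∈ stabilizer G v₀, g = 1 := by
    intro g hg
    apply eq_one_of_forall ρ hρ
    intro w
    by_cases hw0 : w = 0
    · rw [hw0, map_zero]
    by_cases hwv : w = v₀
    · rw [hwv]; exact hg
    obtain ⟨n, hn⟩ := hS₀.card_orbit w
    have hsub : orbit ↥(stabilizer G v₀) w ⊆ ({0, v₀}ᶜ : Set V) := by
      rintro _ ⟨s, rfl⟩
      simp only [Set.mem_compl_iff, Set.mem_insert_iff, Set.mem_singleton_iff, not_or]
      constructor
      · intro h0
        apply hw0
        have h1 : ρ (s : G) w = 0 := h0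
        exact (LinearEquiv.map_eq_zero_iff (ρ (s : G))).mp h1
      · intro h0
        apply hwv
        have h1 : ρ (s : G) w = v₀ := h0
        have h2 : ρ (s : G) v₀ = v₀ := s.2
        exact (ρ (s : G)).injective (h1.trans h2.symm)
    have hle : Nat.card (orbit ↥(stabilizer G v₀) w) ≤ p - 1 := by
      rw [Nat.card_coe_set_eq]
      have h1 := Set.ncard_le_ncard hsub (Set.toFinite _)
      have h2 : ({0, v₀}ᶜ : Set V).ncard = Nat.card V - 2 := by
        rw [Set.ncard_compl, Set.ncard_pair (Ne.symm hv₀)]
      have := hp.out.two_le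
      omega
    have hn0 : n = 0 := by
      by_contra hne
      have : p ≤ p ^ n := by
        calc p = p ^ 1 := (pow_one p).symm
          _ ≤ p ^ n := Nat.pow_le_pow_right hp.out.pos (by omega)
      have := hp.out.two_le
      omega
    rw [hn0, pow_zero] at hn
    have hsing : Subsingleton (orbit ↥(stabilizer G v₀) w) :=
      (Nat.card_eq_one_iff_unique.mp hn).1
    have h1 : (⟨(⟨g, hg⟩ : ↥(stabilizer G v₀)) • w, ⟨_, rfl⟩⟩ : orbit ↥(stabilizer G v₀) w) =
        ⟨w, mem_orbit_self w⟩ := Subsingleton.elim _ _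
    exact congrArg Subtype.val h1
  have hbot : stabilizer G v₀ = ⊥ := by
    rw [eq_bot_iff]
    intro g hg
    exact Subgroup.mem_bot.mpr (htriv g hg)
  have := card_eq ρ htrans hv₀
  rw [hbot, Subgroup.card_bot, one_mul, hV] at this
  exact this

include hρ htrans in
/-- the one-dimensional case -/
theorem cyclic_of_card_eq (hV : Nat.card V = q) : IsCyclic G ∧ Nat.card G = q - 1 := by
  letI := act ρ
  obtain ⟨v₀, hv₀⟩ : ∃ v : V, v ≠ 0 := by
    by_contra hcon
    push Not at hcon
    have : Nat.card V = 1 := by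
      haveI : Subsingleton V := ⟨fun a b => (hcon a).trans (hcon b).symm⟩
      exact Nat.card_unique
    have := hq.out.two_le
    omega
  have hinj : Function.Injective (fun c : ZMod q => c • v₀) := smul_left_injective (ZMod q) hv₀
  have hbij : Function.Bijective (fun c : ZMod q => c • v₀) := by
    haveI : Finite (ZMod q) := inferInstance
    apply hinj.bijective_of_nat_card_le
    rw [hV, Nat.card_zmod]
  have hsurj : ∀ w : V, ∃ c : ZMod q, c • v₀ = w := hbij.2
  have htriv : ∀ g : G, ρ g v₀ = v₀ → g = 1 := by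
    intro g hg
    apply eq_one_of_forall ρ hρ
    intro w
    obtain ⟨c, rfl⟩ := hsurj w
    rw [map_smul, hg]
  have hbot : stabilizer G v₀ = ⊥ := by
    rw [eq_bot_iff]
    intro g hg
    exact Subgroup.mem_bot.mpr (htriv g hg)
  have hcard := card_eq ρ htrans hv₀
  rw [hbot, Subgroup.card_bot, one_mul, hV] at hcard
  refine ⟨?_, hcard⟩
  choose f hf using fun g : G => hsurj (ρ g v₀)
  have hf1 : f 1 = 1 := by
    apply hinj
    show f 1 • v₀ = (1 : ZMod q) • v₀
    rw [hf, map_one, one_smul]
    rfl
  have hfmul : ∀ g h : G, f (g * h) = f g * f h := by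
    intro g h
    apply hinj
    show f (g * h) • v₀ = (f g * f h) • v₀
    rw [hf, map_mul, mul_comm, mul_smul, hf, ← map_smul, hf]
    rfl
  let F : G →* ZMod q := { toFun := f, map_one' := hf1, map_mul' := hfmul }
  have hFinj : Function.Injective F := by
    intro g h hgh
    have h1 : f g = f h := hgh
    have h2 : ρ g v₀ = ρ h v₀ := by rw [← hf g, ← hf h, h1]
    have h3 : ρ (h⁻¹ * g) v₀ = v₀ := by
      rw [map_mul]
      show ρ h⁻¹ (ρ g v₀) = v₀
      rw [h2, map_inv]
      exact (ρ h).symm_apply_apply v₀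
    have := htriv _ h3
    exact (inv_mul_eq_one.mp this).symm
  exact isCyclic_of_injective_ringHom F hFinj

end Cfsg.Agent.Helper19.TransVec
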