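import Mathlib
import Cfsg.Agent.Helper19.TransVecC

set_option autoImplicit false
set_option linter.style.haveILetI false
set_option linter.unusedSectionVars false

/-! `2`-groups transitive on the nonzero vectors of the plane over the field with three elements:
linear algebra and the stabilizers. -/

namespace Cfsg.Agent.Helper19.TransVec

open MulAction

theorem zmod3_cases : ∀ c : ZMod 3, c = 0 ∨ c = 1 ∨ c = -1 := by decide

variable {V : Type*} [AddCommGroup V] [Module (ZMod 3) V] [Finite V]

theorem three_smul_eq_zero (v : V) : v + v + v = 0 := by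
  have h : (1 : ZMod 3) + 1 + 1 = 0 := by decide
  have := congrArg (fun c : ZMod 3 => c • v) h
  simpa [add_smul] using this

theorem add_self_eq_neg (v : V) : v + v = -v := by
  have := three_smul_eq_zero v
  exact eq_neg_of_add_eq_zero_left this

theorem neg_ne_self {v : V} (hv : v ≠ 0) : -v ≠ v := by
  intro h
  apply hv
  have h1 : v + v = v := by rw [add_self_eq_neg, h]
  have h2 : v + v = v + 0 := by rw [add_zero]; exact h1
  exact add_left_cancel h2

/-- two "independent" vectors span the plane -/
theorem exists_coord (hV : Nat.card V = 9) {v w : V} (hv : v ≠ 0) (hw0 : w ≠ 0) (hwv : w ≠ v)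
    (hwn : w ≠ -v) (u : V) : ∃ a b : ZMod 3, u = a • v + b • w := by
  have key : ∀ a b : ZMod 3, a • v + b • w = 0 → a = 0 ∧ b = 0 := by
    intro a b h
    rcases zmod3_cases b with rfl | rfl | rfl
    · rw [zero_smul, add_zero] at h
      exact ⟨(smul_eq_zero.mp h).resolve_right hv, rfl⟩
    · exfalso
      rw [one_smul] at h
      have hw : w = -(a • v) := eq_neg_of_add_eq_zero_right h
      rcases zmod3_cases a with rfl | rfl | rfl
      · apply hw0; rw [hw]; simp
      · apply hwn; rw [hw]; simp
      · apply hwv; rw [hw]; simp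
    · exfalso
      rw [neg_smul, one_smul] at h
      have hw : w = a • v := by
        have := eq_neg_of_add_eq_zero_left h
        rw [neg_neg] at this
        exact this.symm
      rcases zmod3_cases a with rfl | rfl | rfl
      · apply hw0; rw [hw]; simp
      · apply hwv; rw [hw]; simp
      · apply hwn; rw [hw]; simp
  have hinj : Function.Injective (fun ab : ZMod 3 × ZMod 3 => ab.1 • v + ab.2 • w) := by
    rintro ⟨a, b⟩ ⟨a', b'⟩ h
    have h1 : (a - a') • v + (b - b') • w = 0 := by
      simp only at h
      rw [sub_smul, sub_smul]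
      have : a • v + b • w - (a' • v + b' • w) = 0 := by rw [h, sub_self]
      rw [← this]
      abel
    obtain ⟨h2, h3⟩ := key _ _ h1
    rw [sub_eq_zero] at h2 h3
    rw [h2, h3]
  have hbij : Function.Bijective (fun ab : ZMod 3 × ZMod 3 => ab.1 • v + ab.2 • w) := by
    apply hinj.bijective_of_nat_card_le
    rw [hV, Nat.card_prod, Nat.card_zmod]
  obtain ⟨⟨a, b⟩, hab⟩ := hbij.2 u
  exact ⟨a, b, hab.symm⟩

/-- a linear map fixing two "independent" vectors is the identity -/
theorem eq_of_fix_two (hV : Nat.card V = 9) {v w : V} (hv : v ≠ 0) (hw0 : w ≠ 0) (hwv : w ≠ v)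
    (hwn : w ≠ -v) (f : V ≃ₗ[ZMod 3] V) (hfv : f v = v) (hfw : f w = w) (u : V) : f u = u := by
  obtain ⟨a, b, rfl⟩ := exists_coord hV hv hw0 hwv hwn u
  rw [map_add, map_smul, map_smul, hfv, hfw]

/-- an involution without nonzero fixed vectors is `-1` -/
theorem neg_of_invol (f : V ≃ₗ[ZMod 3] V) (hf2 : ∀ v, f (f v) = v) (hfix : ∀ v, f v = v → v = 0)
    (v : V) : f v = -v := by
  have h1 : f (v + f v) = v + f v := by
    rw [map_add, hf2, add_comm]
  have h2 := hfix _ h1
  exact (eq_neg_of_add_eq_zero_right h2)

end Cfsg.Agent.Helper19.TransVec
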