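import Mathlib
import Cfsg.Agent.Helper19.TransVecD

set_option autoImplicit false
set_option linter.style.haveILetI false
set_option linter.unusedSectionVars false

/-! `2`-groups transitive on the nonzero vectors of the plane over the field with three elements:
the central involution and the stabilizers. -/

namespace Cfsg.Agent.Helper19.TransVec

open MulAction

variable {V : Type*} [AddCommGroup V] [Module (ZMod 3) V] [Finite V] (hV : Nat.card V = 9)
  {G : Type*} [Group G] [Finite G] (hG : IsPGroup 2 G) (ρ : G →* (V ≃ₗ[ZMod 3] V))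
  (hρ : Function.Injective ρ) (htrans : ∀ v w : V, v ≠ 0 → w ≠ 0 → ∃ g : G, ρ g v = w)

include hG hρ htrans in
/-- the central involution acts as `-1` -/
theorem exists_neg [Nontrivial G] : ∃ z : G, (∀ v, ρ z v = -v) ∧ z ∈ Subgroup.center G := by
  haveI : Fact (Nat.Prime 2) := ⟨Nat.prime_two⟩
  have hnt : Nontrivial ↥(Subgroup.center G) := hG.center_nontrivial
  have hcp : IsPGroup 2 ↥(Subgroup.center G) := hG.to_subgroup _
  have hpd : 2 ∣ Nat.card ↥(Subgroup.center G) := by
    obtain ⟨n, hn⟩ := IsPGroup.iff_card.mp hcp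
    rcases n with _ | n
    · rw [pow_zero] at hn
      have := (Finite.one_lt_card_iff_nontrivial (α := ↥(Subgroup.center G))).mpr hnt
      omega
    · rw [hn, pow_succ]; exact dvd_mul_left _ _
  obtain ⟨c, hc⟩ := exists_prime_orderOf_dvd_card' 2 hpd
  have hc2 : (c : G) ^ 2 = 1 := by
    have : c ^ 2 = 1 := by rw [← hc]; exact pow_orderOf_eq_one c
    exact congrArg Subtype.val this
  have hc1 : (c : G) ≠ 1 := by
    intro h1
    have : c = 1 := Subtype.ext h1
    rw [this, orderOf_one] at hc
    omega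
  refine ⟨c, ?_, c.2⟩
  apply neg_of_invol
  · intro v
    have : ρ ((c : G) ^ 2) v = v := by rw [hc2, map_one]; rfl
    rw [pow_two, map_mul] at this
    exact this
  · intro u hu
    by_contra hu0
    apply hc1
    apply eq_one_of_forall ρ hρ
    intro w
    by_cases hw : w = 0
    · rw [hw, map_zero]
    · obtain ⟨g, rfl⟩ := htrans u w hu0 hw
      have hcomm : (c : G) * g = g * c := (Subgroup.mem_center_iff.mp c.2 g).symm
      have h1 : ρ ((c : G) * g) u = ρ (g * c) u := by rw [hcomm]
      rw [map_mul, map_mul] at h1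
      have h2 : ρ (c : G) (ρ g u) = ρ g (ρ (c : G) u) := h1
      rw [h2, hu]

include hρ in
/-- involutions are `z` or fix a nonzero vector -/
theorem invol_cases {z : G} (hz : ∀ v, ρ z v = -v) {t : G} (ht2 : t ^ 2 = 1) :
    t = z ∨ ∃ v : V, v ≠ 0 ∧ ρ t v = v := by
  by_cases hex : ∃ v : V, v ≠ 0 ∧ ρ t v = v
  · exact Or.inr hex
  · left
    push Not at hex
    apply hρ
    ext v
    rw [hz]
    apply neg_of_invol
    · intro v
      have : ρ (t ^ 2) v = v := by rw [ht2, map_one]; rfl
      rw [pow_two, map_mul] at this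
      exact this
    · intro u hu
      by_contra hu0
      exact hex u hu0 hu

include hV hG hρ in
/-- stabilizers of nonzero vectors have order at most two -/
theorem card_stab_le {v₀ : V} (hv₀ : v₀ ≠ 0) :
    (letI := act ρ; Nat.card ↥(stabilizer G v₀)) = 1 ∨
    (letI := act ρ; Nat.card ↥(stabilizer G v₀)) = 2 := by
  letI := act ρ
  haveI : Fact (Nat.Prime 2) := ⟨Nat.prime_two⟩
  have hnv : -v₀ ≠ 0 := neg_ne_zero.mpr hv₀
  have hnn : -v₀ ≠ v₀ := neg_ne_self hv₀
  let X : SubMulAction ↥(stabilizer G v₀) V :=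
    { carrier := ({0, v₀, -v₀}ᶜ : Set V)
      smul_mem' := by
        intro s w hw
        simp only [Set.mem_compl_iff, Set.mem_insert_iff, Set.mem_singleton_iff, not_or] at hw ⊢
        have hs : ρ (s : G) v₀ = v₀ := s.2
        refine ⟨?_, ?_, ?_⟩
        · intro h0
          apply hw.1
          have h1 : ρ (s : G) w = 0 := h0
          exact (LinearEquiv.map_eq_zero_iff (ρ (s : G))).mp h1
        · intro h0
          apply hw.2.1
          have h1 : ρ (s : G) w = v₀ := h0
          exact (ρ (s : G)).injective (h1.trans hs.symm)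
        · intro h0
          apply hw.2.2
          have h1 : ρ (s : G) w = -v₀ := h0
          have h2 : ρ (s : G) (-v₀) = -v₀ := by rw [map_neg, hs]
          exact (ρ (s : G)).injective (h1.trans h2.symm) }
  have hfree : ∀ x : ↥X, stabilizer ↥(stabilizer G v₀) x = ⊥ := by
    intro x
    rw [eq_bot_iff]
    intro s hs
    rw [Subgroup.mem_bot]
    have hx : (x : V) ∈ ({0, v₀, -v₀}ᶜ : Set V) := x.2
    simp only [Set.mem_compl_iff, Set.mem_insert_iff, Set.mem_singleton_iff, not_or] at hx
    have h1 : ρ (s : G) (x : V) = x := by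
      have := congrArg (fun y : ↥X => (y : V)) (mem_stabilizer_iff.mp hs)
      exact this
    have h2 : ρ (s : G) v₀ = v₀ := s.2
    have h3 : (s : G) = 1 := by
      apply eq_one_of_forall ρ hρ
      exact eq_of_fix_two hV hv₀ hx.1 hx.2.1 hx.2.2 _ h2 h1
    exact Subtype.ext h3
  have hcardX : Nat.card ↥X = 6 := by
    have h1 : Nat.card ↥X = ({0, v₀, -v₀}ᶜ : Set V).ncard := Nat.card_coe_set_eq _
    rw [h1, Set.ncard_compl, hV]
    have h2 : ({0, v₀, -v₀} : Set V).ncard = 3 := by
      rw [Set.ncard_insert_of_notMem, Set.ncard_pair hnn.symm]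
      simp only [Set.mem_insert_iff, Set.mem_singleton_iff, not_or]
      exact ⟨hv₀.symm, hnv.symm⟩
    rw [h2]
  have hdvd : Nat.card ↥(stabilizer G v₀) ∣ 6 := by
    have e := selfEquivOrbitsQuotientProd hfree
    have := Nat.card_congr e
    rw [Nat.card_prod, hcardX] at this
    exact ⟨_, this.trans (mul_comm _ _)⟩
  obtain ⟨i, hi⟩ := IsPGroup.iff_card.mp (hG.to_subgroup (stabilizer G v₀))
  rw [hi] at hdvd ⊢
  rcases i with _ | _ | i
  · left; rfl
  · right; rfl
  · exfalso
    have h4 : 4 ∣ 2 ^ (i + 2) := ⟨2 ^ i, by rw [pow_add]; ring⟩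
    have := h4.trans hdvd
    omega

end Cfsg.Agent.Helper19.TransVec
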