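import Mathlib
import Cfsg.Agent.Helper19.TransVecE
import Cfsg.Agent.Helper1.UniqueOrderP
import Cfsg.Agent.Helper9.Extraspecial

set_option autoImplicit false
set_option linter.style.haveILetI false
set_option linter.unusedSectionVars false

/-! `2`-groups transitive on the nonzero vectors of the plane over the field with three elements:
the groups of order eight. -/

namespace Cfsg.Agent.Helper19.TransVec

open MulAction

variable {V : Type*} [AddCommGroup V] [Module (ZMod 3) V] [Finite V] (hV : Nat.card V = 9)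
  {G : Type*} [Group G] [Finite G] (hG : IsPGroup 2 G) (ρ : G →* (V ≃ₗ[ZMod 3] V))
  (hρ : Function.Injective ρ) (htrans : ∀ v w : V, v ≠ 0 → w ≠ 0 → ∃ g : G, ρ g v = w)

theorem rho_mul (g h : G) (v : V) : ρ (g * h) v = ρ g (ρ h v) := by
  rw [map_mul]; rfl

include hV in
theorem exists_ne_zero : ∃ v : V, v ≠ 0 := by
  by_contra hcon
  push Not at hcon
  have : Nat.card V = 1 := by
    haveI : Subsingleton V := ⟨fun a b => (hcon a).trans (hcon b).symm⟩
    exact Nat.card_unique
  omega

include hV hG hρ htrans in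
/-- the order is eight or sixteen; all stabilizers have the same order -/
theorem card_cases [Nontrivial G] :
    (Nat.card G = 8 ∧ ∀ v : V, v ≠ 0 → ∀ g : G, ρ g v = v → g = 1) ∨
    (Nat.card G = 16 ∧ ∀ v : V, v ≠ 0 → (letI := act ρ; Nat.card ↥(stabilizer G v)) = 2) := by
  letI := act ρ
  obtain ⟨v₀, hv₀⟩ := exists_ne_zero hV
  have h0 := card_eq ρ htrans hv₀
  rw [hV] at h0
  rcases card_stab_le hV hG ρ hρ hv₀ with h1 | h1
  · left
    have hc : Nat.card G = 8 := by rw [h0, h1]
    refine ⟨hc, ?_⟩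
    intro v hv g hg
    have h2 := card_eq ρ htrans hv
    rw [hV, hc] at h2
    have h3 : Nat.card ↥(stabilizer G v) = 1 := by omega
    have h4 : stabilizer G v = ⊥ := Subgroup.card_eq_one.mp h3
    have h5 : g ∈ stabilizer G v := hg
    rw [h4, Subgroup.mem_bot] at h5
    exact h5
  · right
    have hc : Nat.card G = 16 := by rw [h0, h1]
    refine ⟨hc, ?_⟩
    intro v hv
    have h2 := card_eq ρ htrans hv
    rw [hV, hc] at h2
    omega

include hG hρ htrans in
/-- the groups of order eight -/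
theorem order_eight [Nontrivial G] (hc : Nat.card G = 8)
    (hfree : ∀ v : V, v ≠ 0 → ∀ g : G, ρ g v = v → g = 1) :
    (IsCyclic G ∧ Nat.card G = 8) ∨ Nonempty (G ≃* QuaternionGroup 2) := by
  haveI : Fact (Nat.Prime 2) := ⟨Nat.prime_two⟩
  obtain ⟨z, hz, -⟩ := exists_neg hG ρ hρ htrans
  have hinv : ∀ t : G, t ≠ 1 → t ^ 2 = 1 → t = z := by
    intro t ht1 ht2
    rcases invol_cases ρ hρ hz ht2 with h | ⟨v, hv, hfix⟩
    · exact h
    · exact absurd (hfree v hv t hfix) ht1
  have key : ∀ H : Subgroup G, Nat.card H = 2 → H = Subgroup.zpowers z := by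
    intro H hH
    have hne : H ≠ ⊥ := by
      intro hb
      rw [hb, Subgroup.card_bot] at hH
      omega
    obtain ⟨a', ha'⟩ := (Subgroup.ne_bot_iff_exists_ne_one).mp hne
    have ha1 : (a' : G) ≠ 1 := fun hh => ha' (Subtype.ext hh)
    have ha2 : (a' : G) ^ 2 = 1 := by
      have h1 : a' ^ Nat.card ↥H = 1 := pow_card_eq_one'
      rw [hH] at h1
      exact congrArg Subtype.val h1
    have haz : (a' : G) = z := hinv a' ha1 ha2
    have hoz : orderOf z = 2 := by
      rw [← haz]
      exact orderOf_eq_prime ha2 ha1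
    symm
    apply Subgroup.eq_of_le_of_card_ge
    · rw [Subgroup.zpowers_le, ← haz]; exact a'.2
    · rw [Nat.card_zpowers, hoz, hH]
  have huniq : Cfsg.Agent.Helper1.UniqP 2 G := by
    intro H K hH hK
    rw [key H hH, key K hK]
  rcases Cfsg.Agent.Helper1.UniqP.cyclic_or_quaternion 2 hG huniq with h1 | ⟨-, n, ⟨e⟩⟩
  · exact Or.inl ⟨h1, hc⟩
  · right
    have hcard : Nat.card G = 4 * 2 ^ n := by
      haveI : NeZero (2 ^ n) := ⟨(pow_pos (by norm_num) n).ne'⟩
      rw [Nat.card_congr e.toEquiv, Nat.card_eq_fintype_card, QuaternionGroup.card]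
    have hn : n = 1 := by
      rw [hc] at hcard
      have h2 : 2 ^ n = 2 ^ 1 := by omega
      exact Nat.pow_right_injective (le_refl 2) h2
    subst hn
    rw [pow_one] at e
    exact ⟨e⟩

end Cfsg.Agent.Helper19.TransVec
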