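import Mathlib
import Cfsg.Prelude.Def_CaseTheorems
import Cfsg.Agent.Helper19.TransVecF

set_option autoImplicit false
set_option linter.style.haveILetI false
set_option linter.unusedSectionVars false

/-! `2`-groups transitive on the nonzero vectors of the plane over the field with three elements:
the group of order sixteen is semidihedral. -/

namespace Cfsg.Agent.Helper19.TransVec

open MulAction

theorem exists_pow_lt_of_mem_zpowers {G : Type*} [Group G] {g x : G} {n : ℕ} (hn : 0 < n)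
    (hg : g ^ n = 1) (hx : x ∈ Subgroup.zpowers g) : ∃ i : ℕ, i < n ∧ x = g ^ i := by
  obtain ⟨k, rfl⟩ := Subgroup.mem_zpowers_iff.mp hx
  have hg' : g ^ (n : ℤ) = 1 := by rw [zpow_natCast]; exact hg
  have h1 := zpow_eq_zpow_emod k hg'
  have hn' : (0 : ℤ) < n := by exact_mod_cast hn
  have h2 : 0 ≤ k % n := Int.emod_nonneg k hn'.ne'
  have h3 : k % n < n := Int.emod_lt_of_pos k hn'
  refine ⟨(k % n).toNat, by omega, ?_⟩
  rw [h1, ← zpow_natCast, Int.toNat_of_nonneg h2]

variable {V : Type*} [AddCommGroup V] [Module (ZMod 3) V] [Finite V] (hV : Nat.card V = 9)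
  {G : Type*} [Group G] [Finite G] (hG : IsPGroup 2 G) (ρ : G →* (V ≃ₗ[ZMod 3] V))
  (hρ : Function.Injective ρ) (htrans : ∀ v w : V, v ≠ 0 → w ≠ 0 → ∃ g : G, ρ g v = w)

include hV hG hρ htrans in
/-- the group of order sixteen -/
theorem order_sixteen [Nontrivial G] (hc : Nat.card G = 16)
    (hstab : ∀ v : V, v ≠ 0 → (letI := act ρ; Nat.card ↥(stabilizer G v)) = 2) :
    Cfsg.IsQuasiDihedral G := by
  letI := act ρ
  obtain ⟨z, hz, hzc⟩ := exists_neg hG ρ hρ htrans
  obtain ⟨v₀, hv₀⟩ := exists_ne_zero hV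
  have hz1 : z ≠ 1 := by
    intro h
    have h1 := hz v₀
    rw [h, map_one] at h1
    exact neg_ne_self hv₀ h1.symm
  have hz2 : z ^ 2 = 1 := by
    apply eq_one_of_forall ρ hρ
    intro v
    rw [pow_two, rho_mul, hz, hz, neg_neg]
  have hzcomm : ∀ g : G, z * g = g * z := fun g => (Subgroup.mem_center_iff.mp hzc g).symm
  have R1 : ∀ u : V, u ≠ 0 → ∀ g h : G, ρ g u = u → ρ h u = u → g ≠ 1 → h ≠ 1 → g = h :=
    fun u hu g h hg hh hg1 hh1 =>
      Cfsg.Agent.Helper9.eq_of_card_eq_two (hstab u hu) hg hh hg1 hh1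
  have R2 : ∀ u : V, u ≠ 0 → ∀ g : G, ρ g u = u → g ≠ 1 → ∀ w : V, ρ g w = w →
      w = 0 ∨ w = u ∨ w = -u := by
    intro u hu g hg hg1 w hw
    by_contra hcon
    push Not at hcon
    apply hg1
    apply eq_one_of_forall ρ hρ
    exact eq_of_fix_two hV hu hcon.1 hcon.2.1 hcon.2.2 _ hg hw
  obtain ⟨y, hy, hy1⟩ : ∃ y : G, ρ y v₀ = v₀ ∧ y ≠ 1 := by
    have h2 := hstab v₀ hv₀
    have hne : stabilizer G v₀ ≠ ⊥ := by
      intro hb
      rw [hb, Subgroup.card_bot] at h2
      omega
    obtain ⟨a, ha⟩ := (Subgroup.ne_bot_iff_exists_ne_one).mp hne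
    exact ⟨a, a.2, fun hh => ha (Subtype.ext hh)⟩
  have hy2 : y ^ 2 = 1 := by
    by_contra hne
    have h1 : ρ (y ^ 2) v₀ = v₀ := by rw [pow_two, rho_mul, hy, hy]
    have h2 := R1 v₀ hv₀ (y ^ 2) y h1 hy hne hy1
    apply hy1
    have h3 : y * y = y * 1 := by rw [← pow_two, h2, mul_one]
    exact mul_left_cancel h3
  have hyinv : y⁻¹ = y := by
    rw [inv_eq_iff_mul_eq_one, ← pow_two]
    exact hy2
  have hyneg : ρ y (-v₀) = -v₀ := by rw [map_neg, hy]
  -- no square is a reflection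
  have noSq : ∀ x : G, x ^ 2 ≠ 1 → ∀ u : V, u ≠ 0 → ρ (x ^ 2) u = u → False := by
    intro x hx2 u hu hfix
    have hcomm : ρ (x ^ 2) (ρ x u) = ρ x u := by
      rw [← rho_mul, ← pow_succ, pow_succ', rho_mul, hfix]
    have hx1 : x ≠ 1 := by
      rintro rfl
      exact hx2 (one_pow 2)
    rcases R2 u hu (x ^ 2) hfix hx2 _ hcomm with h0 | h0 | h0
    · exact hu ((LinearEquiv.map_eq_zero_iff (ρ x)).mp h0)
    · have h2 := R1 u hu x (x ^ 2) h0 hfix hx1 hx2
      apply hx1
      have h3 : x * 1 = x * x := by rw [mul_one, ← pow_two]; exact h2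
      exact (mul_left_cancel h3).symm
    · have h1 : ρ (z * x) u = u := by rw [rho_mul, h0, hz, neg_neg]
      have hzx1 : z * x ≠ 1 := by
        intro h
        apply hx2
        have h3 : x = z⁻¹ := eq_inv_of_mul_eq_one_right h
        rw [h3, inv_pow, hz2, inv_one]
      have h2 := R1 u hu (z * x) (x ^ 2) h1 hfix hzx1 hx2
      apply hx2
      have h3 : z = x := by
        have h4 : x * z = x * x := by rw [← hzcomm, h2, pow_two]
        exact mul_left_cancel h4
      rw [← h3]
      exact hz2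
  -- a vector moved by `y`
  obtain ⟨w₀, hw₀⟩ : ∃ w : V, ρ y w ≠ w := by
    by_contra hcon
    push Not at hcon
    exact hy1 (eq_one_of_forall ρ hρ hcon)
  have hw₀0 : w₀ ≠ 0 := by
    rintro rfl
    exact hw₀ (map_zero _)
  -- an element whose square is neither `1` nor `z`
  have hex : ∃ x : G, x ^ 2 ≠ 1 ∧ x ^ 2 ≠ z := by
    by_contra hcon
    push Not at hcon
    have hsq : ∀ g : G, g ^ 2 = 1 ∨ g ^ 2 = z := fun g => by
      by_cases h : g ^ 2 = 1
      · exact Or.inl h
      · exact Or.inr (hcon g h)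
    have hconj : ∀ g : G, g * y * g⁻¹ = y ∨ g * y * g⁻¹ = z * y := by
      intro g
      have key : g * y * g⁻¹ = (g * y) ^ 2 * y⁻¹ * (g ^ 2)⁻¹ := by
        rw [pow_two, pow_two]; group
      rw [hyinv] at key
      have hzinv : z⁻¹ = z := by
        rw [inv_eq_iff_mul_eq_one, ← pow_two]
        exact hz2
      rcases hsq g with ha | ha <;> rcases hsq (g * y) with hcc | hcc
      · left; rw [key, ha, hcc]; simp
      · right; rw [key, ha, hcc]; simp
      · right; rw [key, ha, hcc, hzinv, one_mul, ← hzcomm]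
      · left; rw [key, ha, hcc, hzinv, hzcomm y, mul_assoc, ← pow_two, hz2, mul_one]
    have hpm : ∀ w : V, w ≠ 0 → ρ y w = w ∨ ρ y w = -w := by
      intro w hw
      obtain ⟨g, rfl⟩ := htrans v₀ w hv₀ hw
      have hfixw : ρ (g * y * g⁻¹) (ρ g v₀) = ρ g v₀ := by
        rw [rho_mul, rho_mul, ← rho_mul ρ g⁻¹ g, inv_mul_cancel, map_one]
        show ρ g (ρ y v₀) = ρ g v₀
        rw [hy]
      rcases hconj g with h | h
      · left; rw [h] at hfixw; exact hfixw
      · right
        rw [h, rho_mul, hz] at hfixw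
        exact neg_eq_iff_eq_neg.mp hfixw
    have h1 : ρ y w₀ = -w₀ := (hpm w₀ hw₀0).resolve_left hw₀
    have hw₁ : w₀ + v₀ ≠ 0 := by
      intro h
      apply hw₀
      have : w₀ = -v₀ := eq_neg_of_add_eq_zero_left h
      rw [this]
      exact hyneg
    have h2 : ρ y (w₀ + v₀) = -w₀ + v₀ := by rw [map_add, h1, hy]
    rcases hpm _ hw₁ with h3 | h3
    · rw [h2] at h3
      have : -w₀ = w₀ := add_right_cancel h3
      exact neg_ne_self hw₀0 this
    · rw [h2, neg_add] at h3
      have : v₀ = -v₀ := add_left_cancel h3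
      exact neg_ne_self hv₀ this.symm
  obtain ⟨x, hx2, hx2z⟩ := hex
  have hx4 : x ^ 4 ≠ 1 := by
    intro h4
    have h5 : (x ^ 2) ^ 2 = 1 := by rw [← pow_mul]; exact h4
    rcases invol_cases ρ hρ hz h5 with h | ⟨u, hu, hfix⟩
    · exact hx2z h
    · exact noSq x hx2 u hu hfix
  -- `y` is not central
  have hync : ¬ ∀ g : G, y * g = g * y := by
    intro hcomm
    apply hy1
    apply eq_one_of_forall ρ hρ
    intro w
    by_cases hw : w = 0
    · rw [hw, map_zero]
    · obtain ⟨g, rfl⟩ := htrans v₀ w hv₀ hw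
      rw [← rho_mul, hcomm, rho_mul, hy]
  have hox : orderOf x = 8 := by
    have h1 : orderOf x ∣ 2 ^ 4 := by
      have := orderOf_dvd_natCard x
      rwa [hc] at this
    obtain ⟨k, hk, hkk⟩ := (Nat.dvd_prime_pow Nat.prime_two).mp h1
    have hpow : x ^ (2 ^ k) = 1 := by rw [← hkk]; exact pow_orderOf_eq_one x
    interval_cases k
    · exfalso; apply hx4
      rw [pow_zero, pow_one] at hpow
      rw [hpow, one_pow]
    · exfalso; apply hx2
      simpa using hpow
    · exfalso; apply hx4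
      simpa using hpow
    · simpa using hkk
    · exfalso
      have hcyc : IsCyclic G := isCyclic_of_orderOf_eq_card x (by rw [hkk, hc]; norm_num)
      apply hync
      intro g
      obtain ⟨g₀, hg₀⟩ := hcyc.exists_generator
      obtain ⟨a, rfl⟩ := Subgroup.mem_zpowers_iff.mp (hg₀ y)
      obtain ⟨b, rfl⟩ := Subgroup.mem_zpowers_iff.mp (hg₀ g)
      rw [← zpow_add, ← zpow_add, add_comm]
  have hx8 : x ^ 8 = 1 := by rw [← hox]; exact pow_orderOf_eq_one x
  have hx4z : x ^ 4 = z := by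
    have h5 : (x ^ 4) ^ 2 = 1 := by rw [← pow_mul]; exact hx8
    rcases invol_cases ρ hρ hz h5 with h | ⟨u, hu, hfix⟩
    · exact h
    · exfalso
      have h6 : (x ^ 2) ^ 2 ≠ 1 := by rw [← pow_mul]; exact hx4
      have h7 : ρ ((x ^ 2) ^ 2) u = u := by rw [← pow_mul]; exact hfix
      exact noSq (x ^ 2) h6 u hu h7
  -- conjugation by `y`
  have hidx : (Subgroup.zpowers x).index = 2 := by
    have h1 := Subgroup.card_mul_index (Subgroup.zpowers x)
    rw [Nat.card_zpowers, hox, hc] at h1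
    omega
  have hnorm : (Subgroup.zpowers x).Normal := Subgroup.normal_of_index_eq_two hidx
  have hmem : y * x * y⁻¹ ∈ Subgroup.zpowers x := hnorm.conj_mem x (Subgroup.mem_zpowers x) y
  obtain ⟨j, hj8, hj⟩ := exists_pow_lt_of_mem_zpowers (by norm_num : 0 < 8) hx8 hmem
  have hzj : z = z ^ j := by
    have h1 : (y * x * y⁻¹) ^ 4 = z := by
      rw [conj_pow, hx4z, ← hzcomm, mul_assoc, mul_inv_cancel, mul_one]
    rw [hj, ← pow_mul, mul_comm, pow_mul, hx4z] at h1
    exact h1.symm
  have hjodd : Odd j := by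
    by_contra hne
    rw [Nat.not_odd_iff_even] at hne
    obtain ⟨k, rfl⟩ := hne
    apply hz1
    rw [hzj, ← two_mul, pow_mul, hz2, one_pow]
  -- reflections: vectors fixed by `y`
  have hfixy : ∀ w : V, w ≠ 0 → ρ y w = w → w = v₀ ∨ w = -v₀ := by
    intro w hw hfix
    rcases R2 v₀ hv₀ y hy hy1 w hfix with h | h | h
    · exact absurd h hw
    · exact Or.inl h
    · exact Or.inr h
  have hj3 : j = 3 := by
    interval_cases j
    · exact absurd hjodd (by decide)
    · -- `y` commutes with `x`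
      exfalso
      rw [pow_one] at hj
      have hcomm : y * x = x * y := by
        have := congrArg (fun t => t * y) hj
        simpa using this
      have h1 : ρ y (ρ x v₀) = ρ x v₀ := by
        rw [← rho_mul, hcomm, rho_mul, hy]
      have hxv : ρ x v₀ ≠ 0 := fun h => hv₀ ((LinearEquiv.map_eq_zero_iff (ρ x)).mp h)
      have h2 : ρ (x ^ 2) v₀ = v₀ := by
        rw [pow_two, rho_mul]
        rcases hfixy _ hxv h1 with h | h
        · rw [h, h]
        · rw [h, map_neg, h, neg_neg]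
      exact noSq x hx2 v₀ hv₀ h2
    · exact absurd hjodd (by decide)
    · rfl
    · exact absurd hjodd (by decide)
    · -- `y` commutes with `x ^ 2`
      exfalso
      have h10 : (y * x * y⁻¹) ^ 2 = x ^ 2 := by
        rw [hj, ← pow_mul]
        have : x ^ (5 * 2) = x ^ 8 * x ^ 2 := by rw [← pow_add]
        rw [this, hx8, one_mul]
      rw [conj_pow] at h10
      have hcomm : y * x ^ 2 = x ^ 2 * y := by
        have := congrArg (fun t => t * y) h10
        simpa using this
      have h1 : ρ y (ρ (x ^ 2) v₀) = ρ (x ^ 2) v₀ := by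
        rw [← rho_mul, hcomm, rho_mul, hy]
      have hxv : ρ (x ^ 2) v₀ ≠ 0 :=
        fun h => hv₀ ((LinearEquiv.map_eq_zero_iff (ρ (x ^ 2))).mp h)
      have h2 : ρ (x ^ 4) v₀ = v₀ := by
        have : x ^ 4 = x ^ 2 * x ^ 2 := by rw [← pow_add]
        rw [this, rho_mul]
        rcases hfixy _ hxv h1 with h | h
        · rw [h, h]
        · rw [h, map_neg, h, neg_neg]
      rw [hx4z, hz] at h2
      exact neg_ne_self hv₀ h2
    · exact absurd hjodd (by decide)
    · -- `y` inverts `x`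
      exfalso
      have hxinv : x ^ 7 = x⁻¹ := by
        rw [eq_inv_iff_mul_eq_one, ← pow_succ]
        exact hx8
      rw [hxinv] at hj
      have hyx : y * x = x⁻¹ * y := by
        have := congrArg (fun t => t * y) hj
        simpa using this
      have hyxi : y * x⁻¹ = x * y := by
        have h1 : (y * x * y⁻¹)⁻¹ = x := by rw [hj, inv_inv]
        have h2 : (y * x * y⁻¹)⁻¹ = y * x⁻¹ * y⁻¹ := by group
        rw [h2] at h1
        have := congrArg (fun t => t * y) h1
        simpa using this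
      -- `s = x + x⁻¹`
      have hs : ρ y (ρ x v₀ + ρ x⁻¹ v₀) = ρ x v₀ + ρ x⁻¹ v₀ := by
        rw [map_add, ← rho_mul, ← rho_mul, hyx, hyxi, rho_mul, rho_mul, hy, add_comm]
      have hx6 : ∀ v : V, ρ x⁻¹ (ρ x⁻¹ v) = -(ρ x (ρ x v)) := by
        intro v
        have h1 : x⁻¹ * x⁻¹ = x ^ 4 * (x * x) := by
          have : x⁻¹ * x⁻¹ = (x ^ 2)⁻¹ := by group
          rw [this, inv_eq_iff_mul_eq_one]
          have : x ^ 2 * (x ^ 4 * (x * x)) = x ^ 8 := by group
          rw [this, hx8]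
        rw [← rho_mul, h1, rho_mul, hx4z, hz, rho_mul]
      have hss : ∀ v : V, ρ x (ρ x v + ρ x⁻¹ v) + ρ x⁻¹ (ρ x v + ρ x⁻¹ v) = -v := by
        intro v
        have e1 : ρ x (ρ x⁻¹ v) = v := by rw [← rho_mul, mul_inv_cancel, map_one]; rfl
        have e2 : ρ x⁻¹ (ρ x v) = v := by rw [← rho_mul, inv_mul_cancel, map_one]; rfl
        rw [map_add, map_add, e1, e2, hx6]
        have : ρ x (ρ x v) + v + (v + -(ρ x (ρ x v))) = v + v := by abel
        rw [this, add_self_eq_neg]
      set s₀ := ρ x v₀ + ρ x⁻¹ v₀ with hs₀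
      have hss₀ := hss v₀
      rw [← hs₀] at hss₀
      by_cases hs0 : s₀ = 0
      · rw [hs0, map_zero, map_zero, add_zero] at hss₀
        exact hv₀ (neg_eq_zero.mp hss₀.symm)
      · rcases hfixy s₀ hs0 hs with h | h
        · -- `s₀ = v₀`
          rw [h] at hss₀
          rw [← hs₀, h] at hss₀
          exact neg_ne_self hv₀ hss₀.symm
        · rw [h, map_neg, map_neg, ← neg_add, ← hs₀, h, neg_neg] at hss₀
          exact neg_ne_self hv₀ hss₀.symm
  refine ⟨3, le_refl 3, by rw [hc]; norm_num, x, y, by rw [hox]; norm_num,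
    orderOf_eq_prime hy2 hy1, ?_⟩
  rw [hj, hj3]
  norm_num

end Cfsg.Agent.Helper19.TransVec
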