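import Mathlib
import Cfsg.Agent.Helper5.VL.Defs

/-! Board `s3777pieces`, piece ZLE, stub-free core: from ZCARD (`|G'|·|Z*| = |M'|·|M|`) and
`|G : M| = p`, if `M' ≠ G'` then `|Z*|·p² ≤ |G|`. -/

set_option autoImplicit false
set_option linter.unusedSectionVars false

namespace Cfsg.Agent.Helper5.VL

open Subgroup
open scoped commutatorElement

universe u
variable {p : ℕ} [Fact p.Prime] {G : Type u} [Group G] [Finite G]

theorem Zs_card_le_aux_core (hG : IsPGroup p G) {φ : Fn p G}
    (hne : ⁅φ.ker, φ.ker⁆ ≠ commutator G)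
    (hZ : Nat.card (commutator G) * Nat.card (Zs φ) = der φ.ker * Nat.card φ.ker)
    (hker : φ.ker.index = p) :
    Nat.card (Zs φ) * p ^ 2 ≤ Nat.card G := by
  have hp : p.Prime := Fact.out
  -- M' < G'
  have hle : ⁅φ.ker, φ.ker⁆ ≤ commutator G := by
    rw [commutator_def]
    exact Subgroup.commutator_mono le_top le_top
  have hcardlt : der φ.ker < Nat.card (commutator G) := by
    unfold der
    by_contra hcon
    exact hne (Subgroup.eq_of_le_of_card_ge hle (not_lt.1 hcon))
  have hMpos : 0 < Nat.card φ.ker := Nat.card_pos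
  have hZlt : Nat.card (Zs φ) < Nat.card φ.ker := by
    by_contra hcon
    replace hcon := not_lt.1 hcon
    have h1 : der φ.ker * Nat.card φ.ker < Nat.card (commutator G) * Nat.card (Zs φ) :=
      calc der φ.ker * Nat.card φ.ker < Nat.card (commutator G) * Nat.card φ.ker :=
            Nat.mul_lt_mul_of_pos_right hcardlt hMpos
        _ ≤ Nat.card (commutator G) * Nat.card (Zs φ) := Nat.mul_le_mul_left _ hcon
    omega
  -- both are powers of p
  obtain ⟨a, ha⟩ := (hG.to_subgroup (Zs φ)).exists_card_eq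
  obtain ⟨c, hc⟩ := (hG.to_subgroup φ.ker).exists_card_eq
  have hac : a < c := by
    rw [ha, hc] at hZlt
    exact (Nat.pow_lt_pow_iff_right hp.one_lt).1 hZlt
  have hstep : Nat.card (Zs φ) * p ≤ Nat.card φ.ker := by
    rw [ha, hc, ← pow_succ]
    exact Nat.pow_le_pow_right hp.pos hac
  have hN : Nat.card φ.ker * p = Nat.card G := by
    have := Subgroup.card_mul_index φ.ker
    rw [hker] at this; exact this
  calc Nat.card (Zs φ) * p ^ 2 = Nat.card (Zs φ) * p * p := by ring
    _ ≤ Nat.card φ.ker * p := Nat.mul_le_mul_right _ hstep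
    _ = Nat.card G := hN

end Cfsg.Agent.Helper5.VL
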