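import Mathlib
import Cfsg.Agent.Helper5.VL.Defs
import Cfsg.Agent.Helper27.S3777KER
import Cfsg.Agent.Helper2.VLZCARD
import Cfsg.Agent.Helper19.VLZLEcore

/-! Board `s3777pieces`, piece ZLE: `M' ≠ G'` gives `|Z*_M|·p² ≤ |G|`. -/

set_option autoImplicit false
set_option linter.unusedSectionVars false

namespace Cfsg.Agent.Helper5.VL

open Subgroup
open scoped commutatorElement

universe u
variable {p : ℕ} [Fact p.Prime] {G : Type u} [Group G] [Finite G]

/-- ZLE -/
theorem Zs_card_le (hG : IsPGroup p G) {φ : Fn p G} (hφ : φ ≠ 1)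
    (hne : ⁅φ.ker, φ.ker⁆ ≠ commutator G) :
    Nat.card (Zs φ) * p ^ 2 ≤ Nat.card G :=
  Zs_card_le_aux_core hG hne (Zs_card hφ) (index_ker hφ)

end Cfsg.Agent.Helper5.VL
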