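import Mathlib
import Cfsg.Agent.Helper29.WinterDefs
import Cfsg.Agent.Helper1.MinNormal

/-!
Piece NAB of the S4467 (Winter) project: a normal subgroup `E` with `Z(G) < E ≤ H`,
`[E,E] ≤ Z(G)` and `|E : Z(G)|` a prime power, obtained from a minimal normal subgroup of
`G ⧸ Z(G)` inside `H ⧸ Z(G)`.
-/

set_option autoImplicit false
set_option linter.style.haveILetI false

namespace Cfsg.Agent.S4467P

open Cfsg Cfsg.Agent.Helper24
open scoped commutatorElement

universe u

theorem exists_over_center {G : Type u} [Group G] [Finite G] (hsolv : Group.IsSolvable G)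
    (H : Subgroup G) [H.Normal] (hZH : Subgroup.center G < H) :
    ∃ (r : ℕ) (E : Subgroup G), r.Prime ∧ E.Normal ∧ Subgroup.center G < E ∧ E ≤ H ∧
      ⁅E, E⁆ ≤ Subgroup.center G ∧ ∃ k : ℕ, (Subgroup.center G).relIndex E = r ^ k := by
  classical
  let π : G →* G ⧸ Subgroup.center G := QuotientGroup.mk' (Subgroup.center G)
  have hπsurj : Function.Surjective π := QuotientGroup.mk'_surjective (Subgroup.center G)
  have hker : π.ker = Subgroup.center G := QuotientGroup.ker_mk' (Subgroup.center G)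
  have hmemZ : ∀ x : G, x ∈ Subgroup.center G ↔ π x = 1 := by
    intro x
    exact (QuotientGroup.eq_one_iff x).symm
  -- the image of `H`
  have hHbn : (H.map π).Normal := Subgroup.Normal.map inferInstance π hπsurj
  have hHbne : H.map π ≠ ⊥ := by
    intro h
    obtain ⟨hle, hnle⟩ := hZH
    apply hnle
    intro x hx
    have : π x ∈ H.map π := Subgroup.mem_map_of_mem π hx
    rw [h, Subgroup.mem_bot] at this
    exact (hmemZ x).mpr this
  let S : Set (Subgroup (G ⧸ Subgroup.center G)) := {N | N.Normal ∧ N ≠ ⊥ ∧ N ≤ H.map π}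
  have hS : S.Nonempty := ⟨H.map π, hHbn, hHbne, le_refl _⟩
  obtain ⟨V, ⟨hVn, hVne, hVH⟩, hVmin⟩ := wellFounded_lt.has_min S hS
  haveI := hVn
  have hmin : ∀ M : Subgroup (G ⧸ Subgroup.center G), M.Normal → M ≤ V → M = ⊥ ∨ M = V := by
    intro M hMn hMV
    by_cases hM : M = ⊥
    · exact Or.inl hM
    · right
      by_contra hne
      exact hVmin M ⟨hMn, hM, hMV.trans hVH⟩ (lt_of_le_of_ne hMV hne)
  haveI : Group.IsSolvable (G ⧸ Subgroup.center G) := inferInstance
  obtain ⟨hc, r, hr, hexp⟩ := Cfsg.Agent.Helper1.minNormal_elementary V hVne inferInstance hmin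
  haveI : Fact r.Prime := ⟨hr⟩
  refine ⟨r, V.comap π, hr, inferInstance, ?_, ?_, ?_, ?_⟩
  · -- `Z < E`
    have hle : Subgroup.center G ≤ V.comap π := by
      intro z hz
      rw [Subgroup.mem_comap, (hmemZ z).mp hz]
      exact V.one_mem
    refine lt_of_le_of_ne hle ?_
    intro h
    apply hVne
    rw [eq_bot_iff]
    intro v hv
    obtain ⟨g, rfl⟩ := hπsurj v
    have hg : g ∈ V.comap π := hv
    rw [← h] at hg
    rw [Subgroup.mem_bot]; exact (hmemZ g).mp hg
  · -- `E ≤ H`
    intro e he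
    have h1 : π e ∈ H.map π := hVH he
    obtain ⟨h, hh, hhe⟩ := h1
    have h2 : h⁻¹ * e ∈ Subgroup.center G := by
      rw [hmemZ, map_mul, map_inv, hhe, inv_mul_cancel]
    have h3 : h⁻¹ * e ∈ H := hZH.le h2
    have : e = h * (h⁻¹ * e) := by group
    rw [this]; exact H.mul_mem hh h3
  · -- `[E,E] ≤ Z`
    rw [Subgroup.commutator_le]
    intro a ha b hb
    rw [hmemZ, map_commutatorElement]
    have hab : (⟨π a, ha⟩ : V) * ⟨π b, hb⟩ = ⟨π b, hb⟩ * ⟨π a, ha⟩ := mul_comm' _ _
    have hab' : π a * π b = π b * π a := congrArg Subtype.val hab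
    rw [commutatorElement_def, hab']; group
  · -- the index
    have hVp : IsPGroup r V := by
      intro x
      refine ⟨1, ?_⟩
      rw [pow_one]
      exact Subtype.ext (hexp x x.2)
    obtain ⟨k, hk⟩ := hVp.exists_card_eq
    refine ⟨k, ?_⟩
    have h1 : (Subgroup.center G).relIndex (V.comap π) =
        ((⊥ : Subgroup (G ⧸ Subgroup.center G)).comap π).relIndex (V.comap π) := by
      congr 1
      exact hker.symm
    rw [h1, Subgroup.relIndex_comap, Subgroup.map_comap_eq_self_of_surjective hπsurj,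
      Subgroup.relIndex_bot_left, hk]

end Cfsg.Agent.S4467P
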