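import Mathlib
import Cfsg.Agent.Helper29.WinterDefs
import Cfsg.Agent.Helper1.MinNormal

/-!
Piece PRIM of the S4467 (Winter) project: in a finite solvable group with a core-free maximal
subgroup `M` (a primitive solvable group), the index of `M` is a prime power `r ^ k`, and for
every prime divisor `p` of `|G|` some power `r ^ j ∣ r ^ k`, `j ≥ 1`, is `≡ 0` or `1 (mod p)`.
-/

set_option autoImplicit false
set_option linter.style.haveILetI false

namespace Cfsg.Agent.S4467P

open Cfsg Cfsg.Agent.Helper24
open scoped commutatorElement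

universe u

namespace PRIM

variable {G : Type u} [Group G]

/-- If `V ⊔ M = ⊤`, `V` is normal and centralises the normal subgroup `K`, then `K ⊓ M` is
normal. -/
theorem inf_normal_of_sup_eq_top (V M K : Subgroup G) [hV : V.Normal] [hK : K.Normal]
    (hVM : V ⊔ M = ⊤) (hVK : ∀ v ∈ V, ∀ y ∈ K, v * y = y * v) : (K ⊓ M).Normal := by
  constructor
  intro y hy g
  have hg : g ∈ V ⊔ M := by rw [hVM]; exact Subgroup.mem_top g
  obtain ⟨v, hv, m, hm, rfl⟩ := Subgroup.mem_sup_of_normal_left.mp hg
  have hyK : m * y * m⁻¹ ∈ K := hK.conj_mem y hy.1 m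
  have hyM : m * y * m⁻¹ ∈ M := M.mul_mem (M.mul_mem hm hy.2) (M.inv_mem hm)
  have hcomm := hVK v hv _ hyK
  have : v * m * y * (v * m)⁻¹ = m * y * m⁻¹ := by
    have h1 : v * m * y * (v * m)⁻¹ = v * (m * y * m⁻¹) * v⁻¹ := by group
    rw [h1, hcomm, mul_inv_cancel_right]
  rw [this]
  exact ⟨hyK, hyM⟩

/-- Conjugation by `x` on a normal subgroup, as an endomorphism of the underlying type. -/
def conjEnd (V : Subgroup G) [hV : V.Normal] (x : G) : Function.End V :=
  fun w : V => (⟨x * w * x⁻¹, hV.conj_mem w w.2 x⟩ : V)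

theorem conjEnd_apply (V : Subgroup G) [hV : V.Normal] (x : G) (v : V) :
    ((conjEnd V x v : V) : G) = x * v * x⁻¹ := rfl

/-- Iterates of conjugation. -/
theorem conjEnd_pow (V : Subgroup G) [hV : V.Normal] (x : G) (n : ℕ) (v : V) :
    ((((conjEnd V x) ^ n : Function.End V) v : V) : G) = x ^ n * v * (x ^ n)⁻¹ := by
  induction n generalizing v with
  | zero =>
    rw [pow_zero, pow_zero]
    change (v : G) = 1 * v * 1⁻¹
    group
  | succ n ih =>
    rw [pow_succ]
    change (((conjEnd V x ^ n : Function.End V) (conjEnd V x v) : V) : G) = _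
    rw [ih, conjEnd_apply, pow_succ]
    group

end PRIM

theorem good_index_of_primitive {G : Type u} [Group G] [Finite G] (hsolv : Group.IsSolvable G)
    (M : Subgroup G) (hM : IsCoatom M) (hcore : M.normalCore = ⊥) (p : ℕ) (hp : p.Prime)
    (hpG : p ∣ Nat.card G) : Good p M.index := by
  classical
  haveI : Fact p.Prime := ⟨hp⟩
  haveI : Nontrivial G := by
    rw [← Finite.one_lt_card_iff_nontrivial]
    exact lt_of_lt_of_le hp.one_lt (Nat.le_of_dvd Nat.card_pos hpG)
  obtain ⟨r, V, hr, hVn, hVne, hVp, hVc, hVexp⟩ :=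
    Cfsg.Agent.Helper1.exists_normal_pgroup_of_solvable (G := G)
  haveI := hVn
  haveI : Fact r.Prime := ⟨hr⟩
  have hVcomm : ∀ a ∈ V, ∀ b ∈ V, a * b = b * a := by
    intro a ha b hb
    have := mul_comm' (⟨a, ha⟩ : V) ⟨b, hb⟩
    exact congrArg Subtype.val this
  have hnormal_le : ∀ K : Subgroup G, K.Normal → K ≤ M → K = ⊥ := by
    intro K hK hKM
    haveI := hK
    have h1 : K ≤ M.normalCore := Subgroup.normal_le_normalCore.mpr hKM
    rw [hcore] at h1
    exact eq_bot_iff.mpr h1
  have hVM : ¬ V ≤ M := fun h => hVne (hnormal_le V hVn h)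
  have hsup : V ⊔ M = ⊤ := by
    apply hM.2
    refine lt_of_le_of_ne le_sup_right ?_
    intro h
    apply hVM
    rw [h]
    exact le_sup_left
  -- `V ⊓ M = ⊥`
  have hVMbot : V ⊓ M = ⊥ := by
    apply hnormal_le _ _ inf_le_right
    exact PRIM.inf_normal_of_sup_eq_top V M V hsup hVcomm
  -- `M.index = |V|`
  have hcompl : Subgroup.IsComplement' V M := by
    apply Subgroup.isComplement'_of_disjoint_and_mul_eq_univ
    · rw [disjoint_iff]; exact hVMbot
    · rw [← Subgroup.normal_mul, hsup]; rfl
  have hidx : M.index = Nat.card V := hcompl.index_eq_card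
  obtain ⟨k, hk⟩ := hVp.exists_card_eq
  have hk0 : k ≠ 0 := by
    intro h
    rw [h, pow_zero] at hk
    exact hVne (Subgroup.card_eq_one.mp hk)
  by_cases hrp : r = p
  · -- `q = r ^ k ≡ 0`
    refine Good.of_modEq (q := r ^ k) ⟨r, k, hr.prime, Nat.pos_of_ne_zero hk0, rfl⟩ ?_ (Or.inl ?_)
    · rw [hidx, hk]
    · rw [Nat.modEq_zero_iff_dvd, hrp]
      exact dvd_pow_self p hk0
  · -- the centraliser of `V` is `V`
    set C : Subgroup G := Subgroup.centralizer (V : Set G) with hC
    have hCMbot : C ⊓ M = ⊥ := by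
      apply hnormal_le _ _ inf_le_right
      apply PRIM.inf_normal_of_sup_eq_top V M C hsup
      intro v hv y hy
      exact (Subgroup.mem_centralizer_iff.mp hy v hv)
    have hCV : C ≤ V := by
      intro c hc
      have hg : c ∈ V ⊔ M := by rw [hsup]; exact Subgroup.mem_top c
      obtain ⟨v, hv, m, hm, rfl⟩ := Subgroup.mem_sup_of_normal_left.mp hg
      have hvC : v ∈ C := by
        rw [hC, Subgroup.mem_centralizer_iff]
        intro w hw
        exact hVcomm w hw v hv
      have hmC : m ∈ C := by
        have : m = v⁻¹ * (v * m) := by group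
        rw [this]
        exact C.mul_mem (C.inv_mem hvC) hc
      have : m ∈ C ⊓ M := ⟨hmC, hm⟩
      rw [hCMbot, Subgroup.mem_bot] at this
      rw [this, mul_one]; exact hv
    -- an element of order `p`
    obtain ⟨x, hx⟩ := exists_prime_orderOf_dvd_card' p hpG
    have hxV : x ∉ V := by
      intro hxV
      have h1 : x ^ r = 1 := hVexp x hxV
      have h2 : orderOf x ∣ r := orderOf_dvd_of_pow_eq_one h1
      rw [hx] at h2
      exact hrp ((Nat.prime_dvd_prime_iff_eq hp hr).mp h2).symm
    have hxC : x ∉ C := fun h => hxV (hCV h)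
    -- conjugation by `x` on `V`
    let f : Function.End V := PRIM.conjEnd V x
    have hfp : f ^ p ^ 1 = 1 := by
      funext v
      apply Subtype.ext
      rw [pow_one, PRIM.conjEnd_pow V x p v]
      have : x ^ p = 1 := by rw [← hx]; exact pow_orderOf_eq_one x
      rw [this]
      change 1 * (v : G) * 1⁻¹ = v
      group
    haveI : Fintype V := Fintype.ofFinite V
    have hmod := Equiv.Perm.card_fixedPoints_modEq (f := f) (p := p) (n := 1) hfp
    -- the fixed points form a subgroup
    let F : Subgroup V := (Subgroup.centralizer ({x} : Set G)).subgroupOf V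
    have hfix : (Function.fixedPoints f : Set V) = (F : Set V) := by
      ext v
      change f v = v ↔ (v : G) ∈ Subgroup.centralizer ({x} : Set G)
      rw [Subgroup.mem_centralizer_iff]
      simp only [Set.mem_singleton_iff, forall_eq]
      constructor
      · intro h
        have h1 : x * (v : G) * x⁻¹ = v := congrArg Subtype.val h
        calc x * (v : G) = (x * v * x⁻¹) * x := by group
          _ = v * x := by rw [h1]
      · intro h
        apply Subtype.ext
        change x * (v : G) * x⁻¹ = v
        rw [h]; group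
    rw [Fintype.card_eq_nat_card, Fintype.card_eq_nat_card,
      Nat.card_congr (Equiv.setCongr hfix), hk] at hmod
    change r ^ k ≡ Nat.card F [MOD p] at hmod
    have hFp : IsPGroup r F := hVp.to_subgroup F
    obtain ⟨c, hc⟩ := hFp.exists_card_eq
    rw [hc] at hmod
    have hck : c ≤ k := by
      have h1 : Nat.card F ∣ Nat.card V := Subgroup.card_subgroup_dvd_card F
      rw [hc, hk] at h1
      exact (Nat.pow_dvd_pow_iff_le_right hr.one_lt).mp h1
    have hck' : c ≠ k := by
      intro h
      have h1 : Nat.card F = Nat.card V := by rw [hc, hk, h]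
      have h2 : F = ⊤ := Subgroup.eq_top_of_card_eq F h1
      apply hxC
      rw [hC, Subgroup.mem_centralizer_iff]
      intro w hw
      have h3 : (⟨w, hw⟩ : V) ∈ F := by rw [h2]; exact Subgroup.mem_top _
      rw [Subgroup.mem_subgroupOf, Subgroup.mem_centralizer_iff] at h3
      exact (h3 x rfl).symm
    have hlt : c < k := lt_of_le_of_ne hck hck'
    -- `r ^ (k - c) ≡ 1`
    have hcop : Nat.gcd p (r ^ c) = 1 := by
      apply Nat.Coprime.pow_right
      exact (Nat.coprime_primes hp hr).mpr (fun h => hrp h.symm)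
    have hmod' : r ^ c * r ^ (k - c) ≡ r ^ c * 1 [MOD p] := by
      rw [← pow_add, mul_one, Nat.add_sub_cancel' hck]
      exact hmod
    have hone : r ^ (k - c) ≡ 1 [MOD p] := Nat.ModEq.cancel_left_of_coprime hcop hmod'
    refine Good.of_modEq (q := r ^ (k - c))
      ⟨r, k - c, hr.prime, Nat.sub_pos_of_lt hlt, rfl⟩ ?_ (Or.inr hone)
    rw [hidx, hk]
    exact pow_dvd_pow r (Nat.sub_le k c)

end Cfsg.Agent.S4467P
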